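import Mathlib

set_option autoImplicit false

/-!
# Groups with an abelian subgroup of index two

`card_eq_card_center_mul_card_commutator`: if `A` is an abelian subgroup of index 2 of a
non-abelian finite group `S`, then `|A| = |Z(S)| * |S'|`.
-/

namespace Cfsg.Agent.Lib.Helper78

open scoped commutatorElement

variable {S : Type*} [Group S]

lemma conj_mem_of_index_two (A : Subgroup S) (h2 : A.index = 2) (g : S) {x : S} (hx : x ∈ A) :
    g * x * g⁻¹ ∈ A := by
  have := Subgroup.normal_of_index_eq_two h2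
  exact this.conj_mem x hx g

lemma mem_or_inv_mul_mem (A : Subgroup S) (h2 : A.index = 2) (g : S) (hg : g ∉ A) (u : S) :
    u ∈ A ∨ g⁻¹ * u ∈ A := by
  by_cases hu : u ∈ A
  · exact Or.inl hu
  · right
    rw [Subgroup.mul_mem_iff_of_index_two h2]
    constructor
    · intro h; exact absurd (by simpa using A.inv_mem h) hg
    · intro h; exact absurd h hu

lemma sq_mem_of_index_two (A : Subgroup S) (h2 : A.index = 2) (g : S) : g * g ∈ A := by
  rw [Subgroup.mul_mem_iff_of_index_two h2]

/-- An element commuting with a subgroup of index two and with one element outside is central. -/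
lemma mem_center_of_comm (A : Subgroup S) (h2 : A.index = 2) (g : S) (hg : g ∉ A) (x : S)
    (hxA : ∀ a ∈ A, a * x = x * a) (hxg : g * x = x * g) : x ∈ Subgroup.center S := by
  rw [Subgroup.mem_center_iff]
  intro w
  rcases mem_or_inv_mul_mem A h2 g hg w with hw | hw
  · exact hxA w hw
  · have h1 := hxA _ hw
    have : w = g * (g⁻¹ * w) := by group
    rw [this]
    calc g * (g⁻¹ * w) * x = g * ((g⁻¹ * w) * x) := by group
      _ = g * (x * (g⁻¹ * w)) := by rw [h1]
      _ = (g * x) * (g⁻¹ * w) := by group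
      _ = (x * g) * (g⁻¹ * w) := by rw [hxg]
      _ = x * (g * (g⁻¹ * w)) := by group

/-- The commutator map `x ↦ g x g⁻¹ x⁻¹` on `A`, a homomorphism since `A` is abelian and normal. -/
def commMap (A : Subgroup S) (hA : ∀ x ∈ A, ∀ y ∈ A, x * y = y * x) (h2 : A.index = 2) (g : S) :
    A →* A where
  toFun x := ⟨g * x * g⁻¹ * (x : S)⁻¹,
    A.mul_mem (conj_mem_of_index_two A h2 g x.2) (A.inv_mem x.2)⟩
  map_one' := by
    apply Subtype.ext
    simp
  map_mul' := by
    intro x y
    apply Subtype.ext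
    have h2' := conj_mem_of_index_two A h2 g y.2
    show g * ((x : S) * y) * g⁻¹ * ((x : S) * y)⁻¹ =
      (g * x * g⁻¹ * (x : S)⁻¹) * (g * y * g⁻¹ * (y : S)⁻¹)
    have e1 : g * ((x : S) * y) * g⁻¹ * ((x : S) * y)⁻¹
        = (g * x * g⁻¹) * ((g * y * g⁻¹) * (y : S)⁻¹) * (x : S)⁻¹ := by group
    have e2 : ((g * y * g⁻¹) * (y : S)⁻¹) * (x : S)⁻¹ = (x : S)⁻¹ * ((g * y * g⁻¹) * (y : S)⁻¹) :=
      hA _ (A.mul_mem h2' (A.inv_mem y.2)) _ (A.inv_mem x.2)
    rw [e1, mul_assoc, e2]
    group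

lemma commMap_coe (A : Subgroup S) (hA : ∀ x ∈ A, ∀ y ∈ A, x * y = y * x) (h2 : A.index = 2) (g : S)
    (x : A) : ((commMap A hA h2 g x : A) : S) = g * x * g⁻¹ * (x : S)⁻¹ := rfl

/-- The centre lies in `A` when `S` is not abelian. -/
lemma center_le_of_index_two (A : Subgroup S) (hA : ∀ x ∈ A, ∀ y ∈ A, x * y = y * x)
    (h2 : A.index = 2) (hna : ∃ u v : S, u * v ≠ v * u) : Subgroup.center S ≤ A := by
  intro z hz
  by_contra hzA
  obtain ⟨u, v, huv⟩ := hna
  apply huv
  have hzc : ∀ w : S, w * z = z * w := fun w => (Subgroup.mem_center_iff.mp hz w)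
  have hzc' : ∀ w : S, w * z⁻¹ = z⁻¹ * w := fun w =>
    (Subgroup.mem_center_iff.mp ((Subgroup.center S).inv_mem hz) w)
  -- every element is a or z a
  have key : ∀ a ∈ A, ∀ w : S, a * w = w * a := by
    intro a ha w
    rcases mem_or_inv_mul_mem A h2 z hzA w with hw | hw
    · exact hA a ha w hw
    · have h1 := hA a ha _ hw
      have : w = z * (z⁻¹ * w) := by group
      rw [this]
      calc a * (z * (z⁻¹ * w)) = (a * z) * (z⁻¹ * w) := by group
        _ = z * (a * (z⁻¹ * w)) := by rw [hzc a]; group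
        _ = z * ((z⁻¹ * w) * a) := by rw [h1]
        _ = z * (z⁻¹ * w) * a := by group
  rcases mem_or_inv_mul_mem A h2 z hzA u with hu | hu
  · exact key u hu v
  · have h1 := key _ hu v
    have : u = z * (z⁻¹ * u) := by group
    rw [this]
    calc z * (z⁻¹ * u) * v = z * ((z⁻¹ * u) * v) := by group
      _ = z * (v * (z⁻¹ * u)) := by rw [h1]
      _ = (z * v) * (z⁻¹ * u) := by group
      _ = (v * z) * (z⁻¹ * u) := by rw [hzc v]
      _ = v * (z * (z⁻¹ * u)) := by group

/-- The kernel of the commutator map is the centre. -/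
lemma map_ker_commMap (A : Subgroup S) (hA : ∀ x ∈ A, ∀ y ∈ A, x * y = y * x)
    (h2 : A.index = 2) (g : S) (hg : g ∉ A) (hna : ∃ u v : S, u * v ≠ v * u) :
    (commMap A hA h2 g).ker.map A.subtype = Subgroup.center S := by
  apply le_antisymm
  · rintro _ ⟨x, hx, rfl⟩
    rw [SetLike.mem_coe, MonoidHom.mem_ker] at hx
    have hx' : g * x * g⁻¹ * (x : S)⁻¹ = 1 := by
      have := congrArg Subtype.val hx
      simpa [commMap_coe] using this
    have hgx : g * (x : S) = x * g := by
      have : g * x * g⁻¹ = x := by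
        have := mul_inv_eq_one.mp hx'
        exact this
      calc g * (x : S) = (g * x * g⁻¹) * g := by group
        _ = x * g := by rw [this]
    rw [Subgroup.mem_center_iff]
    intro w
    show w * (x : S) = x * w
    rcases mem_or_inv_mul_mem A h2 g hg w with hw | hw
    · exact hA w hw x x.2
    · have h1 := hA _ hw x x.2
      have : w = g * (g⁻¹ * w) := by group
      rw [this]
      calc g * (g⁻¹ * w) * (x : S) = g * ((g⁻¹ * w) * x) := by group
        _ = g * (x * (g⁻¹ * w)) := by rw [h1]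
        _ = (g * x) * (g⁻¹ * w) := by group
        _ = (x * g) * (g⁻¹ * w) := by rw [hgx]
        _ = x * (g * (g⁻¹ * w)) := by group
  · intro z hz
    have hzA : z ∈ A := center_le_of_index_two A hA h2 hna hz
    refine ⟨⟨z, hzA⟩, ?_, rfl⟩
    rw [SetLike.mem_coe, MonoidHom.mem_ker]
    apply Subtype.ext
    rw [commMap_coe]
    have := Subgroup.mem_center_iff.mp hz g
    show g * z * g⁻¹ * z⁻¹ = 1
    rw [this]; group

/-- The image of the commutator map is the commutator subgroup. -/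
lemma map_range_commMap (A : Subgroup S) (hA : ∀ x ∈ A, ∀ y ∈ A, x * y = y * x)
    (h2 : A.index = 2) (g : S) (hg : g ∉ A) :
    (commMap A hA h2 g).range.map A.subtype = commutator S := by
  set I := (commMap A hA h2 g).range.map A.subtype with hI
  have hphi : ∀ x ∈ A, g * x * g⁻¹ * x⁻¹ ∈ I := by
    intro x hx
    exact ⟨commMap A hA h2 g ⟨x, hx⟩, ⟨⟨x, hx⟩, rfl⟩, rfl⟩
  have hIA : I ≤ A := by
    rintro _ ⟨y, _, rfl⟩
    exact y.2
  apply le_antisymm
  · rintro _ ⟨_, ⟨x, rfl⟩, rfl⟩
    rw [commutator_def]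
    have : ((commMap A hA h2 g x : A) : S) = ⁅g, (x : S)⁆ := by
      rw [commMap_coe, commutatorElement_def]
    show ((commMap A hA h2 g x : A) : S) ∈ _
    rw [this]
    exact Subgroup.commutator_mem_commutator (Subgroup.mem_top g) (Subgroup.mem_top _)
  · rw [commutator_def, Subgroup.commutator_le]
    intro u _ v _
    rw [commutatorElement_def]
    have hgg : g * g ∈ A := sq_mem_of_index_two A h2 g
    rcases mem_or_inv_mul_mem A h2 g hg u with hu | hu <;>
      rcases mem_or_inv_mul_mem A h2 g hg v with hv | hv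
    · have := hA u hu v hv
      have e : u * v * u⁻¹ * v⁻¹ = 1 := by rw [this]; group
      rw [e]; exact I.one_mem
    · -- u ∈ A, v = g a'
      have h1 := hphi u hu
      have e : u * v * u⁻¹ * v⁻¹ = u * (g * (g⁻¹ * v)) * u⁻¹ * (g * (g⁻¹ * v))⁻¹ := by group
      have hc := hA u hu _ hv
      have e2 : u * (g * (g⁻¹ * v)) * u⁻¹ * (g * (g⁻¹ * v))⁻¹
          = (g * u * g⁻¹ * u⁻¹)⁻¹ := by
        have e3 : u * (g * (g⁻¹ * v)) * u⁻¹ * (g * (g⁻¹ * v))⁻¹
            = u * g * ((g⁻¹ * v) * u⁻¹) * (g⁻¹ * v)⁻¹ * g⁻¹ := by group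
        have hc' : (g⁻¹ * v) * u⁻¹ = u⁻¹ * (g⁻¹ * v) := hA _ hv _ (A.inv_mem hu)
        rw [e3, hc']
        group
      rw [e, e2]
      exact I.inv_mem h1
    · -- u = g a, v ∈ A
      have h1 := hphi v hv
      have hc : (g⁻¹ * u) * v = v * (g⁻¹ * u) := hA _ hu _ hv
      have e : u * v * u⁻¹ * v⁻¹ = g * ((g⁻¹ * u) * v) * (g⁻¹ * u)⁻¹ * g⁻¹ * v⁻¹ := by group
      rw [e, hc]
      have e2 : g * (v * (g⁻¹ * u)) * (g⁻¹ * u)⁻¹ * g⁻¹ * v⁻¹ = g * v * g⁻¹ * v⁻¹ := by group
      rw [e2]
      exact h1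
    · -- u = g a, v = g a'
      set a := g⁻¹ * u with ha
      set a' := g⁻¹ * v with ha'
      have h1 := hphi a hu
      have h1' := hphi a' hv
      have hu' : u = g * a := by rw [ha]; group
      have hv' : v = g * a' := by rw [ha']; group
      have hsq : (g * g) * (a' * a⁻¹) * (g * g)⁻¹ = a' * a⁻¹ := by
        have hm : a' * a⁻¹ ∈ A := A.mul_mem hv (A.inv_mem hu)
        have := hA _ hgg _ hm
        rw [this]; group
      have e : u * v * u⁻¹ * v⁻¹
          = (g * a * g⁻¹) * ((g * g) * (a' * a⁻¹) * (g * g)⁻¹) * (g * a' * g⁻¹)⁻¹ := by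
        rw [hu', hv']; group
      rw [e, hsq]
      have hcc : a' * a⁻¹ = a⁻¹ * a' := hA _ hv _ (A.inv_mem hu)
      have e2 : (g * a * g⁻¹) * (a' * a⁻¹) * (g * a' * g⁻¹)⁻¹
          = (g * a * g⁻¹ * a⁻¹) * (g * a' * g⁻¹ * a'⁻¹)⁻¹ := by
        rw [hcc]; group
      rw [e2]
      exact I.mul_mem h1 (I.inv_mem h1')

/-- **Abelian subgroup of index two**: `|A| = |Z(S)| * |S'|` for non-abelian `S`. -/
theorem card_eq_card_center_mul_card_commutator [Finite S] (A : Subgroup S)
    (hA : ∀ x ∈ A, ∀ y ∈ A, x * y = y * x) (h2 : A.index = 2)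
    (hna : ∃ u v : S, u * v ≠ v * u) :
    Nat.card A = Nat.card (Subgroup.center S) * Nat.card (commutator S) := by
  obtain ⟨g, hg⟩ : ∃ g : S, g ∉ A := by
    by_contra hcon
    push Not at hcon
    have : A = ⊤ := by
      rw [eq_top_iff]; intro x _; exact hcon x
    rw [this, Subgroup.index_top] at h2
    omega
  have h1 := map_ker_commMap A hA h2 g hg hna
  have h3 := map_range_commMap A hA h2 g hg
  rw [← h1, ← h3, Subgroup.card_map_of_injective A.subtype_injective,
    Subgroup.card_map_of_injective A.subtype_injective]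
  have := Subgroup.card_mul_index (commMap A hA h2 g).ker
  rw [Subgroup.index_ker] at this
  exact this.symm

end Cfsg.Agent.Lib.Helper78
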