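import Mathlib

set_option autoImplicit false

/-!
# A nontrivial normal subgroup of a nilpotent group meets the centre nontrivially
-/

namespace Cfsg.Agent.Lib.Helper78

open scoped commutatorElement in
/-- In a nilpotent group a nontrivial normal subgroup meets the centre nontrivially. -/
theorem exists_center_mem_of_normal {Q : Type*} [Group Q] [Group.IsNilpotent Q] (H : Subgroup Q)
    [hn : H.Normal] (hH : H ≠ ⊥) : ∃ x ∈ H, x ∈ Subgroup.center Q ∧ x ≠ 1 := by
  classical
  obtain ⟨c, hc⟩ := (Group.IsNilpotent.nilpotent' : ∃ n : ℕ, Subgroup.upperCentralSeries Q n = ⊤)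
  have hex : ∃ n, ∃ x ∈ H, x ∈ Subgroup.upperCentralSeries Q n ∧ x ≠ 1 := by
    obtain ⟨⟨x, hx⟩, hx1⟩ := (Subgroup.ne_bot_iff_exists_ne_one.mp hH)
    refine ⟨c, x, hx, by rw [hc]; exact Subgroup.mem_top x, ?_⟩
    intro h
    apply hx1
    exact Subtype.ext h
  have hmin : ∀ m, m < Nat.find hex → ¬ ∃ x ∈ H, x ∈ Subgroup.upperCentralSeries Q m ∧ x ≠ 1 :=
    fun m hm => Nat.find_min hex hm
  obtain ⟨x, hxH, hxZ, hx1⟩ := Nat.find_spec hex
  rcases hn0 : Nat.find hex with _ | m
  · rw [hn0, Subgroup.upperCentralSeries_zero, Subgroup.mem_bot] at hxZ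
    exact absurd hxZ hx1
  · rw [hn0] at hxZ
    refine ⟨x, hxH, ?_, hx1⟩
    rw [Subgroup.mem_center_iff]
    intro y
    have hcomm : ⁅x, y⁆ = 1 := by
      by_contra hne
      have hm : m < Nat.find hex := by omega
      apply hmin m hm
      refine ⟨⁅x, y⁆, ?_, Subgroup.mem_upperCentralSeries_succ_iff.mp hxZ y, hne⟩
      rw [commutatorElement_def]
      have h1 : y * x⁻¹ * y⁻¹ ∈ H := hn.conj_mem _ (H.inv_mem hxH) y
      have : x * y * x⁻¹ * y⁻¹ = x * (y * x⁻¹ * y⁻¹) := by group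
      rw [this]
      exact H.mul_mem hxH h1
    rw [commutatorElement_def] at hcomm
    calc y * x = (x * y * x⁻¹ * y⁻¹)⁻¹ * (x * y) := by group
      _ = x * y := by rw [hcomm]; group

end Cfsg.Agent.Lib.Helper78
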