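import Mathlib
import Cfsg.Agent.Lib.Helper78.CenterMeet
import Cfsg.Agent.Lib.Helper78.AbelianIndexTwo

set_option autoImplicit false

/-!
# 2-groups with `|S : S'| = 4`

Main results (for a finite 2-group `S` with `(commutator S).index = 4` and `8 ≤ |S|`):
* `exists_cyclic_index_two`: `S` has a cyclic subgroup of index 2;
* `card_center_eq_two`: `|Z(S)| = 2`;
* `center_le_commutator`: `Z(S) ≤ S'`.
-/

namespace Cfsg.Agent.Lib.Helper78

open scoped commutatorElement

universe u

section basic

variable {S : Type*} [Group S]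

/-- Elements of the cyclic group generated by an involution. -/
lemma mem_zpowers_of_orderOf_two {z x : S} (hz : orderOf z = 2) :
    x ∈ Subgroup.zpowers z ↔ x = 1 ∨ x = z := by
  have hz2 : z ^ 2 = 1 := by rw [← hz]; exact pow_orderOf_eq_one z
  constructor
  · intro hx
    obtain ⟨k, rfl⟩ := Subgroup.mem_zpowers_iff.mp hx
    rcases Int.emod_two_eq_zero_or_one k with h | h
    · left
      have : k = 2 * (k / 2) := by omega
      rw [this, zpow_mul, zpow_ofNat, hz2, one_zpow]
    · right
      have : k = 2 * (k / 2) + 1 := by omega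
      rw [this, zpow_add, zpow_mul, zpow_ofNat, hz2, one_zpow, one_mul, zpow_one]
  · rintro (rfl | rfl)
    · exact Subgroup.one_mem _
    · exact Subgroup.mem_zpowers _

/-- Integer powers of an element squaring to one. -/
lemma zpow_eq_one_or_self_of_sq {w : S} (hw : w * w = 1) (k : ℤ) : w ^ k = 1 ∨ w ^ k = w := by
  have hw2 : w ^ 2 = 1 := by rw [pow_two]; exact hw
  rcases Int.emod_two_eq_zero_or_one k with h | h
  · left
    have : k = 2 * (k / 2) := by omega
    rw [this, zpow_mul, zpow_ofNat, hw2, one_zpow]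
  · right
    have : k = 2 * (k / 2) + 1 := by omega
    rw [this, zpow_add, zpow_mul, zpow_ofNat, hw2, one_zpow, one_mul, zpow_one]

lemma zpowers_normal_of_mem_center {z : S} (hz : z ∈ Subgroup.center S) :
    (Subgroup.zpowers z).Normal := by
  refine ⟨fun n hn g => ?_⟩
  have hle : Subgroup.zpowers z ≤ Subgroup.center S := Subgroup.zpowers_le.mpr hz
  have hc := Subgroup.mem_center_iff.mp (hle hn) g
  have : g * n * g⁻¹ = n := by rw [hc]; group
  rw [this]; exact hn

/-- A nontrivial normal subgroup of a finite 2-group contains a central involution. -/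
lemma exists_central_involution [Finite S] (hS : IsPGroup 2 S) (H : Subgroup S) [H.Normal]
    (hH : H ≠ ⊥) : ∃ z ∈ H, z ∈ Subgroup.center S ∧ orderOf z = 2 := by
  have : Fact (Nat.Prime 2) := ⟨Nat.prime_two⟩
  have hnil : Group.IsNilpotent S := hS.isNilpotent
  obtain ⟨x, hxH, hxZ, hx1⟩ := exists_center_mem_of_normal H hH
  -- order of x is a power of two
  obtain ⟨k, hk⟩ := (IsPGroup.iff_orderOf.mp hS) x
  have hk0 : k ≠ 0 := by
    intro h0
    rw [h0, pow_zero, orderOf_eq_one_iff] at hk
    exact hx1 hk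
  obtain ⟨j, rfl⟩ := Nat.exists_eq_succ_of_ne_zero hk0
  refine ⟨x ^ (2 ^ j), H.pow_mem hxH _, (Subgroup.center S).pow_mem hxZ _, ?_⟩
  rw [orderOf_pow' x (pow_ne_zero j two_ne_zero), hk, Nat.gcd_eq_right (pow_dvd_pow 2 (Nat.le_succ j))]
  rw [pow_succ, Nat.mul_div_cancel_left _ (pow_pos two_pos j)]

lemma exists_not_comm_of_index_four [Finite S] (h4 : (commutator S).index = 4)
    (h8 : 8 ≤ Nat.card S) : ∃ u v : S, u * v ≠ v * u := by
  by_contra hcon
  push Not at hcon
  have : IsMulCommutative S := ⟨⟨hcon⟩⟩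
  have hbot : commutator S = ⊥ := (commutator_eq_bot_iff S).mpr this
  rw [hbot, Subgroup.index_bot] at h4
  omega

lemma commutator_ne_bot_of_index_four [Finite S] (h4 : (commutator S).index = 4)
    (h8 : 8 ≤ Nat.card S) : commutator S ≠ ⊥ := by
  intro hbot
  rw [hbot, Subgroup.index_bot] at h4
  omega

/-- With an abelian subgroup of index 2 and `|S : S'| = 4`, the centre has order 2. -/
lemma card_center_of_abelian_index_two [Finite S] (A : Subgroup S)
    (hA : ∀ x ∈ A, ∀ y ∈ A, x * y = y * x) (h2 : A.index = 2)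
    (h4 : (commutator S).index = 4) (h8 : 8 ≤ Nat.card S) :
    Nat.card (Subgroup.center S) = 2 := by
  have hna := exists_not_comm_of_index_four h4 h8
  have h1 := card_eq_card_center_mul_card_commutator A hA h2 hna
  have h3 : Nat.card A * 2 = Nat.card S := by rw [← h2]; exact Subgroup.card_mul_index A
  have h5 : Nat.card (commutator S) * 4 = Nat.card S := by
    rw [← h4]; exact Subgroup.card_mul_index _
  have hpos : 0 < Nat.card (commutator S) := Nat.card_pos
  have : Nat.card (commutator S) * (Nat.card (Subgroup.center S) * 2) = Nat.card (commutator S) * 4 := by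
    rw [h5, ← h3, h1]; ring
  have := Nat.eq_of_mul_eq_mul_left hpos this
  omega

end basic

section step

variable {S : Type u} [Group S] [Finite S]

lemma exists_cyclic_index_two_step (hS : IsPGroup 2 S) (h4 : (commutator S).index = 4)
    (h16 : 16 ≤ Nat.card S)
    (ih : ∀ (Q : Type u) [Group Q] [Finite Q], Nat.card Q < Nat.card S → IsPGroup 2 Q →
      (commutator Q).index = 4 → 8 ≤ Nat.card Q → ∃ C : Subgroup Q, IsCyclic C ∧ C.index = 2) :
    ∃ C : Subgroup S, IsCyclic C ∧ C.index = 2 := by
  have h8 : 8 ≤ Nat.card S := by omega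
  have hne := commutator_ne_bot_of_index_four h4 h8
  obtain ⟨z, hzS', hzZ, hz2⟩ := exists_central_involution hS (commutator S) hne
  have hZn : (Subgroup.zpowers z).Normal := zpowers_normal_of_mem_center hzZ
  obtain ⟨Z, hZdef⟩ : ∃ Z : Subgroup S, Z = Subgroup.zpowers z := ⟨_, rfl⟩
  have hZn' : Z.Normal := by rw [hZdef]; exact hZn
  have hzZ' : z ∈ Z := by rw [hZdef]; exact Subgroup.mem_zpowers z
  have hZle : Z ≤ Subgroup.center S := by rw [hZdef]; exact Subgroup.zpowers_le.mpr hzZ
  have hZmem : ∀ x, x ∈ Z ↔ x = 1 ∨ x = z := by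
    intro x; rw [hZdef]; exact mem_zpowers_of_orderOf_two hz2
  obtain ⟨π, hπdef⟩ : ∃ π : S →* S ⧸ Z, π = QuotientGroup.mk' Z := ⟨_, rfl⟩
  have hπs : Function.Surjective π := by rw [hπdef]; exact QuotientGroup.mk'_surjective Z
  have hker : π.ker = Z := by rw [hπdef]; exact QuotientGroup.ker_mk' Z
  have hkerle : π.ker ≤ Z := le_of_eq hker
  have hZcard : Nat.card Z = 2 := by rw [hZdef, Nat.card_zpowers, hz2]
  have hQcard : Nat.card (S ⧸ Z) * 2 = Nat.card S := by
    rw [← hZcard]; exact (Subgroup.card_eq_card_quotient_mul_card_subgroup Z).symm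
  have hQp : IsPGroup 2 (S ⧸ Z) := hS.to_quotient Z
  have hQ4 : (commutator (S ⧸ Z)).index = 4 := by
    have h1 : (commutator S).map π = commutator (S ⧸ Z) := by
      rw [commutator_def, commutator_def, Subgroup.map_commutator,
        Subgroup.map_top_of_surjective π hπs]
    rw [← h1, Subgroup.index_map_eq _ hπs, h4]
    rw [hker, hZdef]; exact Subgroup.zpowers_le.mpr hzS'
  obtain ⟨Cb, hCbc, hCb2⟩ := ih (S ⧸ Z) (by omega) hQp hQ4 (by omega)
  obtain ⟨C, hCdef⟩ : ∃ C : Subgroup S, C = Cb.comap π := ⟨_, rfl⟩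
  have hC2 : C.index = 2 := by rw [hCdef, Subgroup.index_comap_of_surjective _ hπs, hCb2]
  have hCmem : ∀ x, x ∈ C ↔ π x ∈ Cb := by intro x; rw [hCdef, Subgroup.mem_comap]
  -- C is abelian
  have hCab : ∀ x ∈ C, ∀ y ∈ C, x * y = y * x := by
    intro x hx y hy
    subst hCdef
    let f : Cb.comap π →* Cb := π.subgroupComap Cb
    have hf : f.ker ≤ Subgroup.center (Cb.comap π) := by
      intro u hu
      rw [MonoidHom.mem_ker] at hu
      have hu' : π (u : S) = 1 := congrArg Subtype.val hu
      have huZ : (u : S) ∈ Z := hkerle (MonoidHom.mem_ker.mpr hu')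
      have huc : (u : S) ∈ Subgroup.center S := hZle huZ
      rw [Subgroup.mem_center_iff]
      intro v
      apply Subtype.ext
      exact Subgroup.mem_center_iff.mp huc v
    have hcm := MonoidHom.isMulCommutative_of_isCyclic_of_ker_le_center f hf
    have := hcm.is_comm.comm ⟨x, hx⟩ ⟨y, hy⟩
    exact congrArg Subtype.val this
  have hZ2 : Nat.card (Subgroup.center S) = 2 :=
    card_center_of_abelian_index_two C hCab hC2 h4 h8
  have hcenter : Subgroup.center S = Z := by
    symm
    apply Subgroup.eq_of_le_of_card_ge hZle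
    rw [hZ2, hZcard]
  -- generator
  obtain ⟨gb, hgb⟩ := hCbc.exists_generator
  obtain ⟨c, hc⟩ := hπs (gb : S ⧸ Z)
  have hcC : c ∈ C := by rw [hCmem, hc]; exact gb.2
  have hrep : ∀ x ∈ C, ∃ k : ℤ, x = c ^ k ∨ x = c ^ k * z := by
    intro x hx
    have hx' : π x ∈ Cb := (hCmem x).mp hx
    obtain ⟨k, hk⟩ := Subgroup.mem_zpowers_iff.mp (hgb ⟨π x, hx'⟩)
    have hk' : π (c ^ k) = π x := by
      rw [map_zpow, hc]
      have := congrArg Subtype.val hk
      simpa using this
    have hmem : (c ^ k)⁻¹ * x ∈ Z := by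
      apply hkerle
      rw [MonoidHom.mem_ker, map_mul, map_inv, hk', inv_mul_cancel]
    rcases (hZmem _).mp hmem with h | h
    · refine ⟨k, Or.inl ?_⟩
      have : x = c ^ k * ((c ^ k)⁻¹ * x) := by group
      rw [this, h, mul_one]
    · refine ⟨k, Or.inr ?_⟩
      have : x = c ^ k * ((c ^ k)⁻¹ * x) := by group
      rw [this, h]
  by_cases hzc : z ∈ Subgroup.zpowers c
  · -- cyclic
    refine ⟨Subgroup.zpowers c, inferInstance, ?_⟩
    have : C = Subgroup.zpowers c := by
      apply le_antisymm
      · intro x hx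
        obtain ⟨k, h | h⟩ := hrep x hx
        · rw [h]; exact Subgroup.zpow_mem _ (Subgroup.mem_zpowers c) k
        · rw [h]; exact Subgroup.mul_mem _ (Subgroup.zpow_mem _ (Subgroup.mem_zpowers c) k) hzc
      · exact Subgroup.zpowers_le.mpr hcC
    rw [← this]; exact hC2
  · exfalso
    have : Fact (Nat.Prime 2) := ⟨Nat.prime_two⟩
    have hCbp : IsPGroup 2 Cb := hQp.to_subgroup Cb
    obtain ⟨m, hm⟩ := IsPGroup.iff_card.mp hCbp
    have hCbQ : Nat.card Cb * 2 = Nat.card (S ⧸ Z) := by
      rw [← hCb2]; exact Subgroup.card_mul_index Cb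
    have hm2 : 2 ≤ m := by
      by_contra hlt
      have hm1 : m ≤ 1 := by omega
      have : 2 ^ m ≤ 2 ^ 1 := Nat.pow_le_pow_right two_pos hm1
      omega
    have hord : orderOf gb = 2 ^ m := by
      rw [← hm]; exact orderOf_eq_card_of_forall_mem_zpowers hgb
    obtain ⟨j, rfl⟩ : ∃ j, m = j + 1 := ⟨m - 1, by omega⟩
    have hj1 : 1 ≤ j := by omega
    -- c ^ (2 ^ (j+1)) = 1
    have hpowgb : ∀ n : ℕ, π (c ^ n) = ((gb ^ n : Cb) : S ⧸ Z) := by
      intro n; rw [map_pow, hc]; rfl
    have hc1 : c ^ (2 ^ (j + 1)) = 1 := by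
      have h1 : c ^ (2 ^ (j + 1)) ∈ Z := by
        apply hkerle
        rw [MonoidHom.mem_ker, hpowgb, ← hord, pow_orderOf_eq_one]; rfl
      rcases (hZmem _).mp h1 with h | h
      · exact h
      · exfalso; apply hzc; rw [← h]; exact Subgroup.pow_mem _ (Subgroup.mem_zpowers c) _
    obtain ⟨w, hwdef⟩ : ∃ w : S, w = c ^ (2 ^ j) := ⟨_, rfl⟩
    have hww : w * w = 1 := by
      rw [hwdef, ← pow_add, ← two_mul, ← pow_succ']; exact hc1
    have hw1 : w ≠ 1 := by
      intro h
      have h1 : π (c ^ (2 ^ j)) = 1 := by rw [← hwdef, h, map_one]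
      rw [hpowgb] at h1
      have h2 : gb ^ (2 ^ j) = 1 := Subtype.ext h1
      have h3 := orderOf_dvd_of_pow_eq_one h2
      rw [hord] at h3
      have := Nat.le_of_dvd (pow_pos two_pos j) h3
      have : 2 ^ j < 2 ^ (j + 1) := Nat.pow_lt_pow_right (by norm_num) (by omega)
      omega
    have hCn : C.Normal := Subgroup.normal_of_index_eq_two hC2
    have hzpow : z ^ (2 ^ j) = 1 := by
      obtain ⟨i, rfl⟩ : ∃ i, j = i + 1 := ⟨j - 1, by omega⟩
      have hz2' : z ^ 2 = 1 := by rw [← hz2]; exact pow_orderOf_eq_one z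
      rw [pow_succ', pow_mul, hz2', one_pow]
    have hwc : w ∈ Subgroup.center S := by
      rw [Subgroup.mem_center_iff]
      intro s
      have hconj : s * c * s⁻¹ ∈ C := hCn.conj_mem c hcC s
      have hwk : ∀ k : ℤ, (c ^ k) ^ (2 ^ j) = w ^ k := by
        intro k
        rw [hwdef, ← zpow_natCast, ← zpow_mul, ← zpow_natCast, ← zpow_mul, mul_comm]
      have hsw : s * w * s⁻¹ = w := by
        have e1 : s * w * s⁻¹ = (s * c * s⁻¹) ^ (2 ^ j) := by
          rw [hwdef, conj_pow]
        obtain ⟨k, h | h⟩ := hrep _ hconj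
        · rw [e1, h, hwk]
          rcases zpow_eq_one_or_self_of_sq hww k with h1 | h1
          · exfalso
            rw [h, hwk, h1] at e1
            apply hw1
            have : w = s⁻¹ * (s * w * s⁻¹) * s := by group
            rw [this, e1]; group
          · exact h1
        · have hcomm : Commute (c ^ k) z := Subgroup.mem_center_iff.mp hzZ (c ^ k)
          have e2 : (c ^ k * z) ^ (2 ^ j) = w ^ k := by
            rw [hcomm.mul_pow, hwk, hzpow, mul_one]
          rw [e1, h, e2]
          rcases zpow_eq_one_or_self_of_sq hww k with h1 | h1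
          · exfalso
            rw [h, e2, h1] at e1
            apply hw1
            have : w = s⁻¹ * (s * w * s⁻¹) * s := by group
            rw [this, e1]; group
          · exact h1
      calc s * w = (s * w * s⁻¹) * s := by group
        _ = w * s := by rw [hsw]
    rw [hcenter, hZmem] at hwc
    rcases hwc with h | h
    · exact hw1 h
    · apply hzc
      rw [← h, hwdef]
      exact Subgroup.pow_mem _ (Subgroup.mem_zpowers c) _

lemma exists_cyclic_index_two_of_card_eight (h8 : Nat.card S = 8)
    (h4 : (commutator S).index = 4) : ∃ C : Subgroup S, IsCyclic C ∧ C.index = 2 := by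
  obtain ⟨u, v, huv⟩ := exists_not_comm_of_index_four h4 (by omega)
  have hex : ∃ x : S, x * x ≠ 1 := by
    by_contra hcon
    push Not at hcon
    apply huv
    have hinv : ∀ y : S, y⁻¹ = y := fun y => inv_eq_of_mul_eq_one_left (hcon y)
    calc u * v = (u * v)⁻¹ := (hinv _).symm
      _ = v⁻¹ * u⁻¹ := mul_inv_rev u v
      _ = v * u := by rw [hinv, hinv]
  obtain ⟨x, hx⟩ := hex
  have hdvd : orderOf x ∣ 2 ^ 3 := by
    have := orderOf_dvd_natCard x
    rw [h8] at this; exact this
  obtain ⟨k, hk3, hk⟩ := (Nat.dvd_prime_pow Nat.prime_two).mp hdvd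
  have hcardz : Nat.card (Subgroup.zpowers x) = 2 ^ k := by rw [Nat.card_zpowers, hk]
  have hk2 : k = 2 := by
    interval_cases k
    · exfalso; apply hx
      rw [pow_zero, orderOf_eq_one_iff] at hk; rw [hk, one_mul]
    · exfalso; apply hx
      have := pow_orderOf_eq_one x
      rw [hk, pow_one, pow_two] at this; exact this
    · rfl
    · exfalso
      have htop : Subgroup.zpowers x = ⊤ := by
        apply Subgroup.eq_top_of_card_eq
        rw [hcardz, h8]; norm_num
      apply huv
      have hu : u ∈ Subgroup.zpowers x := by rw [htop]; trivial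
      have hv : v ∈ Subgroup.zpowers x := by rw [htop]; trivial
      obtain ⟨i, rfl⟩ := Subgroup.mem_zpowers_iff.mp hu
      obtain ⟨j, rfl⟩ := Subgroup.mem_zpowers_iff.mp hv
      rw [← zpow_add, ← zpow_add, add_comm]
  refine ⟨Subgroup.zpowers x, inferInstance, ?_⟩
  have := Subgroup.card_mul_index (Subgroup.zpowers x)
  rw [hcardz, hk2, h8] at this
  omega

end step

/-- **Main theorem**: a finite 2-group `S` with `|S : S'| = 4` and `|S| ≥ 8` has a cyclic
subgroup of index 2. -/
theorem exists_cyclic_index_two_aux : ∀ (n : ℕ) (S : Type u) [Group S] [Finite S],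
    Nat.card S = n → IsPGroup 2 S → (commutator S).index = 4 → 8 ≤ n →
    ∃ C : Subgroup S, IsCyclic C ∧ C.index = 2 := by
  intro n
  induction n using Nat.strong_induction_on with
  | _ n ih =>
    intro S _ _ hn hS h4 h8
    have : Fact (Nat.Prime 2) := ⟨Nat.prime_two⟩
    obtain ⟨k, hk⟩ := IsPGroup.iff_card.mp hS
    by_cases h16 : 16 ≤ n
    · apply exists_cyclic_index_two_step hS h4 (by omega)
      intro Q _ _ hlt hQ hQ4 hQ8
      exact ih (Nat.card Q) (by omega) Q rfl hQ hQ4 hQ8
    · have hcard8 : Nat.card S = 8 := by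
        have hlt : n < 16 := by omega
        rw [← hn, hk] at hlt h8
        have hk3 : k = 3 := by
          have h1 : k < 4 := by
            by_contra hge
            have : 2 ^ 4 ≤ 2 ^ k := Nat.pow_le_pow_right two_pos (by omega)
            omega
          have h2 : 3 ≤ k := by
            by_contra hlt3
            have : 2 ^ k ≤ 2 ^ 2 := Nat.pow_le_pow_right two_pos (by omega)
            omega
          omega
        rw [hk, hk3]; norm_num
      exact exists_cyclic_index_two_of_card_eight hcard8 h4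

theorem exists_cyclic_index_two {S : Type u} [Group S] [Finite S] (hS : IsPGroup 2 S)
    (h4 : (commutator S).index = 4) (h8 : 8 ≤ Nat.card S) :
    ∃ C : Subgroup S, IsCyclic C ∧ C.index = 2 :=
  exists_cyclic_index_two_aux _ S rfl hS h4 h8

section consequences

variable {S : Type u} [Group S] [Finite S]

theorem card_center_eq_two (hS : IsPGroup 2 S) (h4 : (commutator S).index = 4)
    (h8 : 8 ≤ Nat.card S) : Nat.card (Subgroup.center S) = 2 := by
  obtain ⟨C, hCc, hC2⟩ := exists_cyclic_index_two hS h4 h8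
  have hCab : ∀ x ∈ C, ∀ y ∈ C, x * y = y * x := by
    intro x hx y hy
    have := (IsCyclic.isMulCommutative (α := C)).is_comm.comm ⟨x, hx⟩ ⟨y, hy⟩
    exact congrArg Subtype.val this
  exact card_center_of_abelian_index_two C hCab hC2 h4 h8

theorem center_le_commutator (hS : IsPGroup 2 S) (h4 : (commutator S).index = 4)
    (h8 : 8 ≤ Nat.card S) : Subgroup.center S ≤ commutator S := by
  have hne := commutator_ne_bot_of_index_four h4 h8
  obtain ⟨z, hzS', hzZ, hz2⟩ := exists_central_involution hS (commutator S) hne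
  have hle : Subgroup.zpowers z ≤ Subgroup.center S := Subgroup.zpowers_le.mpr hzZ
  have heq : Subgroup.zpowers z = Subgroup.center S := by
    apply Subgroup.eq_of_le_of_card_ge hle
    rw [card_center_eq_two hS h4 h8, Nat.card_zpowers, hz2]
  rw [← heq]
  exact Subgroup.zpowers_le.mpr hzS'

end consequences

end Cfsg.Agent.Lib.Helper78
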