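import Mathlib
import Cfsg.Agent.Lib.Helper78.MaxClass2

set_option autoImplicit false

/-!
# Nilpotency class of 2-groups with `|X : X'| = 4`

* `nilpotencyClass_le_of_card`: a group of order `2^m` (`m ≥ 2`) has class at most `m - 1`;
* `index_commutator_of_maximal_class`: order `2^n` (`n ≥ 3`) and class `n - 1` imply `|X : X'| = 4`;
* `nilpotencyClass_of_index_four`: conversely `|X : X'| = 4` implies class `n - 1`.
-/

namespace Cfsg.Agent.Lib.Helper78

universe u

lemma nilpotencyClass_le_one_of_comm {X : Type*} [Group X] (h : ∀ a b : X, a * b = b * a) :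
    Group.nilpotencyClass X ≤ 1 := by
  have : IsMulCommutative X := ⟨⟨h⟩⟩
  have hn : Group.IsNilpotent X := by
    refine ⟨⟨1, ?_⟩⟩
    rw [Subgroup.upperCentralSeries_one, Subgroup.center_eq_top_iff]
    exact this
  rw [← Subgroup.upperCentralSeries_eq_top_iff_nilpotencyClass_le,
    Subgroup.upperCentralSeries_one, Subgroup.center_eq_top_iff]
  exact this

lemma comm_of_nilpotencyClass_le_one {X : Type*} [Group X] [Group.IsNilpotent X]
    (h : Group.nilpotencyClass X ≤ 1) : ∀ a b : X, a * b = b * a := by
  rw [← Subgroup.upperCentralSeries_eq_top_iff_nilpotencyClass_le,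
    Subgroup.upperCentralSeries_one, Subgroup.center_eq_top_iff] at h
  exact h.is_comm.comm

/-- Cardinality bookkeeping for the quotient by the centre. -/
lemma card_quotient_center {X : Type u} [Group X] [Finite X] (m : ℕ) (hm : 0 < m)
    (hX : Nat.card X = 2 ^ m) :
    ∃ k, 0 < k ∧ k ≤ m ∧ Nat.card (Subgroup.center X) = 2 ^ k ∧
      Nat.card (X ⧸ Subgroup.center X) = 2 ^ (m - k) := by
  have : Fact (Nat.Prime 2) := ⟨Nat.prime_two⟩
  obtain ⟨k, hk0, hk⟩ := IsPGroup.card_center_eq_prime_pow hX hm
  have hmul := Subgroup.card_eq_card_quotient_mul_card_subgroup (Subgroup.center X)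
  rw [hX, hk] at hmul
  have hkm : k ≤ m := by
    by_contra hlt
    have h1 : 2 ^ m < 2 ^ k := Nat.pow_lt_pow_right (by norm_num) (by omega)
    have h2 : 0 < Nat.card (X ⧸ Subgroup.center X) := Nat.card_pos
    nlinarith
  refine ⟨k, hk0, hkm, hk, ?_⟩
  have h3 : 2 ^ m = 2 ^ (m - k) * 2 ^ k := by rw [← pow_add]; congr 1; omega
  rw [h3] at hmul
  exact (Nat.eq_of_mul_eq_mul_right (pow_pos two_pos k) hmul).symm

/-- If the central quotient has order at most 2, the group is abelian. -/
lemma comm_of_card_quotient_center_le {X : Type u} [Group X] [Finite X] (j : ℕ) (hj : j ≤ 1)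
    (hQ : Nat.card (X ⧸ Subgroup.center X) = 2 ^ j) : ∀ a b : X, a * b = b * a := by
  have : Fact (Nat.Prime 2) := ⟨Nat.prime_two⟩
  have hcyc : IsCyclic (X ⧸ Subgroup.center X) := by
    apply isCyclic_of_card_dvd_prime (p := 2)
    rw [hQ]
    calc 2 ^ j ∣ 2 ^ 1 := pow_dvd_pow 2 hj
      _ = 2 := by norm_num
  exact (isMulCommutative_of_isCyclic_quotient_center_self X).is_comm.comm

/-- A group of order `2^m`, `m ≥ 2`, has nilpotency class at most `m - 1`. -/
theorem nilpotencyClass_le_of_card : ∀ (m : ℕ) (X : Type u) [Group X] [Finite X],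
    Nat.card X = 2 ^ m → 2 ≤ m → Group.nilpotencyClass X ≤ m - 1 := by
  intro m
  induction m using Nat.strong_induction_on with
  | _ m ih =>
    intro X _ _ hX hm
    obtain ⟨k, hk0, hkm, hk, hQ⟩ := card_quotient_center m (by omega) hX
    by_cases h2 : 2 ≤ m - k
    · have := ih (m - k) (by omega) (X ⧸ Subgroup.center X) hQ h2
      rw [Group.nilpotencyClass_quotient_center] at this
      omega
    · have hc := comm_of_card_quotient_center_le (m - k) (by omega) hQ
      have := nilpotencyClass_le_one_of_comm hc
      omega

/-- Maximal class implies `|X : X'| = 4`. -/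
theorem index_commutator_of_maximal_class : ∀ (n : ℕ) (X : Type u) [Group X] [Finite X],
    3 ≤ n → Nat.card X = 2 ^ n → Group.nilpotencyClass X = n - 1 →
    (commutator X).index = 4 := by
  intro n
  induction n using Nat.strong_induction_on with
  | _ n ih =>
    intro X _ _ hn hX hc
    have : Fact (Nat.Prime 2) := ⟨Nat.prime_two⟩
    have hXp : IsPGroup 2 X := IsPGroup.of_card hX
    have hnil : Group.IsNilpotent X := hXp.isNilpotent
    obtain ⟨k, hk0, hkm, hk, hQ⟩ := card_quotient_center n (by omega) hX
    have hcQ : Group.nilpotencyClass (X ⧸ Subgroup.center X) = n - 2 := by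
      rw [Group.nilpotencyClass_quotient_center, hc]; omega
    -- X is not abelian
    have hna : ¬ ∀ a b : X, a * b = b * a := by
      intro h
      have := nilpotencyClass_le_one_of_comm h
      omega
    -- k = 1
    have hk1 : k = 1 := by
      by_cases h2 : 2 ≤ n - k
      · have := nilpotencyClass_le_of_card (n - k) (X ⧸ Subgroup.center X) hQ h2
        omega
      · exact absurd (comm_of_card_quotient_center_le (n - k) (by omega) hQ) hna
    subst hk1
    have hne : commutator X ≠ ⊥ := by
      intro hbot
      apply hna
      exact ((commutator_eq_bot_iff X).mp hbot).is_comm.comm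
    -- centre inside the commutator subgroup
    have hZle : Subgroup.center X ≤ commutator X := by
      obtain ⟨z, hzS', hzZ, hz2⟩ := exists_central_involution hXp (commutator X) hne
      have hle : Subgroup.zpowers z ≤ Subgroup.center X := Subgroup.zpowers_le.mpr hzZ
      have heq : Subgroup.zpowers z = Subgroup.center X := by
        apply Subgroup.eq_of_le_of_card_ge hle
        rw [hk, Nat.card_zpowers, hz2]; norm_num
      rw [← heq]
      exact Subgroup.zpowers_le.mpr hzS'
    have hπs : Function.Surjective (QuotientGroup.mk' (Subgroup.center X)) :=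
      QuotientGroup.mk'_surjective _
    have hmap : (commutator X).map (QuotientGroup.mk' (Subgroup.center X))
        = commutator (X ⧸ Subgroup.center X) := by
      rw [commutator_def, commutator_def, Subgroup.map_commutator,
        Subgroup.map_top_of_surjective _ hπs]
    have hidx : (commutator (X ⧸ Subgroup.center X)).index = (commutator X).index := by
      rw [← hmap]
      apply Subgroup.index_map_eq _ hπs
      rw [QuotientGroup.ker_mk']; exact hZle
    rw [← hidx]
    by_cases hn4 : 4 ≤ n
    · apply ih (n - 1) (by omega) (X ⧸ Subgroup.center X) (by omega) hQ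
      rw [hcQ]; omega
    · have hn3 : n = 3 := by omega
      subst hn3
      have hQ' : Nat.card (X ⧸ Subgroup.center X) = 2 ^ 2 := hQ
      have hcomm := IsPGroup.isMulCommutative_of_card_eq_prime_sq hQ'
      have hbot : commutator (X ⧸ Subgroup.center X) = ⊥ :=
        (commutator_eq_bot_iff _).mpr hcomm
      rw [hbot, Subgroup.index_bot, hQ']; norm_num

/-- `|X : X'| = 4` implies maximal class. -/
theorem nilpotencyClass_of_index_four : ∀ (n : ℕ) (X : Type u) [Group X] [Finite X],
    3 ≤ n → Nat.card X = 2 ^ n → (commutator X).index = 4 →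
    Group.nilpotencyClass X = n - 1 := by
  intro n
  induction n using Nat.strong_induction_on with
  | _ n ih =>
    intro X _ _ hn hX h4
    have : Fact (Nat.Prime 2) := ⟨Nat.prime_two⟩
    have hXp : IsPGroup 2 X := IsPGroup.of_card hX
    have hnil : Group.IsNilpotent X := hXp.isNilpotent
    have h8 : 8 ≤ Nat.card X := by
      rw [hX]
      calc 8 = 2 ^ 3 := by norm_num
        _ ≤ 2 ^ n := Nat.pow_le_pow_right two_pos hn
    have hZ2 := card_center_eq_two hXp h4 h8
    have hZle := center_le_commutator hXp h4 h8
    have hmul := Subgroup.card_eq_card_quotient_mul_card_subgroup (Subgroup.center X)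
    rw [hX, hZ2] at hmul
    have hQ : Nat.card (X ⧸ Subgroup.center X) = 2 ^ (n - 1) := by
      have : 2 ^ n = 2 ^ (n - 1) * 2 := by rw [← pow_succ]; congr 1; omega
      omega
    have hπs : Function.Surjective (QuotientGroup.mk' (Subgroup.center X)) :=
      QuotientGroup.mk'_surjective _
    have hmap : (commutator X).map (QuotientGroup.mk' (Subgroup.center X))
        = commutator (X ⧸ Subgroup.center X) := by
      rw [commutator_def, commutator_def, Subgroup.map_commutator,
        Subgroup.map_top_of_surjective _ hπs]
    have hidx : (commutator (X ⧸ Subgroup.center X)).index = 4 := by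
      rw [← hmap, ← h4]
      apply Subgroup.index_map_eq _ hπs
      rw [QuotientGroup.ker_mk']; exact hZle
    by_cases hn4 : 4 ≤ n
    · have := ih (n - 1) (by omega) (X ⧸ Subgroup.center X) (by omega) hQ hidx
      rw [Group.nilpotencyClass_quotient_center] at this
      omega
    · have hn3 : n = 3 := by omega
      subst hn3
      have hle := nilpotencyClass_le_of_card 3 X hX (by norm_num)
      have hge : ¬ Group.nilpotencyClass X ≤ 1 := by
        intro h1
        obtain ⟨u, v, huv⟩ := exists_not_comm_of_index_four h4 h8
        exact huv (comm_of_nilpotencyClass_le_one h1 u v)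
      omega

end Cfsg.Agent.Lib.Helper78
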