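import Mathlib
import Cfsg.Agent.Lib.Helper13.BG12B

/-!
# Bender–Glauberman, Corollary 12.6 (statement of S1418) from the statements of 12.4 and 12.5

`hyp18_of_hyps`: for a maximal subgroup `M` of a minimal simple group of odd order, the statement
of S1418 for `M` (`Hyp18 M`) follows from the statements of S1416 (first conjunct, `Hyp16 M`) and
S1417 (`Hyp17 M`).
-/

set_option autoImplicit false

namespace Cfsg.Agent.Lib.Helper78.BG126

open Cfsg Cfsg.Agent.Lib.Helper13.BG12

variable {G : Type*} [Group G]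

/-- a subgroup of order `p` is killed by `p` -/
theorem pow_eq_one_of_card_eq {p : ℕ} {X : Subgroup G} (hX : Nat.card X = p) {x : G}
    (hx : x ∈ X) : x ^ p = 1 := by
  have h := pow_card_eq_one' (G := X) (x := ⟨x, hx⟩)
  rw [hX] at h
  have := congrArg Subtype.val h
  simpa using this

/-- if `M` normalizes `S` and `A ≤ M`, `S ≤ M`, then the elements of `E ⊓ (S ⊔ A)` lie in `A`
whenever `A ≤ E` and `E ⊓ S = ⊥` -/
theorem inf_sup_le_of_disjoint {E S A : Subgroup G} (hAE : A ≤ E) (hES : E ⊓ S = ⊥)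
    (hAS : A ≤ Subgroup.normalizer (S : Set G)) : E ⊓ (S ⊔ A) ≤ A := by
  intro x hx
  obtain ⟨hxE, hxSA⟩ := Subgroup.mem_inf.mp hx
  obtain ⟨s, hs, a, ha, rfl⟩ :=
    Cfsg.Agent.Lib.Helper54.exists_mul_of_mem_sup_of_le_normalizer hAS hxSA
  have hsE : s ∈ E := by
    have : s = (s * a) * a⁻¹ := by group
    rw [this]
    exact E.mul_mem hxE (E.inv_mem (hAE ha))
  have : s ∈ E ⊓ S := Subgroup.mem_inf.mpr ⟨hsE, hs⟩
  rw [hES, Subgroup.mem_bot] at this
  rw [this, one_mul]
  exact ha

theorem hyp18_of_hyps [Finite G] (hG : IsMinSimpleOddOrder G) (M : Subgroup G) (hM : IsCoatom M)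
    (h16 : Hyp16 M) (h17 : Hyp17 M) : Hyp18 M := by
  intro E hE p _ hp A hA
  obtain ⟨hAE, hAel, hAcard⟩ := hA
  obtain ⟨hEM, hMsM, hEMs, hprod⟩ := hE
  have hAM : A ≤ M := hAE.trans hEM
  obtain ⟨-, hSyl, hnorm, hcent, hstar, -⟩ := h17 p hp A ⟨hAM, hAel, hAcard⟩
  have h16A : Subgroup.centralizer (A : Set G) ≤ M := h16 p A ⟨hAM, hAel, hAcard⟩
  have hpp : p.Prime := Fact.out
  have hnMs : M ≤ Subgroup.normalizer (sigmaCore M : Set G) :=
    Cfsg.Agent.Lib.Helper31.le_normalizer_piCoreOf (sigma M) M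
  have hkey : E ⊓ (sigmaCore M ⊔ A) ≤ A :=
    inf_sup_le_of_disjoint hAE hEMs (hAM.trans hnMs)
  have hMsA : sigmaCore M ⊓ A = ⊥ := by
    rw [eq_bot_iff]
    intro x hx
    obtain ⟨hx1, hx2⟩ := Subgroup.mem_inf.mp hx
    have : x ∈ E ⊓ sigmaCore M := Subgroup.mem_inf.mpr ⟨hAE hx2, hx1⟩
    rwa [hEMs] at this
  -- `A` is a `p`-group
  have hApg : IsPGroup p A := by
    intro a
    refine ⟨1, ?_⟩
    apply Subtype.ext
    simpa using hAel.2 a.1 a.2
  -- a Sylow `p`-subgroup of `M` containing `A`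
  have hApg' : IsPGroup p (A.subgroupOf M) :=
    hApg.of_equiv (Subgroup.subgroupOfEquivOfLe hAM).symm
  obtain ⟨P, hP⟩ := hApg'.exists_le_sylow
  have hAP : A ≤ (P : Subgroup M).map M.subtype := by
    intro a ha
    exact ⟨⟨a, hAM ha⟩, hP (Subgroup.mem_subgroupOf.mpr ha), rfl⟩
  obtain ⟨hOmega, hNP⟩ := (hSyl P).2 hAP
  -- (a1) `E` normalizes `A`
  have hEA : E ≤ Subgroup.normalizer (A : Set G) := by
    have hconj : ∀ e ∈ E, ∀ a ∈ A, e * a * e⁻¹ ∈ A := by
      intro e he a ha
      apply hkey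
      refine Subgroup.mem_inf.mpr ⟨E.mul_mem (E.mul_mem he (hAE ha)) (E.inv_mem he), ?_⟩
      have hn := hnorm (hEM he)
      rw [Subgroup.mem_normalizer_iff] at hn
      exact (hn a).mp (Subgroup.mem_sup_right ha)
    intro e he
    rw [Subgroup.mem_normalizer_iff]
    intro a
    refine ⟨hconj e he a, fun h => ?_⟩
    have := hconj e⁻¹ (E.inv_mem he) _ h
    simpa [mul_assoc] using this
  -- (a2) every subgroup of order `p` of `E` lies in `A`
  have hXA : ∀ X : Subgroup G, X ≤ E → Nat.card X = p → X ≤ A := by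
    intro X hXE hXc x hx
    have hXM : X ≤ M := hXE.trans hEM
    have hXpg : IsPGroup p (X.subgroupOf M) := by
      have : IsPGroup p X := IsPGroup.of_card (n := 1) (by rw [hXc, pow_one])
      exact this.of_equiv (Subgroup.subgroupOfEquivOfLe hXM).symm
    obtain ⟨P', hP'⟩ := hXpg.exists_le_sylow
    obtain ⟨g, hg⟩ := MulAction.exists_smul_eq M P P'
    have hxP' : (⟨x, hXM hx⟩ : M) ∈ (P' : Subgroup M) := hP' (Subgroup.mem_subgroupOf.mpr hx)
    rw [← hg, Sylow.coe_subgroup_smul, Subgroup.mem_pointwise_smul_iff_inv_smul_mem] at hxP'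
    -- `y = g⁻¹ x g ∈ P`
    set y : M := g⁻¹ * ⟨x, hXM hx⟩ * g with hy
    have hyP : y ∈ (P : Subgroup M) := by
      have h2 : (MulAut.conj g)⁻¹ • (⟨x, hXM hx⟩ : M) = y := by
        rw [hy, MulAut.smul_def, MulAut.conj_inv_apply]
      rw [← h2]
      exact hxP'
    have hyp : (y : G) ^ p = 1 := by
      have hxp : x ^ p = 1 := pow_eq_one_of_card_eq hXc hx
      have : (y : G) = (g : G)⁻¹ * x * (g : G) := by
        rw [hy]
        simp
      rw [this]
      have h3 : ((g : G)⁻¹ * x * (g : G)) ^ p = (g : G)⁻¹ * x ^ p * (g : G) := by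
        have := conj_pow (a := (g : G)⁻¹) (b := x) (i := p)
        simpa using this
      rw [h3, hxp]
      group
    have hyA : (y : G) ∈ A :=
      (hOmega (y : G) ⟨y, hyP, rfl⟩).mp hyp
    -- `x = g y g⁻¹ ∈ E ⊓ (M_σ ⊔ A)`
    apply hkey
    refine Subgroup.mem_inf.mpr ⟨hXE hx, ?_⟩
    have hn := hnorm g.2
    rw [Subgroup.mem_normalizer_iff] at hn
    have hmem := (hn (y : G)).mp (Subgroup.mem_sup_right hyA)
    have hxeq : (g : G) * (y : G) * (g : G)⁻¹ = x := by
      rw [hy]
      simp [mul_assoc]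
    rwa [hxeq] at hmem
  refine ⟨⟨hEA, hXA⟩, ⟨?_, ?_, ?_⟩, ?_⟩
  · -- `C_G(A) ≤ M ⊓ N_G(A)`
    intro x hx
    exact Subgroup.mem_inf.mpr ⟨h16A hx, Subgroup.centralizer_le_normalizer _ hx⟩
  · -- `M ⊓ N_G(A) = E`
    apply le_antisymm
    · intro x hx
      obtain ⟨hxM, hxN⟩ := Subgroup.mem_inf.mp hx
      obtain ⟨e, he, y, hy, rfl⟩ := hprod x hxM
      have hyN : y ∈ Subgroup.normalizer (A : Set G) := by
        have : y = e⁻¹ * (e * y) := by group
        rw [this]
        exact Subgroup.mul_mem _ (Subgroup.inv_mem _ (hEA he)) hxN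
      have hyC : y ∈ Subgroup.centralizer (A : Set G) := by
        rw [Subgroup.mem_centralizer_iff]
        intro a ha
        have h1 : y * a * y⁻¹ * a⁻¹ ∈ sigmaCore M ⊓ A := by
          refine Subgroup.mem_inf.mpr ⟨?_, ?_⟩
          · have hn := hnMs (hAM ha)
            rw [Subgroup.mem_normalizer_iff] at hn
            have h2 : a * y⁻¹ * a⁻¹ ∈ sigmaCore M := (hn _).mp (Subgroup.inv_mem _ hy)
            have : y * a * y⁻¹ * a⁻¹ = y * (a * y⁻¹ * a⁻¹) := by group
            rw [this]
            exact Subgroup.mul_mem _ hy h2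
          · rw [Subgroup.mem_normalizer_iff] at hyN
            exact A.mul_mem ((hyN a).mp ha) (A.inv_mem ha)
        rw [hMsA, Subgroup.mem_bot] at h1
        have : y * a = (y * a * y⁻¹ * a⁻¹) * (a * y) := by group
        rw [this, h1, one_mul]
      have : y ∈ sigmaCore M ⊓ Subgroup.centralizer (A : Set G) :=
        Subgroup.mem_inf.mpr ⟨hy, hyC⟩
      rw [hcent, Subgroup.mem_bot] at this
      rw [this, mul_one]
      exact he
    · intro x hx
      exact Subgroup.mem_inf.mpr ⟨hEM hx, hEA hx⟩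
  · -- `N_G(A)` is not contained in `M`
    intro hNA
    apply hNP
    refine le_trans ?_ hNA
    have hconj : ∀ g ∈ Subgroup.normalizer ((((P : Subgroup M).map M.subtype : Subgroup G)) : Set G),
        ∀ a ∈ A, g * a * g⁻¹ ∈ A := by
      intro g hg a ha
      rw [Subgroup.mem_normalizer_iff] at hg
      have h1 : g * a * g⁻¹ ∈ (P : Subgroup M).map M.subtype := (hg a).mp (hAP ha)
      apply (hOmega _ h1).mp
      have h3 : (g * a * g⁻¹) ^ p = g * a ^ p * g⁻¹ := conj_pow
      rw [h3, hAel.2 a ha]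
      group
    intro g hg
    rw [Subgroup.mem_normalizer_iff]
    intro a
    refine ⟨hconj g hg a, fun h => ?_⟩
    have := hconj g⁻¹ (Subgroup.inv_mem _ hg) _ h
    simpa [mul_assoc] using this
  · -- subgroups of order `p` of `A` with a fixed point on `M_σ`
    intro X hXA' hXc hne
    have hAC : A ≤ Subgroup.centralizer (X : Set G) := by
      intro a ha
      rw [Subgroup.mem_centralizer_iff]
      intro x hx
      have := hAel.1.is_comm.comm (⟨x, hXA' hx⟩ : A) ⟨a, ha⟩
      exact congrArg Subtype.val this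
    have huniq : ∀ L : Subgroup G, IsCoatom L → Subgroup.centralizer (X : Set G) ≤ L → L = M := by
      intro L hL hCL
      by_contra hLM
      have h1 := hstar L hL hLM (hAC.trans hCL)
      apply hne
      rw [eq_bot_iff, ← h1]
      exact inf_le_inf_left _ hCL
    refine ⟨?_, huniq⟩
    -- `C_G(X)` is proper, hence inside a coatom
    have hXne : X ≠ ⊥ := by
      intro h
      rw [h] at hXc
      simp at hXc
      exact hpp.one_lt.ne hXc
    have hCne : Subgroup.centralizer (X : Set G) ≠ ⊤ := by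
      intro htop
      -- then `X` is central, so normal in the simple group `G`
      have hXn : X.Normal := by
        constructor
        intro x hx g
        have hg : g ∈ Subgroup.centralizer (X : Set G) := by rw [htop]; trivial
        rw [Subgroup.mem_centralizer_iff] at hg
        have : g * x * g⁻¹ = x := by
          rw [← hg x hx]
          group
        rwa [this]
      have hsimple : IsSimpleGroup G := hG.2.1
      rcases hXn.eq_bot_or_eq_top with h | h
      · exact hXne h
      · -- `X = ⊤` has prime order `p`, so `G` is cyclic, hence solvable: contradiction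
        have hGc : Nat.card G = p := by
          rw [← hXc, h]
          exact (Nat.card_congr Subgroup.topEquiv.toEquiv).symm
        have : Fact p.Prime := ⟨hpp⟩
        have hcyc : IsCyclic G := isCyclic_of_prime_card hGc
        have hcomm : ∀ a b : G, a * b = b * a := fun a b => by
          obtain ⟨g, hg⟩ := hcyc.exists_generator
          obtain ⟨m, rfl⟩ := Subgroup.mem_zpowers_iff.mp (hg a)
          obtain ⟨n, rfl⟩ := Subgroup.mem_zpowers_iff.mp (hg b)
          rw [← zpow_add, ← zpow_add, add_comm]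
        exact hG.2.2.1 ⟨⟨hcomm⟩⟩
    obtain ⟨L, hL, hCL⟩ := (eq_top_or_exists_le_coatom _).resolve_left hCne
    rw [← huniq L hL hCL]
    exact hCL

end Cfsg.Agent.Lib.Helper78.BG126
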