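import Mathlib
import Cfsg.Agent.Lib.Helper02.BG1310Defs
import Cfsg.Agent.Lib.Helper13.BG12B
import Cfsg.Agent.Lib.Helper13.BG127A
import Cfsg.Agent.Lib.Helper12.CNMaxSub
import Cfsg.Agent.S1350
import Cfsg.Agent.S1420

/-!
# K-LemmaD2 pack: auxiliary lemmas shared by keystones 143101 (P4) and 143103 (C). helper78
-/

set_option autoImplicit false

namespace Cfsg.Agent.Lib.Helper78.BG1310

open Cfsg Cfsg.Agent.Lib.Helper55 Cfsg.Agent.Lib.Helper31.BG134 Cfsg.Agent.Lib.Helper15.BG139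
  Cfsg.Agent.Lib.Helper02.BG1310

variable {G : Type*} [Group G] [Finite G]

/-- a subgroup of prime order is not trivial -/
theorem ne_bot_of_card_prime {Y : Subgroup G} (hYc : (Nat.card Y).Prime) : Y ≠ ⊥ := by
  intro h
  rw [h, Subgroup.card_bot] at hYc
  exact Nat.not_prime_one hYc

/-- a subgroup of prime order is a `p`-group -/
theorem isPGroup_of_card_prime {Y : Subgroup G} (hYc : (Nat.card Y).Prime) :
    IsPGroup (Nat.card Y) Y := IsPGroup.of_card (n := 1) (pow_one _).symm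

/-- a subgroup of prime order of a minimal simple group is proper -/
theorem ne_top_of_card_prime (hG : IsMinSimpleOddOrder G) {Y : Subgroup G}
    (hYc : (Nat.card Y).Prime) : Y ≠ ⊤ := by
  have : Fact (Nat.card Y).Prime := ⟨hYc⟩
  exact ms_pgroup_ne_top hG (isPGroup_of_card_prime hYc)

/-- a generator of a subgroup of prime order -/
theorem exists_gen_of_card_prime {Y : Subgroup G} (hYc : (Nat.card Y).Prime) :
    ∃ x ∈ Y, x ≠ 1 ∧ Subgroup.zpowers x = Y ∧ orderOf x = Nat.card Y := by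
  have : Fact (Nat.card Y).Prime := ⟨hYc⟩
  obtain ⟨a, ha⟩ := (Subgroup.ne_bot_iff_exists_ne_one).mp (ne_bot_of_card_prime hYc)
  have ha1 : (a : G) ≠ 1 := fun h => ha (Subtype.ext h)
  have hz := Cfsg.Agent.Lib.Helper13.BG127.zpowers_eq_of_card_prime (p := Nat.card Y) rfl a.2 ha1
  refine ⟨a, a.2, ha1, hz, ?_⟩
  rw [← Nat.card_zpowers, hz]

/-- the centralizer of a generator centralizes the cyclic subgroup -/
theorem centralizer_singleton_le_zpowers (x : G) :
    Subgroup.centralizer ({x} : Set G) ≤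
      Subgroup.centralizer ((Subgroup.zpowers x : Subgroup G) : Set G) := by
  intro g hg
  rw [Subgroup.mem_centralizer_iff] at hg ⊢
  intro z hz
  obtain ⟨k, rfl⟩ := Subgroup.mem_zpowers_iff.mp hz
  have h1 : Commute x g := hg x rfl
  exact (h1.zpow_left k).eq

/-- S1420 (d) for a subgroup `Y` of prime order `y ∈ τ₂(H)` with `C_{H_σ}(Y) ≠ 1`: `H` is the only
maximal subgroup over `C_G(Y)`. -/
theorem uniq_of_tau2_cent (hG : IsMinSimpleOddOrder G) {H Y : Subgroup G} (hH : IsCoatom H)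
    (hYH : Y ≤ H) (hYc : (Nat.card Y).Prime) (hy2 : Nat.card Y ∈ tau2 H) (hC : CP H Y ≠ ⊥) :
    Subgroup.centralizer (Y : Set G) ≤ H ∧
      ∀ L : Subgroup G, IsCoatom L → Subgroup.centralizer (Y : Set G) ≤ L → L = H := by
  obtain ⟨x, hxY, hx1, hxz, hxo⟩ := exists_gen_of_card_prime hYc
  have hHall : IsPiHallOf (sigma H) (sigmaCore H) H := (Cfsg.Agent.S1350.result hG H hH).1
  obtain ⟨EH, hEH, -⟩ := Cfsg.Agent.Lib.Helper13.BG12.exists_complIn_ge hG hH hHall
    (bot_le : (⊥ : Subgroup G) ≤ H) (by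
      intro r hr hrd
      rw [Subgroup.card_bot] at hrd
      exact absurd (Nat.dvd_one.mp hrd) hr.ne_one)
  obtain ⟨y, hy1⟩ := (Subgroup.ne_bot_iff_exists_ne_one).mp hC
  have hy1' : (y : G) ≠ 1 := fun h => hy1 (Subtype.ext h)
  have hyσ : (y : G) ∈ sigmaCore H := (Subgroup.mem_inf.mp y.2).1
  have hyc : (y : G) ∈ Subgroup.centralizer (Y : Set G) := (Subgroup.mem_inf.mp y.2).2
  have hhat : x ∈ sigmaHat H := by
    refine ⟨hYH hxY, y, hyσ, hy1', ?_⟩
    rw [Subgroup.mem_centralizer_iff] at hyc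
    exact hyc x hxY
  have hord : ∀ r : ℕ, r.Prime → r ∣ orderOf x → r ∈ tau2 H := by
    intro r hr hrd
    rw [hxo] at hrd
    have : r = Nat.card Y := (Nat.prime_dvd_prime_iff_eq hr hYc).mp hrd
    rw [this]; exact hy2
  have h20 := (Cfsg.Agent.S1420.result hG H hH EH hEH).2.2.2 x (hYH hxY) hx1 hord hhat
  have hle : Subgroup.centralizer (Y : Set G) ≤ Subgroup.centralizer ({x} : Set G) :=
    Subgroup.centralizer_le (Set.singleton_subset_iff.mpr hxY)
  have hge : Subgroup.centralizer ({x} : Set G) ≤ Subgroup.centralizer (Y : Set G) := by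
    have := centralizer_singleton_le_zpowers x
    rwa [hxz] at this
  refine ⟨hle.trans h20.1, fun L hL hCL => h20.2 L hL (hge.trans hCL)⟩

/-- under the hypotheses of `uniq_of_tau2_cent`, `N_G(Y) ≤ H` -/
theorem normalizer_le_of_tau2_cent (hG : IsMinSimpleOddOrder G) {H Y : Subgroup G}
    (hH : IsCoatom H) (hYH : Y ≤ H) (hYc : (Nat.card Y).Prime) (hy2 : Nat.card Y ∈ tau2 H)
    (hC : CP H Y ≠ ⊥) : Subgroup.normalizer (Y : Set G) ≤ H := by
  obtain ⟨L, hL, hNL⟩ := Cfsg.Agent.Lib.Helper12.CNMaxSub.exists_coatom_normalizer_le hG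
    (ne_bot_of_card_prime hYc) (ne_top_of_card_prime hG hYc)
  have hCL : Subgroup.centralizer (Y : Set G) ≤ L :=
    (Subgroup.centralizer_le_normalizer (Y : Set G)).trans hNL
  have := (uniq_of_tau2_cent hG hH hYH hYc hy2 hC).2 L hL hCL
  rw [← this]; exact hNL

end Cfsg.Agent.Lib.Helper78.BG1310
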