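import Mathlib
import Cfsg.Agent.Lib.Helper78.BG1310Aux
import Cfsg.Agent.Lib.Helper14.BG134G8
import Cfsg.Agent.Lib.Helper16.BG134Asm
import Cfsg.Agent.Lib.Helper91.BG125e
import Cfsg.Agent.Lib.Helper71.BG11a
import Cfsg.Agent.S1428

/-!
# K-LemmaD2 pack, keystone 143103 (K-LD2-C): `hc_of_htx`. helper78
-/

set_option autoImplicit false

namespace Cfsg.Agent.Lib.Helper78.BG1310

open Cfsg Cfsg.Agent.Lib.Helper55 Cfsg.Agent.Lib.Helper31.BG134 Cfsg.Agent.Lib.Helper15.BG139
  Cfsg.Agent.Lib.Helper02.BG1310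

variable {G : Type*} [Group G] [Finite G]

/-- KEYSTONE 143103  K-LD2-C: (C) from T-X. -/
theorem hc_of_htx (hG : IsMinSimpleOddOrder G) (hTX : HTX G) : HC G := by
  intro M E X R p hM hE hp hXE hXc hC hR hRc hr2
  have h28 := Cfsg.Agent.S1428.result hG M hM E hE p hp X hXE hXc R hR hRc
  have hCR : CP M R ≠ ⊥ := by
    intro h
    apply hC
    have h1 : CP M X ≤ CP M R := h28
    rw [h] at h1
    exact le_bot_iff.mp h1
  have hRE : R ≤ E := hR.trans inf_le_left
  have hRM : R ≤ M := hRE.trans hE.1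
  have hRne : R ≠ ⊥ := ne_bot_of_card_prime hRc
  have hu := uniq_of_tau2_cent hG hM hRM hRc hr2 hCR
  have hNRM : Subgroup.normalizer (R : Set G) ≤ M :=
    normalizer_le_of_tau2_cent hG hM hRM hRc hr2 hCR
  have hpp : p.Prime := hp.1
  have : Fact p.Prime := ⟨hpp⟩
  have hXcp : (Nat.card X).Prime := hXc ▸ hpp
  have hXne : X ≠ ⊥ := ne_bot_of_card_prime hXcp
  have hXtop : X ≠ ⊤ := ne_top_of_card_prime hG hXcp
  obtain ⟨H, hH, hNX⟩ :=
    Cfsg.Agent.Lib.Helper12.CNMaxSub.exists_coatom_normalizer_le hG hXne hXtop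
  have hXM : X ≤ M := hXE.trans hE.1
  have hpH : p ∈ sigma H := hTX M H X p hM hH (Or.inl hp) hXM hXc hC hNX
  have hHM : H ≠ M := by
    rintro rfl
    exact hp.2.1 hpH
  have hXp : IsPGroup p X := IsPGroup.of_card (n := 1) (by rw [hXc, pow_one])
  have hXσ : X ≤ sigmaCore H :=
    Cfsg.Agent.Lib.Helper91.BG125.le_sigmaCore_of_mem_sigma hG hH hpH hXp
      (Subgroup.le_normalizer.trans hNX)
  have hRH : R ≤ H := fun z hz =>
    hNX (Subgroup.centralizer_le_normalizer (X : Set G) (Subgroup.mem_inf.mp (hR hz)).2)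
  have : Fact (Nat.card R).Prime := ⟨hRc⟩
  have hrH : Nat.card R ∉ sigma H := by
    intro hrH
    have h := Cfsg.Agent.Lib.Helper14.BG134.tau2_and_compl hG hH hM (Ne.symm hHM) hrH hr2.2.1
      (isPGroup_of_card_prime hRc) hRne hRH hNRM
    have h1 : CP M X ≤ sigmaCore M ⊓ H := by
      refine le_inf inf_le_left ?_
      intro z hz
      exact hNX (Subgroup.centralizer_le_normalizer (X : Set G) (Subgroup.mem_inf.mp hz).2)
    rw [h.2.2] at h1
    exact hC (le_bot_iff.mp h1)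
  have hXCR : X ≤ Subgroup.centralizer (R : Set G) := by
    intro a ha
    rw [Subgroup.mem_centralizer_iff]
    intro z hz
    have h1 := (Subgroup.mem_inf.mp (hR hz)).2
    rw [Subgroup.mem_centralizer_iff] at h1
    exact (h1 a ha).symm
  have hCHR : CP H R ≠ ⊥ := by
    intro h
    exact hXne (le_bot_iff.mp (h ▸ le_inf hXσ hXCR))
  have hr2H : Nat.card R ∉ tau2 H := by
    intro h2
    have := (uniq_of_tau2_cent hG hH hRH hRc h2 hCHR).2 M hM hu.1
    exact hHM this.symm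
  have hrd : Nat.card R ∣ Nat.card H := Subgroup.card_dvd_of_le hRH
  have h13 : Nat.card R ∈ tau1 H ∨ Nat.card R ∈ tau3 H := by
    rcases Cfsg.Agent.Lib.Helper16.BG134.mem_tau_cases hG hH hRc hrd hrH with h | h | h
    · exact Or.inl h
    · exact absurd h hr2H
    · exact Or.inr h
  have := hTX H M R (Nat.card R) hH hM h13 hRH rfl hCHR hNRM
  exact hr2.2.1 this

end Cfsg.Agent.Lib.Helper78.BG1310
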