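import Mathlib
import Cfsg.Agent.Lib.Helper78.BG1310Aux
import Cfsg.Agent.Lib.Helper14.BG134G8
import Cfsg.Agent.Lib.Helper16.BG134Asm
import Cfsg.Agent.Lib.Helper91.BG125e
import Cfsg.Agent.Lib.Helper01.BG134CJ
import Cfsg.Agent.Lib.Helper71.BG11a
import Cfsg.Agent.S1378

/-!
# K-LemmaD2 pack, keystone 143101 (K-LD2-P4): `hp4_of_htx`. helper78
-/

set_option autoImplicit false

namespace Cfsg.Agent.Lib.Helper78.BG1310

open Cfsg Cfsg.Agent.Lib.Helper55 Cfsg.Agent.Lib.Helper31.BG134 Cfsg.Agent.Lib.Helper15.BG139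
  Cfsg.Agent.Lib.Helper02.BG1310

variable {G : Type*} [Group G] [Finite G]

/-- KEYSTONE 143101  K-LD2-P4: (P4) from T-X. -/
theorem hp4_of_htx (hG : IsMinSimpleOddOrder G) (hTX : HTX G) : HP4 G := by
  intro M H X Y p hM hH hp hXM hXc hNX hY hYc
  have hYne : Y ≠ ⊥ := ne_bot_of_card_prime hYc
  have hCne : CP M X ≠ ⊥ := by
    intro h
    rw [h] at hY
    exact hYne (le_bot_iff.mp hY)
  have hpH : p ∈ sigma H := hTX M H X p hM hH hp hXM hXc hCne hNX
  have hpp : p.Prime := hpH.1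
  have : Fact p.Prime := ⟨hpp⟩
  have hXH : X ≤ H := Subgroup.le_normalizer.trans hNX
  have hXp : IsPGroup p X := IsPGroup.of_card (n := 1) (by rw [hXc, pow_one])
  have hXσ : X ≤ sigmaCore H :=
    Cfsg.Agent.Lib.Helper91.BG125.le_sigmaCore_of_mem_sigma hG hH hpH hXp hXH
  have hXne : X ≠ ⊥ := by
    intro h
    rw [h, Subgroup.card_bot] at hXc
    exact hpp.ne_one hXc.symm
  have hpM : p ∉ sigma M := by
    rcases hp with h | h
    · exact h.2.1
    · exact h.2.1
  have hYσ : Y ≤ sigmaCore M := hY.trans inf_le_left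
  have hyM : Nat.card Y ∈ sigma M :=
    Cfsg.Agent.Lib.Helper71.BG11.sigmaCore_pi hG hM hYc (Subgroup.card_dvd_of_le hYσ)
  have hyH : Nat.card Y ∉ sigma H := by
    intro hyH
    obtain ⟨g, hg⟩ := (Cfsg.Agent.S1378.result hG).2 M H hM hH ⟨_, hyM, hyH⟩
    have h1 : p ∈ sigma (cj g M) := by
      have h2 : cj g M = H := hg.symm
      rw [h2]; exact hpH
    exact hpM ((Cfsg.Agent.Lib.Helper01.BG134.mem_sigma_cj_iff g).mp h1)
  have hYH : Y ≤ H := fun z hz =>
    hNX (Subgroup.centralizer_le_normalizer (X : Set G) (Subgroup.mem_inf.mp (hY hz)).2)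
  have hydH : Nat.card Y ∣ Nat.card H := Subgroup.card_dvd_of_le hYH
  have hy2 : Nat.card Y ∉ tau2 H := by
    intro hy2
    have hXCY : X ≤ Subgroup.centralizer (Y : Set G) := by
      intro a ha
      rw [Subgroup.mem_centralizer_iff]
      intro z hz
      have h1 := (Subgroup.mem_inf.mp (hY hz)).2
      rw [Subgroup.mem_centralizer_iff] at h1
      exact (h1 a ha).symm
    have hCHY : CP H Y ≠ ⊥ := by
      intro h
      exact hXne (le_bot_iff.mp (h ▸ le_inf hXσ hXCY))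
    have hNYH : Subgroup.normalizer (Y : Set G) ≤ H :=
      normalizer_le_of_tau2_cent hG hH hYH hYc hy2 hCHY
    have hHM : H ≠ M := by
      rintro rfl
      exact hpM hpH
    have : Fact (Nat.card Y).Prime := ⟨hYc⟩
    have h := Cfsg.Agent.Lib.Helper14.BG134.tau2_and_compl hG hM hH hHM hyM hyH
      (isPGroup_of_card_prime hYc) hYne
      (hYσ.trans (Cfsg.Agent.Lib.Helper71.BG11.sigmaCore_le M)) hNYH
    exact hXne (le_bot_iff.mp (h.2.2 ▸ le_inf hXσ hXM))
  rcases Cfsg.Agent.Lib.Helper16.BG134.mem_tau_cases hG hH hYc hydH hyH with h | h | h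
  · exact Or.inl h
  · exact absurd h hy2
  · exact Or.inr h

end Cfsg.Agent.Lib.Helper78.BG1310
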