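import Mathlib
import Cfsg.Agent.S1418
import Cfsg.Agent.S1415
import Cfsg.Agent.Lib.Helper26.Rank2Amb
import Cfsg.Agent.Lib.Helper41.FamilyTransfer
import Cfsg.Agent.Lib.Helper81.BG117K9

set_option autoImplicit false
set_option linter.unusedSectionVars false
set_option linter.style.haveILetI false

/-! # BG Lemma 12.8 (and 12.9): abelian Sylow `p`-subgroups of `G` for `p ∈ τ₂(M)`

`M` maximal, `E` a complement of `M_σ`, `p ∈ τ₂(M)`, `A ≤ E` elementary abelian of order `p²`,
`S ≥ A` an ABELIAN Sylow `p`-subgroup of `G`.  Then `S ≤ E`, `S ⊴ E`, `E' ≤ C(S)`, `N(S)' ≤ C(S)`, `C(S) ≤ E`. -/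

namespace Cfsg.Agent.Lib.Helper78.BG128

open Cfsg Cfsg.Agent.Lib.Helper55
open scoped commutatorElement

variable {G : Type*} [Group G]

/-- Bezout for membership: if two coprime powers of `c` lie in `H`, so does `c`. -/
theorem mem_of_coprime_pow_mem {H : Subgroup G} {c : G} {n m : ℕ} (hcop : n.Coprime m)
    (hn : c ^ n ∈ H) (hm : c ^ m ∈ H) : c ∈ H := by
  have h1 : (n : ℤ) * Nat.gcdA n m + (m : ℤ) * Nat.gcdB n m = 1 := by
    have := Nat.gcd_eq_gcd_ab n m
    rw [hcop] at this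
    exact_mod_cast this.symm
  have h2 : c = (c ^ n) ^ (Nat.gcdA n m) * (c ^ m) ^ (Nat.gcdB n m) := by
    rw [← zpow_natCast c n, ← zpow_natCast c m, ← zpow_mul, ← zpow_mul, ← zpow_add, h1, zpow_one]
  rw [h2]
  exact H.mul_mem (H.zpow_mem hn _) (H.zpow_mem hm _)

/-- the `p'`-part exponent: some power `c ^ m` with `m` prime to `p` is a `p`-element. -/
theorem exists_coprime_pow_pElement [Finite G] (p : ℕ) [Fact p.Prime] (c : G) :
    ∃ m a : ℕ, p.Coprime m ∧ (c ^ m) ^ (p ^ a) = 1 := by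
  have hp : p.Prime := Fact.out
  have ho : orderOf c ≠ 0 := (orderOf_pos c).ne'
  refine ⟨(orderOf c) / p ^ (orderOf c).factorization p, (orderOf c).factorization p,
    Nat.coprime_ordCompl hp ho, ?_⟩
  rw [← pow_mul, mul_comm, Nat.ordProj_mul_ordCompl_eq_self]
  exact pow_orderOf_eq_one c

/-- if `c ^ (p ^ k) ∈ H` and every `p`-element among the powers of `c` lies in `H`, then `c ∈ H` -/
theorem mem_of_pow_mem_of_pElements [Finite G] {p : ℕ} [Fact p.Prime] {H : Subgroup G} {c : G} {k : ℕ}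
    (hk : c ^ (p ^ k) ∈ H) (hp' : ∀ (m a : ℕ), (c ^ m) ^ (p ^ a) = 1 → c ^ m ∈ H) : c ∈ H := by
  obtain ⟨m, a, hcop, hma⟩ := exists_coprime_pow_pElement p c
  exact mem_of_coprime_pow_mem (Nat.Coprime.pow_left k hcop) hk (hp' m a hma)

/-- a `p`-element normalizing a Sylow `p`-subgroup lies in it -/
theorem mem_sylow_of_mem_normalizer [Finite G] {p : ℕ} [Fact p.Prime] (S : Sylow p G) {x : G}
    (hx : x ∈ Subgroup.normalizer ((S : Subgroup G) : Set G)) {a : ℕ} (hxa : x ^ (p ^ a) = 1) :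
    x ∈ (S : Subgroup G) := by
  have hZ : IsPGroup p (Subgroup.zpowers x) := by
    rw [IsPGroup.iff_card]  -- card = p ^ n
    have hdvd : orderOf x ∣ p ^ a := orderOf_dvd_of_pow_eq_one hxa
    obtain ⟨n, -, hn⟩ := (Nat.dvd_prime_pow Fact.out).mp hdvd
    exact ⟨n, by rw [Nat.card_zpowers, hn]⟩
  have hle : Subgroup.zpowers x ≤ Subgroup.normalizer ((S : Subgroup G) : Set G) := by
    rw [Subgroup.zpowers_le]; exact hx
  have hsup : IsPGroup p ↥(Subgroup.zpowers x ⊔ (S : Subgroup G)) :=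
    IsPGroup.to_sup_of_normal_right' hZ S.isPGroup' hle
  have := S.is_maximal' hsup le_sup_right
  have h2 : Subgroup.zpowers x ≤ (S : Subgroup G) := by
    rw [← this]; exact le_sup_left
  exact h2 (Subgroup.mem_zpowers x)

/-- focal subgroup theorem for an abelian Sylow subgroup of a perfect group: `S ≤ [S, N(S)]`. -/
theorem sylow_le_commutator_normalizer_of_comm [Finite G] {p : ℕ} [Fact p.Prime] (S : Sylow p G)
    (hab : ∀ x ∈ (S : Subgroup G), ∀ y ∈ (S : Subgroup G), x * y = y * x)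
    (hperf : ⁅(⊤ : Subgroup G), (⊤ : Subgroup G)⁆ = (⊤ : Subgroup G)) :
    (S : Subgroup G) ≤ ⁅(S : Subgroup G), Subgroup.normalizer ((S : Subgroup G) : Set G)⁆ := by
  haveI : IsMulCommutative (S : Subgroup G) :=
    ⟨⟨fun a b => Subtype.ext (hab a.1 a.2 b.1 b.2)⟩⟩
  have hidx : ¬ p ∣ (S : Subgroup G).relIndex ⊤ := by
    rw [Subgroup.relIndex_top_right]; exact S.not_dvd_index
  have key := Cfsg.Agent.Lib.Helper41.relative_focal (p := p) (L := (⊤ : Subgroup G))
    (M := (S : Subgroup G)) le_top S.isPGroup' hidx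
    (D := ⁅(S : Subgroup G), Subgroup.normalizer ((S : Subgroup G) : Set G)⁆) ?_
  · rw [hperf, inf_top_eq] at key
    exact key
  · intro x hx u _ hxu
    -- `⁅x, u⁆ = x * (u * x⁻¹ * u⁻¹)`, and `u * x⁻¹ * u⁻¹ ∈ S`
    have h1 : u * x⁻¹ * u⁻¹ ∈ (S : Subgroup G) := by
      have : u * x⁻¹ * u⁻¹ = x⁻¹ * ⁅x, u⁆ := by rw [commutatorElement_def]; group
      rw [this]
      exact Subgroup.mul_mem _ (Subgroup.inv_mem _ hx) hxu
    obtain ⟨n, hn, hnx⟩ := S.conj_eq_normalizer_conj_of_mem x⁻¹ u⁻¹ (Subgroup.inv_mem _ hx)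
      (by rw [inv_inv]; exact h1)
    have h2 : ⁅x, u⁆ = ⁅x, n⁻¹⁆ := by
      rw [commutatorElement_def, commutatorElement_def]
      have h3 : u * x⁻¹ * u⁻¹ = n⁻¹ * x⁻¹ * n := by simpa using hnx
      calc x * u * x⁻¹ * u⁻¹ = x * (u * x⁻¹ * u⁻¹) := by group
        _ = x * (n⁻¹ * x⁻¹ * n) := by rw [h3]
        _ = x * n⁻¹ * x⁻¹ * n⁻¹⁻¹ := by group
    rw [h2]
    exact Subgroup.commutator_mem_commutator hx (Subgroup.inv_mem _ hn)

/-- a subgroup `N` normalizes `E` as soon as all conjugates `n e n⁻¹` stay in `E` -/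
theorem le_normalizer_of_conj_mem {N E : Subgroup G}
    (h : ∀ n ∈ N, ∀ e ∈ E, n * e * n⁻¹ ∈ E) : N ≤ Subgroup.normalizer (E : Set G) := by
  intro n hn
  rw [Subgroup.mem_normalizer_iff]
  intro e
  constructor
  · intro he; exact h n hn e he
  · intro he
    have := h n⁻¹ (N.inv_mem hn) _ he
    have h2 : n⁻¹ * (n * e * n⁻¹) * n⁻¹⁻¹ = e := by group
    rwa [h2] at this

/-- the derived subgroup of `E` is normalized by the normalizer of `E` -/
theorem normalizer_le_normalizer_commutator (E : Subgroup G) :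
    Subgroup.normalizer (E : Set G) ≤ Subgroup.normalizer ((⁅E, E⁆ : Subgroup G) : Set G) := by
  apply le_normalizer_of_conj_mem
  intro n hn c hc
  have hmap : (⁅E, E⁆ : Subgroup G).map (MulAut.conj n).toMonoidHom = ⁅E, E⁆ := by
    rw [Subgroup.map_commutator]
    have hE : E.map (MulAut.conj n).toMonoidHom = E := by
      have := cj_eq_self_iff.mpr hn
      exact this
    rw [hE]
  have : (MulAut.conj n) c ∈ (⁅E, E⁆ : Subgroup G).map (MulAut.conj n).toMonoidHom :=
    ⟨c, hc, rfl⟩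
  rw [hmap] at this
  simpa [MulAut.conj_apply] using this

variable [Finite G] {M E A : Subgroup G} {p : ℕ} [Fact p.Prime]

/-- **BG Lemma 12.8** (core) -/
theorem sylow_abelian_structure (hG : IsMinSimpleOddOrder G) (hM : IsCoatom M)
    (hE : IsComplIn E (sigmaCore M) M) (hp : p ∈ tau2 M)
    (hA : A ≤ E ∧ IsElementaryAbelian p A ∧ Nat.card A = p ^ 2) (S : Sylow p G)
    (hAS : A ≤ (S : Subgroup G))
    (hSab : ∀ x ∈ (S : Subgroup G), ∀ y ∈ (S : Subgroup G), x * y = y * x) :
    (S : Subgroup G) ≤ E ∧ E ≤ Subgroup.normalizer ((S : Subgroup G) : Set G) ∧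
      ⁅E, E⁆ ≤ Subgroup.centralizer ((S : Subgroup G) : Set G) ∧
      ⁅Subgroup.normalizer ((S : Subgroup G) : Set G),
          Subgroup.normalizer ((S : Subgroup G) : Set G)⁆ ≤
        Subgroup.centralizer ((S : Subgroup G) : Set G) ∧
      Subgroup.centralizer ((S : Subgroup G) : Set G) ≤ E := by
  have hpp : p.Prime := Fact.out
  obtain ⟨hAE, hAe, hA2⟩ := hA
  obtain ⟨⟨hEN, hXA⟩, ⟨hCA, hMN, hNM⟩, -⟩ :=
    Cfsg.Agent.S1418.result hG M hM E hE p hp A ⟨hAE, hAe, hA2⟩
  have hCE : Subgroup.centralizer (A : Set G) ≤ E := by rw [← hMN]; exact hCA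
  have hCN : Subgroup.centralizer (A : Set G) ≤ Subgroup.normalizer (A : Set G) :=
    hCA.trans inf_le_right
  -- `S ≤ C(A) ≤ E`
  have hSC : (S : Subgroup G) ≤ Subgroup.centralizer (A : Set G) := by
    intro s hs
    rw [Subgroup.mem_centralizer_iff]
    intro a ha
    exact hSab a (hAS ha) s hs
  have hSE : (S : Subgroup G) ≤ E := hSC.trans hCE
  have hSM : (S : Subgroup G) ≤ M := hSE.trans hE.1
  -- `Ω₁(S) ≤ A`
  have hΩ : ∀ x ∈ (S : Subgroup G), x ^ p = 1 → x ∈ A := by
    intro x hx hxp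
    by_cases hx1 : x = 1
    · rw [hx1]; exact A.one_mem
    · have hord : orderOf x = p := orderOf_eq_prime hxp hx1
      have hcard : Nat.card (Subgroup.zpowers x) = p := by rw [Nat.card_zpowers, hord]
      have hle : Subgroup.zpowers x ≤ E := by rw [Subgroup.zpowers_le]; exact hSE hx
      exact hXA _ hle hcard (Subgroup.mem_zpowers x)
  -- oddness
  have hodd : ∀ H : Subgroup G, Odd (Nat.card H) := fun H =>
    Odd.of_dvd_nat hG.1 (Subgroup.card_subgroup_dvd_card H)
  have hp2 : p ≠ 2 := by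
    intro h2
    have h1 : p ∣ Nat.card A := by rw [hA2]; exact dvd_pow_self p (by norm_num)
    have h3 : Odd (Nat.card A) := hodd A
    rw [h2] at h1
    exact (Nat.not_even_iff_odd.mpr h3) (even_iff_two_dvd.mpr h1)
  -- `N := N(A)` is a proper subgroup
  have hA1 : A ≠ ⊥ := by
    intro h
    rw [h, Subgroup.card_bot] at hA2
    have : 1 < p ^ 2 := Nat.one_lt_pow (by norm_num) hpp.one_lt
    omega
  have hAtop : A ≠ ⊤ := by
    intro h
    exact hM.1 (top_le_iff.mp (h ▸ (hAE.trans hE.1)))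
  have hNtop : Subgroup.normalizer (A : Set G) ≠ ⊤ := by
    intro h
    have hn : A.Normal := Subgroup.normalizer_eq_top_iff.mp h
    haveI := hG.2.1
    rcases hn.eq_bot_or_eq_top with h0 | h0
    · exact hA1 h0
    · exact hAtop h0
  have hNsolv : Group.IsSolvable ↥(Subgroup.normalizer (A : Set G)) := hG.2.2.2 _ hNtop
  have hAp : IsPGroup p A := IsPGroup.of_card hA2
  have hrA : PRankLE p 2 ↥A := by
    intro B _ _
    rw [← hA2]
    exact Subgroup.card_le_card_group B
  have hambA := (Cfsg.Agent.Lib.Helper26.Rank2Amb.ambient hp2 A (Subgroup.normalizer (A : Set G))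
    hAp hrA le_rfl hNsolv (hodd _)).1
  have hSylN : IsSylowIn p (Subgroup.normalizer (A : Set G)) (S : Subgroup G) :=
    isSylowIn_of_sylow_le S (hSC.trans hCN)
  -- `N' ≤ C(A)`
  have hN'C : ⁅Subgroup.normalizer (A : Set G), Subgroup.normalizer (A : Set G)⁆ ≤
      Subgroup.centralizer (A : Set G) := by
    intro c hc
    obtain ⟨k, hk⟩ := hambA c hc
    refine mem_of_pow_mem_of_pElements (p := p) hk ?_
    intro m a hma
    have hcN : c ∈ Subgroup.normalizer (A : Set G) := Subgroup.commutator_le_self _ hc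
    have hZ : IsPGroup p (Subgroup.zpowers (c ^ m)) := by
      rw [IsPGroup.iff_card]
      have hdvd : orderOf (c ^ m) ∣ p ^ a := orderOf_dvd_of_pow_eq_one hma
      obtain ⟨n, -, hn⟩ := (Nat.dvd_prime_pow hpp).mp hdvd
      exact ⟨n, by rw [Nat.card_zpowers, hn]⟩
    have hZN : Subgroup.zpowers (c ^ m) ≤ Subgroup.normalizer (A : Set G) := by
      rw [Subgroup.zpowers_le]; exact Subgroup.pow_mem _ hcN m
    obtain ⟨n, hn, hle⟩ := hSylN.exists_conj_le hZN hZ
    rw [cj_le_iff] at hle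
    have h1 : cj n⁻¹ (S : Subgroup G) ≤ cj n⁻¹ (Subgroup.centralizer (A : Set G)) := cj_mono hSC
    rw [cj_centralizer, cj_eq_self_iff.mpr (Subgroup.inv_mem _ hn)] at h1
    exact h1 (hle (Subgroup.mem_zpowers _))
  -- `N ≤ N(E)`
  have hNE : Subgroup.normalizer (A : Set G) ≤ Subgroup.normalizer (E : Set G) := by
    apply le_normalizer_of_conj_mem
    intro n hn e he
    have h1 : ⁅n, e⁆ ∈ ⁅Subgroup.normalizer (A : Set G), Subgroup.normalizer (A : Set G)⁆ :=
      Subgroup.commutator_mem_commutator hn (hEN he)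
    have h2 : n * e * n⁻¹ = ⁅n, e⁆ * e := by rw [commutatorElement_def]; group
    rw [h2]
    exact E.mul_mem (hCE (hN'C h1)) he
  -- `L := N(S) ≤ N`
  have hLN : Subgroup.normalizer ((S : Subgroup G) : Set G) ≤ Subgroup.normalizer (A : Set G) := by
    apply le_normalizer_of_conj_mem
    intro l hl a ha
    have h1 : l * a * l⁻¹ ∈ (S : Subgroup G) :=
      (Subgroup.mem_normalizer_iff.mp hl a).mp (hAS ha)
    apply hΩ _ h1
    rw [conj_pow, hAe.2 a ha]; group
  have hLtop : Subgroup.normalizer ((S : Subgroup G) : Set G) ≠ ⊤ := by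
    intro h
    exact hNtop (top_le_iff.mp (h ▸ hLN))
  have hLsolv : Group.IsSolvable ↥(Subgroup.normalizer ((S : Subgroup G) : Set G)) :=
    hG.2.2.2 _ hLtop
  have hSL : (S : Subgroup G) ≤ Subgroup.normalizer ((S : Subgroup G) : Set G) :=
    Subgroup.le_normalizer
  -- focal subgroup: `S ≤ [S, L] ≤ L'`
  have hfoc := sylow_le_commutator_normalizer_of_comm S hSab
    (Cfsg.Agent.Lib.Helper71.BG10.commutator_top_eq_top hG)
  have hSL' : (S : Subgroup G) ≤ ⁅Subgroup.normalizer ((S : Subgroup G) : Set G),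
      Subgroup.normalizer ((S : Subgroup G) : Set G)⁆ :=
    hfoc.trans (Subgroup.commutator_mono hSL le_rfl)
  -- `E'` nilpotent
  have hnil : Group.IsNilpotent ↥⁅E, E⁆ := (Cfsg.Agent.S1415.result hG M hM E hE).1
  have hHall := (Cfsg.Agent.S1350.result hG M hM).1
  have hE'E : ⁅E, E⁆ ≤ E := Subgroup.commutator_le_self E
  have hNE' : Subgroup.normalizer (A : Set G) ≤ Subgroup.normalizer ((⁅E, E⁆ : Subgroup G) : Set G) :=
    hNE.trans (normalizer_le_normalizer_commutator E)
  have hSylE : IsSylowIn p E (S : Subgroup G) := isSylowIn_of_sylow_le S hSE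
  -- `E' ≤ C(S)`
  have hE'S : ⁅E, E⁆ ≤ Subgroup.centralizer ((S : Subgroup G) : Set G) := by
    apply Cfsg.Agent.Lib.Helper81.BG117.le_centralizer_of_sylows
    intro r Y hr hrd hY
    haveI : Fact r.Prime := ⟨hr⟩
    have hNY : Subgroup.normalizer (A : Set G) ≤ Subgroup.normalizer (Y : Set G) :=
      Cfsg.Agent.Lib.Helper71.BG11.sylow_normal_of_nilpotent hnil hY hNE'
    have hYE : Y ≤ E := hY.1.trans hE'E
    by_cases hrp : r = p
    · -- `Y ≤ S`, and `S` is abelian
      have hYp : IsPGroup p Y := hrp ▸ hY.2.1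
      have hYS : Y ≤ (S : Subgroup G) := hSylE.normal_le hYE hYp (hEN.trans hNY)
      intro y hy
      rw [Subgroup.mem_centralizer_iff]
      intro s hs
      exact hSab s hs y (hYS hy)
    · have hr2 : r ≠ 2 := by
        intro h2
        have h1 : r ∣ Nat.card ↥⁅E, E⁆ := hrd
        have h3 : Odd (Nat.card ↥⁅E, E⁆) := hodd _
        rw [h2] at h1
        exact (Nat.not_even_iff_odd.mpr h3) (even_iff_two_dvd.mpr h1)
      have hrE : r ∣ Nat.card E := hrd.trans (Subgroup.card_dvd_of_le hE'E)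
      have hrσ : r ∉ sigma M :=
        Cfsg.Agent.Lib.Helper13.BG12.complIn_prime_not_mem_sigma hHall hE r hr hrE
      have hrM : PRankLE r 2 ↥M := by
        by_contra h
        exact hrσ (Cfsg.Agent.Lib.Helper13.BG12.mem_sigma_of_not_pRankLE_two hG hM hr h)
      have hYM : Y ≤ M := hYE.trans hE.1
      have hrY : PRankLE r 2 ↥Y :=
        pRankLE_of_inj (Subgroup.inclusion hYM) (Subgroup.inclusion_injective hYM) hrM
      have hambY := (Cfsg.Agent.Lib.Helper26.Rank2Amb.ambient hr2 Y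
        (Subgroup.normalizer ((S : Subgroup G) : Set G)) hY.2.1 hrY (hLN.trans hNY) hLsolv
        (hodd _)).1
      have hSY : (S : Subgroup G) ≤ Subgroup.centralizer (Y : Set G) := by
        intro s hs
        obtain ⟨k, hk⟩ := hambY s (hSL' hs)
        obtain ⟨j, hj⟩ := S.isPGroup' ⟨s, hs⟩
        have hj' : s ^ (p ^ j) = 1 := by
          have := congrArg Subtype.val hj
          simpa using this
        have hdvd : orderOf s ∣ p ^ j := orderOf_dvd_of_pow_eq_one hj'
        have hcop : (r ^ k).Coprime (orderOf s) :=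
          Nat.Coprime.coprime_dvd_right hdvd
            (Nat.Coprime.pow _ _ ((Nat.coprime_primes hr hpp).mpr hrp))
        obtain ⟨m, hm⟩ := exists_pow_eq_self_of_coprime hcop
        rw [← hm]
        exact Subgroup.pow_mem _ hk m
      exact Cfsg.Agent.Lib.Helper71.BG11.le_centralizer_symm hSY
  have hSCS : (S : Subgroup G) ≤ Subgroup.centralizer ((S : Subgroup G) : Set G) := by
    intro s hs
    rw [Subgroup.mem_centralizer_iff]
    intro t ht
    exact hSab t ht s hs
  -- `E ≤ N(S)`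
  have hES : E ≤ Subgroup.normalizer ((S : Subgroup G) : Set G) := by
    apply le_normalizer_of_conj_mem
    intro e he s hs
    have h1 : ⁅e, s⁆ ∈ ⁅E, E⁆ := Subgroup.commutator_mem_commutator he (hSE hs)
    have h2 : e * s * e⁻¹ = ⁅e, s⁆ * s := by rw [commutatorElement_def]; group
    have h3 : e * s * e⁻¹ ∈ Subgroup.normalizer ((S : Subgroup G) : Set G) := by
      rw [h2]
      exact Subgroup.mul_mem _ (Subgroup.centralizer_le_normalizer _ (hE'S h1)) (hSL hs)
    obtain ⟨j, hj⟩ := S.isPGroup' ⟨s, hs⟩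
    have hj' : s ^ (p ^ j) = 1 := by
      have := congrArg Subtype.val hj
      simpa using this
    have h4 : (e * s * e⁻¹) ^ (p ^ j) = 1 := by rw [conj_pow, hj']; group
    exact mem_sylow_of_mem_normalizer S h3 h4
  -- `L' ≤ C(S)`
  have hrS : PRankLE p 2 ↥(S : Subgroup G) :=
    pRankLE_of_inj (Subgroup.inclusion hSM) (Subgroup.inclusion_injective hSM) hp.2.2.1
  have hambS := (Cfsg.Agent.Lib.Helper26.Rank2Amb.ambient hp2 (S : Subgroup G)
    (Subgroup.normalizer ((S : Subgroup G) : Set G)) S.isPGroup' hrS le_rfl hLsolv (hodd _)).1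
  have hL'S : ⁅Subgroup.normalizer ((S : Subgroup G) : Set G),
      Subgroup.normalizer ((S : Subgroup G) : Set G)⁆ ≤
      Subgroup.centralizer ((S : Subgroup G) : Set G) := by
    intro c hc
    obtain ⟨k, hk⟩ := hambS c hc
    refine mem_of_pow_mem_of_pElements (p := p) hk ?_
    intro m a hma
    have hcL : c ∈ Subgroup.normalizer ((S : Subgroup G) : Set G) :=
      Subgroup.commutator_le_self _ hc
    exact hSCS (mem_sylow_of_mem_normalizer S (Subgroup.pow_mem _ hcL m) hma)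
  exact ⟨hSE, hES, hE'S, hL'S, (Subgroup.centralizer_le hAS).trans hCE⟩

end Cfsg.Agent.Lib.Helper78.BG128
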