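import Mathlib
import Cfsg.Agent.Lib.Helper31.BG137Defs
import Cfsg.Agent.Lib.Helper13.BG12B
import Cfsg.Agent.Lib.Helper91.BG125e
import Cfsg.Agent.S1350
import Cfsg.Agent.S1418

/-!
# K-137N pack, keystone 137707 (K-137N-F): `LCfg.not_tau2`. helper78
-/

set_option autoImplicit false

namespace Cfsg.Agent.Lib.Helper78.BG137

open Cfsg Cfsg.Agent.Lib.Helper55 Cfsg.Agent.Lib.Helper31.BG137

variable {G : Type*} [Group G] [Finite G]

/-- KEYSTONE 137707 (step (g)): `p ∉ τ₂(L)`. -/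
theorem LCfg.not_tau2 {M E P A L : Subgroup G} {p q : ℕ} (l : LCfg M E P A L p q)
    (hpσ : p ∉ sigma L) : p ∉ tau2 L := by
  intro hp2
  have hG := l.c.hG
  have hL := l.hL
  have hHall : IsPiHallOf (sigma L) (sigmaCore L) L := (Cfsg.Agent.S1350.result hG L hL).1
  have hPL : P ≤ L := l.c.hPE.trans l.hEL
  have hpp : p.Prime := hp2.1
  have hK : ∀ r : ℕ, r.Prime → r ∣ Nat.card P → r ∉ sigma L := by
    intro r hr hrd
    rw [l.c.hP] at hrd
    have : r = p := (Nat.prime_dvd_prime_iff_eq hr hpp).mp hrd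
    rw [this]; exact hpσ
  obtain ⟨EL, hEL, hPEL⟩ := Cfsg.Agent.Lib.Helper13.BG12.exists_complIn_ge hG hL hHall hPL hK
  obtain ⟨Ap, hApE, hApe, hApc⟩ :=
    Cfsg.Agent.Lib.Helper13.BG12.exists_elemAb_sq_le_compl hG hL hHall hp2 hEL
  haveI : Fact p.Prime := ⟨hpp⟩
  have h18 := Cfsg.Agent.S1418.result hG L hL EL hEL p hp2 Ap ⟨hApE, hApe, hApc⟩
  have hPAp : P ≤ Ap := h18.1.2 P hPEL l.c.hP
  have hqprime : q.Prime := l.c.hq.1
  haveI : Fact q.Prime := ⟨hqprime⟩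
  have hAL : A ≤ L := l.c.hAE.trans l.hEL
  have hApg : IsPGroup q A := IsPGroup.of_card l.c.hAc
  have hAσ : A ≤ sigmaCore L :=
    Cfsg.Agent.Lib.Helper91.BG125.le_sigmaCore_of_mem_sigma hG hL l.hqL hApg hAL
  have hne : sigmaCore L ⊓ Subgroup.centralizer (P : Set G) ≠ ⊥ := by
    intro h
    apply l.c.hCA
    rw [eq_bot_iff, ← h]
    exact inf_le_inf_right _ hAσ
  have hCP := (h18.2.2 P hPAp l.c.hP hne).1
  apply l.c.hC
  rw [eq_bot_iff, ← l.hσL]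
  exact inf_le_inf_left _ hCP

end Cfsg.Agent.Lib.Helper78.BG137
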