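import Mathlib
import Cfsg.Agent.Lib.Helper31.BG137Defs
import Cfsg.Agent.Lib.Helper13.BG12A
import Cfsg.Agent.Lib.Helper13.BG12B
import Cfsg.Agent.Lib.Helper16.BG134Asm
import Cfsg.Agent.Lib.Helper91.BG125e
import Cfsg.Agent.S1350
import Cfsg.Agent.S1418

/-!
# K-137N pack, keystone 137711 (K-137N-H3): `LCfg.cyclic_of_le_H`. helper78
-/

set_option autoImplicit false

namespace Cfsg.Agent.Lib.Helper78.BG137

open Cfsg Cfsg.Agent.Lib.Helper55 Cfsg.Agent.Lib.Helper31.BG137

variable {G : Type*} [Group G] [Finite G]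

/-- KEYSTONE 137711 (step (i), third part): `q ∉ τ₂(H)`, hence every `q`-subgroup of `H` is cyclic. -/
theorem LCfg.cyclic_of_le_H {M E P A L H : Subgroup G} {p q : ℕ} (l : LCfg M E P A L p q)
    (hRM : Subgroup.centralizer ((A ⊓ Subgroup.centralizer (P : Set G) : Subgroup G) : Set G) ≤ M ∧
      ∀ L' : Subgroup G, IsCoatom L' →
        Subgroup.centralizer ((A ⊓ Subgroup.centralizer (P : Set G) : Subgroup G) : Set G) ≤ L' → L' = M)
    (hH : IsCoatom H) (hNP : Subgroup.normalizer (P : Set G) ≤ H) (hpH : p ∈ sigma H) (hqH : q ∉ sigma H)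
    {D : Subgroup G} (hDH : D ≤ H) (hD : IsPGroup q D) : IsCyclic D := by
  have hG := l.c.hG
  have hqprime : q.Prime := l.c.hq.1
  have : Fact q.Prime := ⟨hqprime⟩
  have hpp : p.Prime := l.c.hp.1
  have : Fact p.Prime := ⟨hpp⟩
  have hHall : IsPiHallOf (sigma H) (sigmaCore H) H := (Cfsg.Agent.S1350.result hG H hH).1
  have hRH : A ⊓ Subgroup.centralizer (P : Set G) ≤ H :=
    fun x hx => hNP (Subgroup.centralizer_le_normalizer (P : Set G) (Subgroup.mem_inf.mp hx).2)
  have hRq : IsPGroup q ↥(A ⊓ Subgroup.centralizer (P : Set G)) :=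
    (IsPGroup.of_card l.c.hAc).to_le inf_le_left
  have hq2 : q ∉ tau2 H := by
    intro hq2
    have hqdR : q ∣ Nat.card ↥(A ⊓ Subgroup.centralizer (P : Set G)) :=
      ms_prime_dvd_card hG hRq l.c.hCA
    obtain ⟨x, hx⟩ := exists_prime_orderOf_dvd_card' q hqdR
    have hXcard : Nat.card ↥(Subgroup.zpowers (x : G)) = q := by
      rw [Nat.card_zpowers, Subgroup.orderOf_coe, hx]
    have hXR : Subgroup.zpowers (x : G) ≤ A ⊓ Subgroup.centralizer (P : Set G) := by
      rw [Subgroup.zpowers_le]; exact x.2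
    have hK : ∀ r : ℕ, r.Prime → r ∣ Nat.card ↥(Subgroup.zpowers (x : G)) → r ∉ sigma H := by
      intro r hr hrd
      rw [hXcard] at hrd
      have : r = q := (Nat.prime_dvd_prime_iff_eq hr hqprime).mp hrd
      rw [this]; exact hqH
    obtain ⟨EH, hEH, hXEH⟩ :=
      Cfsg.Agent.Lib.Helper13.BG12.exists_complIn_ge hG hH hHall (hXR.trans hRH) hK
    obtain ⟨Aq, hAqE, hAqe, hAqc⟩ :=
      Cfsg.Agent.Lib.Helper13.BG12.exists_elemAb_sq_le_compl hG hH hHall hq2 hEH
    have h18 := Cfsg.Agent.S1418.result hG H hH EH hEH q hq2 Aq ⟨hAqE, hAqe, hAqc⟩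
    have hXAq : Subgroup.zpowers (x : G) ≤ Aq := h18.1.2 _ hXEH hXcard
    have hPH : P ≤ H := Subgroup.le_normalizer.trans hNP
    have hPp : IsPGroup p P := IsPGroup.of_card (n := 1) (by rw [l.c.hP, pow_one])
    have hPσ : P ≤ sigmaCore H :=
      Cfsg.Agent.Lib.Helper91.BG125.le_sigmaCore_of_mem_sigma hG hH hpH hPp hPH
    have hPCX : P ≤ Subgroup.centralizer ((Subgroup.zpowers (x : G) : Subgroup G) : Set G) := by
      intro y hy
      rw [Subgroup.mem_centralizer_iff]
      intro z hz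
      have h1 := (Subgroup.mem_inf.mp (hXR hz)).2
      rw [Subgroup.mem_centralizer_iff] at h1
      exact (h1 y hy).symm
    have hPne : P ≠ ⊥ := by
      intro h
      have h1 := l.c.hP
      rw [h, Subgroup.card_bot] at h1
      exact hpp.ne_one h1.symm
    have hne : sigmaCore H ⊓
        Subgroup.centralizer ((Subgroup.zpowers (x : G) : Subgroup G) : Set G) ≠ ⊥ := by
      intro h
      apply hPne
      rw [eq_bot_iff, ← h]
      exact le_inf hPσ hPCX
    have hCX := h18.2.2 _ hXAq hXcard hne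
    have hCRX : Subgroup.centralizer ((A ⊓ Subgroup.centralizer (P : Set G) : Subgroup G) : Set G) ≤
        Subgroup.centralizer ((Subgroup.zpowers (x : G) : Subgroup G) : Set G) :=
      Subgroup.centralizer_le hXR
    have hHM : H = M := hRM.2 H hH (hCRX.trans hCX.1)
    exact l.c.hp.2.1 (hHM ▸ hpH)
  by_cases hD1 : D = ⊥
  · subst hD1
    infer_instance
  have hqdD : q ∣ Nat.card D := ms_prime_dvd_card hG hD hD1
  have hqdH : q ∣ Nat.card H := hqdD.trans (Subgroup.card_dvd_of_le hDH)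
  have hrk : PRankLE q 1 H := by
    rcases Cfsg.Agent.Lib.Helper16.BG134.mem_tau_cases hG hH hqprime hqdH hqH with h | h | h
    · exact h.2.2.2.2
    · exact absurd h hq2
    · exact h.2.2.2
  have hq2' : q ≠ 2 := ms_prime_ne_two hG hD hD1
  exact Cfsg.Agent.Lib.Helper13.BG12.isCyclic_of_pRankLE_one hq2' hrk hDH hD

end Cfsg.Agent.Lib.Helper78.BG137
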