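import Mathlib
import Cfsg.Agent.S1350
import Cfsg.Agent.S1426
import Cfsg.Agent.S1429
import Cfsg.Agent.Lib.Helper56.BG144C
import Cfsg.Agent.Lib.Helper31.BG15KA
import Cfsg.Agent.Lib.Helper13.BG12A
import Cfsg.Agent.Lib.Helper13.BG12B
import Cfsg.Agent.Lib.Helper90.BG14DW1

/-!
# BG Theorem 15.2, part A: `M_F ≠ M_σ` forces `U = 1`, `K ≠ 1`, `M' = M_σ`

`M` maximal with a standard factorisation `M = K U M_σ` and `M_F ≠ M_σ`.  Then `M_σ` is not
nilpotent (K-144-C), so by S1429 every prime of `|M|` outside `σ(M)` lies in `κ(M)`, whence `U = 1`;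
`K ≠ 1` and `M' = M_σ` follow from S1426.
-/

set_option autoImplicit false
set_option linter.unusedSectionVars false
set_option linter.unusedVariables false

namespace Cfsg.Agent.Lib.Helper78.BG152

open Cfsg Subgroup

variable {G : Type*} [Group G] [Finite G]

/-- `M_F ≠ M_σ` forces `M_σ` to be non-nilpotent. -/
theorem not_nilpotent_of_ne (hG : IsMinSimpleOddOrder G) {M : Subgroup G} (hM : IsCoatom M)
    (hne : fittingHallOf M ≠ sigmaCore M) : ¬ Group.IsNilpotent ↥(sigmaCore M) := by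
  intro hnil
  exact hne (Cfsg.Agent.Lib.Helper56.BG144.sigmaCore_eq_fittingHallOf hG M hM hnil).symm

/-- `M_σ` not nilpotent: every prime of `|M|` outside `σ(M)` lies in `κ(M)`. -/
theorem all_kappa_of_not_nilpotent (hG : IsMinSimpleOddOrder G) {M : Subgroup G} (hM : IsCoatom M)
    (hnn : ¬ Group.IsNilpotent ↥(sigmaCore M)) :
    ∀ q : ℕ, q.Prime → q ∣ Nat.card M → q ∉ sigma M → q ∈ kappa M := by
  by_contra hP1
  have hP1' := hP1
  push Not at hP1'
  obtain ⟨p, hp, hpM, hpσ, hpκ⟩ := hP1'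
  haveI : Fact p.Prime := ⟨hp⟩
  obtain ⟨S⟩ : Nonempty (Sylow p M) := inferInstance
  have h := Cfsg.Agent.S1429.result hG M hM hP1 p hpM
    (by rintro (h | h); exact hpσ h; exact hpκ h) S
  exact hnn h.2.2

/-- all primes outside `σ(M)` in `κ(M)`: `U = 1`. -/
theorem U_eq_bot_of_all_kappa (hG : IsMinSimpleOddOrder G) {M K U : Subgroup G}
    (hM : IsCoatom M) (hKU : IsSigmaDecomposition M K U)
    (hall : ∀ q : ℕ, q.Prime → q ∣ Nat.card M → q ∉ sigma M → q ∈ kappa M) : U = ⊥ := by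
  classical
  by_contra hU1
  obtain ⟨hHall, -, -⟩ := Cfsg.Agent.S1350.result hG M hM
  have hKM : K ≤ M := hKU.hall.1
  have hUM : U ≤ M := hKU.compl.1
  have hσM : sigmaCore M ≤ M := hHall.1
  have hκ : ∀ p : ℕ, p.Prime → p ∣ Nat.card K → p ∈ kappa M := hKU.hall.2.1
  have hσ : ∀ p : ℕ, p.Prime → p ∣ Nat.card ↥(sigmaCore M) → p ∈ sigma M := hHall.2.1
  have hκσ : ∀ p : ℕ, p ∈ kappa M → p ∉ sigma M := fun p h => h.2.2.1
  have hac : (Nat.card K).Coprime (Nat.card ↥(sigmaCore M)) :=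
    Cfsg.Agent.Lib.Helper13.BG12.coprime_of_primes_disjoint (π := sigma M)
      (fun p hp hpa => hκσ p (hκ p hp hpa)) hσ
  have hKσ : sigmaCore M ⊓ K = ⊥ := by
    rw [inf_comm]; exact (Subgroup.disjoint_of_coprime_natCard hac).eq_bot
  have hKnσ : K ≤ normalizer (sigmaCore M : Set G) :=
    hKM.trans (Cfsg.Agent.Lib.Helper71.BG11.le_normalizer_sigmaCore M)
  have hcardKσ : Nat.card ↥(K ⊔ sigmaCore M) = Nat.card ↥(sigmaCore M) * Nat.card K := by
    rw [sup_comm]; exact Cfsg.Agent.Lib.Helper90.BG14D.card_sup_of_le_normalizer hKnσ hKσ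
  have hMcard : Nat.card U * (Nat.card ↥(sigmaCore M) * Nat.card K) = Nat.card M := by
    rw [← hcardKσ]; exact Cfsg.Agent.Lib.Helper31.IsComplIn.card_mul hKU.compl
  have hKpos : 0 < Nat.card K := Nat.card_pos
  have hσpos : 0 < Nat.card ↥(sigmaCore M) := Nat.card_pos
  obtain ⟨p, hp, hpU⟩ : ∃ p : ℕ, p.Prime ∧ p ∣ Nat.card U := by
    apply Nat.exists_prime_and_dvd
    intro h1
    exact hU1 (Subgroup.card_eq_one.mp h1)
  have hpM : p ∣ Nat.card M := by
    rw [← hMcard]; exact Dvd.dvd.mul_right hpU _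
  have hpσ : p ∉ sigma M := by
    intro hpσ
    apply hHall.2.2 p hp hpσ
    have h1 := Cfsg.Agent.Lib.Helper90.BG14D.card_mul_relIndex hσM
    have h2 : (sigmaCore M).relIndex M = Nat.card U * Nat.card K := by
      have : Nat.card ↥(sigmaCore M) * (sigmaCore M).relIndex M =
          Nat.card ↥(sigmaCore M) * (Nat.card U * Nat.card K) := by
        rw [h1, ← hMcard]; ring
      exact Nat.eq_of_mul_eq_mul_left hσpos this
    rw [h2]
    exact Dvd.dvd.mul_right hpU _
  have hpκ : p ∈ kappa M := hall p hp hpM hpσ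
  apply hKU.hall.2.2 p hp hpκ
  have h1 := Cfsg.Agent.Lib.Helper90.BG14D.card_mul_relIndex hKM
  have h2 : K.relIndex M = Nat.card U * Nat.card ↥(sigmaCore M) := by
    have : Nat.card K * K.relIndex M =
        Nat.card K * (Nat.card U * Nat.card ↥(sigmaCore M)) := by
      rw [h1, ← hMcard]; ring
    exact Nat.eq_of_mul_eq_mul_left hKpos this
  rw [h2]
  exact Dvd.dvd.mul_right hpU _

/-- the first three clauses of BG 15.2: `U = 1`, `K ≠ 1`, `M_σ = M'`, `K` complements `M_σ`. -/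
theorem basic (hG : IsMinSimpleOddOrder G) {M K U : Subgroup G}
    (hM : IsCoatom M) (hKU : IsSigmaDecomposition M K U)
    (hnn : ¬ Group.IsNilpotent ↥(sigmaCore M)) :
    U = ⊥ ∧ K ≠ ⊥ ∧ sigmaCore M = ⁅M, M⁆ ∧ IsComplIn K (sigmaCore M) M := by
  have hU : U = ⊥ := U_eq_bot_of_all_kappa hG hM hKU (all_kappa_of_not_nilpotent hG hM hnn)
  have hE := Cfsg.Agent.Lib.Helper31.BG15.isComplIn_sup_of_sigmaDecomposition hG hM hKU
  rw [hU, bot_sup_eq] at hE
  have h26 := Cfsg.Agent.S1426.result hG M hM K hE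
  have hKM : K ≤ M := hKU.hall.1
  have hσM : sigmaCore M ≤ M := hE.2.1
  refine ⟨hU, ?_, ?_, hE⟩
  · intro hK
    apply hnn
    have h1 : sigmaCore M = ⊥ := by
      rw [← h26.2.1, hK]
      exact Subgroup.commutator_bot_right _
    rw [h1]
    infer_instance
  · apply le_antisymm
    · calc sigmaCore M = ⁅sigmaCore M, K⁆ := h26.2.1.symm
        _ ≤ ⁅M, M⁆ := Subgroup.commutator_mono hσM hKM
    · have h1 := Cfsg.Agent.Lib.Helper13.BG12.commutator_le_of_complIn hE
        (Cfsg.Agent.Lib.Helper71.BG11.le_normalizer_sigmaCore M)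
      have h2 : ⁅K, K⁆ = ⊥ := by
        haveI := hKU.cyclic
        rw [Subgroup.commutator_eq_bot_iff_le_centralizer]
        intro a ha
        rw [Subgroup.mem_centralizer_iff]
        intro b hb
        obtain ⟨g, hg⟩ := IsCyclic.exists_generator (α := K)
        obtain ⟨i, hi⟩ := Subgroup.mem_zpowers_iff.mp (hg ⟨a, ha⟩)
        obtain ⟨j, hj⟩ := Subgroup.mem_zpowers_iff.mp (hg ⟨b, hb⟩)
        have ha' : a = (g : G) ^ i := by
          have := congrArg Subtype.val hi; simpa using this.symm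
        have hb' : b = (g : G) ^ j := by
          have := congrArg Subtype.val hj; simpa using this.symm
        rw [ha', hb']
        exact (Commute.zpow_zpow_self (g : G) j i).eq
      rw [h2, bot_sup_eq] at h1
      exact h1

end Cfsg.Agent.Lib.Helper78.BG152
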