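import Mathlib
import Cfsg.Agent.S1350
import Cfsg.Agent.S1429
import Cfsg.Agent.S1430
import Cfsg.Agent.S1446
import Cfsg.Agent.Lib.Helper55.Uniq2
import Cfsg.Agent.Lib.Helper71.BG11a
import Cfsg.Agent.Lib.Helper13.BG12B
import Cfsg.Agent.Lib.Helper90.BG14DW1

/-!
# BG 14.7(f), second half / S1372(1): `U ≠ 1 ⟹ |K|` prime

`M` maximal, `K ≠ 1` a Hall `κ(M)`-subgroup (NOT assumed cyclic), and some prime of `|M|` outside
`σ(M) ∪ κ(M)`.  Then `|K|` is a prime and `|M_σ| = |K*| ^ |K|`.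

Proof: S1430(2) gives an abelian Hall `(κ ∪ σ)'`-subgroup `U₀ ≠ 1` on which `K` acts freely;
S1429 gives `M_σ` nilpotent and `C_{M_σ}(U₀) = 1`; S1430(1) gives the prime action of `K` on `M_σ`;
so `U₀ ⋊ K` is a Frobenius group acting coprimely on the nilpotent group `M_σ ≠ 1`, and S1446 applies.
-/

set_option autoImplicit false
set_option linter.unusedSectionVars false
set_option linter.unusedVariables false

namespace Cfsg.Agent.Lib.Helper78.BG15

open Cfsg Subgroup

variable {G : Type*} [Group G] [Finite G]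

/-- a Hall subgroup `U` of `M` (for a set of primes containing `q`) contains the image of a Sylow
`q`-subgroup of `M` -/
theorem exists_sylow_map_le {M U : Subgroup G} {q : ℕ} [Fact q.Prime] (hUM : U ≤ M)
    (hq : ¬ q ∣ U.relIndex M) :
    ∃ S : Sylow q M, (S : Subgroup M).map M.subtype ≤ U := by
  classical
  obtain ⟨S0⟩ : Nonempty (Sylow q U) := inferInstance
  -- the image of `S0` in `M`
  let P0 : Subgroup M := ((S0 : Subgroup U).map U.subtype).subgroupOf M
  have hP0 : IsPGroup q P0 := by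
    have h1 : IsPGroup q ((S0 : Subgroup U).map U.subtype) := S0.2.map _
    exact h1.comap_of_injective _ (Subgroup.subtype_injective M)
  obtain ⟨S, hS⟩ := hP0.exists_le_sylow
  have hle : (S0 : Subgroup U).map U.subtype ≤ M :=
    (Subgroup.map_subtype_le _).trans hUM
  have hcardP0 : Nat.card P0 = Nat.card (S0 : Subgroup U) := by
    have e1 : Nat.card P0 = Nat.card ↥((S0 : Subgroup U).map U.subtype) :=
      Nat.card_congr (Subgroup.subgroupOfEquivOfLe hle).toEquiv
    rw [e1]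
    exact Nat.card_congr
      ((S0 : Subgroup U).equivMapOfInjective U.subtype (Subgroup.subtype_injective U)).symm.toEquiv
  have hcS0 : Nat.card (S0 : Subgroup U) = q ^ (Nat.card U).factorization q := S0.card_eq_multiplicity
  have hcS : Nat.card (S : Subgroup M) = q ^ (Nat.card M).factorization q := S.card_eq_multiplicity
  have hfac : (Nat.card M).factorization q = (Nat.card U).factorization q := by
    have h1 : Nat.card U * U.relIndex M = Nat.card M :=
      Cfsg.Agent.Lib.Helper90.BG14D.card_mul_relIndex hUM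
    have hUpos : Nat.card U ≠ 0 := Nat.card_pos.ne'
    have hrpos : U.relIndex M ≠ 0 := by
      intro h
      rw [h, mul_zero] at h1
      exact (Nat.card_pos (α := M)).ne' h1.symm
    rw [← h1, Nat.factorization_mul hUpos hrpos]
    simp [Nat.factorization_eq_zero_of_not_dvd hq]
  have hcard : Nat.card P0 = Nat.card (S : Subgroup M) := by
    rw [hcardP0, hcS0, hcS, hfac]
  have hEq : P0 = (S : Subgroup M) := by
    apply Subgroup.eq_of_le_of_card_ge hS
    rw [hcard]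
  refine ⟨S, ?_⟩
  rw [← hEq]
  intro x hx
  obtain ⟨y, hy, rfl⟩ := hx
  have hy' : (y : G) ∈ (S0 : Subgroup U).map U.subtype := hy
  exact (Subgroup.map_subtype_le _) hy'

/-- **BG 14.7(f), second half** (no cyclicity of `K`). -/
theorem card_kappa_hall_prime (hG : IsMinSimpleOddOrder G) {M K : Subgroup G} (hM : IsCoatom M)
    (hK : IsPiHallOf (kappa M) K M) (hK1 : K ≠ ⊥)
    (hP1 : ¬ (∀ q : ℕ, q.Prime → q ∣ Nat.card M → q ∉ sigma M → q ∈ kappa M)) :
    (Nat.card K).Prime ∧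
      Nat.card ↥(sigmaCore M) =
        Nat.card ↥(sigmaCore M ⊓ centralizer (K : Set G)) ^ Nat.card K ∧
      Group.IsNilpotent ↥(sigmaCore M) := by
  classical
  obtain ⟨hpa, ⟨U, hUc, hUH, hKU, hfree⟩, -⟩ := Cfsg.Agent.S1430.result hG M hM K hK hK1
  obtain ⟨hHall, -, -⟩ := Cfsg.Agent.S1350.result hG M hM
  have hUM : U ≤ M := hUH.1
  have hKM : K ≤ M := hK.1
  -- the prime `q`
  have hP1' : ∃ q : ℕ, q.Prime ∧ q ∣ Nat.card M ∧ q ∉ sigma M ∧ q ∉ kappa M := by
    by_contra h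
    apply hP1
    intro q hq hqM hqσ
    by_contra hqκ
    exact h ⟨q, hq, hqM, hqσ, hqκ⟩
  obtain ⟨q, hq, hqM, hqσ, hqκ⟩ := hP1'
  haveI : Fact q.Prime := ⟨hq⟩
  have hqrel : ¬ q ∣ U.relIndex M := hUH.2.2 q hq ⟨hq, hqκ, hqσ⟩
  have hqU : q ∣ Nat.card U := by
    have h1 : Nat.card U * U.relIndex M = Nat.card M :=
      Cfsg.Agent.Lib.Helper90.BG14D.card_mul_relIndex hUM
    rw [← h1] at hqM
    exact (hq.dvd_mul.mp hqM).resolve_right hqrel
  have hU1 : U ≠ ⊥ := by
    rintro rfl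
    rw [Subgroup.card_bot] at hqU
    exact hq.one_lt.ne' (Nat.dvd_one.mp hqU)
  -- the Sylow `q`-subgroup inside `U`
  obtain ⟨S, hSU⟩ := exists_sylow_map_le (q := q) hUM hqrel
  obtain ⟨-, hCΩ, hnil⟩ := Cfsg.Agent.S1429.result hG M hM hP1 q hqM
    (by
      intro h
      rcases h with h | h
      · exact hqσ h
      · exact hqκ h) S
  -- `C_{M_σ}(U) = 1`
  have hCU : sigmaCore M ⊓ centralizer (U : Set G) = ⊥ := by
    rw [eq_bot_iff, ← hCΩ]
    apply inf_le_inf_left
    apply Subgroup.centralizer_le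
    intro x hx
    have hx' : x ∈ Subgroup.closure
        {x : G | x ∈ (S : Subgroup M).map M.subtype ∧ x ^ q = 1} := hx
    have hcl : Subgroup.closure {x : G | x ∈ (S : Subgroup M).map M.subtype ∧ x ^ q = 1} ≤ U := by
      rw [Subgroup.closure_le]
      intro y hy
      exact hSU hy.1
    exact hcl hx'
  -- `M_σ ≠ 1`
  have hσ1 : sigmaCore M ≠ ⊥ := by
    intro h
    obtain ⟨p, hp, hpK⟩ : ∃ p : ℕ, p.Prime ∧ p ∣ Nat.card K := by
      apply Nat.exists_prime_and_dvd
      intro h1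
      exact hK1 (Subgroup.card_eq_one.mp h1)
    have hpκ := hK.2.1 p hp hpK
    haveI : Fact p.Prime := ⟨hp⟩
    obtain ⟨P⟩ : Nonempty (Sylow p M) := inferInstance
    obtain ⟨-, x, -, -, y, hy, hy1, -⟩ := hpκ.2.2.2 P
    rw [h, Subgroup.mem_bot] at hy
    exact hy1 hy
  -- prime sets
  have hκ : ∀ p : ℕ, p.Prime → p ∣ Nat.card K → p ∈ kappa M := hK.2.1
  have hσ : ∀ p : ℕ, p.Prime → p ∣ Nat.card ↥(sigmaCore M) → p ∈ sigma M := hHall.2.1
  have hUπ : ∀ p : ℕ, p.Prime → p ∣ Nat.card U → p ∉ kappa M ∧ p ∉ sigma M :=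
    fun p hp hpd => (hUH.2.1 p hp hpd).2
  have hκσ : ∀ p : ℕ, p ∈ kappa M → p ∉ sigma M := fun p h => h.2.2.1
  have hab : (Nat.card U).Coprime (Nat.card K) :=
    Cfsg.Agent.Lib.Helper13.BG12.coprime_of_primes_disjoint (π := kappa M)
      (fun p hp hpd => (hUπ p hp hpd).1) hκ
  have hUK : U ⊓ K = ⊥ := (Subgroup.disjoint_of_coprime_natCard hab).eq_bot
  have hLcard : Nat.card ↥(U ⊔ K) = Nat.card U * Nat.card K :=
    Cfsg.Agent.Lib.Helper90.BG14D.card_sup_of_le_normalizer hKU hUK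
  have hLM : U ⊔ K ≤ M := sup_le hUM hKM
  have hLtop : U ⊔ K ≠ ⊤ := by
    intro h
    apply hM.1
    rw [eq_top_iff, ← h]
    exact hLM
  have hLsol : Group.IsSolvable ↥(U ⊔ K) := Cfsg.Agent.Lib.Helper55.ms_solvable hG hLtop
  have hLodd : Odd (Nat.card ↥(U ⊔ K)) := Cfsg.Agent.Lib.Helper55.ms_odd hG _
  have hMn : M ≤ normalizer (sigmaCore M : Set G) :=
    Cfsg.Agent.Lib.Helper71.BG11.le_normalizer_sigmaCore M
  have hcop : (Nat.card ↥(U ⊔ K)).Coprime (Nat.card ↥(sigmaCore M)) := by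
    rw [hLcard]
    apply Nat.Coprime.mul_left
    · exact Cfsg.Agent.Lib.Helper13.BG12.coprime_of_primes_disjoint (π := sigma M)
        (fun p hp hpd => (hUπ p hp hpd).2) hσ
    · exact Cfsg.Agent.Lib.Helper13.BG12.coprime_of_primes_disjoint (π := sigma M)
        (fun p hp hpd => hκσ p (hκ p hp hpd)) hσ
  obtain ⟨h1, h2, -⟩ := Cfsg.Agent.S1446.result U K (sigmaCore M) hU1 hK1 hUK hKU hfree hLsol hLodd
    hσ1 hnil (hUM.trans hMn) (hKM.trans hMn) hcop hCU hpa
  exact ⟨h1, h2, hnil⟩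

/-- the same for a standard factorisation `M = K U M_σ` with `K ≠ 1`, `U ≠ 1` (= S1372(1)). -/
theorem card_prime_of_sigmaDecomposition (hG : IsMinSimpleOddOrder G) {M K U : Subgroup G}
    (hM : IsCoatom M) (hKU : IsSigmaDecomposition M K U) (hK1 : K ≠ ⊥) (hU1 : U ≠ ⊥) :
    (Nat.card K).Prime ∧
      Nat.card ↥(sigmaCore M) =
        Nat.card ↥(sigmaCore M ⊓ centralizer (K : Set G)) ^ Nat.card K ∧
      Group.IsNilpotent ↥(sigmaCore M) := by
  classical
  apply card_kappa_hall_prime hG hM hKU.hall hK1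
  intro hall
  obtain ⟨hHall, -, -⟩ := Cfsg.Agent.S1350.result hG M hM
  have hKM : K ≤ M := hKU.hall.1
  have hUM : U ≤ M := hKU.compl.1
  have hσM : sigmaCore M ≤ M := hHall.1
  have hκ : ∀ p : ℕ, p.Prime → p ∣ Nat.card K → p ∈ kappa M := hKU.hall.2.1
  have hσ : ∀ p : ℕ, p.Prime → p ∣ Nat.card ↥(sigmaCore M) → p ∈ sigma M := hHall.2.1
  have hκσ : ∀ p : ℕ, p ∈ kappa M → p ∉ sigma M := fun p h => h.2.2.1
  have hac : (Nat.card K).Coprime (Nat.card ↥(sigmaCore M)) :=
    Cfsg.Agent.Lib.Helper13.BG12.coprime_of_primes_disjoint (π := sigma M)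
      (fun p hp hpa => hκσ p (hκ p hp hpa)) hσ
  have hKσ : sigmaCore M ⊓ K = ⊥ := by
    rw [inf_comm]; exact (Subgroup.disjoint_of_coprime_natCard hac).eq_bot
  have hKnσ : K ≤ normalizer (sigmaCore M : Set G) :=
    hKM.trans (Cfsg.Agent.Lib.Helper71.BG11.le_normalizer_sigmaCore M)
  have hcardKσ : Nat.card ↥(K ⊔ sigmaCore M) = Nat.card ↥(sigmaCore M) * Nat.card K := by
    rw [sup_comm]; exact Cfsg.Agent.Lib.Helper90.BG14D.card_sup_of_le_normalizer hKnσ hKσ
  have hMcard : Nat.card U * (Nat.card ↥(sigmaCore M) * Nat.card K) = Nat.card M := by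
    rw [← hcardKσ]; exact Cfsg.Agent.Lib.Helper31.IsComplIn.card_mul hKU.compl
  have hKpos : 0 < Nat.card K := Nat.card_pos
  have hσpos : 0 < Nat.card ↥(sigmaCore M) := Nat.card_pos
  -- a prime of `|U|`
  obtain ⟨p, hp, hpU⟩ : ∃ p : ℕ, p.Prime ∧ p ∣ Nat.card U := by
    apply Nat.exists_prime_and_dvd
    intro h1
    exact hU1 (Subgroup.card_eq_one.mp h1)
  have hpM : p ∣ Nat.card M := by
    rw [← hMcard]; exact Dvd.dvd.mul_right hpU _
  have hpσ : p ∉ sigma M := by
    intro hpσ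
    apply hHall.2.2 p hp hpσ
    have h1 := Cfsg.Agent.Lib.Helper90.BG14D.card_mul_relIndex hσM
    have h2 : (sigmaCore M).relIndex M = Nat.card U * Nat.card K := by
      have : Nat.card ↥(sigmaCore M) * (sigmaCore M).relIndex M =
          Nat.card ↥(sigmaCore M) * (Nat.card U * Nat.card K) := by
        rw [h1, ← hMcard]; ring
      exact Nat.eq_of_mul_eq_mul_left hσpos this
    rw [h2]
    exact Dvd.dvd.mul_right hpU _
  have hpκ : p ∈ kappa M := hall p hp hpM hpσ
  apply hKU.hall.2.2 p hp hpκ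
  have h1 := Cfsg.Agent.Lib.Helper90.BG14D.card_mul_relIndex hKM
  have h2 : K.relIndex M = Nat.card U * Nat.card ↥(sigmaCore M) := by
    have : Nat.card K * K.relIndex M =
        Nat.card K * (Nat.card U * Nat.card ↥(sigmaCore M)) := by
      rw [h1, ← hMcard]; ring
    exact Nat.eq_of_mul_eq_mul_left hKpos this
  rw [h2]
  exact Dvd.dvd.mul_right hpU _

end Cfsg.Agent.Lib.Helper78.BG15
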