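import Mathlib
import Cfsg.Agent.S1350
import Cfsg.Agent.S1426
import Cfsg.Agent.S1430
import Cfsg.Agent.S1445
import Cfsg.Agent.Lib.Helper76.Fitting
import Cfsg.Agent.Lib.Helper59.BenderFStar
import Cfsg.Agent.Lib.Helper54.Subnormal
import Cfsg.Agent.Lib.Helper55.Uniq2
import Cfsg.Agent.Lib.Helper71.BG11a
import Cfsg.Agent.Lib.Helper13.BG12B

/-!
# BG Theorem 15.2, part B: `K* ≤ O_q(M)`

`M` maximal, `K ≠ 1` a Hall `κ(M)`-subgroup complementing `M_σ`, `M_σ` not nilpotent and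
`|K*| = q` a prime (`K* = C_{M_σ}(K)`).  Then `K* ≤ O_q(M)`.

Proof: S1445 in `↥M` (prime action from S1430(1)): if `F(M_σ) ∩ K* = 1` then
`M_σ = [M_σ, K] ≤ F(M_σ)` (S1426), so `M_σ` is nilpotent.  Hence `K* ∩ F(M_σ) ≠ 1`, and `K*`, of
prime order `q`, lies in `O_q(M_σ) ≤ O_q(M)`.
-/

set_option autoImplicit false
set_option linter.unusedSectionVars false
set_option linter.unusedVariables false
set_option linter.style.haveILetI false

namespace Cfsg.Agent.Lib.Helper78.BG152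

open Cfsg Subgroup

variable {G : Type*} [Group G] [Finite G]

/-- membership in `S.subgroupOf M ⊓ C(T.subgroupOf M)` read in `G` -/
theorem mem_subgroupOf_inf_centralizer_iff {M S T : Subgroup G} (hTM : T ≤ M) (y : ↥M) :
    y ∈ S.subgroupOf M ⊓ centralizer ((T.subgroupOf M : Subgroup ↥M) : Set ↥M) ↔
      (y : G) ∈ S ⊓ centralizer (T : Set G) := by
  rw [Subgroup.mem_inf, Subgroup.mem_inf, Subgroup.mem_subgroupOf, Subgroup.mem_centralizer_iff,
    Subgroup.mem_centralizer_iff]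
  constructor
  · rintro ⟨h1, h2⟩
    refine ⟨h1, fun t ht => ?_⟩
    have := h2 ⟨t, hTM ht⟩ (Subgroup.mem_subgroupOf.mpr ht)
    exact congrArg Subtype.val this
  · rintro ⟨h1, h2⟩
    refine ⟨h1, fun t ht => ?_⟩
    exact Subtype.ext (h2 (t : G) (Subgroup.mem_subgroupOf.mp ht))

/-- membership in `S.subgroupOf M ⊓ C(x)` read in `G` -/
theorem mem_subgroupOf_inf_centralizer_singleton_iff {M S : Subgroup G} (x y : ↥M) :
    y ∈ S.subgroupOf M ⊓ centralizer ({x} : Set ↥M) ↔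
      (y : G) ∈ S ⊓ centralizer ({(x : G)} : Set G) := by
  rw [Subgroup.mem_inf, Subgroup.mem_inf, Subgroup.mem_subgroupOf, Subgroup.mem_centralizer_iff,
    Subgroup.mem_centralizer_iff]
  constructor
  · rintro ⟨h1, h2⟩
    refine ⟨h1, fun t ht => ?_⟩
    rw [Set.mem_singleton_iff] at ht
    subst ht
    exact congrArg Subtype.val (h2 x rfl)
  · rintro ⟨h1, h2⟩
    refine ⟨h1, fun t ht => ?_⟩
    rw [Set.mem_singleton_iff] at ht
    subst ht
    exact Subtype.ext (h2 (t : G) rfl)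

/-- **Step B of BG 15.2**: `K* ≤ O_q(M)`. -/
theorem ks_le_pCoreOf (hG : IsMinSimpleOddOrder G) {M K : Subgroup G} (hM : IsCoatom M)
    (hK : IsPiHallOf (kappa M) K M) (hK1 : K ≠ ⊥) (hE : IsComplIn K (sigmaCore M) M)
    (hnn : ¬ Group.IsNilpotent ↥(sigmaCore M))
    (hq : (Nat.card ↥(sigmaCore M ⊓ centralizer (K : Set G))).Prime) :
    sigmaCore M ⊓ centralizer (K : Set G) ≤
      pCoreOf (Nat.card ↥(sigmaCore M ⊓ centralizer (K : Set G))) M := by
  classical
  set S : Subgroup G := sigmaCore M with hSdef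
  set q : ℕ := Nat.card ↥(S ⊓ centralizer (K : Set G)) with hqdef
  haveI : Fact q.Prime := ⟨hq⟩
  have hSM : S ≤ M := hE.2.1
  have hKM : K ≤ M := hE.1
  haveI : Group.IsSolvable ↥M := Cfsg.Agent.Lib.Helper55.ms_solvable hG hM.1
  have hodd : Odd (Nat.card ↥M) := Cfsg.Agent.Lib.Helper55.ms_odd hG M
  set K' : Subgroup ↥M := S.subgroupOf M with hK'def
  set R : Subgroup ↥M := K.subgroupOf M with hRdef
  have hMS : M ≤ normalizer (S : Set G) := Cfsg.Agent.Lib.Helper71.BG11.le_normalizer_sigmaCore M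
  haveI hKn : K'.Normal := (Subgroup.normal_subgroupOf_iff_le_normalizer hSM).mpr hMS
  have hsup : S ⊔ K = M := by
    apply le_antisymm (sup_le hSM hKM)
    intro m hm
    obtain ⟨a, ha, b, hb, rfl⟩ := hE.2.2.2 m hm
    exact Subgroup.mul_mem _ (Subgroup.mem_sup_right ha) (Subgroup.mem_sup_left hb)
  have hKR : K' ⊔ R = ⊤ := by
    rw [hK'def, hRdef, ← Subgroup.subgroupOf_sup hSM hKM, hsup]
    exact Subgroup.subgroupOf_self M
  have hcK : Nat.card K' = Nat.card S := Nat.card_congr (Subgroup.subgroupOfEquivOfLe hSM).toEquiv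
  have hcR : Nat.card R = Nat.card K := Nat.card_congr (Subgroup.subgroupOfEquivOfLe hKM).toEquiv
  obtain ⟨hHall, -, -⟩ := Cfsg.Agent.S1350.result hG M hM
  have hcop0 : (Nat.card K).Coprime (Nat.card ↥S) :=
    Cfsg.Agent.Lib.Helper13.BG12.coprime_of_primes_disjoint (π := sigma M)
      (fun p hp hpa => (hK.2.1 p hp hpa).2.2.1) hHall.2.1
  have hcopKR : (Nat.card K').Coprime (Nat.card R) := by rw [hcK, hcR]; exact hcop0.symm
  have h30 := (Cfsg.Agent.S1430.result hG M hM K hK hK1).1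
  have hprime : ∀ x ∈ R, x ≠ 1 → K' ⊓ centralizer ({x} : Set ↥M) =
      K' ⊓ centralizer (R : Set ↥M) := by
    intro x hx hx1
    have hxK : (x : G) ∈ K := Subgroup.mem_subgroupOf.mp hx
    have hx1' : (x : G) ≠ 1 := fun h => hx1 (Subtype.ext h)
    ext y
    rw [hK'def, hRdef, mem_subgroupOf_inf_centralizer_singleton_iff,
      mem_subgroupOf_inf_centralizer_iff hKM, h30 (x : G) hxK hx1']
  by_contra hcon
  have hF : fittingOf K' ⊓ centralizer (R : Set ↥M) = ⊥ := by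
    by_contra hFne
    apply hcon
    obtain ⟨y, hy1⟩ := (Subgroup.ne_bot_iff_exists_ne_one).mp hFne
    obtain ⟨hyF, hyC⟩ := Subgroup.mem_inf.mp (y.2)
    obtain ⟨z, hz, hzy⟩ := hyF
    have hyK' : (y : ↥M) ∈ K' := by
      rw [← hzy]; exact z.2
    have hyKs : ((y : ↥M) : G) ∈ S ⊓ centralizer (K : Set G) :=
      (mem_subgroupOf_inf_centralizer_iff hKM (y : ↥M)).mp (Subgroup.mem_inf.mpr ⟨hyK', hyC⟩)
    have hy1' : ((y : ↥M) : G) ≠ 1 := by
      intro h
      apply hy1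
      exact Subtype.ext (Subtype.ext h)
    -- `K*` is generated by `y`
    have hgen : ∀ x ∈ S ⊓ centralizer (K : Set G), x ∈ Subgroup.zpowers ((y : ↥M) : G) := by
      intro x hx
      have hne : (⟨((y : ↥M) : G), hyKs⟩ : ↥(S ⊓ centralizer (K : Set G))) ≠ 1 := by
        intro e
        exact hy1' (congrArg Subtype.val e)
      have h2 := mem_zpowers_of_prime_card (G := ↥(S ⊓ centralizer (K : Set G))) rfl
        (g := ⟨((y : ↥M) : G), hyKs⟩) (g' := ⟨x, hx⟩) hne
      obtain ⟨k, hk⟩ := Subgroup.mem_zpowers_iff.mp h2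
      rw [Subgroup.mem_zpowers_iff]
      refine ⟨k, ?_⟩
      have := congrArg Subtype.val hk
      simpa using this
    have hyq : (((y : ↥M) : G)) ^ q = 1 := by
      have h1 := pow_card_eq_one' (G := ↥(S ⊓ centralizer (K : Set G))) (x := ⟨((y : ↥M) : G), hyKs⟩)
      have h2 := congrArg Subtype.val h1
      rw [Subgroup.coe_pow, Subgroup.coe_one] at h2
      exact h2
    have hzq : z ^ (q ^ 1) = 1 := by
      rw [pow_one]
      apply Subtype.ext
      apply Subtype.ext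
      have h1 : ((K'.subtype z : ↥M) : G) = ((y : ↥M) : G) := by rw [hzy]
      have h2 : (((z ^ q : ↥K') : ↥M) : G) = (((z : ↥K') : ↥M) : G) ^ q := by
        simp
      rw [h2]
      have h3 : (((z : ↥K') : ↥M) : G) = ((y : ↥M) : G) := h1
      rw [h3, hyq]
      rfl
    have hz' : z ∈ Cfsg.pCore q ↥K' := Cfsg.Agent.Lib.Helper59.Bender.mem_pCore_of_pow q hz hzq
    have hy2 : (y : ↥M) ∈ Cfsg.pCoreOf q K' := ⟨z, hz', hzy⟩
    have hy3 : (y : ↥M) ∈ Cfsg.pCore q ↥M :=
      Cfsg.Agent.Lib.Helper54.pCoreOf_le_pCore_of_isSubnormal hKn.isSubnormal hy2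
    have hy4 : ((y : ↥M) : G) ∈ pCoreOf q M := ⟨(y : ↥M), hy3, rfl⟩
    intro x hx
    obtain ⟨k, rfl⟩ := Subgroup.mem_zpowers_iff.mp (hgen x hx)
    exact Subgroup.zpow_mem _ hy4 k
  have h1445 := Cfsg.Agent.S1445.result hodd K' R hKR hcopKR hprime hF
  have h26 := (Cfsg.Agent.S1426.result hG M hM K hE).2.1
  have hcomm : ⁅K', R⁆ = K' := by
    apply Subgroup.map_injective M.subtype_injective
    rw [Subgroup.map_commutator, hK'def, hRdef, Subgroup.subgroupOf_map_subtype,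
      Subgroup.subgroupOf_map_subtype, inf_eq_left.mpr hSM, inf_eq_left.mpr hKM]
    exact h26
  apply hnn
  have h3 : K' ≤ fittingOf K' := by
    rw [hcomm] at h1445
    exact h1445
  have h4 : fittingSubgroup ↥K' = ⊤ := by
    rw [eq_top_iff]
    intro y _
    obtain ⟨z, hz, hzy⟩ := h3 y.2
    have : z = y := Subtype.ext hzy
    rwa [← this]
  have h5 : Group.IsNilpotent ↥(fittingSubgroup ↥K') :=
    Cfsg.Agent.Lib.Helper76.fittingSubgroup_isNilpotent
  rw [h4] at h5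
  have h6 : Group.IsNilpotent ↥K' := Group.nilpotent_of_mulEquiv Subgroup.topEquiv
  exact Group.nilpotent_of_mulEquiv (Subgroup.subgroupOfEquivOfLe hSM)

end Cfsg.Agent.Lib.Helper78.BG152
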