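import Mathlib
import Cfsg.Agent.Lib.Helper78.BG152B
import Cfsg.Agent.Lib.Helper14.KInfCoatomStruct
import Cfsg.Agent.Lib.Helper15.Lifting
import Cfsg.Agent.Lib.Helper03.FrobThompson
import Cfsg.Agent.Lib.Helper90.BG14DW1

/-!
# BG Theorem 15.2, part C: `O_q(M)` is a Sylow `q`-subgroup of `M_σ` with nilpotent complements

`M` maximal, `K ≠ 1` a Hall `κ(M)`-subgroup complementing `M_σ`, `q ∈ σ(M)` a prime with
`K* = C_{M_σ}(K) ≤ Q := O_q(M)`.  Then `K` acts without fixed points on `M_σ / Q` (coprime lifting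
of centralizers + the prime action S1430(1)), so `M_σ / Q` is nilpotent (Thompson); as
`O_q(M / Q) = 1`, `q ∤ |M_σ : Q|`, and every complement of `Q` in `M_σ` is nilpotent.
-/

set_option autoImplicit false
set_option linter.unusedSectionVars false
set_option linter.unusedVariables false
set_option linter.style.haveILetI false

namespace Cfsg.Agent.Lib.Helper78.BG152

open Cfsg Subgroup

variable {G : Type*} [Group G] [Finite G]

/-- nilpotency pulls back along injective homomorphisms -/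
theorem isNilpotent_of_injective_hom {A B : Type*} [Group A] [Group B] (f : A →* B)
    (hf : Function.Injective f) [Group.IsNilpotent B] : Group.IsNilpotent A :=
  Group.nilpotent_of_mulEquiv (MonoidHom.ofInjective hf).symm

/-- `O_q(M) ≤ M_σ` for `q ∈ σ(M)` -/
theorem pCoreOf_le_sigmaCore {M : Subgroup G} {q : ℕ} (hqσ : q ∈ sigma M) :
    pCoreOf q M ≤ sigmaCore M := by
  have hq : q.Prime := hqσ.1
  haveI : Fact q.Prime := ⟨hq⟩
  unfold pCoreOf sigmaCore
  apply Subgroup.map_mono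
  apply le_sSup
  refine ⟨Cfsg.Agent.Lib.Helper01.pCore_normal q, ?_⟩
  intro p hp hpd
  have hQ : IsPGroup q ↥(pCore q ↥M) := Cfsg.Agent.Lib.Helper01.pCore_isPGroup q
  obtain ⟨n, hn⟩ := IsPGroup.iff_card.mp hQ
  rw [hn] at hpd
  have h1 := (Nat.prime_dvd_prime_iff_eq hp hq).mp (hp.dvd_of_dvd_pow hpd)
  rw [h1]; exact hqσ

/-- **Step C of BG 15.2** -/
theorem thompson_step (hG : IsMinSimpleOddOrder G) {M K : Subgroup G} (hM : IsCoatom M)
    (hK : IsPiHallOf (kappa M) K M) (hK1 : K ≠ ⊥) (hE : IsComplIn K (sigmaCore M) M)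
    {q : ℕ} (hqσ : q ∈ sigma M)
    (hKsQ : sigmaCore M ⊓ centralizer (K : Set G) ≤ pCoreOf q M) :
    ¬ q ∣ (pCoreOf q M).relIndex (sigmaCore M) ∧
      ∀ D : Subgroup G, IsComplIn (pCoreOf q M) D (sigmaCore M) → Group.IsNilpotent ↥D := by
  classical
  have hq : q.Prime := hqσ.1
  haveI : Fact q.Prime := ⟨hq⟩
  set S : Subgroup G := sigmaCore M with hSdef
  set Q : Subgroup G := pCoreOf q M with hQdef
  have hSM : S ≤ M := hE.2.1
  have hKM : K ≤ M := hE.1
  have hQS : Q ≤ S := pCoreOf_le_sigmaCore hqσ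
  set Q' : Subgroup ↥M := pCore q ↥M with hQ'def
  haveI hQ'n : Q'.Normal := Cfsg.Agent.Lib.Helper01.pCore_normal q
  have hQ'p : IsPGroup q ↥Q' := Cfsg.Agent.Lib.Helper01.pCore_isPGroup q
  have hQmem : ∀ x : ↥M, x ∈ Q' ↔ (x : G) ∈ Q := by
    intro x
    constructor
    · intro hx; exact ⟨x, hx, rfl⟩
    · rintro ⟨y, hy, hyx⟩
      have : y = x := Subtype.ext hyx
      rwa [← this]
  set K' : Subgroup ↥M := S.subgroupOf M with hK'def
  set R : Subgroup ↥M := K.subgroupOf M with hRdef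
  have hMS : M ≤ normalizer (S : Set G) := Cfsg.Agent.Lib.Helper71.BG11.le_normalizer_sigmaCore M
  haveI hKn : K'.Normal := (Subgroup.normal_subgroupOf_iff_le_normalizer hSM).mpr hMS
  have hQ'K' : Q' ≤ K' := by
    intro x hx
    rw [hK'def, Subgroup.mem_subgroupOf]
    exact hQS ((hQmem x).mp hx)
  -- coprimality of `K` and `q`
  have hcop0 : (Nat.card K).Coprime q := by
    rw [Nat.coprime_comm, Nat.Prime.coprime_iff_not_dvd hq]
    intro hd
    exact (hK.2.1 q hq hd).2.2.1 hqσ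
  have hcR : Nat.card R = Nat.card K := Nat.card_congr (Subgroup.subgroupOfEquivOfLe hKM).toEquiv
  have hcK : Nat.card K' = Nat.card S := Nat.card_congr (Subgroup.subgroupOfEquivOfLe hSM).toEquiv
  have hRQ : R ⊓ Q' = ⊥ := by
    apply (Subgroup.disjoint_of_coprime_natCard _).eq_bot
    obtain ⟨n, hn⟩ := IsPGroup.iff_card.mp hQ'p
    rw [hn, hcR]
    exact Nat.Coprime.pow_right n hcop0
  have hR1 : R ≠ ⊥ := by
    intro h
    apply hK1
    rw [eq_bot_iff]
    intro k hk
    have : (⟨k, hKM hk⟩ : ↥M) ∈ R := Subgroup.mem_subgroupOf.mpr hk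
    rw [h, Subgroup.mem_bot] at this
    rw [Subgroup.mem_bot]
    exact congrArg Subtype.val this
  set π : ↥M →* ↥M ⧸ Q' := QuotientGroup.mk' Q' with hπdef
  have hπs : Function.Surjective π := QuotientGroup.mk'_surjective Q'
  have hπ1 : ∀ x : ↥M, π x = 1 ↔ x ∈ Q' := by
    intro x
    rw [hπdef, QuotientGroup.mk'_apply, QuotientGroup.eq_one_iff]
  set Ub : Subgroup (↥M ⧸ Q') := K'.map π with hUbdef
  set Eb : Subgroup (↥M ⧸ Q') := R.map π with hEbdef
  have hEb1 : Eb ≠ ⊥ := by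
    intro h
    apply hR1
    rw [eq_bot_iff]
    intro r hr
    have h1 : π r ∈ Eb := ⟨r, hr, rfl⟩
    rw [h, Subgroup.mem_bot, hπ1] at h1
    have : r ∈ R ⊓ Q' := Subgroup.mem_inf.mpr ⟨hr, h1⟩
    rwa [hRQ] at this
  haveI hUbn : Ub.Normal := Subgroup.Normal.map hKn π hπs
  have hUn : ∀ e ∈ Eb, ∀ u ∈ Ub, e * u * e⁻¹ ∈ Ub := fun e _ u hu => hUbn.conj_mem u hu e
  have h30 := (Cfsg.Agent.S1430.result hG M hM K hK hK1).1
  have hfpf : ∀ e ∈ Eb, e ≠ 1 → ∀ u ∈ Ub, e * u = u * e → u = 1 := by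
    rintro _ ⟨r, hr, rfl⟩ he1 _ ⟨s, hs, rfl⟩ hcomm
    have hr1 : r ≠ 1 := by
      intro h; apply he1; rw [h, map_one]
    have hn1 : orderOf r ≠ 1 := fun h => hr1 (orderOf_eq_one_iff.mp h)
    obtain ⟨p, hp, hpn⟩ := Nat.exists_prime_and_dvd hn1
    haveI : Fact p.Prime := ⟨hp⟩
    set r' : ↥M := r ^ (orderOf r / p) with hr'def
    have hord' : orderOf r' = p := orderOf_pow_orderOf_div (orderOf_pos r).ne' hpn
    have hr'R : r' ∈ R := Subgroup.pow_mem _ hr _
    have hr'1 : r' ≠ 1 := by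
      intro h
      rw [h, orderOf_one] at hord'
      exact hp.one_lt.ne hord'
    set Xp : Subgroup ↥M := Subgroup.zpowers r' with hXpdef
    have hXpc : Nat.card Xp = p := by rw [hXpdef, Nat.card_zpowers, hord']
    have hXp : IsPGroup p ↥Xp := IsPGroup.of_card (n := 1) (by rw [hXpc, pow_one])
    have hpK : p ∣ Nat.card K := by
      rw [← hcR, ← hord']
      exact Subgroup.orderOf_dvd_natCard R hr'R
    have hN : (Nat.card Q').Coprime p := by
      obtain ⟨n, hn⟩ := IsPGroup.iff_card.mp hQ'p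
      rw [hn]
      apply Nat.Coprime.pow_left
      exact (Nat.Coprime.coprime_dvd_left hpK hcop0).symm
    have hcent := Cfsg.Agent.Lib.Helper15.centralizer_map_mk_of_coprime Q' hN Xp hXp
    have hu_mem : π s ∈ centralizer ((Xp.map (QuotientGroup.mk' Q') : Subgroup (↥M ⧸ Q')) :
        Set (↥M ⧸ Q')) := by
      rw [Subgroup.mem_centralizer_iff]
      rintro _ ⟨x, hx, rfl⟩
      obtain ⟨j, rfl⟩ := Subgroup.mem_zpowers_iff.mp hx
      have hc : Commute (π r) (π s) := hcomm
      have h1 : (QuotientGroup.mk' Q') (r' ^ j) = (π r ^ (orderOf r / p)) ^ j := by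
        rw [hr'def, map_zpow, map_pow]
      rw [h1]
      exact ((hc.pow_left _).zpow_left _).eq
    rw [hcent] at hu_mem
    obtain ⟨c, hc, hcs⟩ := hu_mem
    have hcs' : s⁻¹ * c ∈ Q' := by
      have h1 : π s = π c := hcs.symm
      rw [hπdef, QuotientGroup.mk'_apply, QuotientGroup.mk'_apply, QuotientGroup.eq] at h1
      exact h1
    have hcK' : c ∈ K' := by
      have h1 : c = s * (s⁻¹ * c) := by group
      rw [h1]
      exact Subgroup.mul_mem _ hs (hQ'K' hcs')
    have hcr' : c ∈ centralizer ({r'} : Set ↥M) := by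
      rw [Subgroup.mem_centralizer_iff]
      intro x hx
      rw [Set.mem_singleton_iff] at hx
      subst hx
      exact Subgroup.mem_centralizer_iff.mp hc _ (Subgroup.mem_zpowers _)
    have h2 : (c : G) ∈ S ⊓ centralizer ({(r' : G)} : Set G) :=
      (mem_subgroupOf_inf_centralizer_singleton_iff r' c).mp (Subgroup.mem_inf.mpr ⟨hcK', hcr'⟩)
    have hr'K : (r' : G) ∈ K := Subgroup.mem_subgroupOf.mp hr'R
    have hr'1' : (r' : G) ≠ 1 := fun h => hr'1 (Subtype.ext h)
    rw [h30 (r' : G) hr'K hr'1'] at h2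
    have h3 : c ∈ Q' := (hQmem c).mpr (hKsQ h2)
    have h4 : π c = 1 := (hπ1 c).mpr h3
    have h5 : π s = π c := hcs.symm
    rw [h5, h4]
  have hnil : Group.IsNilpotent ↥Ub :=
    Cfsg.Agent.Lib.Helper03.FrobThompson.isNilpotent_of_fpf Ub Eb hEb1 hUn hfpf
  -- the Sylow `q`-subgroup of `Ub` is trivial
  have hqU : ¬ q ∣ Nat.card ↥Ub := by
    obtain ⟨P⟩ : Nonempty (Sylow q ↥Ub) := inferInstance
    have hPn : (P : Subgroup ↥Ub).Normal :=
      Sylow.normal_of_normalizerCondition Group.normalizerCondition_of_isNilpotent P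
    have hPc : (P : Subgroup ↥Ub).Characteristic := Sylow.characteristic_of_normal P hPn
    set P2 : Subgroup (↥M ⧸ Q') := (P : Subgroup ↥Ub).map Ub.subtype with hP2def
    have hP2n : P2.Normal := ConjAct.normal_of_characteristic_of_normal
    have hP2p : IsPGroup q ↥P2 := P.2.map Ub.subtype
    have hP2le : P2 ≤ pCore q (↥M ⧸ Q') := Cfsg.Agent.Lib.Helper01.le_pCore hP2n hP2p
    have hbot : pCore q (↥M ⧸ Q') = ⊥ :=
      Cfsg.Agent.Lib.Helper14.KInfCoatomStruct.pCore_quotient_pCore_eq_bot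
    rw [hbot, le_bot_iff] at hP2le
    have hPbot : (P : Subgroup ↥Ub) = ⊥ :=
      (Subgroup.map_eq_bot_iff_of_injective _ Ub.subtype_injective).mp hP2le
    intro hd
    have h1 := P.not_dvd_index
    rw [hPbot, Subgroup.index_bot] at h1
    exact h1 hd
  -- `|M_σ| = |Q| |Ub|`
  have hidx : Ub.index = K'.index := by
    rw [hUbdef, Subgroup.index_map, hπdef, QuotientGroup.ker_mk', sup_eq_left.mpr hQ'K',
      MonoidHom.range_eq_top.mpr (QuotientGroup.mk'_surjective Q'), Subgroup.index_top, mul_one]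
  have hcardK' : Nat.card K' = Nat.card ↥Ub * Nat.card Q' := by
    have h1 := Subgroup.card_eq_card_quotient_mul_card_subgroup Q'
    have h2 := Subgroup.card_mul_index Ub
    have h3 := Subgroup.card_mul_index K'
    have hpos : 0 < K'.index := Nat.pos_of_ne_zero (Subgroup.index_ne_zero_of_finite)
    have h4 : Nat.card K' * K'.index = (Nat.card ↥Ub * Nat.card Q') * K'.index := by
      rw [h3, h1, ← h2, hidx]; ring
    exact Nat.eq_of_mul_eq_mul_right hpos h4
  have hcQ : Nat.card Q' = Nat.card Q := by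
    rw [hQdef]
    exact (Subgroup.card_map_of_injective M.subtype_injective).symm
  have hrel : Q.relIndex S = Nat.card ↥Ub := by
    have h1 := Cfsg.Agent.Lib.Helper90.BG14D.card_mul_relIndex hQS
    have hpos : 0 < Nat.card Q := Nat.card_pos
    have h2 : Nat.card Q * Q.relIndex S = Nat.card Q * Nat.card ↥Ub := by
      rw [h1, ← hcK, hcardK', hcQ, mul_comm]
    exact Nat.eq_of_mul_eq_mul_left hpos h2
  refine ⟨by rw [hrel]; exact hqU, ?_⟩
  intro D hD
  obtain ⟨-, hDS, hdisj, -⟩ := hD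
  have hDM : D ≤ M := hDS.trans hSM
  let f : ↥D →* ↥Ub := (π.comp (Subgroup.inclusion hDM)).codRestrict Ub (by
    intro d
    refine ⟨Subgroup.inclusion hDM d, ?_, rfl⟩
    exact Subgroup.mem_subgroupOf.mpr (hDS d.2))
  have hf : Function.Injective f := by
    rw [injective_iff_map_eq_one]
    intro d hd
    have h1 : π (Subgroup.inclusion hDM d) = 1 := congrArg Subtype.val hd
    rw [hπ1, hQmem] at h1
    have h2 : (d : G) ∈ Q ⊓ D := Subgroup.mem_inf.mpr ⟨h1, d.2⟩
    rw [hdisj, Subgroup.mem_bot] at h2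
    exact Subtype.ext h2
  exact isNilpotent_of_injective_hom f hf

end Cfsg.Agent.Lib.Helper78.BG152
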