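import Mathlib
import Cfsg.Agent.Lib.Helper03.FrobSub
import Cfsg.Agent.Lib.Helper03.PGroupFrattini

/-!
# Frobenius group acting on a `q`-group with fixed points of order `q` (core of BG Theorem 15.2)

`D ⋊ K` a Frobenius group (`D` nilpotent kernel, `K` acting without fixed points on `D`) acting
coprimely on a `q`-group `Q`, `K` acting in a prime manner with `|C_Q(K)| = q`, `D` not centralizing
`Q`, `Q₀ = C_Q(D)`.  Then `|K|` is prime, `|Q| = |Q₀| q^|K|`, `Q₀ ⊲ Q` with `Q/Q₀` elementary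
abelian, and no `DK`-invariant subgroup lies strictly between `Q₀` and `Q`.

Only tool: the Frobenius–Wielandt formula `Helper03.FrobSub.wielandt_sub`.
-/

set_option autoImplicit false
set_option linter.unusedSectionVars false
set_option linter.unusedVariables false

namespace Cfsg.Agent.Lib.Helper78.BG152

open Subgroup

variable {X : Type*} [Group X]

/-- a subgroup of a group of prime order is trivial or everything -/
theorem eq_bot_or_eq_of_le_of_card_prime [Finite X] {A B : Subgroup X} (hAB : A ≤ B)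
    (hB : (Nat.card B).Prime) : A = ⊥ ∨ A = B := by
  have h1 : Nat.card A ∣ Nat.card B := Subgroup.card_dvd_of_le hAB
  rcases (Nat.dvd_prime hB).mp h1 with h | h
  · exact Or.inl (Subgroup.card_eq_one.mp h)
  · right
    exact Subgroup.eq_of_le_of_card_ge hAB h.ge

theorem centralizer_sup_eq (D K : Subgroup X) :
    centralizer ((D ⊔ K : Subgroup X) : Set X) = centralizer (D : Set X) ⊓ centralizer (K : Set X) := by
  apply le_antisymm
  · exact le_inf (Subgroup.centralizer_le (by exact_mod_cast (le_sup_left : D ≤ D ⊔ K)))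
      (Subgroup.centralizer_le (by exact_mod_cast (le_sup_right : K ≤ D ⊔ K)))
  · rw [Subgroup.le_centralizer_iff]
    apply sup_le
    · rw [← Subgroup.le_centralizer_iff]
      exact inf_le_left
    · rw [← Subgroup.le_centralizer_iff]
      exact inf_le_right

section main

variable [Finite X] (Q D K : Subgroup X) (q : ℕ)

/-- the hypotheses -/
structure FQ : Prop where
  hq : q.Prime
  hQ : IsPGroup q Q
  hK1 : K ≠ ⊥
  hKD : ∀ k ∈ K, ∀ d ∈ D, k * d * k⁻¹ ∈ D
  hfpf : ∀ k ∈ K, k ≠ 1 → ∀ d ∈ D, k * d = d * k → d = 1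
  hDn : Group.IsNilpotent D
  hQn : ∀ x ∈ D ⊔ K, ∀ h ∈ Q, x * h * x⁻¹ ∈ Q
  hcop : (Nat.card Q).Coprime (Nat.card ↥(D ⊔ K))
  hpa : ∀ k ∈ K, k ≠ 1 → Q ⊓ centralizer ({k} : Set X) = Q ⊓ centralizer (K : Set X)
  hfix : Nat.card ↥(Q ⊓ centralizer (K : Set X)) = q
  hnc : ¬ D ≤ centralizer (Q : Set X)

variable {Q D K q}

namespace FQ

variable (h : FQ Q D K q)
include h

/-- the Wielandt formula for a `D E`-invariant subgroup `H ≤ Q`, `E ≤ K` -/
theorem formula {E H : Subgroup X} (hEK : E ≤ K) (hHQ : H ≤ Q)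
    (hH : ∀ x ∈ D ⊔ E, ∀ y ∈ H, x * y * x⁻¹ ∈ H) :
    Nat.card ↥(H ⊓ centralizer ((D ⊔ E : Subgroup X) : Set X)) ^ Nat.card E * Nat.card H =
      Nat.card ↥(H ⊓ centralizer (E : Set X)) ^ Nat.card E *
        Nat.card ↥(H ⊓ centralizer (D : Set X)) := by
  haveI : Fact q.Prime := ⟨h.hq⟩
  have hHp : IsPGroup q H := h.hQ.to_le hHQ
  haveI : Group.IsNilpotent ↥H := hHp.isNilpotent
  have hsolv : Group.IsSolvable ↥H := inferInstance
  have hle : D ⊔ E ≤ D ⊔ K := sup_le_sup_left hEK D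
  have hcop : Nat.Coprime (Nat.card H) (Nat.card ↥(D ⊔ E)) :=
    Nat.Coprime.coprime_dvd_left (Subgroup.card_dvd_of_le hHQ)
      (Nat.Coprime.coprime_dvd_right (Subgroup.card_dvd_of_le hle) h.hcop)
  exact Cfsg.Agent.Lib.Helper03.FrobSub.wielandt_sub D E H
    (fun e he u hu => h.hKD e (hEK he) u hu)
    (fun e he he1 u hu => h.hfpf e (hEK he) he1 u hu) h.hDn hH hsolv hcop

theorem Q0_ne : Q ⊓ centralizer (D : Set X) ≠ Q := by
  intro he
  apply h.hnc
  rw [Subgroup.le_centralizer_iff]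
  rw [← he]
  exact inf_le_right

theorem Ks_prime : (Nat.card ↥(Q ⊓ centralizer (K : Set X))).Prime := by
  rw [h.hfix]; exact h.hq

/-- `C_Q(D K) = 1` and `|Q| = q^|K| |Q₀|` -/
theorem cent_DK_bot_and_card :
    Q ⊓ centralizer ((D ⊔ K : Subgroup X) : Set X) = ⊥ ∧
      Nat.card Q = q ^ Nat.card K * Nat.card ↥(Q ⊓ centralizer (D : Set X)) := by
  have hf := h.formula (le_refl K) (le_refl Q) h.hQn
  rw [h.hfix] at hf
  have hle : Q ⊓ centralizer ((D ⊔ K : Subgroup X) : Set X) ≤ Q ⊓ centralizer (K : Set X) := by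
    rw [centralizer_sup_eq]
    exact inf_le_inf_left _ inf_le_right
  have hqpos : 0 < q ^ Nat.card K := pow_pos h.hq.pos _
  rcases eq_bot_or_eq_of_le_of_card_prime hle h.Ks_prime with h0 | h0
  · refine ⟨h0, ?_⟩
    rw [h0, Subgroup.card_bot, one_pow, one_mul] at hf
    exact hf
  · exfalso
    rw [h0, h.hfix] at hf
    have h1 : Nat.card Q = Nat.card ↥(Q ⊓ centralizer (D : Set X)) :=
      Nat.eq_of_mul_eq_mul_left hqpos hf
    apply h.Q0_ne
    exact Subgroup.eq_of_le_of_card_ge inf_le_left h1.le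

/-- the dichotomy for `D K`-invariant subgroups of `Q` -/
theorem dichotomy {H : Subgroup X} (hHQ : H ≤ Q)
    (hH : ∀ x ∈ D ⊔ K, ∀ y ∈ H, x * y * x⁻¹ ∈ H) :
    (Q ⊓ centralizer (K : Set X) ≤ H ∧
        Nat.card H = q ^ Nat.card K * Nat.card ↥(H ⊓ (Q ⊓ centralizer (D : Set X)))) ∨
      H ≤ Q ⊓ centralizer (D : Set X) := by
  have hf := h.formula (le_refl K) hHQ hH
  have h0 : H ⊓ centralizer ((D ⊔ K : Subgroup X) : Set X) = ⊥ := by
    rw [eq_bot_iff, ← h.cent_DK_bot_and_card.1]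
    exact inf_le_inf_right _ hHQ
  rw [h0, Subgroup.card_bot, one_pow, one_mul] at hf
  have hHD : H ⊓ centralizer (D : Set X) = H ⊓ (Q ⊓ centralizer (D : Set X)) := by
    rw [← inf_assoc, inf_eq_left.mpr hHQ]
  have hle : H ⊓ centralizer (K : Set X) ≤ Q ⊓ centralizer (K : Set X) :=
    inf_le_inf_right _ hHQ
  rcases eq_bot_or_eq_of_le_of_card_prime hle h.Ks_prime with h1 | h1
  · right
    rw [h1, Subgroup.card_bot, one_pow, one_mul] at hf
    have h2 : H ⊓ centralizer (D : Set X) = H :=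
      Subgroup.eq_of_le_of_card_ge inf_le_left hf.le
    rw [← h2]
    exact inf_le_inf_right _ hHQ
  · left
    refine ⟨?_, ?_⟩
    · rw [← h1]; exact inf_le_left
    · rw [h1, h.hfix, hHD] at hf
      exact hf

/-- `|K|` is prime -/
theorem card_K_prime : (Nat.card K).Prime := by
  classical
  obtain ⟨r, hr, hrK⟩ : ∃ r : ℕ, r.Prime ∧ r ∣ Nat.card K := by
    apply Nat.exists_prime_and_dvd
    intro h1
    exact h.hK1 (Subgroup.card_eq_one.mp h1)
  haveI : Fact r.Prime := ⟨hr⟩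
  obtain ⟨k, hk⟩ := exists_prime_orderOf_dvd_card' (G := ↥K) r hrK
  let K1 : Subgroup X := (Subgroup.zpowers k).map K.subtype
  have hK1K : K1 ≤ K := Subgroup.map_subtype_le _
  have hK1card : Nat.card K1 = r := by
    rw [Subgroup.card_map_of_injective K.subtype_injective, Nat.card_zpowers, hk]
  have hk1 : (k : X) ≠ 1 := by
    intro h1
    have : k = 1 := Subtype.ext h1
    rw [this, orderOf_one] at hk
    exact hr.one_lt.ne hk
  have hkK1 : (k : X) ∈ K1 := ⟨k, Subgroup.mem_zpowers k, rfl⟩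
  have hle : D ⊔ K1 ≤ D ⊔ K := sup_le_sup_left hK1K D
  have hf := h.formula hK1K (le_refl Q) (fun x hx y hy => h.hQn x (hle hx) y hy)
  have hcK1 : Q ⊓ centralizer (K1 : Set X) = Q ⊓ centralizer (K : Set X) := by
    apply le_antisymm
    · rw [← h.hpa k k.2 hk1]
      apply inf_le_inf_left
      apply Subgroup.centralizer_le
      intro y hy
      rw [Set.mem_singleton_iff] at hy
      rw [hy]
      exact hkK1
    · apply inf_le_inf_left
      exact Subgroup.centralizer_le (by exact_mod_cast hK1K)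
  have h0 : Q ⊓ centralizer ((D ⊔ K1 : Subgroup X) : Set X) = ⊥ := by
    rw [eq_bot_iff, ← h.cent_DK_bot_and_card.1, centralizer_sup_eq, centralizer_sup_eq]
    intro x hx
    obtain ⟨hxQ, hxD, hxK1⟩ := hx
    have hxK : x ∈ Q ⊓ centralizer (K : Set X) := by
      rw [← hcK1]; exact ⟨hxQ, hxK1⟩
    exact ⟨hxQ, hxD, hxK.2⟩
  rw [h0, Subgroup.card_bot, one_pow, one_mul, hcK1, h.hfix, hK1card] at hf
  have h2 := h.cent_DK_bot_and_card.2
  rw [hf] at h2
  have hpos : 0 < Nat.card ↥(Q ⊓ centralizer (D : Set X)) := Nat.card_pos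
  have h3 : q ^ r = q ^ Nat.card K := Nat.eq_of_mul_eq_mul_right hpos h2
  have h4 : r = Nat.card K := Nat.pow_right_injective h.hq.two_le h3
  rw [← h4]
  exact hr

/-- `Q₀` is `D K`-invariant -/
theorem Q0_inv : ∀ x ∈ D ⊔ K, ∀ y ∈ Q ⊓ centralizer (D : Set X),
    x * y * x⁻¹ ∈ Q ⊓ centralizer (D : Set X) := by
  intro x hx y hy
  have hy' := Subgroup.mem_inf.mp hy
  refine Subgroup.mem_inf.mpr ⟨h.hQn x hx y hy'.1, ?_⟩
  have hDn : D ⊔ K ≤ normalizer (D : Set X) := by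
    apply sup_le Subgroup.le_normalizer
    intro k hk
    rw [Subgroup.mem_normalizer_iff]
    intro d
    constructor
    · intro hd; exact h.hKD k hk d hd
    · intro hd
      have := h.hKD k⁻¹ (K.inv_mem hk) _ hd
      simpa [mul_assoc] using this
  have hxn := hDn hx
  rw [Subgroup.mem_centralizer_iff]
  intro d hd
  have hd' : x⁻¹ * d * x ∈ D := by
    have := (Subgroup.mem_normalizer_iff.mp (Subgroup.inv_mem _ hxn) d).mp hd
    simpa using this
  have hc := (Subgroup.mem_centralizer_iff.mp hy'.2) _ hd'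
  calc d * (x * y * x⁻¹) = x * ((x⁻¹ * d * x) * y) * x⁻¹ := by group
    _ = x * (y * (x⁻¹ * d * x)) * x⁻¹ := by rw [hc]
    _ = x * y * x⁻¹ * d := by group

/-- the image of the Frattini subgroup of `Q` lies in `Q₀` -/
theorem frattini_le : (frattini ↥Q).map Q.subtype ≤ Q ⊓ centralizer (D : Set X) := by
  haveI : Fact q.Prime := ⟨h.hq⟩
  set F : Subgroup X := (frattini ↥Q).map Q.subtype with hF
  have hFQ : F ≤ Q := Subgroup.map_subtype_le _
  -- `F` is invariant
  have hFinv : ∀ x ∈ D ⊔ K, ∀ y ∈ F, x * y * x⁻¹ ∈ F := by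
    intro x hx y hy
    obtain ⟨y', hy', rfl⟩ := hy
    let φ : ↥Q ≃* ↥Q :=
      Cfsg.Agent.Lib.Helper03.FrobSub.conjAct (D ⊔ K) Q h.hQn ⟨x, hx⟩
    have h1 : φ y' ∈ frattini ↥Q :=
      (Cfsg.Agent.Lib.Helper03.FrobAct.char_mem_iff (frattini ↥Q) φ y').mpr hy'
    exact ⟨φ y', h1, rfl⟩
  rcases h.dichotomy hFQ hFinv with ⟨hKsF, -⟩ | hle
  · exfalso
    -- `F ⊔ Q₀ = Q`
    set Q0 : Subgroup X := Q ⊓ centralizer (D : Set X) with hQ0
    have hsupQ : F ⊔ Q0 ≤ Q := sup_le hFQ inf_le_left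
    have hsupinv : ∀ x ∈ D ⊔ K, ∀ y ∈ F ⊔ Q0, x * y * x⁻¹ ∈ F ⊔ Q0 := by
      intro x hx y hy
      have hmap : (F ⊔ Q0).map (MulAut.conj x).toMonoidHom ≤ F ⊔ Q0 := by
        rw [Subgroup.map_sup]
        apply sup_le_sup
        · rintro _ ⟨z, hz, rfl⟩
          exact hFinv x hx z hz
        · rintro _ ⟨z, hz, rfl⟩
          exact h.Q0_inv x hx z hz
      exact hmap ⟨y, hy, rfl⟩
    rcases h.dichotomy hsupQ hsupinv with ⟨-, hcard⟩ | hle2
    · have hinf : (F ⊔ Q0) ⊓ Q0 = Q0 := inf_eq_right.mpr le_sup_right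
      rw [hinf, ← h.cent_DK_bot_and_card.2] at hcard
      have htop : F ⊔ Q0 = Q := Subgroup.eq_of_le_of_card_ge hsupQ hcard.ge
      -- nongenerating
      have h2 : Q0.subgroupOf Q ⊔ frattini ↥Q = ⊤ := by
        rw [eq_top_iff]
        intro y _
        have hy : (y : X) ∈ F ⊔ Q0 := by rw [htop]; exact y.2
        have hmap : F ⊔ Q0 ≤ (Q0.subgroupOf Q ⊔ frattini ↥Q).map Q.subtype := by
          rw [Subgroup.map_sup]
          apply sup_le
          · exact le_sup_right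
          · refine le_trans ?_ le_sup_left
            intro z hz
            exact ⟨⟨z, hz.1⟩, Subgroup.mem_subgroupOf.mpr hz, rfl⟩
        obtain ⟨y', hy', hyy⟩ := hmap hy
        have : y' = y := Subtype.ext hyy
        rw [← this]; exact hy'
      have h3 : Q0.subgroupOf Q = ⊤ := frattini_nongenerating h2
      apply h.Q0_ne
      apply le_antisymm inf_le_left
      intro y hy
      have : (⟨y, hy⟩ : ↥Q) ∈ Q0.subgroupOf Q := by rw [h3]; exact Subgroup.mem_top _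
      exact Subgroup.mem_subgroupOf.mp this
    · -- `F ≤ Q₀` anyway, but `Ks ≤ F ≤ Q₀` contradicts `Ks ⊓ Q₀ = ⊥`
      have hKsQ0 : Q ⊓ centralizer (K : Set X) ≤ Q0 := hKsF.trans (le_sup_left.trans hle2)
      have hbot : Q ⊓ centralizer (K : Set X) ≤ ⊥ := by
        rw [← h.cent_DK_bot_and_card.1, centralizer_sup_eq]
        intro x hx
        exact ⟨hx.1, (hKsQ0 hx).2, hx.2⟩
      have hcard : Nat.card ↥(Q ⊓ centralizer (K : Set X)) = 1 := by
        rw [le_bot_iff.mp hbot, Subgroup.card_bot]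
      rw [h.hfix] at hcard
      exact h.hq.one_lt.ne' hcard
  · exact hle

/-- `q`-th powers and commutators of `Q` lie in `Q₀` -/
theorem pow_comm_mem (a b : X) (ha : a ∈ Q) (hb : b ∈ Q) :
    a ^ q ∈ Q ⊓ centralizer (D : Set X) ∧ a * b * a⁻¹ * b⁻¹ ∈ Q ⊓ centralizer (D : Set X) := by
  haveI : Fact q.Prime := ⟨h.hq⟩
  have hQp : IsPGroup q ↥Q := h.hQ
  constructor
  · apply h.frattini_le
    have h1 := Cfsg.Agent.Lib.Helper03.pow_mem_frattini_of_isPGroup hQp (⟨a, ha⟩ : ↥Q)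
    exact ⟨_, h1, rfl⟩
  · apply h.frattini_le
    have h1 : (⟨a, ha⟩ : ↥Q) * ⟨b, hb⟩ * (⟨a, ha⟩ : ↥Q)⁻¹ * (⟨b, hb⟩ : ↥Q)⁻¹ ∈ commutator ↥Q := by
      rw [_root_.commutator_def]
      have := Subgroup.commutator_mem_commutator (H₁ := (⊤ : Subgroup ↥Q)) (H₂ := ⊤)
        (Subgroup.mem_top (⟨a, ha⟩ : ↥Q)) (Subgroup.mem_top (⟨b, hb⟩ : ↥Q))
      rwa [commutatorElement_def] at this
    have h2 := Cfsg.Agent.Lib.Helper03.commutator_le_frattini_of_isPGroup hQp h1
    exact ⟨_, h2, rfl⟩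

/-- `Q` normalizes `Q₀` -/
theorem Q_le_normalizer : Q ≤ normalizer ((Q ⊓ centralizer (D : Set X) : Subgroup X) : Set X) := by
  have key : ∀ a ∈ Q, ∀ z ∈ Q ⊓ centralizer (D : Set X),
      a * z * a⁻¹ ∈ Q ⊓ centralizer (D : Set X) := by
    intro a ha z hz
    have h1 := (h.pow_comm_mem a z ha hz.1).2
    have h2 : a * z * a⁻¹ = (a * z * a⁻¹ * z⁻¹) * z := by group
    rw [h2]
    exact Subgroup.mul_mem _ h1 hz
  intro a ha
  rw [Subgroup.mem_normalizer_iff]
  intro z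
  constructor
  · exact key a ha z
  · intro hz
    have := key a⁻¹ (Q.inv_mem ha) _ hz
    simpa [mul_assoc] using this

/-- minimality of `Q/Q₀` -/
theorem no_between (N : Subgroup X) (h1 : Q ⊓ centralizer (D : Set X) < N) (h2 : N < Q)
    (hN : ∀ x ∈ D ⊔ K, ∀ y ∈ N, x * y * x⁻¹ ∈ N) : False := by
  rcases h.dichotomy h2.le hN with ⟨-, hcard⟩ | hle
  · have hinf : N ⊓ (Q ⊓ centralizer (D : Set X)) = Q ⊓ centralizer (D : Set X) :=
      inf_eq_right.mpr h1.le
    rw [hinf, ← h.cent_DK_bot_and_card.2] at hcard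
    exact h2.ne (Subgroup.eq_of_le_of_card_ge h2.le hcard.ge)
  · exact (lt_of_lt_of_le h1 hle).ne rfl

/-- **the structure theorem** -/
theorem structure_thm :
    (Nat.card K).Prime ∧
      Q ≤ normalizer ((Q ⊓ centralizer (D : Set X) : Subgroup X) : Set X) ∧
      Q ⊓ centralizer (D : Set X) < Q ∧
      Nat.card Q = Nat.card ↥(Q ⊓ centralizer (D : Set X)) * q ^ Nat.card K ∧
      (∀ a ∈ Q, ∀ b ∈ Q, a ^ q ∈ Q ⊓ centralizer (D : Set X) ∧
        a * b * a⁻¹ * b⁻¹ ∈ Q ⊓ centralizer (D : Set X)) ∧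
      (∀ N : Subgroup X, Q ⊓ centralizer (D : Set X) < N → N < Q →
        (∀ x ∈ D ⊔ K, ∀ y ∈ N, x * y * x⁻¹ ∈ N) → False) ∧
      (Q ⊓ centralizer (D : Set X)) ⊓ (Q ⊓ centralizer (K : Set X)) = ⊥ := by
  refine ⟨h.card_K_prime, h.Q_le_normalizer, lt_of_le_of_ne inf_le_left h.Q0_ne, ?_,
    fun a ha b hb => h.pow_comm_mem a b ha hb, h.no_between, ?_⟩
  · rw [h.cent_DK_bot_and_card.2, mul_comm]
  · rw [eq_bot_iff, ← h.cent_DK_bot_and_card.1, centralizer_sup_eq]
    intro x hx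
    exact ⟨hx.1.1, hx.1.2, hx.2.2⟩

end FQ

end main

end Cfsg.Agent.Lib.Helper78.BG152
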