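import Mathlib
import Cfsg.Agent.S1414
import Cfsg.Agent.Lib.Helper78.BG152A
import Cfsg.Agent.Lib.Helper78.BG152C
import Cfsg.Agent.Lib.Helper78.BG152FQ
import Cfsg.Agent.Lib.Helper32.CoprimeHall

/-!
# BG Theorem 15.2, part D: the structure of `Q = O_q(M)` and of `Q / C_Q(D)`

`M` maximal, `K ≠ 1` a Hall `κ(M)`-subgroup complementing `M_σ`, `M_σ` not nilpotent,
`q = |K*|` a prime.  With `Q = O_q(M)`: `|K|` is a prime, `q ∈ β(M)`, `Q` is a Sylow
`q`-subgroup of `M_σ`, and for every complement `D` of `Q` in `M_σ`, `Q₀ = C_Q(D)` is a proper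
`M`-invariant subgroup of `Q` with `Q/Q₀` elementary abelian of order `q ^ |K|`, minimal.
-/

set_option autoImplicit false
set_option linter.unusedSectionVars false
set_option linter.unusedVariables false
set_option linter.style.haveILetI false

namespace Cfsg.Agent.Lib.Helper78.BG152

open Cfsg Subgroup
open scoped Pointwise

section general

variable {X : Type*} [Group X]

theorem IsComplIn.symm' {A B S : Subgroup X} (h : IsComplIn A B S) : IsComplIn B A S := by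
  obtain ⟨hA, hB, hd, hp⟩ := h
  refine ⟨hB, hA, by rw [inf_comm]; exact hd, ?_⟩
  intro m hm
  obtain ⟨a, ha, b, hb, hab⟩ := hp m⁻¹ (S.inv_mem hm)
  refine ⟨b⁻¹, B.inv_mem hb, a⁻¹, A.inv_mem ha, ?_⟩
  rw [← mul_inv_rev, ← hab, inv_inv]

theorem le_normalizer_of_forall_conj_mem {A H : Subgroup X}
    (h : ∀ x ∈ A, ∀ y ∈ H, x * y * x⁻¹ ∈ H) : A ≤ normalizer (H : Set X) := by
  intro x hx
  rw [Subgroup.mem_normalizer_iff]
  intro y
  constructor
  · exact h x hx y
  · intro hy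
    have := h x⁻¹ (A.inv_mem hx) _ hy
    simpa [mul_assoc] using this

theorem conj_mem_of_le_normalizer {A H : Subgroup X} (h : A ≤ normalizer (H : Set X)) :
    ∀ x ∈ A, ∀ y ∈ H, x * y * x⁻¹ ∈ H := fun x hx y hy =>
  (Subgroup.mem_normalizer_iff.mp (h hx) y).mp hy

/-- a subgroup which is the product of two nilpotent subgroups centralizing each other is
nilpotent -/
theorem isNilpotent_of_complIn_centralizing [Finite X] {A B S : Subgroup X}
    (h : IsComplIn A B S) (hA : Group.IsNilpotent ↥A) (hB : Group.IsNilpotent ↥B)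
    (hc : B ≤ centralizer (A : Set X)) : Group.IsNilpotent ↥S := by
  obtain ⟨hAS, hBS, hd, hp⟩ := h
  have hc' : A ≤ centralizer (B : Set X) := Subgroup.le_centralizer_iff.mp hc
  have hSA : S ≤ normalizer (A : Set X) := by
    intro s hs
    obtain ⟨a, ha, b, hb, rfl⟩ := hp s hs
    exact Subgroup.mul_mem _ (Subgroup.le_normalizer ha)
      (Subgroup.centralizer_le_normalizer _ (hc hb))
  have hSB : S ≤ normalizer (B : Set X) := by
    intro s hs
    obtain ⟨a, ha, b, hb, rfl⟩ := hp s hs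
    exact Subgroup.mul_mem _ (Subgroup.centralizer_le_normalizer _ (hc' ha))
      (Subgroup.le_normalizer hb)
  have hA1n : (A.subgroupOf S).Normal := (Subgroup.normal_subgroupOf_iff_le_normalizer hAS).mpr hSA
  have hB1n : (B.subgroupOf S).Normal := (Subgroup.normal_subgroupOf_iff_le_normalizer hBS).mpr hSB
  have hA1 : Group.IsNilpotent ↥(A.subgroupOf S) :=
    Group.nilpotent_of_mulEquiv (Subgroup.subgroupOfEquivOfLe hAS).symm
  have hB1 : Group.IsNilpotent ↥(B.subgroupOf S) :=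
    Group.nilpotent_of_mulEquiv (Subgroup.subgroupOfEquivOfLe hBS).symm
  have h1 := Cfsg.Agent.Lib.Helper76.le_fittingSubgroup hA1n hA1
  have h2 := Cfsg.Agent.Lib.Helper76.le_fittingSubgroup hB1n hB1
  have h3 : fittingSubgroup ↥S = ⊤ := by
    rw [eq_top_iff]
    intro s _
    obtain ⟨a, ha, b, hb, hab⟩ := hp s.1 s.2
    have : s = (⟨a, hAS ha⟩ : ↥S) * ⟨b, hBS hb⟩ := Subtype.ext hab
    rw [this]
    exact Subgroup.mul_mem _ (h1 (Subgroup.mem_subgroupOf.mpr ha))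
      (h2 (Subgroup.mem_subgroupOf.mpr hb))
  have h5 : Group.IsNilpotent ↥(fittingSubgroup ↥S) :=
    Cfsg.Agent.Lib.Helper76.fittingSubgroup_isNilpotent
  rw [h3] at h5
  exact Group.nilpotent_of_mulEquiv Subgroup.topEquiv

/-- `C_Q(D)` does not change when `D` is conjugated by an element normalizing `Q` and `C_Q(D)` -/
theorem inf_centralizer_conj_eq {Q D0 D : Subgroup X} {g : X} (hD : MulAut.conj g • D0 = D)
    (hgQ : g ∈ normalizer (Q : Set X))
    (hgQ0 : g ∈ normalizer ((Q ⊓ centralizer (D0 : Set X) : Subgroup X) : Set X)) :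
    Q ⊓ centralizer (D : Set X) = Q ⊓ centralizer (D0 : Set X) := by
  have hmemD : ∀ d ∈ D0, g * d * g⁻¹ ∈ D := by
    intro d hd
    rw [← hD]
    exact Subgroup.mem_pointwise_smul_iff_inv_smul_mem.mpr (by
      simpa [MulAut.smul_def, mul_assoc] using hd)
  have hmemD' : ∀ e ∈ D, g⁻¹ * e * g ∈ D0 := by
    intro e he
    rw [← hD] at he
    have := Subgroup.mem_pointwise_smul_iff_inv_smul_mem.mp he
    simpa [MulAut.smul_def, mul_assoc] using this
  have hginvQ : g⁻¹ ∈ normalizer (Q : Set X) := Subgroup.inv_mem _ hgQ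
  have hginvQ0 := Subgroup.inv_mem _ hgQ0
  ext y
  constructor
  · intro hy
    obtain ⟨hyQ, hyC⟩ := Subgroup.mem_inf.mp hy
    have h1 : g⁻¹ * y * g ∈ Q ⊓ centralizer (D0 : Set X) := by
      refine Subgroup.mem_inf.mpr ⟨?_, ?_⟩
      · have := (Subgroup.mem_normalizer_iff.mp hginvQ y).mp hyQ
        simpa using this
      · rw [Subgroup.mem_centralizer_iff]
        intro d hd
        have hc := Subgroup.mem_centralizer_iff.mp hyC _ (hmemD d hd)
        calc d * (g⁻¹ * y * g) = g⁻¹ * ((g * d * g⁻¹) * y) * g := by group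
          _ = g⁻¹ * (y * (g * d * g⁻¹)) * g := by rw [hc]
          _ = g⁻¹ * y * g * d := by group
    have h2 := (Subgroup.mem_normalizer_iff.mp hgQ0 _).mp h1
    have h3 : g * (g⁻¹ * y * g) * g⁻¹ = y := by group
    rwa [h3] at h2
  · intro hy
    have h1 : g⁻¹ * y * g ∈ Q ⊓ centralizer (D0 : Set X) := by
      have := (Subgroup.mem_normalizer_iff.mp hginvQ0 y).mp hy
      simpa using this
    obtain ⟨hyQ, -⟩ := Subgroup.mem_inf.mp hy
    obtain ⟨-, h1C⟩ := Subgroup.mem_inf.mp h1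
    refine Subgroup.mem_inf.mpr ⟨hyQ, ?_⟩
    rw [Subgroup.mem_centralizer_iff]
    intro e he
    have hc := Subgroup.mem_centralizer_iff.mp h1C _ (hmemD' e he)
    calc e * y = g * ((g⁻¹ * e * g) * (g⁻¹ * y * g)) * g⁻¹ := by group
      _ = g * ((g⁻¹ * y * g) * (g⁻¹ * e * g)) * g⁻¹ := by rw [hc]
      _ = y * e := by group

end general

variable {G : Type*} [Group G] [Finite G]

/-- **BG Theorem 15.2, the structure of `Q = O_q(M)`** (given `|K*| = q` prime). -/
theorem structure_Q (hG : IsMinSimpleOddOrder G) {M K : Subgroup G} (hM : IsCoatom M)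
    (hK : IsPiHallOf (kappa M) K M) (hK1 : K ≠ ⊥) (hE : IsComplIn K (sigmaCore M) M)
    (hnn : ¬ Group.IsNilpotent ↥(sigmaCore M))
    (hq : (Nat.card ↥(sigmaCore M ⊓ centralizer (K : Set G))).Prime) :
    Nat.card ↥(sigmaCore M ⊓ centralizer (K : Set G)) ∈ sigma M ∧
    sigmaCore M ⊓ centralizer (K : Set G) ≤
      pCoreOf (Nat.card ↥(sigmaCore M ⊓ centralizer (K : Set G))) M ∧
    pCoreOf (Nat.card ↥(sigmaCore M ⊓ centralizer (K : Set G))) M ≤ sigmaCore M ∧
    (Nat.card K).Prime ∧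
    Nat.card ↥(sigmaCore M ⊓ centralizer (K : Set G)) ∈ beta M ∧
    ¬ Nat.card ↥(sigmaCore M ⊓ centralizer (K : Set G)) ∣
      (pCoreOf (Nat.card ↥(sigmaCore M ⊓ centralizer (K : Set G))) M).relIndex (sigmaCore M) ∧
    ∀ D : Subgroup G,
      IsComplIn (pCoreOf (Nat.card ↥(sigmaCore M ⊓ centralizer (K : Set G))) M) D (sigmaCore M) →
      Group.IsNilpotent ↥D ∧
      M ≤ normalizer ((pCoreOf (Nat.card ↥(sigmaCore M ⊓ centralizer (K : Set G))) M ⊓
        centralizer (D : Set G) : Subgroup G) : Set G) ∧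
      pCoreOf (Nat.card ↥(sigmaCore M ⊓ centralizer (K : Set G))) M ⊓ centralizer (D : Set G) <
        pCoreOf (Nat.card ↥(sigmaCore M ⊓ centralizer (K : Set G))) M ∧
      Nat.card ↥(pCoreOf (Nat.card ↥(sigmaCore M ⊓ centralizer (K : Set G))) M) =
        Nat.card ↥(pCoreOf (Nat.card ↥(sigmaCore M ⊓ centralizer (K : Set G))) M ⊓
          centralizer (D : Set G)) *
          Nat.card ↥(sigmaCore M ⊓ centralizer (K : Set G)) ^ Nat.card K ∧
      (∀ a ∈ pCoreOf (Nat.card ↥(sigmaCore M ⊓ centralizer (K : Set G))) M,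
        ∀ b ∈ pCoreOf (Nat.card ↥(sigmaCore M ⊓ centralizer (K : Set G))) M,
        a ^ Nat.card ↥(sigmaCore M ⊓ centralizer (K : Set G)) ∈
          pCoreOf (Nat.card ↥(sigmaCore M ⊓ centralizer (K : Set G))) M ⊓
            centralizer (D : Set G) ∧
        a * b * a⁻¹ * b⁻¹ ∈
          pCoreOf (Nat.card ↥(sigmaCore M ⊓ centralizer (K : Set G))) M ⊓
            centralizer (D : Set G)) ∧
      ∀ N : Subgroup G,
        pCoreOf (Nat.card ↥(sigmaCore M ⊓ centralizer (K : Set G))) M ⊓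
          centralizer (D : Set G) < N →
        N < pCoreOf (Nat.card ↥(sigmaCore M ⊓ centralizer (K : Set G))) M →
        ¬ M ≤ normalizer (N : Set G) := by
  classical
  set S : Subgroup G := sigmaCore M with hSdef
  set Ks : Subgroup G := S ⊓ centralizer (K : Set G) with hKsdef
  set q : ℕ := Nat.card ↥Ks with hqdef
  haveI : Fact q.Prime := ⟨hq⟩
  set Q : Subgroup G := pCoreOf q M with hQdef
  have hSM : S ≤ M := hE.2.1
  have hKM : K ≤ M := hE.1
  obtain ⟨hHall, -, -⟩ := Cfsg.Agent.S1350.result hG M hM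
  have hqS : q ∣ Nat.card ↥S := Subgroup.card_dvd_of_le inf_le_left
  have hqσ : q ∈ sigma M := hHall.2.1 q hq hqS
  have hKsQ : Ks ≤ Q := ks_le_pCoreOf hG hM hK hK1 hE hnn hq
  have hQS : Q ≤ S := pCoreOf_le_sigmaCore hqσ
  obtain ⟨hrel, hnilD⟩ := thompson_step hG hM hK hK1 hE hqσ hKsQ
  have hMQ : M ≤ normalizer (Q : Set G) := Cfsg.Agent.Lib.Helper54.le_normalizer_pCoreOf q M
  have hQp : IsPGroup q ↥Q := Cfsg.Agent.Lib.Helper54.isPGroup_pCoreOf q M
  have hMS : M ≤ normalizer (S : Set G) := Cfsg.Agent.Lib.Helper71.BG11.le_normalizer_sigmaCore M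
  have h30 := (Cfsg.Agent.S1430.result hG M hM K hK hK1).1
  have hSne : S ≠ ⊤ := fun h => hM.1 (top_le_iff.mp (h ▸ hSM))
  have hSsol : Group.IsSolvable ↥S := Cfsg.Agent.Lib.Helper55.ms_solvable hG hSne
  -- arithmetic
  set m : ℕ := Q.relIndex S with hmdef
  have hcardS : Nat.card ↥S = m * Nat.card ↥Q := by
    rw [mul_comm]; exact (Cfsg.Agent.Lib.Helper90.BG14D.card_mul_relIndex hQS).symm
  obtain ⟨a, ha⟩ := IsPGroup.iff_card.mp hQp
  have hmq : m.Coprime q := ((Nat.Prime.coprime_iff_not_dvd hq).mpr hrel).symm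
  have hmQ : m.Coprime (Nat.card ↥Q) := by rw [ha]; exact Nat.Coprime.pow_right a hmq
  have hKq : (Nat.card K).Coprime q := by
    rw [Nat.coprime_comm, Nat.Prime.coprime_iff_not_dvd hq]
    intro hd
    exact (hK.2.1 q hq hd).2.2.1 hqσ
  have hKS : (Nat.card K).Coprime (Nat.card ↥S) :=
    Cfsg.Agent.Lib.Helper13.BG12.coprime_of_primes_disjoint (π := sigma M)
      (fun p hp hpa => (hK.2.1 p hp hpa).2.2.1) hHall.2.1
  have hKSbot : K ⊓ S = ⊥ := (Subgroup.disjoint_of_coprime_natCard hKS).eq_bot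
  have hKnS : K ≤ normalizer (S : Set G) := hKM.trans hMS
  -- the `K`-invariant complement
  obtain ⟨D0, hD0S, hD0c, hKD0⟩ :=
    Cfsg.Agent.Lib.Helper32.exists_invariant_hall hKnS hKS hSsol m (Nat.card ↥Q) hcardS hmQ
  have hD0Q : (Nat.card ↥D0).Coprime (Nat.card ↥Q) := by rw [hD0c]; exact hmQ
  have hcompl0 : IsComplIn Q D0 S :=
    IsComplIn.symm' (Cfsg.Agent.Lib.Helper13.BG12.isComplIn_of_card hD0S hQS (hSM.trans hMQ) hD0Q
      (by rw [hD0c, hcardS]))
  have hD0nil : Group.IsNilpotent ↥D0 := hnilD D0 hcompl0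
  have hQD0 : Q ⊓ D0 = ⊥ := hcompl0.2.2.1
  -- no complement centralizes `Q`
  have hnc : ∀ D : Subgroup G, IsComplIn Q D S → ¬ D ≤ centralizer (Q : Set G) := by
    intro D hD hc
    exact hnn (isNilpotent_of_complIn_centralizing hD hQp.isNilpotent (hnilD D hD) hc)
  have hKsEq : Q ⊓ centralizer (K : Set G) = Ks := by
    apply le_antisymm
    · exact inf_le_inf_right _ hQS
    · exact le_inf hKsQ inf_le_right
  have hD0K : D0 ⊓ K = ⊥ := by
    rw [eq_bot_iff, ← hKSbot]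
    intro x hx
    exact Subgroup.mem_inf.mpr ⟨(Subgroup.mem_inf.mp hx).2, hD0S (Subgroup.mem_inf.mp hx).1⟩
  have hD0KM : D0 ⊔ K ≤ M := sup_le (hD0S.trans hSM) hKM
  have hFQ : FQ Q D0 K q := by
    refine ⟨hq, hQp, hK1, conj_mem_of_le_normalizer hKD0, ?_, hD0nil,
      conj_mem_of_le_normalizer (hD0KM.trans hMQ), ?_, ?_, ?_, hnc D0 hcompl0⟩
    · intro k hk hk1 d hd hkd
      have h1 : d ∈ S ⊓ centralizer ({k} : Set G) := by
        refine Subgroup.mem_inf.mpr ⟨hD0S hd, ?_⟩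
        rw [Subgroup.mem_centralizer_iff]
        intro x hx
        rw [Set.mem_singleton_iff] at hx
        subst hx
        exact hkd
      rw [h30 k hk hk1] at h1
      have h2 : d ∈ Q ⊓ D0 := Subgroup.mem_inf.mpr ⟨hKsQ h1, hd⟩
      rw [hQD0, Subgroup.mem_bot] at h2
      exact h2
    · have h1 : Nat.card ↥(D0 ⊔ K) = Nat.card ↥D0 * Nat.card K :=
        Cfsg.Agent.Lib.Helper90.BG14D.card_sup_of_le_normalizer hKD0 hD0K
      rw [h1, ha, hD0c]
      apply Nat.Coprime.pow_left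
      exact Nat.Coprime.mul_right hmq.symm hKq.symm
    · intro k hk hk1
      have h1 : ∀ T : Subgroup G, Q ⊓ T = Q ⊓ (S ⊓ T) := by
        intro T
        rw [← inf_assoc, inf_eq_left.mpr hQS]
      rw [h1 (centralizer ({k} : Set G)), h1 (centralizer (K : Set G)), h30 k hk hk1]
    · rw [hKsEq]
  obtain ⟨hKprime, hQnorm0, hlt0, hcard0, hpc0, hnb0, -⟩ := hFQ.structure_thm
  set Q0 : Subgroup G := Q ⊓ centralizer (D0 : Set G) with hQ0def
  -- `M` normalizes `Q₀`
  have hMQ0 : M ≤ normalizer (Q0 : Set G) := by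
    have h1 : D0 ⊔ K ≤ normalizer (Q0 : Set G) := le_normalizer_of_forall_conj_mem hFQ.Q0_inv
    intro x hx
    obtain ⟨k, hk, s, hs, rfl⟩ := hE.2.2.2 x hx
    obtain ⟨b, hb, d, hd, rfl⟩ := hcompl0.2.2.2 s hs
    exact Subgroup.mul_mem _ (h1 (Subgroup.mem_sup_right hk))
      (Subgroup.mul_mem _ (hQnorm0 hb) (h1 (Subgroup.mem_sup_left hd)))
  -- `q ∈ β(M)`
  have hqM : q ∣ Nat.card M := dvd_trans hqS (Subgroup.card_dvd_of_le hSM)
  have hβ : q ∈ beta M := by
    by_contra hβ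
    obtain ⟨P, N, hNn, hNc⟩ := ((Cfsg.Agent.S1414.result hG M hM).2.2.2.2 q hq hqM hβ).2.1
    set Q1 : Subgroup ↥S := Q.subgroupOf S with hQ1def
    have hQ1p : IsPGroup q ↥Q1 := hQp.comap_of_injective S.subtype S.subtype_injective
    have hQ1idx : ¬ q ∣ Q1.index := hrel
    haveI hQ1n : Q1.Normal :=
      (Subgroup.normal_subgroupOf_iff_le_normalizer hQS).mpr (hSM.trans hMQ)
    set Q1s : Sylow q ↥S := hQ1p.toSylow hQ1idx with hQ1sdef
    have hQ1s : (Q1s : Subgroup ↥S) = Q1 := IsPGroup.toSylow_coe hQ1p hQ1idx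
    haveI : (Q1s : Subgroup ↥S).Normal := by rw [hQ1s]; exact hQ1n
    have hPQ : (P : Subgroup ↥S) = Q1 := by
      obtain ⟨g, hg⟩ := MulAction.exists_smul_eq ↥S Q1s P
      rw [Sylow.smul_eq_of_normal] at hg
      rw [← hg, hQ1s]
    rw [hPQ] at hNc
    set D1 : Subgroup G := N.map S.subtype with hD1def
    have hD1S : D1 ≤ S := Subgroup.map_subtype_le _
    have hmemD1 : ∀ x : ↥S, x ∈ N ↔ (x : G) ∈ D1 := by
      intro x
      constructor
      · intro hx; exact ⟨x, hx, rfl⟩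
      · rintro ⟨y, hy, hyx⟩
        have : y = x := Subtype.ext hyx
        rwa [← this]
    have hdisj1 : Q ⊓ D1 = ⊥ := by
      rw [eq_bot_iff]
      intro x hx
      obtain ⟨hxQ, hxD⟩ := Subgroup.mem_inf.mp hx
      have hxS : x ∈ S := hQS hxQ
      have h1 : (⟨x, hxS⟩ : ↥S) ∈ N ⊓ Q1 :=
        Subgroup.mem_inf.mpr ⟨(hmemD1 ⟨x, hxS⟩).mpr hxD, Subgroup.mem_subgroupOf.mpr hxQ⟩
      rw [hNc.disjoint.eq_bot, Subgroup.mem_bot] at h1
      rw [Subgroup.mem_bot]
      exact congrArg Subtype.val h1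
    have hcompl1 : IsComplIn Q D1 S := by
      refine ⟨hQS, hD1S, hdisj1, ?_⟩
      intro s hs
      obtain ⟨⟨x, y⟩, hxy, -⟩ := hNc.symm.existsUnique (⟨s, hs⟩ : ↥S)
      refine ⟨(x : ↥S), Subgroup.mem_subgroupOf.mp x.2, (y : ↥S), (hmemD1 _).mp y.2, ?_⟩
      have := congrArg Subtype.val hxy
      simpa using this.symm
    apply hnc D1 hcompl1
    intro d hd
    rw [Subgroup.mem_centralizer_iff]
    intro b hb
    have hdS : d ∈ S := hD1S hd
    have hbS : b ∈ S := hQS hb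
    have h1 : b * d * b⁻¹ * d⁻¹ ∈ Q ⊓ D1 := by
      refine Subgroup.mem_inf.mpr ⟨?_, ?_⟩
      · have h2 : d * b⁻¹ * d⁻¹ ∈ Q :=
          conj_mem_of_le_normalizer hMQ d (hSM hdS) _ (Q.inv_mem hb)
        have h3 : b * d * b⁻¹ * d⁻¹ = b * (d * b⁻¹ * d⁻¹) := by group
        rw [h3]
        exact Q.mul_mem hb h2
      · have h2 : (⟨b, hbS⟩ : ↥S) * ⟨d, hdS⟩ * (⟨b, hbS⟩ : ↥S)⁻¹ ∈ N :=
          hNn.conj_mem _ ((hmemD1 ⟨d, hdS⟩).mpr hd) _
        have h3 : b * d * b⁻¹ ∈ D1 := (hmemD1 _).mp h2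
        exact D1.mul_mem h3 (D1.inv_mem hd)
    rw [hdisj1, Subgroup.mem_bot] at h1
    calc b * d = (b * d * b⁻¹ * d⁻¹) * (d * b) := by group
      _ = d * b := by rw [h1, one_mul]
  refine ⟨hqσ, hKsQ, hQS, hKprime, hβ, hrel, ?_⟩
  intro D hD
  have hDnil := hnilD D hD
  have hDc : Nat.card ↥D = m := by
    have h1 := Cfsg.Agent.Lib.Helper31.IsComplIn.card_mul hD
    have hpos : 0 < Nat.card ↥Q := Nat.card_pos
    have h2 : Nat.card ↥Q * Nat.card ↥D = Nat.card ↥Q * m := by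
      rw [h1, hcardS, mul_comm]
    exact Nat.eq_of_mul_eq_mul_left hpos h2
  obtain ⟨g, hgS, hgD⟩ := Cfsg.Agent.Lib.Helper32.hall_conj_in S hSsol m (Nat.card ↥Q) hcardS hmQ
    hD0S hD.2.1 hD0c hDc
  have hgM : g ∈ M := hSM hgS
  have hEq : Q ⊓ centralizer (D : Set G) = Q0 :=
    inf_centralizer_conj_eq hgD (hMQ hgM) (hMQ0 hgM)
  rw [hEq]
  refine ⟨hDnil, hMQ0, hlt0, hcard0, hpc0, ?_⟩
  intro N h1 h2 hMN
  exact hnb0 N h1 h2 (conj_mem_of_le_normalizer (hD0KM.trans hMN))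

end Cfsg.Agent.Lib.Helper78.BG152
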