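import Mathlib
import Cfsg.Agent.S1431
import Cfsg.Agent.Lib.Helper78.BG152D
import Cfsg.Agent.Lib.Helper55.Uniq3

/-!
# BG Theorem 15.2: the statements S1437 and S1357, given `|K*|` prime (= S1373)

`s1437_of` and `s1357_of` are the two frozen rows with the extra hypothesis
`hq : K ≠ ⊥ → (Nat.card K*).Prime`.
-/

set_option autoImplicit false
set_option linter.unusedSectionVars false
set_option linter.unusedVariables false
set_option linter.style.haveILetI false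

namespace Cfsg.Agent.Lib.Helper78.BG152

open Cfsg Subgroup Cfsg.Agent.Lib.Helper55

variable {G : Type*} [Group G] [Finite G]

/-- a normal Sylow `q`-subgroup `O_q(M)` of `M` lies in `M_F` -/
theorem pCoreOf_le_fittingHallOf {M : Subgroup G} {q : ℕ}
    (hHall : IsPiHallOf (sigma M) (sigmaCore M) M) (hqσ : q ∈ sigma M)
    (hQS : pCoreOf q M ≤ sigmaCore M)
    (hrel : ¬ q ∣ (pCoreOf q M).relIndex (sigmaCore M)) : pCoreOf q M ≤ fittingHallOf M := by
  have hq : q.Prime := hqσ.1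
  haveI : Fact q.Prime := ⟨hq⟩
  have hidx : (pCore q ↥M).index = (pCoreOf q M).relIndex M := by
    unfold Subgroup.relIndex Subgroup.subgroupOf pCoreOf
    rw [Subgroup.comap_map_eq_self_of_injective M.subtype_injective]
  have h1 := Subgroup.relIndex_mul_relIndex (pCoreOf q M) (sigmaCore M) M hQS hHall.1
  have hnd : ¬ q ∣ (pCore q ↥M).index := by
    rw [hidx, ← h1]
    intro hd
    rcases (Nat.Prime.dvd_mul hq).mp hd with h | h
    · exact hrel h
    · exact hHall.2.2 q hq hqσ h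
  unfold pCoreOf fittingHallOf
  apply Subgroup.map_mono
  apply le_sSup
  have hQp : IsPGroup q ↥(pCore q ↥M) := Cfsg.Agent.Lib.Helper01.pCore_isPGroup q
  refine ⟨Cfsg.Agent.Lib.Helper01.pCore_normal q, hQp.isNilpotent, ?_⟩
  obtain ⟨n, hn⟩ := IsPGroup.iff_card.mp hQp
  rw [hn]
  apply Nat.Coprime.pow_left
  exact (Nat.Prime.coprime_iff_not_dvd hq).mpr hnd

/-- **S1437 given S1373.** -/
theorem s1437_of (hG : IsMinSimpleOddOrder G)
    (M : Subgroup G) (hM : IsCoatom M) (K U : Subgroup G) (hKU : IsSigmaDecomposition M K U)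
    (hne : fittingHallOf M ≠ sigmaCore M)
    (hq : K ≠ ⊥ → U = ⊥ → (Nat.card ↥(sigmaCore M ⊓ centralizer (K : Set G))).Prime) :
    U = ⊥ ∧ sigmaCore M = ⁅M, M⁆ ∧ (Nat.card K).Prime ∧
      (Nat.card ↥(sigmaCore M ⊓ centralizer (K : Set G))).Prime ∧
      Nat.card ↥(sigmaCore M ⊓ centralizer (K : Set G)) ∣ Nat.card (fittingHallOf M) ∧
      Nat.card ↥(sigmaCore M ⊓ centralizer (K : Set G)) ∈ beta M ∧
      ∃ Q : Subgroup G, Q ≤ fittingHallOf M ∧ M ≤ normalizer (Q : Set G) ∧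
        IsPGroup (Nat.card ↥(sigmaCore M ⊓ centralizer (K : Set G))) Q ∧
        ¬ Nat.card ↥(sigmaCore M ⊓ centralizer (K : Set G)) ∣ Q.relIndex (sigmaCore M) ∧
        ∀ D : Subgroup G, IsComplIn Q D (sigmaCore M) →
          Group.IsNilpotent D ∧
          M ≤ normalizer ((Q ⊓ centralizer (D : Set G) : Subgroup G) : Set G) ∧
          Q ⊓ centralizer (D : Set G) < Q ∧
          Nat.card Q = Nat.card ↥(Q ⊓ centralizer (D : Set G)) *
            Nat.card ↥(sigmaCore M ⊓ centralizer (K : Set G)) ^ Nat.card K ∧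
          (∀ a ∈ Q, ∀ b ∈ Q,
            a ^ Nat.card ↥(sigmaCore M ⊓ centralizer (K : Set G)) ∈
              Q ⊓ centralizer (D : Set G) ∧
            a * b * a⁻¹ * b⁻¹ ∈ Q ⊓ centralizer (D : Set G)) ∧
          ∀ N : Subgroup G, Q ⊓ centralizer (D : Set G) < N → N < Q →
            ¬ M ≤ normalizer (N : Set G) := by
  have hnn := not_nilpotent_of_ne hG hM hne
  obtain ⟨hU, hK1, hcomm, hE⟩ := basic hG hM hKU hnn
  have hq' := hq hK1 hU
  obtain ⟨hqσ, hKsQ, hQS, hKprime, hβ, hrel, hD⟩ := structure_Q hG hM hKU.hall hK1 hE hnn hq'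
  obtain ⟨hHall, -, -⟩ := Cfsg.Agent.S1350.result hG M hM
  have hQF := pCoreOf_le_fittingHallOf hHall hqσ hQS hrel
  refine ⟨hU, hcomm, hKprime, hq', ?_, hβ, _, hQF,
    Cfsg.Agent.Lib.Helper54.le_normalizer_pCoreOf _ M,
    Cfsg.Agent.Lib.Helper54.isPGroup_pCoreOf _ M, hrel, hD⟩
  exact Subgroup.card_dvd_of_le (hKsQ.trans hQF)

/-- `M` normalizes `F(M)` -/
theorem le_normalizer_fittingOf' (M : Subgroup G) :
    M ≤ normalizer ((fittingOf M : Subgroup G) : Set G) := by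
  have hn : (fittingSubgroup ↥M).Normal := Cfsg.Agent.Lib.Helper76.fittingSubgroup_normal
  apply le_normalizer_of_forall_conj_mem
  rintro m hm _ ⟨k', hk', rfl⟩
  exact ⟨(⟨m, hm⟩ : ↥M) * k' * (⟨m, hm⟩ : ↥M)⁻¹, hn.conj_mem k' hk' _, rfl⟩

/-- **the TI clause of BG 15.2** -/
theorem fitting_TI (hG : IsMinSimpleOddOrder G) {M K : Subgroup G} (hM : IsCoatom M)
    (hK : IsPiHallOf (kappa M) K M) (hK1 : K ≠ ⊥) (hE : IsComplIn K (sigmaCore M) M)
    (hnn : ¬ Group.IsNilpotent ↥(sigmaCore M))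
    (hq : (Nat.card ↥(sigmaCore M ⊓ centralizer (K : Set G))).Prime) :
    IsTISubset ((fittingOf M : Subgroup G) : Set G) := by
  classical
  obtain ⟨hqσ, hKsQ, hQS, -, hβ, hrel, -⟩ := structure_Q hG hM hK hK1 hE hnn hq
  set S : Subgroup G := sigmaCore M with hSdef
  set q : ℕ := Nat.card ↥(S ⊓ centralizer (K : Set G)) with hqdef
  haveI : Fact q.Prime := ⟨hq⟩
  set Q : Subgroup G := pCoreOf q M with hQdef
  have hSM : S ≤ M := hE.2.1
  have hKM : K ≤ M := hE.1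
  have hQM : Q ≤ M := hQS.trans hSM
  have hQp : IsPGroup q ↥Q := Cfsg.Agent.Lib.Helper54.isPGroup_pCoreOf q M
  have hQmem : ∀ u : ↥M, u ∈ pCore q ↥M → (u : G) ∈ Q := fun u hu => ⟨u, hu, rfl⟩
  -- `Q` lies in a unique maximal subgroup
  have hQuniq : InUniqueMaximal Q := by
    set Q1 : Subgroup ↥S := Q.subgroupOf S with hQ1def
    have hQ1p : IsPGroup q ↥Q1 := hQp.comap_of_injective S.subtype S.subtype_injective
    have hQ1idx : ¬ q ∣ Q1.index := hrel
    have h1 := ((Cfsg.Agent.S1431.result hG M hM K hK hK1).2.2.1 q hq (dvd_refl q)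
      (hQ1p.toSylow hQ1idx)).1
    rwa [IsPGroup.toSylow_coe, hQ1def, Subgroup.subgroupOf_map_subtype, inf_eq_left.mpr hQS]
      at h1
  have hQM' : ∀ L : Subgroup G, IsCoatom L → Q ≤ L → L = M := by
    intro L hL hQL
    obtain ⟨M0, -, huniq⟩ := hQuniq
    rw [huniq L ⟨hL, hQL⟩, huniq M ⟨hM, hQM⟩]
  have hM1 : M ≠ ⊥ := by
    intro h
    apply hK1
    rw [eq_bot_iff, ← h]
    exact hKM
  have hNM : normalizer (M : Set G) = M := ms_normalizer_eq hG hM hM1 le_rfl Subgroup.le_normalizer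
  intro g hg x hx hgx
  by_contra hx1
  have hgM : g ∉ M := fun h => hg (le_normalizer_fittingOf' M h)
  change x ∈ (fittingSubgroup ↥M).map M.subtype at hx
  change g * x * g⁻¹ ∈ (fittingSubgroup ↥M).map M.subtype at hgx
  obtain ⟨x₀, hx₀, hxx⟩ := Subgroup.mem_map.mp hx
  obtain ⟨y₀, hy₀, hyy⟩ := Subgroup.mem_map.mp hgx
  have hxx' : (x₀ : G) = x := hxx
  have hyy' : (y₀ : G) = g * x * g⁻¹ := hyy
  have hx₀1 : x₀ ≠ 1 := by
    intro h
    apply hx1
    rw [← hxx', h]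
    rfl
  have hn0 : orderOf x₀ ≠ 0 := (orderOf_pos x₀).ne'
  obtain ⟨e, n', hn', hn⟩ := Nat.exists_eq_pow_mul_and_not_dvd hn0 q hq.one_lt.ne'
  have hypow : ∀ j : ℕ, ((y₀ ^ j : ↥M) : G) = g * ((x₀ ^ j : ↥M) : G) * g⁻¹ := by
    intro j
    rw [Subgroup.coe_pow, Subgroup.coe_pow, hyy', hxx', conj_pow]
  by_cases hn'1 : n' = 1
  · -- `x` is a `q`-element
    rw [hn'1, mul_one] at hn
    have hxq : x₀ ^ (q ^ e) = 1 := by rw [← hn]; exact pow_orderOf_eq_one x₀
    have hyq : y₀ ^ (q ^ e) = 1 := by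
      apply Subtype.ext
      rw [hypow, hxq]
      simp
    have hyQ : (y₀ : G) ∈ Q :=
      hQmem y₀ (Cfsg.Agent.Lib.Helper59.Bender.mem_pCore_of_pow q hy₀ hyq)
    have hy1 : (y₀ : G) ≠ 1 := by
      rw [hyy']
      intro h
      apply hx1
      have : x = g⁻¹ * (g * x * g⁻¹) * g := by group
      rw [this, h]
      group
    have hyI : (y₀ : G) ∈ S ⊓ M.map (MulAut.conj g).toMonoidHom := by
      refine Subgroup.mem_inf.mpr ⟨hQS hyQ, ?_⟩
      refine ⟨x, ?_, ?_⟩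
      · rw [← hxx']; exact x₀.2
      · rw [hyy']; rfl
    have hord : orderOf (y₀ : G) ∣ q ^ e := by
      apply orderOf_dvd_of_pow_eq_one
      have := congrArg Subtype.val hyq
      simpa using this
    obtain ⟨k, -, hk⟩ := (Nat.dvd_prime_pow hq).mp hord
    have hk0 : k ≠ 0 := by
      intro h
      rw [h, pow_zero, orderOf_eq_one_iff] at hk
      exact hy1 hk
    have hqI : q ∣ Nat.card ↥(S ⊓ M.map (MulAut.conj g).toMonoidHom) := by
      have h1 : orderOf (y₀ : G) ∣ Nat.card ↥(S ⊓ M.map (MulAut.conj g).toMonoidHom) :=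
        Subgroup.orderOf_dvd_natCard _ hyI
      rw [hk] at h1
      exact dvd_trans (dvd_pow_self q hk0) h1
    exact ((Cfsg.Agent.S1426.result hG M hM K hE).2.2 g hgM).2.1 q hq hqI hβ
  · -- the `q'`-part of `x`
    set z₀ : ↥M := x₀ ^ (q ^ e) with hz₀def
    set w₀ : ↥M := y₀ ^ (q ^ e) with hw₀def
    have hz₀F : z₀ ∈ fittingSubgroup ↥M := Subgroup.pow_mem _ hx₀ _
    have hw₀F : w₀ ∈ fittingSubgroup ↥M := Subgroup.pow_mem _ hy₀ _
    have hzn : z₀ ^ n' = 1 := by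
      rw [hz₀def, ← pow_mul, ← hn]; exact pow_orderOf_eq_one x₀
    have hwn : w₀ ^ n' = 1 := by
      rw [hw₀def, ← pow_mul]
      apply Subtype.ext
      rw [hypow, ← hn, pow_orderOf_eq_one]
      simp
    have hcopq : n'.Coprime q := ((Nat.Prime.coprime_iff_not_dvd hq).mpr hn').symm
    have hzc : (orderOf z₀).Coprime q :=
      Nat.Coprime.coprime_dvd_left (orderOf_dvd_of_pow_eq_one hzn) hcopq
    have hwc : (orderOf w₀).Coprime q :=
      Nat.Coprime.coprime_dvd_left (orderOf_dvd_of_pow_eq_one hwn) hcopq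
    have hz₀1 : z₀ ≠ 1 := by
      intro h
      have h1 : orderOf x₀ ∣ q ^ e := orderOf_dvd_of_pow_eq_one h
      rw [hn] at h1
      have h2 : q ^ e * n' ∣ q ^ e * 1 := by rwa [mul_one]
      have h3 : n' ∣ 1 := Nat.dvd_of_mul_dvd_mul_left (pow_pos hq.pos e) h2
      exact hn'1 (Nat.dvd_one.mp h3)
    have hzcomm : ∀ u ∈ pCore q ↥M, z₀ * u = u * z₀ := fun u hu =>
      Cfsg.Agent.Lib.Helper59.Bender.commute_nPart_pCore q
        (Subgroup.mem_sup_right (Cfsg.Agent.Lib.Helper59.Bender.mem_fitPrime_of_coprime q hz₀F hzc))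
        hu
    have hwcomm : ∀ u ∈ pCore q ↥M, w₀ * u = u * w₀ := fun u hu =>
      Cfsg.Agent.Lib.Helper59.Bender.commute_nPart_pCore q
        (Subgroup.mem_sup_right (Cfsg.Agent.Lib.Helper59.Bender.mem_fitPrime_of_coprime q hw₀F hwc))
        hu
    have hwz : (w₀ : G) = g * (z₀ : G) * g⁻¹ := hypow (q ^ e)
    have hw1 : (w₀ : G) ≠ 1 := by
      rw [hwz]
      intro h
      apply hz₀1
      apply Subtype.ext
      have : (z₀ : G) = g⁻¹ * (g * (z₀ : G) * g⁻¹) * g := by group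
      rw [this, h]
      simp
    have hQC : Q ≤ centralizer ({(w₀ : G)} : Set G) := by
      rintro _ ⟨u, hu, rfl⟩
      rw [Subgroup.mem_centralizer_iff]
      intro t ht
      rw [Set.mem_singleton_iff] at ht
      subst ht
      exact congrArg Subtype.val (hwcomm u hu)
    have hQgC : cj g Q ≤ centralizer ({(w₀ : G)} : Set G) := by
      rintro _ ⟨b, ⟨u, hu, rfl⟩, rfl⟩
      rw [Subgroup.mem_centralizer_iff]
      intro t ht
      rw [Set.mem_singleton_iff] at ht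
      subst ht
      have h1 : (z₀ : G) * (u : G) = (u : G) * (z₀ : G) := congrArg Subtype.val (hzcomm u hu)
      show (w₀ : G) * (g * (M.subtype u) * g⁻¹) = (g * (M.subtype u) * g⁻¹) * (w₀ : G)
      rw [hwz, Subgroup.coe_subtype]
      calc g * (z₀ : G) * g⁻¹ * (g * (u : G) * g⁻¹) = g * ((z₀ : G) * (u : G)) * g⁻¹ := by group
        _ = g * ((u : G) * (z₀ : G)) * g⁻¹ := by rw [h1]
        _ = g * (u : G) * g⁻¹ * (g * (z₀ : G) * g⁻¹) := by group
    obtain ⟨L, hL, hCL⟩ := ms_exists_coatom_ge (centralizer_singleton_ne_top hG hw1)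
    have hLM : L = M := hQM' L hL (hQC.trans hCL)
    have h1 : cj g Q ≤ M := hLM ▸ (hQgC.trans hCL)
    have h2 : Q ≤ cj g⁻¹ M := cj_le_iff.mp h1
    have h3 : cj g⁻¹ M = M := hQM' _ (isCoatom_cj g⁻¹ hM) h2
    have h4 : g⁻¹ ∈ normalizer (M : Set G) := cj_eq_self_iff.mp h3
    rw [hNM] at h4
    exact hgM (by simpa using M.inv_mem h4)

/-- **S1357 given S1373.** -/
theorem s1357_of (hG : IsMinSimpleOddOrder G)
    (M : Subgroup G) (hM : IsCoatom M) (K U : Subgroup G) (hKU : IsSigmaDecomposition M K U)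
    (hne : fittingHallOf M ≠ sigmaCore M)
    (hq : K ≠ ⊥ → U = ⊥ → (Nat.card ↥(sigmaCore M ⊓ centralizer (K : Set G))).Prime) :
    U = ⊥ ∧ IsTISubset ((fittingOf M : Subgroup G) : Set G) ∧ (Nat.card K).Prime := by
  have hnn := not_nilpotent_of_ne hG hM hne
  obtain ⟨hU, hK1, hcomm, hE⟩ := basic hG hM hKU hnn
  have hq' := hq hK1 hU
  obtain ⟨-, -, -, hKprime, -⟩ := structure_Q hG hM hKU.hall hK1 hE hnn hq'
  exact ⟨hU, fitting_TI hG hM hKU.hall hK1 hE hnn hq', hKprime⟩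

end Cfsg.Agent.Lib.Helper78.BG152
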