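import Mathlib
import Cfsg.Agent.S2427
import Cfsg.Agent.Lib.Helper59.QuaternionIso

set_option autoImplicit false

/-!
# Recognition of `SL(2,3)`

A finite group of order 24 generated by a "binary tetrahedral triple" `(i, j, w)`:
`i` of order 4, `j² = i²`, `j i j⁻¹ = i⁻¹`, `w i w⁻¹ = j`, `w j w⁻¹ = i j`, `w³ = 1`
is isomorphic to `SL(2, 𝔽₃)` (`nonempty_mulEquiv_SL23`).
-/

namespace Cfsg.Agent.Lib.Helper78

open QuaternionGroup

/-- A binary tetrahedral triple. -/
structure BTTriple {X : Type*} [Group X] (i j w : X) : Prop where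
  hi : orderOf i = 4
  hjj : j * j = i * i
  hji : j * i * j⁻¹ = i⁻¹
  hwi : w * i * w⁻¹ = j
  hwj : w * j * w⁻¹ = i * j
  hw3 : w ^ 3 = 1

/-! ### The model `Q₈ ⋊ C₃` -/

/-- The order-3 automorphism of `Q₈` as a function. -/
def sigmaFun : QuaternionGroup 2 → QuaternionGroup 2
  | a i => match i.val with
    | 0 => a 0
    | 1 => xa 0
    | 2 => a 2
    | _ => xa 2
  | xa i => match i.val with
    | 0 => xa 3
    | 1 => a 3
    | 2 => xa 1
    | _ => a 1

set_option maxRecDepth 100000 in
theorem sigmaFun_mul : ∀ p q : QuaternionGroup 2, sigmaFun (p * q) = sigmaFun p * sigmaFun q := by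
  decide +kernel

set_option maxRecDepth 100000 in
theorem sigmaFun_cube : ∀ p : QuaternionGroup 2, sigmaFun (sigmaFun (sigmaFun p)) = p := by
  decide +kernel

/-- The order-3 automorphism of `Q₈`. -/
def sigma : MulAut (QuaternionGroup 2) where
  toFun := sigmaFun
  invFun := fun p => sigmaFun (sigmaFun p)
  left_inv := sigmaFun_cube
  right_inv := sigmaFun_cube
  map_mul' := sigmaFun_mul

theorem sigma_apply (p : QuaternionGroup 2) : sigma p = sigmaFun p := rfl

theorem sigma_pow_three : sigma ^ 3 = 1 := by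
  ext p
  rw [pow_succ, pow_two, MulAut.mul_apply, MulAut.mul_apply, MulAut.one_apply]
  exact sigmaFun_cube p

/-- The homomorphism from `C₃` to a group sending the generator to an element of order dividing 3. -/
def c3Hom {X : Type*} [Group X] (w : X) (hw : w ^ 3 = 1) : Multiplicative (ZMod 3) →* X :=
  AddMonoidHom.toMultiplicativeLeft
    (ZMod.lift 3 ⟨zmultiplesHom (Additive X) (Additive.ofMul w), by
      show ((3 : ℕ) : ℤ) • Additive.ofMul w = 0
      rw [natCast_zsmul, ← ofMul_pow, hw]; rfl⟩)

theorem c3Hom_gen {X : Type*} [Group X] (w : X) (hw : w ^ 3 = 1) :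
    c3Hom w hw (Multiplicative.ofAdd 1) = w := by
  unfold c3Hom
  simp only [AddMonoidHom.coe_toMultiplicativeLeft, Function.comp_apply, toAdd_ofAdd]
  have h1 : ((ZMod.lift 3) ⟨(zmultiplesHom (Additive X)) (Additive.ofMul w), by
      show ((3 : ℕ) : ℤ) • Additive.ofMul w = 0
      rw [natCast_zsmul, ← ofMul_pow, hw]; rfl⟩) ((1 : ℤ) : ZMod 3)
      = (zmultiplesHom (Additive X)) (Additive.ofMul w) 1 := ZMod.lift_coe _ _ _
  rw [Int.cast_one] at h1
  rw [h1]
  simp

theorem c3_cases (g : Multiplicative (ZMod 3)) :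
    g = 1 ∨ g = Multiplicative.ofAdd 1 ∨ g = Multiplicative.ofAdd 1 * Multiplicative.ofAdd 1 := by
  revert g
  decide

/-- The action of `C₃` on `Q₈`. -/
def phi : Multiplicative (ZMod 3) →* MulAut (QuaternionGroup 2) := c3Hom sigma sigma_pow_three

theorem phi_gen : phi (Multiplicative.ofAdd 1) = sigma := c3Hom_gen _ _

/-- The model group `Q₈ ⋊ C₃`. -/
abbrev BT := QuaternionGroup 2 ⋊[phi] Multiplicative (ZMod 3)

theorem card_BT : Nat.card BT = 24 := by
  rw [SemidirectProduct.card, Nat.card_eq_fintype_card, QuaternionGroup.card]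
  have : Nat.card (Multiplicative (ZMod 3)) = 3 := by
    rw [Nat.card_eq_fintype_card]; rfl
  rw [this]

/-- Homomorphisms out of `Q₈` are determined by the images of `a 1` and `xa 0`. -/
theorem quat_hom_ext {X : Type*} [Group X] (f g : QuaternionGroup 2 →* X)
    (h1 : f (a 1) = g (a 1)) (h2 : f (xa 0) = g (xa 0)) : f = g := by
  have ha : ∀ i : ZMod (2 * 2), f (a i) = g (a i) := by
    intro i
    have : (a i : QuaternionGroup 2) = (a 1) ^ i.val := by
      rw [QuaternionGroup.a_one_pow, ZMod.natCast_zmod_val]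
    rw [this, map_pow, map_pow, h1]
  ext q
  cases q with
  | a i => exact ha i
  | xa i =>
    have : (xa i : QuaternionGroup 2) = xa 0 * a i := by
      rw [QuaternionGroup.xa_mul_a, zero_add]
    rw [this, map_mul, map_mul, h2, ha i]

section recognition

variable {X : Type*} [Group X] {i j w : X}

/-- The map `Q₈ → X` attached to a triple. -/
noncomputable def BTTriple.fn (h : BTTriple i j w) : QuaternionGroup 2 →* X :=
  Cfsg.Agent.Lib.Helper59.quatHom 2 i j
    (by have h4 : (2 * 2 : ℕ) = orderOf i := by rw [h.hi]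
        rw [h4]; exact pow_orderOf_eq_one i) (by rw [pow_two]; exact h.hjj) h.hji

theorem BTTriple.fn_a_one (h : BTTriple i j w) : h.fn (a 1) = i := by
  unfold BTTriple.fn
  rw [Cfsg.Agent.Lib.Helper59.quatHom_a]
  unfold Cfsg.Agent.Lib.Helper59.zpw
  have : (1 : ZMod (2 * 2)).val = 1 := by decide
  rw [this, pow_one]

theorem BTTriple.fn_xa_zero (h : BTTriple i j w) : h.fn (xa 0) = j := by
  unfold BTTriple.fn
  rw [Cfsg.Agent.Lib.Helper59.quatHom_xa]
  unfold Cfsg.Agent.Lib.Helper59.zpw
  have : (0 : ZMod (2 * 2)).val = 0 := by decide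
  rw [this, pow_zero, mul_one]

theorem BTTriple.i_ne_one (h : BTTriple i j w) : i * i ≠ 1 := by
  intro h1
  have : orderOf i ∣ 2 := orderOf_dvd_of_pow_eq_one (by rw [pow_two]; exact h1)
  rw [h.hi] at this
  omega

theorem BTTriple.j_not_mem (h : BTTriple i j w) : j ∉ Subgroup.zpowers i := by
  intro hj
  -- then j commutes with i, so i = i⁻¹
  obtain ⟨k, hk⟩ := Subgroup.mem_zpowers_iff.mp hj
  have hcomm : j * i = i * j := by
    rw [← hk, ← zpow_add_one, ← zpow_one_add]
    rw [add_comm]
  have h1 : j * i * j⁻¹ = i := by rw [hcomm]; group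
  rw [h.hji] at h1
  apply h.i_ne_one
  calc i * i = i * i⁻¹ := by rw [h1]
    _ = 1 := mul_inv_cancel i

theorem BTTriple.fn_injective (h : BTTriple i j w) : Function.Injective h.fn := by
  unfold BTTriple.fn
  exact Cfsg.Agent.Lib.Helper59.quatHom_injective 2 i j h.hi (by rw [pow_two]; exact h.hjj) h.hji
    h.j_not_mem

theorem BTTriple.w_ne_one (h : BTTriple i j w) : w ≠ 1 := by
  intro hw
  have h1 := h.hwi
  rw [hw] at h1
  have hij : i = j := by simpa using h1
  apply h.j_not_mem
  rw [← hij]; exact Subgroup.mem_zpowers i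

/-- The compatibility of `fn` with the automorphism `sigma`. -/
theorem BTTriple.fn_sigma (h : BTTriple i j w) :
    h.fn.comp sigma.toMonoidHom = (MulAut.conj w).toMonoidHom.comp h.fn := by
  apply quat_hom_ext
  · show h.fn (sigma (a 1)) = MulAut.conj w (h.fn (a 1))
    have : sigma (a 1) = (xa 0 : QuaternionGroup 2) := by decide +kernel
    rw [this, h.fn_xa_zero, h.fn_a_one, MulAut.conj_apply, h.hwi]
  · show h.fn (sigma (xa 0)) = MulAut.conj w (h.fn (xa 0))
    have : sigma (xa 0) = (a 1 * xa 0 : QuaternionGroup 2) := by decide +kernel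
    rw [this, map_mul, h.fn_xa_zero, h.fn_a_one, MulAut.conj_apply, h.hwj]

theorem BTTriple.compat (h : BTTriple i j w) (g : Multiplicative (ZMod 3)) :
    h.fn.comp (phi g).toMonoidHom = (MulAut.conj (c3Hom w h.hw3 g)).toMonoidHom.comp h.fn := by
  have hgen : h.fn.comp (phi (Multiplicative.ofAdd 1)).toMonoidHom =
      (MulAut.conj (c3Hom w h.hw3 (Multiplicative.ofAdd 1))).toMonoidHom.comp h.fn := by
    rw [phi_gen, c3Hom_gen]; exact h.fn_sigma
  rcases c3_cases g with rfl | rfl | rfl
  · ext q; simp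
  · exact hgen
  · ext q
    have e1 := fun q => DFunLike.congr_fun hgen q
    simp only [MonoidHom.comp_apply, MulEquiv.coe_toMonoidHom] at e1
    simp only [MonoidHom.comp_apply, MulEquiv.coe_toMonoidHom, map_mul, MulAut.mul_apply]
    rw [e1, e1]

/-- The homomorphism from the model to `X`. -/
noncomputable def BTTriple.hom (h : BTTriple i j w) : BT →* X :=
  SemidirectProduct.lift h.fn (c3Hom w h.hw3) h.compat

theorem BTTriple.hom_injective (h : BTTriple i j w) : Function.Injective h.hom := by
  rw [injective_iff_map_eq_one]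
  intro x hx
  have hx' : h.fn x.left * c3Hom w h.hw3 x.right = 1 := hx
  -- the Q₈ part has order dividing 8, the C₃ part order dividing 3
  have h8 : (h.fn x.left) ^ 8 = 1 := by
    rw [← map_pow]
    have : x.left ^ 8 = 1 := by
      have := pow_card_eq_one' (G := QuaternionGroup 2) (x := x.left)
      rwa [Nat.card_eq_fintype_card, QuaternionGroup.card] at this
    rw [this, map_one]
  have h3 : (c3Hom w h.hw3 x.right) ^ 3 = 1 := by
    rw [← map_pow]
    have : x.right ^ 3 = 1 := by
      have := pow_card_eq_one' (G := Multiplicative (ZMod 3)) (x := x.right)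
      have hc : Nat.card (Multiplicative (ZMod 3)) = 3 := by
        rw [Nat.card_eq_fintype_card]; rfl
      rwa [hc] at this
    rw [this, map_one]
  have hy : h.fn x.left = (c3Hom w h.hw3 x.right)⁻¹ := eq_inv_of_mul_eq_one_left hx'
  have h3' : (h.fn x.left) ^ 3 = 1 := by rw [hy, inv_pow, h3, inv_one]
  have h1 : h.fn x.left = 1 := by
    calc h.fn x.left = ((h.fn x.left) ^ 3) ^ 3 * ((h.fn x.left) ^ 8)⁻¹ := by group
      _ = 1 := by rw [h3', h8]; simp
  have hl : x.left = 1 := by
    apply h.fn_injective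
    rw [h1, map_one]
  have h2 : c3Hom w h.hw3 x.right = 1 := by
    rw [h1, one_mul] at hx'; exact hx'
  have hr : x.right = 1 := by
    rcases c3_cases x.right with hg | hg | hg
    · exact hg
    · exfalso
      rw [hg, c3Hom_gen] at h2
      exact h.w_ne_one h2
    · exfalso
      rw [hg, map_mul, c3Hom_gen] at h2
      apply h.w_ne_one
      calc w = w ^ 3 * (w * w)⁻¹ := by group
        _ = 1 := by rw [h.hw3, h2]; simp
  ext
  · exact hl
  · exact hr

/-- A group of order 24 with a binary tetrahedral triple is isomorphic to the model. -/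
theorem BTTriple.nonempty_mulEquiv_BT [Finite X] (h : BTTriple i j w) (hcard : Nat.card X = 24) :
    Nonempty (BT ≃* X) := by
  have hbij : Function.Bijective h.hom := by
    rw [Nat.bijective_iff_injective_and_card]
    exact ⟨h.hom_injective, by rw [card_BT, hcard]⟩
  exact ⟨MulEquiv.ofBijective _ hbij⟩

end recognition

/-! ### The triple in `SL(2,3)` -/

open Cfsg.Agent.S2427 in
/-- An element of order 3 in `SL(2,3)`. -/
def qW : Cfsg.Agent.S2427.G3 := ⟨!![0, 1; 2, 2], by decide⟩

set_option maxRecDepth 100000 in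
theorem bttriple_SL23 : BTTriple Cfsg.Agent.S2427.qI Cfsg.Agent.S2427.qJ qW where
  hi := by
    apply orderOf_eq_of_pow_and_pow_div_prime (by norm_num)
    · decide +kernel
    · intro p hp hdvd
      have hp2 : p = 2 := by
        have : p ∣ 2 ^ 2 := by simpa using hdvd
        exact (Nat.prime_dvd_prime_iff_eq hp Nat.prime_two).mp (hp.dvd_of_dvd_pow this)
      subst hp2
      decide +kernel
  hjj := by decide +kernel
  hji := by decide +kernel
  hwi := by decide +kernel
  hwj := by decide +kernel
  hw3 := by decide +kernel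

/-- **Recognition of `SL(2,3)`**. -/
theorem nonempty_mulEquiv_SL23 {X : Type*} [Group X] [Finite X] {i j w : X} (h : BTTriple i j w)
    (hcard : Nat.card X = 24) :
    Nonempty (X ≃* Matrix.SpecialLinearGroup (Fin 2) (ZMod 3)) := by
  obtain ⟨e1⟩ := h.nonempty_mulEquiv_BT hcard
  have hc : Nat.card Cfsg.Agent.S2427.G3 = 24 := by
    rw [Nat.card_eq_fintype_card]; exact Cfsg.Agent.S2427.card24
  obtain ⟨e2⟩ := bttriple_SL23.nonempty_mulEquiv_BT hc
  exact ⟨e1.symm.trans e2⟩

end Cfsg.Agent.Lib.Helper78
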