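import Mathlib
import Cfsg.Agent.Lib.Helper78.SL23Recognition

set_option autoImplicit false

/-!
# Sections isomorphic to `SL(2,3)`

* `BTTriple.nonempty_mulEquiv_of_closure`: a group generated by a binary tetrahedral triple is
  isomorphic to `SL(2,3)`.
* `exists_section_SL23`: elements `i, j, g` of a group with `i` of order 4, `j² = i²`,
  `j i j⁻¹ = i⁻¹`, `g i g⁻¹ = j`, `g j g⁻¹ = i j` and `g` of odd order give a section
  isomorphic to `SL(2,3)`.
-/

namespace Cfsg.Agent.Lib.Helper78

open QuaternionGroup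

theorem BTTriple.hom_surjective {X : Type*} [Group X] {i j w : X} (h : BTTriple i j w)
    (hgen : Subgroup.closure ({i, j, w} : Set X) = ⊤) : Function.Surjective h.hom := by
  rw [← MonoidHom.range_eq_top, eq_top_iff, ← hgen, Subgroup.closure_le]
  intro x hx
  rcases hx with rfl | rfl | rfl
  · refine ⟨SemidirectProduct.inl (a 1), ?_⟩
    unfold BTTriple.hom
    rw [SemidirectProduct.lift_inl, h.fn_a_one]
  · refine ⟨SemidirectProduct.inl (xa 0), ?_⟩
    unfold BTTriple.hom
    rw [SemidirectProduct.lift_inl, h.fn_xa_zero]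
  · refine ⟨SemidirectProduct.inr (Multiplicative.ofAdd 1), ?_⟩
    unfold BTTriple.hom
    rw [SemidirectProduct.lift_inr, c3Hom_gen]

/-- A group generated by a binary tetrahedral triple is isomorphic to `SL(2,3)`. -/
theorem BTTriple.nonempty_mulEquiv_of_closure {X : Type*} [Group X] {i j w : X}
    (h : BTTriple i j w) (hgen : Subgroup.closure ({i, j, w} : Set X) = ⊤) :
    Nonempty (X ≃* Matrix.SpecialLinearGroup (Fin 2) (ZMod 3)) := by
  have e1 : BT ≃* X := MulEquiv.ofBijective h.hom ⟨h.hom_injective, h.hom_surjective hgen⟩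
  have hc : Nat.card Cfsg.Agent.S2427.G3 = 24 := by
    rw [Nat.card_eq_fintype_card]; exact Cfsg.Agent.S2427.card24
  obtain ⟨e2⟩ := bttriple_SL23.nonempty_mulEquiv_BT hc
  exact ⟨e1.symm.trans e2⟩

/-- Elements `i, j, g` with the quaternion relations, `g` permuting `i → j → ij` and `g` of odd
order produce a section isomorphic to `SL(2,3)`. -/
theorem exists_section_SL23 {G : Type*} [Group G] (i j g : G) (hi : orderOf i = 4)
    (hjj : j * j = i * i) (hji : j * i * j⁻¹ = i⁻¹) (hgi : g * i * g⁻¹ = j)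
    (hgj : g * j * g⁻¹ = i * j) (k : ℕ) (hk : Odd k) (hgk : g ^ k = 1) :
    ∃ (H K : Subgroup G) (_ : (K.subgroupOf H).Normal),
      Nonempty ((H ⧸ K.subgroupOf H) ≃* Matrix.SpecialLinearGroup (Fin 2) (ZMod 3)) := by
  have hi4 : i ^ 4 = 1 := by rw [← hi]; exact pow_orderOf_eq_one i
  have hi2 : i * i ≠ 1 := by
    intro h1
    have : orderOf i ∣ 2 := orderOf_dvd_of_pow_eq_one (by rw [pow_two]; exact h1)
    rw [hi] at this
    omega
  have hiiii : i * i * (i * i) = 1 := by
    rw [← hi4]; simp only [pow_succ, pow_zero, one_mul, mul_assoc]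
  have e3 : g ^ 3 = g * g * g := by rw [pow_succ, pow_two]
  -- g³ centralizes i and j
  have hjij : j * (i * j) = i := by
    calc j * (i * j) = (j * i * j⁻¹) * (j * j) := by group
      _ = i⁻¹ * (i * i) := by rw [hji, hjj]
      _ = i := by group
  have hgij : g * (i * j) * g⁻¹ = i := by
    calc g * (i * j) * g⁻¹ = (g * i * g⁻¹) * (g * j * g⁻¹) := by group
      _ = j * (i * j) := by rw [hgi, hgj]
      _ = i := hjij
  have hg3i : g ^ 3 * i = i * g ^ 3 := by
    have : g ^ 3 * i * (g ^ 3)⁻¹ = i := by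
      calc g ^ 3 * i * (g ^ 3)⁻¹ = g * (g * (g * i * g⁻¹) * g⁻¹) * g⁻¹ := by rw [e3]; group
        _ = g * (g * j * g⁻¹) * g⁻¹ := by rw [hgi]
        _ = g * (i * j) * g⁻¹ := by rw [hgj]
        _ = i := hgij
    calc g ^ 3 * i = (g ^ 3 * i * (g ^ 3)⁻¹) * g ^ 3 := by group
      _ = i * g ^ 3 := by rw [this]
  have hg3j : g ^ 3 * j = j * g ^ 3 := by
    have : g ^ 3 * j * (g ^ 3)⁻¹ = j := by
      calc g ^ 3 * j * (g ^ 3)⁻¹ = g * (g * (g * j * g⁻¹) * g⁻¹) * g⁻¹ := by rw [e3]; group
        _ = g * (g * (i * j) * g⁻¹) * g⁻¹ := by rw [hgj]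
        _ = g * i * g⁻¹ := by rw [hgij]
        _ = j := hgi
    calc g ^ 3 * j = (g ^ 3 * j * (g ^ 3)⁻¹) * g ^ 3 := by group
      _ = j * g ^ 3 := by rw [this]
  set H : Subgroup G := Subgroup.closure ({i, j, g} : Set G) with hH
  set K : Subgroup G := Subgroup.zpowers (g ^ 3) with hK
  have hiH : i ∈ H := Subgroup.subset_closure (by simp)
  have hjH : j ∈ H := Subgroup.subset_closure (by simp)
  have hgH : g ∈ H := Subgroup.subset_closure (by simp)
  -- H centralizes g³
  have hHc : H ≤ Subgroup.centralizer ({g ^ 3} : Set G) := by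
    rw [hH, Subgroup.closure_le]
    intro x hx
    rw [SetLike.mem_coe, Subgroup.mem_centralizer_singleton_iff]
    rcases hx with rfl | rfl | rfl
    · exact hg3i.symm
    · exact hg3j.symm
    · rw [← pow_succ, ← pow_succ']
  have hcomm : ∀ h ∈ H, ∀ n ∈ K, h * n * h⁻¹ = n := by
    intro h hh n hn
    obtain ⟨s, rfl⟩ := Subgroup.mem_zpowers_iff.mp hn
    have h1 : h * g ^ 3 = g ^ 3 * h := Subgroup.mem_centralizer_singleton_iff.mp (hHc hh)
    have h2 : Commute h (g ^ 3) := h1
    have h3 : Commute h ((g ^ 3) ^ s) := h2.zpow_right s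
    calc h * (g ^ 3) ^ s * h⁻¹ = ((g ^ 3) ^ s * h) * h⁻¹ := by rw [h3.eq]
      _ = (g ^ 3) ^ s := by group
  have hKn : (K.subgroupOf H).Normal := by
    refine ⟨fun n hn h => ?_⟩
    rw [Subgroup.mem_subgroupOf] at hn ⊢
    have := hcomm h h.2 n hn
    simp only [Subgroup.coe_mul, Subgroup.coe_inv]
    rw [this]; exact hn
  refine ⟨H, K, hKn, ?_⟩
  -- the triple in the quotient
  set π : H →* H ⧸ K.subgroupOf H := QuotientGroup.mk' (K.subgroupOf H) with hπ
  have hπ1 : ∀ x : H, (x : G) ∈ K → π x = 1 := by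
    intro x hx
    exact (QuotientGroup.eq_one_iff x).mpr (Subgroup.mem_subgroupOf.mpr hx)
  have hπ1' : ∀ x : H, π x = 1 → (x : G) ∈ K := by
    intro x hx
    exact Subgroup.mem_subgroupOf.mp ((QuotientGroup.eq_one_iff x).mp hx)
  -- i² ∉ K
  have hi2K : i * i ∉ K := by
    intro hmem
    obtain ⟨s, hs⟩ := Subgroup.mem_zpowers_iff.mp hmem
    -- (i*i)^k = 1 but k odd
    have h0 : (g ^ 3) ^ k = 1 := by rw [← pow_mul, mul_comm, pow_mul, hgk, one_pow]
    have h1 : (i * i) ^ k = 1 := by
      rw [← hs, ← zpow_natCast, ← zpow_mul, mul_comm, zpow_mul, zpow_natCast, h0, one_zpow]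
    obtain ⟨t, rfl⟩ := hk
    apply hi2
    calc i * i = ((i * i) * (i * i)) ^ t * (i * i) := by rw [hiiii, one_pow, one_mul]
      _ = (i * i) ^ (2 * t + 1) := by rw [pow_succ, pow_mul, pow_two]
      _ = 1 := h1
  have htriple : BTTriple (π ⟨i, hiH⟩) (π ⟨j, hjH⟩) (π ⟨g, hgH⟩) := by
    refine ⟨?_, ?_, ?_, ?_, ?_, ?_⟩
    · apply orderOf_eq_of_pow_and_pow_div_prime (by norm_num)
      · rw [← map_pow]
        have : (⟨i, hiH⟩ : H) ^ 4 = 1 := Subtype.ext (by simpa using hi4)
        rw [this, map_one]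
      · intro p hp hdvd
        have hp2 : p = 2 := by
          have : p ∣ 2 ^ 2 := by simpa using hdvd
          exact (Nat.prime_dvd_prime_iff_eq hp Nat.prime_two).mp (hp.dvd_of_dvd_pow this)
        subst hp2
        intro hcon
        rw [← map_pow] at hcon
        have := hπ1' _ hcon
        apply hi2K
        have e : ((⟨i, hiH⟩ : H) ^ (4 / 2) : H) = ⟨i * i, H.mul_mem hiH hiH⟩ := by
          apply Subtype.ext
          simp [pow_two]
        rw [e] at this
        exact this
    · rw [← map_mul, ← map_mul]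
      congr 1
      exact Subtype.ext hjj
    · rw [← map_mul, ← map_inv, ← map_mul, ← map_inv]
      congr 1
      exact Subtype.ext hji
    · rw [← map_mul, ← map_inv, ← map_mul]
      congr 1
      exact Subtype.ext hgi
    · rw [← map_mul, ← map_inv, ← map_mul, ← map_mul]
      congr 1
      exact Subtype.ext hgj
    · rw [← map_pow]
      apply hπ1
      simp only [Subgroup.coe_pow]
      exact Subgroup.mem_zpowers _
  apply htriple.nonempty_mulEquiv_of_closure
  -- generation
  have htop : Subgroup.closure ({⟨i, hiH⟩, ⟨j, hjH⟩, ⟨g, hgH⟩} : Set H) = ⊤ := by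
    have h1 := Subgroup.closure_closure_coe_preimage (k := ({i, j, g} : Set G))
    have h2 : ((↑) : Subgroup.closure ({i, j, g} : Set G) → G) ⁻¹' ({i, j, g} : Set G) =
        ({⟨i, hiH⟩, ⟨j, hjH⟩, ⟨g, hgH⟩} : Set H) := by
      ext x
      simp only [Set.mem_preimage, Set.mem_insert_iff, Set.mem_singleton_iff]
      constructor
      · rintro (h | h | h)
        · left; exact Subtype.ext h
        · right; left; exact Subtype.ext h
        · right; right; exact Subtype.ext h
      · rintro (h | h | h)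
        · left; rw [h]
        · right; left; rw [h]
        · right; right; rw [h]
    rw [h2] at h1
    exact h1
  have h3 := congrArg (Subgroup.map π) htop
  rw [MonoidHom.map_closure, ← MonoidHom.range_eq_map,
    MonoidHom.range_eq_top.mpr (QuotientGroup.mk'_surjective _)] at h3
  rw [← h3]
  congr 1
  ext x
  simp only [Set.mem_image, Set.mem_insert_iff, Set.mem_singleton_iff]
  constructor
  · rintro (h | h | h)
    · exact ⟨_, Or.inl rfl, h.symm⟩
    · exact ⟨_, Or.inr (Or.inl rfl), h.symm⟩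
    · exact ⟨_, Or.inr (Or.inr rfl), h.symm⟩
  · rintro ⟨y, (h | h | h), rfl⟩
    · left; rw [h]
    · right; left; rw [h]
    · right; right; rw [h]

end Cfsg.Agent.Lib.Helper78
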