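import Mathlib
import Cfsg.Agent.Lib.Helper06.SylTwo.Defs

/-!
# S2928 pack: keystone 292801 K-SylTwo-KL (`mem_klein_iff`, `klein_conj`). helper78
-/

set_option autoImplicit false

namespace Cfsg.Agent.Lib.Helper78.SylTwo

open Equiv Equiv.Perm
open Cfsg.Agent.Lib.Helper06.SylTwo

/-- the subgroup generated by two commuting involutions -/
theorem mem_closure_pair_invol {G : Type*} [Group G] (x y : G) (hx : x * x = 1) (hy : y * y = 1)
    (hxy : x * y = y * x) (v : G) :
    v ∈ Subgroup.closure ({x, y} : Set G) ↔ v = 1 ∨ v = x ∨ v = y ∨ v = x * y := by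
  have h1 : x * (x * y) = y := by rw [← mul_assoc, hx, one_mul]
  have h2 : y * (x * y) = x := by rw [hxy, ← mul_assoc, hy, one_mul]
  have h3 : x * y * x = y := by rw [hxy, mul_assoc, hx, mul_one]
  have h4 : x * y * y = x := by rw [mul_assoc, hy, mul_one]
  have h5 : x * y * (x * y) = 1 := by rw [mul_assoc, h2, hx]
  have h6 : y * x = x * y := hxy.symm
  constructor
  · intro hv
    induction hv using Subgroup.closure_induction with
    | mem z hz =>
      rcases hz with rfl | hz
      · exact Or.inr (Or.inl rfl)
      · rw [Set.mem_singleton_iff] at hz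
        exact Or.inr (Or.inr (Or.inl hz))
    | one => exact Or.inl rfl
    | mul u w _ _ ihu ihw =>
      rcases ihu with rfl | rfl | rfl | rfl <;> rcases ihw with rfl | rfl | rfl | rfl <;>
        simp only [one_mul, mul_one, hx, hy, h1, h2, h3, h4, h5, h6, true_or, or_true]
    | inv u _ ih =>
      rcases ih with rfl | rfl | rfl | rfl
      · left; exact inv_one
      · right; left; exact inv_eq_of_mul_eq_one_right hx
      · right; right; left; exact inv_eq_of_mul_eq_one_right hy
      · right; right; right; exact inv_eq_of_mul_eq_one_right h5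
  · have hxm : x ∈ Subgroup.closure ({x, y} : Set G) := Subgroup.subset_closure (by simp)
    have hym : y ∈ Subgroup.closure ({x, y} : Set G) := Subgroup.subset_closure (by simp)
    rintro (rfl | rfl | rfl | rfl)
    · exact Subgroup.one_mem _
    · exact hxm
    · exact hym
    · exact Subgroup.mul_mem _ hxm hym

variable {α : Type*} [DecidableEq α]

/-- the values of a product of two disjoint transpositions -/
theorem dswap_apply {p q r s : α} (hpr : p ≠ r) (hps : p ≠ s) (hqr : q ≠ r) (hqs : q ≠ s) (t : α) :
    (swap p q * swap r s) t =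
      if t = p then q else if t = q then p else if t = r then s else if t = s then r else t := by
  have hrp := hpr.symm
  have hsp := hps.symm
  have hrq := hqr.symm
  have hsq := hqs.symm
  simp only [Perm.mul_apply, swap_apply_def]
  split_ifs <;> simp_all

section identities

variable {a b c d : α} (hab : a ≠ b) (hac : a ≠ c) (had : a ≠ d) (hbc : b ≠ c) (hbd : b ≠ d)
  (hcd : c ≠ d)

include hab hac had hbc hbd hcd

theorem klein_xx : (swap a b * swap c d) * (swap a b * swap c d) = 1 := by
  have hba := hab.symm
  have hca := hac.symm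
  have hda := had.symm
  have hcb := hbc.symm
  have hdb := hbd.symm
  have hdc := hcd.symm
  ext t
  simp only [Perm.mul_apply, Perm.one_apply] 
  rw [← Perm.mul_apply (swap a b) (swap c d), ← Perm.mul_apply (swap a b) (swap c d),
    dswap_apply hac had hbc hbd t, dswap_apply hac had hbc hbd]
  split_ifs <;> simp_all

theorem klein_xy : (swap a b * swap c d) * (swap a c * swap b d) = swap a d * swap b c := by
  have hba := hab.symm
  have hca := hac.symm
  have hda := had.symm
  have hcb := hbc.symm
  have hdb := hbd.symm
  have hdc := hcd.symm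
  ext t
  rw [Perm.mul_apply, dswap_apply hab had hcb hcd t, dswap_apply hac had hbc hbd,
    dswap_apply hab hac hdb hdc t]
  split_ifs <;> simp_all

theorem klein_yx : (swap a c * swap b d) * (swap a b * swap c d) = swap a d * swap b c := by
  have hba := hab.symm
  have hca := hac.symm
  have hda := had.symm
  have hcb := hbc.symm
  have hdb := hbd.symm
  have hdc := hcd.symm
  ext t
  rw [Perm.mul_apply, dswap_apply hac had hbc hbd t, dswap_apply hab had hcb hcd,
    dswap_apply hab hac hdb hdc t]
  split_ifs <;> simp_all

end identities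

/-- **K-SylTwo-KL.** The elements of the Klein four-group. -/
theorem mem_klein_iff {α : Type*} [Fintype α] [DecidableEq α] {a b c d : α} (hab : a ≠ b)
    (hac : a ≠ c) (had : a ≠ d) (hbc : b ≠ c) (hbd : b ≠ d)
    (hcd : c ≠ d) (v : Perm α) :
    v ∈ klein a b c d ↔
      v = 1 ∨ v = swap a b * swap c d ∨ v = swap a c * swap b d ∨ v = swap a d * swap b c := by
  unfold klein
  rw [mem_closure_pair_invol _ _ (klein_xx hab hac had hbc hbd hcd)
    (klein_xx hac hab had hbc.symm hcd hbd) (by
      rw [klein_xy hab hac had hbc hbd hcd, klein_yx hab hac had hbc hbd hcd]),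
    klein_xy hab hac had hbc hbd hcd]

/-- **K-SylTwo-KL'.** Conjugates of Klein four-groups. -/
theorem klein_conj {α : Type*} [Fintype α] [DecidableEq α] (g : Perm α) (a b c d : α) :
    (klein a b c d).map (MulAut.conj g).toMonoidHom = klein (g a) (g b) (g c) (g d) := by
  unfold klein
  rw [MonoidHom.map_closure]
  congr 1
  rw [Set.image_pair]
  have h : ∀ p q r s : α, (MulAut.conj g).toMonoidHom (swap p q * swap r s) =
      swap (g p) (g q) * swap (g r) (g s) := by
    intro p q r s
    show g * (swap p q * swap r s) * g⁻¹ = _
    rw [swap_apply_apply, swap_apply_apply]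
    group
  rw [h, h]

end Cfsg.Agent.Lib.Helper78.SylTwo
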