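import Mathlib
import Cfsg.Agent.Lib.Helper06.SylTwo.Defs
import Cfsg.Agent.Lib.Helper78.SylTwoKL

/-!
# S2928 pack: keystone 292802 K-SylTwo-A (`sylow_two_cover`). helper78

A Sylow 2-subgroup of `Alt(n)` contains Klein four-groups on disjoint 4-sets covering all but at
most three points.
-/

set_option autoImplicit false

namespace Cfsg.Agent.Lib.Helper78.SylTwo

open Equiv Equiv.Perm
open scoped Pointwise
open Cfsg.Agent.Lib.Helper06.SylTwo

theorem pow_two_of_mem_closure {G : Type*} [Group G] (S : Set G)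
    (hcomm : ∀ x ∈ S, ∀ y ∈ S, x * y = y * x) (h2 : ∀ x ∈ S, x ^ 2 = 1) :
    ∀ g ∈ Subgroup.closure S, g ^ 2 = 1 := by
  have hC := Subgroup.isMulCommutative_closure hcomm
  intro g hg
  induction hg using Subgroup.closure_induction with
  | mem x hx => exact h2 x hx
  | one => simp
  | mul x y hx hy ihx ihy =>
    have hc : x * y = y * x :=
      congrArg Subtype.val (hC.is_comm.comm (⟨x, hx⟩ : Subgroup.closure S) ⟨y, hy⟩)
    rw [(show Commute x y from hc).mul_pow, ihx, ihy, one_mul]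
  | inv x hx ih => rw [inv_pow, ih, inv_one]

/-- the points `4 i + r` -/
def pt4 (n : ℕ) (i : Fin (n / 4)) (r : Fin 4) : Fin n := ⟨4 * i.val + r.val, by omega⟩

theorem pt4_eq_iff (n : ℕ) (i j : Fin (n / 4)) (r s : Fin 4) :
    pt4 n i r = pt4 n j s ↔ i = j ∧ r = s := by
  simp only [pt4, Fin.ext_iff]
  omega

theorem pt4_div (n : ℕ) (i : Fin (n / 4)) (r : Fin 4) : (pt4 n i r).val / 4 = i.val := by
  simp only [pt4]
  omega

/-- the two generators of the Klein four-group on the block `{4i, 4i+1, 4i+2, 4i+3}` -/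
def kgen (n : ℕ) (i : Fin (n / 4)) (b : Bool) : Perm (Fin n) :=
  if b then swap (pt4 n i 0) (pt4 n i 1) * swap (pt4 n i 2) (pt4 n i 3)
  else swap (pt4 n i 0) (pt4 n i 2) * swap (pt4 n i 1) (pt4 n i 3)

theorem pt4_ne (n : ℕ) (i : Fin (n / 4)) {r s : Fin 4} (h : r ≠ s) : pt4 n i r ≠ pt4 n i s := by
  intro h'
  exact h ((pt4_eq_iff n i i r s).mp h').2

theorem kgen_apply_of_div_ne (n : ℕ) (i : Fin (n / 4)) (b : Bool) (t : Fin n)
    (ht : t.val / 4 ≠ i.val) : kgen n i b t = t := by
  have hne : ∀ r : Fin 4, t ≠ pt4 n i r := by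
    intro r h
    apply ht
    rw [h, pt4_div]
  unfold kgen
  cases b
  · simp only [Bool.false_eq_true, if_false]
    rw [dswap_apply (pt4_ne n i (by decide)) (pt4_ne n i (by decide)) (pt4_ne n i (by decide))
      (pt4_ne n i (by decide)) t]
    simp [hne]
  · simp only [if_true]
    rw [dswap_apply (pt4_ne n i (by decide)) (pt4_ne n i (by decide)) (pt4_ne n i (by decide))
      (pt4_ne n i (by decide)) t]
    simp [hne]

theorem kgen_sq (n : ℕ) (i : Fin (n / 4)) (b : Bool) : kgen n i b ^ 2 = 1 := by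
  rw [sq]
  unfold kgen
  cases b
  · simp only [Bool.false_eq_true, if_false]
    exact klein_xx (pt4_ne n i (by decide)) (pt4_ne n i (by decide)) (pt4_ne n i (by decide))
      (pt4_ne n i (by decide)) (pt4_ne n i (by decide)) (pt4_ne n i (by decide))
  · simp only [if_true]
    exact klein_xx (pt4_ne n i (by decide)) (pt4_ne n i (by decide)) (pt4_ne n i (by decide))
      (pt4_ne n i (by decide)) (pt4_ne n i (by decide)) (pt4_ne n i (by decide))

theorem kgen_comm (n : ℕ) (i j : Fin (n / 4)) (b c : Bool) :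
    kgen n i b * kgen n j c = kgen n j c * kgen n i b := by
  by_cases hij : i = j
  · subst hij
    have h01 : pt4 n i 0 ≠ pt4 n i 1 := pt4_ne n i (by decide)
    have h02 : pt4 n i 0 ≠ pt4 n i 2 := pt4_ne n i (by decide)
    have h03 : pt4 n i 0 ≠ pt4 n i 3 := pt4_ne n i (by decide)
    have h12 : pt4 n i 1 ≠ pt4 n i 2 := pt4_ne n i (by decide)
    have h13 : pt4 n i 1 ≠ pt4 n i 3 := pt4_ne n i (by decide)
    have h23 : pt4 n i 2 ≠ pt4 n i 3 := pt4_ne n i (by decide)
    cases b <;> cases c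
    · rfl
    · unfold kgen
      simp only [Bool.false_eq_true, if_false, if_true]
      rw [klein_yx h01 h02 h03 h12 h13 h23, klein_xy h01 h02 h03 h12 h13 h23]
    · unfold kgen
      simp only [Bool.false_eq_true, if_false, if_true]
      rw [klein_yx h01 h02 h03 h12 h13 h23, klein_xy h01 h02 h03 h12 h13 h23]
    · rfl
  · apply Disjoint.commute
    intro t
    by_cases ht : t.val / 4 = i.val
    · right
      apply kgen_apply_of_div_ne
      rw [ht]
      intro h
      exact hij (Fin.ext h)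
    · left
      exact kgen_apply_of_div_ne n i b t ht

theorem kgen_mem_alt (n : ℕ) (i : Fin (n / 4)) (b : Bool) : kgen n i b ∈ alternatingGroup (Fin n) := by
  rw [mem_alternatingGroup]
  unfold kgen
  cases b
  · simp only [Bool.false_eq_true, if_false]
    rw [map_mul, sign_swap (pt4_ne n i (by decide)), sign_swap (pt4_ne n i (by decide))]
    rfl
  · simp only [if_true]
    rw [map_mul, sign_swap (pt4_ne n i (by decide)), sign_swap (pt4_ne n i (by decide))]
    rfl

/-- **K-SylTwo-A.** -/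
theorem sylow_two_cover (n : ℕ) (P : Sylow 2 ↥(alternatingGroup (Fin n))) :
    ∃ U : Finset (Fin n), n ≤ U.card + 3 ∧ ∀ x ∈ U, ∃ V : Subgroup (Perm (Fin n)), IsKlein V ∧
      V ≤ (P : Subgroup ↥(alternatingGroup (Fin n))).map (alternatingGroup (Fin n)).subtype ∧
      ∃ v ∈ V, v x ≠ x := by
  have : Fact (Nat.Prime 2) := ⟨Nat.prime_two⟩
  -- the generators inside `Alt(n)`
  let kA : Fin (n / 4) × Bool → ↥(alternatingGroup (Fin n)) :=
    fun q => ⟨kgen n q.1 q.2, kgen_mem_alt n q.1 q.2⟩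
  have hE : IsPGroup 2 (Subgroup.closure (Set.range kA)) := by
    intro g
    refine ⟨1, ?_⟩
    rw [pow_one]
    apply Subtype.ext
    rw [Subgroup.coe_pow]
    refine pow_two_of_mem_closure _ ?_ ?_ g.1 g.2
    · rintro _ ⟨⟨i, b⟩, rfl⟩ _ ⟨⟨j, c⟩, rfl⟩
      apply Subtype.ext
      exact kgen_comm n i j b c
    · rintro _ ⟨⟨i, b⟩, rfl⟩
      apply Subtype.ext
      exact kgen_sq n i b
  obtain ⟨Q, hQ⟩ := hE.exists_le_sylow
  obtain ⟨g, hg⟩ := MulAction.exists_smul_eq ↥(alternatingGroup (Fin n)) Q P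
  have hmem : ∀ i b, g * kA (i, b) * g⁻¹ ∈ P := by
    intro i b
    have h1 : kA (i, b) ∈ (Q : Subgroup ↥(alternatingGroup (Fin n))) :=
      hQ (Subgroup.subset_closure ⟨(i, b), rfl⟩)
    have h2 : MulAut.conj g • kA (i, b) ∈
        MulAut.conj g • (Q : Subgroup ↥(alternatingGroup (Fin n))) :=
      Subgroup.smul_mem_pointwise_smul _ _ _ h1
    rw [← Sylow.coe_subgroup_smul, hg] at h2
    exact h2
  have hmem' : ∀ i b, (g : Perm (Fin n)) * kgen n i b * (g : Perm (Fin n))⁻¹ ∈
      (P : Subgroup ↥(alternatingGroup (Fin n))).map (alternatingGroup (Fin n)).subtype := by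
    intro i b
    exact ⟨g * kA (i, b) * g⁻¹, hmem i b, rfl⟩
  set γ : Perm (Fin n) := (g : Perm (Fin n)) with hγ
  refine ⟨(Finset.univ.filter (fun y : Fin n => y.val < 4 * (n / 4))).map γ.toEmbedding, ?_, ?_⟩
  · rw [Finset.card_map, Fin.card_filter_val_lt]
    have : min n (4 * (n / 4)) = 4 * (n / 4) := by
      apply min_eq_right; omega
    rw [this]; omega
  · intro x hx
    rw [Finset.mem_map] at hx
    obtain ⟨y, hy, rfl⟩ := hx
    rw [Finset.mem_filter] at hy
    have h4 : y.val % 4 < 4 := Nat.mod_lt _ (by norm_num)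
    set i : Fin (n / 4) := ⟨y.val / 4, by omega⟩ with hi
    have hyp : y = pt4 n i ⟨y.val % 4, h4⟩ := by
      simp only [pt4, Fin.ext_iff, hi]; omega
    have h01 : pt4 n i 0 ≠ pt4 n i 1 := pt4_ne n i (by decide)
    have h02 : pt4 n i 0 ≠ pt4 n i 2 := pt4_ne n i (by decide)
    have h03 : pt4 n i 0 ≠ pt4 n i 3 := pt4_ne n i (by decide)
    have h12 : pt4 n i 1 ≠ pt4 n i 2 := pt4_ne n i (by decide)
    have h13 : pt4 n i 1 ≠ pt4 n i 3 := pt4_ne n i (by decide)
    have h23 : pt4 n i 2 ≠ pt4 n i 3 := pt4_ne n i (by decide)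
    have hinj : ∀ {p q : Fin n}, p ≠ q → γ p ≠ γ q := fun h h' => h (γ.injective h')
    refine ⟨klein (γ (pt4 n i 0)) (γ (pt4 n i 1)) (γ (pt4 n i 2)) (γ (pt4 n i 3)),
      ⟨_, _, _, _, hinj h01, hinj h02, hinj h03, hinj h12, hinj h13, hinj h23, rfl⟩, ?_, ?_⟩
    · unfold klein
      rw [Subgroup.closure_le]
      intro v hv
      rcases hv with rfl | hv
      · rw [swap_apply_apply, swap_apply_apply]
        have := hmem' i true
        unfold kgen at this
        simp only [if_true] at this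
        have heq : γ * swap (pt4 n i 0) (pt4 n i 1) * γ⁻¹ * (γ * swap (pt4 n i 2) (pt4 n i 3) * γ⁻¹)
            = γ * (swap (pt4 n i 0) (pt4 n i 1) * swap (pt4 n i 2) (pt4 n i 3)) * γ⁻¹ := by
          group
        rw [SetLike.mem_coe, heq]
        exact this
      · rw [Set.mem_singleton_iff] at hv
        subst hv
        rw [swap_apply_apply, swap_apply_apply]
        have := hmem' i false
        unfold kgen at this
        simp only [Bool.false_eq_true, if_false] at this
        have heq : γ * swap (pt4 n i 0) (pt4 n i 2) * γ⁻¹ * (γ * swap (pt4 n i 1) (pt4 n i 3) * γ⁻¹)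
            = γ * (swap (pt4 n i 0) (pt4 n i 2) * swap (pt4 n i 1) (pt4 n i 3)) * γ⁻¹ := by
          group
        rw [SetLike.mem_coe, heq]
        exact this
    · refine ⟨swap (γ (pt4 n i 0)) (γ (pt4 n i 1)) * swap (γ (pt4 n i 2)) (γ (pt4 n i 3)), ?_, ?_⟩
      · unfold klein
        exact Subgroup.subset_closure (by simp)
      · rw [dswap_apply (hinj h02) (hinj h03) (hinj h12) (hinj h13)]
        rw [hyp]
        have hr : (⟨y.val % 4, h4⟩ : Fin 4) = 0 ∨ (⟨y.val % 4, h4⟩ : Fin 4) = 1 ∨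
            (⟨y.val % 4, h4⟩ : Fin 4) = 2 ∨ (⟨y.val % 4, h4⟩ : Fin 4) = 3 := by
          generalize (⟨y.val % 4, h4⟩ : Fin 4) = r
          fin_cases r <;> simp
        rcases hr with hr | hr | hr | hr <;> rw [hr]
        · simp [(hinj h01).symm]
        · simp [hinj h01, (hinj h01).symm]
        · simp [(hinj h02).symm, (hinj h12).symm, hinj h23, (hinj h23).symm]
        · simp [(hinj h03).symm, (hinj h13).symm, hinj h23, (hinj h23).symm]

end Cfsg.Agent.Lib.Helper78.SylTwo
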