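import Mathlib

/-!
# S2720 pack (architect helper7), keystone 272016 K-S2720-M `exists_irreducible`. helper78

A semisimple isometry `σ` of a nondegenerate quadratic space has an irreducible invariant subspace
which is nondegenerate, or totally singular with a totally singular invariant partner.
-/

set_option autoImplicit false

namespace Cfsg.Agent.Lib.Helper78.S2720K

open Module Matrix Polynomial

section abstract

variable {F : Type*} [Field F] [Fintype F] {V : Type*} [AddCommGroup V] [Module F V]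
  [FiniteDimensional F V]

omit [Fintype F] [FiniteDimensional F V] in
/-- an isometry preserves the polar form -/
theorem polar_map_map (Q : QuadraticForm F V) (σ : V →ₗ[F] V) (hσ : ∀ v, Q (σ v) = Q v)
    (x y : V) : QuadraticMap.polar (⇑Q) (σ x) (σ y) = QuadraticMap.polar (⇑Q) x y := by
  unfold QuadraticMap.polar
  rw [← map_add, hσ, hσ, hσ]

omit [Fintype F] [FiniteDimensional F V] in
/-- powers of `σ` preserve a `σ`-invariant subspace -/
theorem pow_mem_of_inv (σ : V →ₗ[F] V) (L : Submodule F V) (hL : ∀ x ∈ L, σ x ∈ L) (n : ℕ) :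
    ∀ x ∈ L, (σ ^ n) x ∈ L := by
  induction n with
  | zero => intro x hx; simpa using hx
  | succ k ih =>
    intro x hx
    rw [pow_succ', Module.End.mul_apply]
    exact hL _ (ih x hx)

omit [Fintype F] [FiniteDimensional F V] in
/-- the inverse of `σ` preserves a `σ`-invariant subspace when `σ` has finite order -/
theorem inv_mem_of_inv (σ σ' : V →ₗ[F] V) (hσσ' : ∀ v, σ' (σ v) = v) {r : ℕ} (hr0 : 0 < r)
    (hσr : σ ^ r = 1) (L : Submodule F V) (hL : ∀ x ∈ L, σ x ∈ L) : ∀ x ∈ L, σ' x ∈ L := by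
  intro x hx
  obtain ⟨k, rfl⟩ : ∃ k, r = k + 1 := ⟨r - 1, by omega⟩
  have h1 : σ ((σ ^ k) x) = x := by
    have : (σ ^ (k + 1)) x = x := by rw [hσr]; rfl
    rwa [pow_succ', Module.End.mul_apply] at this
  have h2 : σ' x = (σ ^ k) x := by
    conv_lhs => rw [← h1]
    exact hσσ' _
  rw [h2]
  exact pow_mem_of_inv σ L hL k x hx

/-- the orthogonal of a subspace w.r.t. the polar form -/
def perp (Q : QuadraticForm F V) (L : Submodule F V) : Submodule F V :=
  LinearMap.BilinForm.orthogonal (QuadraticMap.polarBilin Q) L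

omit [Fintype F] [FiniteDimensional F V] in
theorem mem_perp (Q : QuadraticForm F V) (L : Submodule F V) (y : V) :
    y ∈ perp Q L ↔ ∀ x ∈ L, QuadraticMap.polar (⇑Q) x y = 0 := by
  unfold perp
  rw [LinearMap.BilinForm.mem_orthogonal_iff]
  rfl

omit [Fintype F] [FiniteDimensional F V] in
theorem mem_perp' (Q : QuadraticForm F V) (L : Submodule F V) (y : V) :
    y ∈ perp Q L ↔ ∀ x ∈ L, QuadraticMap.polar (⇑Q) y x = 0 := by
  rw [mem_perp]
  constructor
  · intro h x hx; rw [QuadraticMap.polar_comm]; exact h x hx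
  · intro h x hx; rw [QuadraticMap.polar_comm]; exact h x hx

omit [Fintype F] [FiniteDimensional F V] in
/-- the orthogonal of an invariant subspace is invariant -/
theorem perp_inv (Q : QuadraticForm F V) (σ σ' : V →ₗ[F] V) (hσ : ∀ v, Q (σ v) = Q v)
    (hσσ' : ∀ v, σ' (σ v) = v) (hσ'σ : ∀ v, σ (σ' v) = v) {r : ℕ} (hr0 : 0 < r)
    (hσr : σ ^ r = 1) (L : Submodule F V) (hL : ∀ x ∈ L, σ x ∈ L) :
    ∀ y ∈ perp Q L, σ y ∈ perp Q L := by
  intro y hy
  rw [mem_perp] at hy ⊢
  intro x hx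
  have h1 : QuadraticMap.polar (⇑Q) x (σ y) = QuadraticMap.polar (⇑Q) (σ' x) y := by
    conv_lhs => rw [← hσ'σ x]
    exact polar_map_map Q σ hσ _ _
  rw [h1]
  exact hy _ (inv_mem_of_inv σ σ' hσσ' hr0 hσr L hL x hx)

omit [Fintype F] in
/-- a one-sided nondegenerate pairing bounds the dimension -/
theorem finrank_le_of_pairing (Q : QuadraticForm F V) (A B : Submodule F V)
    (h : ∀ x ∈ A, (∀ y ∈ B, QuadraticMap.polar (⇑Q) x y = 0) → x = 0) :
    finrank F A ≤ finrank F B := by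
  let f : A →ₗ[F] Module.Dual F B := (QuadraticMap.polarBilin Q).domRestrict₁₂ A B
  have hf : Function.Injective f := by
    rw [← LinearMap.ker_eq_bot, LinearMap.ker_eq_bot']
    intro x hx
    have h1 : (x : V) = 0 := by
      apply h x x.2
      intro y hy
      have := LinearMap.congr_fun hx ⟨y, hy⟩
      simpa only [f, LinearMap.domRestrict₁₂_apply, LinearMap.zero_apply,
        QuadraticMap.polarBilin_apply_apply] using this
    exact Subtype.ext h1
  calc finrank F A ≤ finrank F (Module.Dual F B) := LinearMap.finrank_le_finrank_of_injective hf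
    _ = finrank F B := Subspace.dual_finrank_eq

/-- K-S2720-M. -/
theorem exists_irreducible (h2 : (2 : F) ≠ 0) (Q : QuadraticForm F V)
    (hQ : (QuadraticMap.polarBilin Q).Nondegenerate) (σ σ' : V →ₗ[F] V)
    (hσ : ∀ v, Q (σ v) = Q v) (hσσ' : ∀ v, σ' (σ v) = v) (hσ'σ : ∀ v, σ (σ' v) = v)
    {r : ℕ} (hr0 : 0 < r) (hrF : (r : F) ≠ 0) (hσr : σ ^ r = 1) (hV : Nontrivial V) :
    ∃ L : Submodule F V, L ≠ ⊥ ∧ (∀ x ∈ L, σ x ∈ L) ∧
      (∀ M : Submodule F V, M ≤ L → (∀ x ∈ M, σ x ∈ M) → M = ⊥ ∨ M = L) ∧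
      ((∀ x ∈ L, (∀ y ∈ L, QuadraticMap.polar (⇑Q) x y = 0) → x = 0) ∨
        ((∀ x ∈ L, Q x = 0) ∧ ∃ L' : Submodule F V, Disjoint L L' ∧ (∀ x ∈ L', σ x ∈ L') ∧
          (∀ x ∈ L', Q x = 0) ∧
          (∀ x ∈ L, (∀ y ∈ L', QuadraticMap.polar (⇑Q) x y = 0) → x = 0) ∧
          (∀ y ∈ L', (∀ x ∈ L, QuadraticMap.polar (⇑Q) x y = 0) → y = 0))) := by
  classical
  -- a minimal nonzero invariant subspace
  have hex : ∃ n : ℕ, ∃ L : Submodule F V, L ≠ ⊥ ∧ (∀ x ∈ L, σ x ∈ L) ∧ finrank F L = n :=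
    ⟨_, ⊤, top_ne_bot, fun _ _ => Submodule.mem_top, rfl⟩
  obtain ⟨L₀, hL₀0, hL₀σ, hL₀n⟩ := Nat.find_spec hex
  have hmin : ∀ M : Submodule F V, M ≠ ⊥ → (∀ x ∈ M, σ x ∈ M) → finrank F L₀ ≤ finrank F M := by
    intro M hM0 hMσ
    rw [hL₀n]
    exact Nat.find_min' hex ⟨M, hM0, hMσ, rfl⟩
  have hirr₀ : ∀ M : Submodule F V, M ≤ L₀ → (∀ x ∈ M, σ x ∈ M) → M = ⊥ ∨ M = L₀ := by
    intro M hML hMσ
    by_cases hM0 : M = ⊥
    · exact Or.inl hM0
    · exact Or.inr (Submodule.eq_of_le_of_finrank_le hML (hmin M hM0 hMσ))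
  -- totally singular from self-orthogonal
  have hts : ∀ L : Submodule F V, L ⊓ perp Q L = L → ∀ x ∈ L, Q x = 0 := by
    intro L hL x hx
    have hx' : x ∈ perp Q L := by
      have : x ∈ L ⊓ perp Q L := by rw [hL]; exact hx
      exact (Submodule.mem_inf.mp this).2
    have h1 := (mem_perp Q L x).mp hx' x hx
    rw [QuadraticMap.polar_self] at h1
    have h3 : (2 : F) * Q x = 0 := by
      rw [← h1]; simp [two_smul, two_mul]
    rcases mul_eq_zero.mp h3 with h | h
    · exact absurd h h2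
    · exact h
  -- nondegenerate from trivial radical
  have hnd : ∀ L : Submodule F V, L ⊓ perp Q L = ⊥ →
      ∀ x ∈ L, (∀ y ∈ L, QuadraticMap.polar (⇑Q) x y = 0) → x = 0 := by
    intro L hL x hx hxy
    have : x ∈ L ⊓ perp Q L := Submodule.mem_inf.mpr ⟨hx, (mem_perp' Q L x).mpr hxy⟩
    rw [hL] at this
    exact (Submodule.mem_bot F).mp this
  have hradσ : ∀ L : Submodule F V, (∀ x ∈ L, σ x ∈ L) →
      ∀ x ∈ L ⊓ perp Q L, σ x ∈ L ⊓ perp Q L := by
    intro L hLσ x hx
    obtain ⟨hx1, hx2⟩ := Submodule.mem_inf.mp hx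
    exact Submodule.mem_inf.mpr
      ⟨hLσ x hx1, perp_inv Q σ σ' hσ hσσ' hσ'σ hr0 hσr L hLσ x hx2⟩
  rcases hirr₀ (L₀ ⊓ perp Q L₀) inf_le_left (hradσ L₀ hL₀σ) with hrad | hrad
  · exact ⟨L₀, hL₀0, hL₀σ, hirr₀, Or.inl (hnd L₀ hrad)⟩
  · -- `L₀` is totally singular; take an invariant complement of `perp L₀`
    have hss : Module.End.IsSemisimple σ := by
      apply Module.End.isSemisimple_of_squarefree_aeval_eq_zero (p := X ^ r - C (1 : F))
      · exact (separable_X_pow_sub_C (1 : F) hrF one_ne_zero).squarefree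
      · simp [hσr]
    have hpinv : perp Q L₀ ∈ Module.End.invtSubmodule σ :=
      perp_inv Q σ σ' hσ hσσ' hσ'σ hr0 hσr L₀ hL₀σ
    obtain ⟨M, hMinv, hc⟩ := (Module.End.isSemisimple_iff.mp hss) _ hpinv
    have hMσ : ∀ x ∈ M, σ x ∈ M := hMinv
    have hpairR : ∀ y ∈ M, (∀ x ∈ L₀, QuadraticMap.polar (⇑Q) x y = 0) → y = 0 := by
      intro y hy hxy
      have : y ∈ perp Q L₀ ⊓ M := Submodule.mem_inf.mpr ⟨(mem_perp Q L₀ y).mpr hxy, hy⟩
      rw [hc.inf_eq_bot] at this
      exact (Submodule.mem_bot F).mp this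
    have hpairL : ∀ x ∈ L₀, (∀ y ∈ M, QuadraticMap.polar (⇑Q) x y = 0) → x = 0 := by
      intro x hx hxy
      have hxp : x ∈ perp Q L₀ := by
        have : x ∈ L₀ ⊓ perp Q L₀ := by rw [hrad]; exact hx
        exact (Submodule.mem_inf.mp this).2
      have hall : ∀ v : V, QuadraticMap.polar (⇑Q) x v = 0 := by
        intro v
        have hv : v ∈ perp Q L₀ ⊔ M := by rw [hc.sup_eq_top]; exact Submodule.mem_top
        obtain ⟨a, ha, b, hb, rfl⟩ := Submodule.mem_sup.mp hv
        rw [QuadraticMap.polar_add_right, (mem_perp Q L₀ a).mp ha x hx, hxy b hb, add_zero]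
      have h3 : ∀ v : V, (QuadraticMap.polarBilin Q) x v = 0 := hall
      exact hQ.1 x h3
    have hdisj : Disjoint L₀ M := by
      rw [disjoint_iff, eq_bot_iff]
      intro x hx
      obtain ⟨hx1, hx2⟩ := Submodule.mem_inf.mp hx
      have hxp : x ∈ perp Q L₀ := by
        have : x ∈ L₀ ⊓ perp Q L₀ := by rw [hrad]; exact hx1
        exact (Submodule.mem_inf.mp this).2
      have : x ∈ perp Q L₀ ⊓ M := Submodule.mem_inf.mpr ⟨hxp, hx2⟩
      rw [hc.inf_eq_bot] at this
      exact this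
    have hLM : finrank F L₀ ≤ finrank F M := finrank_le_of_pairing Q L₀ M hpairL
    have hML : finrank F M ≤ finrank F L₀ := by
      apply finrank_le_of_pairing Q M L₀
      intro y hy hyx
      apply hpairR y hy
      intro x hx
      rw [QuadraticMap.polar_comm]; exact hyx x hx
    have hM0 : M ≠ ⊥ := by
      intro h
      rw [h, finrank_bot] at hLM
      have : finrank F L₀ = 0 := Nat.le_zero.mp hLM
      exact hL₀0 (Submodule.finrank_eq_zero.mp this)
    -- `M` is irreducible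
    have hirrM : ∀ M' : Submodule F V, M' ≤ M → (∀ x ∈ M', σ x ∈ M') → M' = ⊥ ∨ M' = M := by
      intro M' hM'M hM'σ
      by_cases hM'0 : M' = ⊥
      · exact Or.inl hM'0
      right
      have hannσ : ∀ x ∈ L₀ ⊓ perp Q M', σ x ∈ L₀ ⊓ perp Q M' := by
        intro x hx
        obtain ⟨hx1, hx2⟩ := Submodule.mem_inf.mp hx
        exact Submodule.mem_inf.mpr
          ⟨hL₀σ x hx1, perp_inv Q σ σ' hσ hσσ' hσ'σ hr0 hσr M' hM'σ x hx2⟩
      rcases hirr₀ (L₀ ⊓ perp Q M') inf_le_left hannσ with hann | hann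
      · have h1 : finrank F L₀ ≤ finrank F M' := by
          apply finrank_le_of_pairing Q L₀ M'
          intro x hx hxy
          have : x ∈ L₀ ⊓ perp Q M' :=
            Submodule.mem_inf.mpr ⟨hx, (mem_perp' Q M' x).mpr hxy⟩
          rw [hann] at this
          exact (Submodule.mem_bot F).mp this
        exact Submodule.eq_of_le_of_finrank_le hM'M (hML.trans h1)
      · exfalso
        apply hM'0
        rw [eq_bot_iff]
        intro y hy
        have h1 : y ∈ perp Q L₀ := by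
          rw [mem_perp]
          intro x hx
          have : x ∈ L₀ ⊓ perp Q M' := by rw [hann]; exact hx
          exact (mem_perp' Q M' x).mp (Submodule.mem_inf.mp this).2 y hy
        have : y ∈ perp Q L₀ ⊓ M := Submodule.mem_inf.mpr ⟨h1, hM'M hy⟩
        rw [hc.inf_eq_bot] at this
        exact this
    rcases hirrM (M ⊓ perp Q M) inf_le_left (hradσ M hMσ) with hradM | hradM
    · exact ⟨M, hM0, hMσ, hirrM, Or.inl (hnd M hradM)⟩
    · exact ⟨L₀, hL₀0, hL₀σ, hirr₀, Or.inr ⟨hts L₀ hrad, M, hdisj, hMσ, hts M hradM,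
        hpairL, hpairR⟩⟩

end abstract

end Cfsg.Agent.Lib.Helper78.S2720K
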