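import Mathlib
import Cfsg.Prelude.Def_Blocks

/-!
# S4466 pack K-PD (all nonlinear irreducible degrees prime => solvable): definitions
-/

set_option autoImplicit false

namespace Cfsg.Agent.Lib.Helper78.PD

open Cfsg

universe u

/-- every irreducible character of degree `≠ 1` has prime degree -/
def PrimeDeg (G : Type u) [Group G] : Prop :=
  ∀ χ : IrrCharacter G, charDegree (χ : G → ℂ) ≠ 1 → (charDegree (χ : G → ℂ)).Prime

end Cfsg.Agent.Lib.Helper78.PD
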