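import Cfsg.Agent.Lib.Helper50.SpinorCrit
import Cfsg.Agent.Lib.Helper30.S2718R
import Cfsg.Agent.Lib.Helper19.CartanDieudonne

/-!
# S2719 pack, keystone 271904 K-S2719-N1: `isSquare_mult_of_commute`. helper78
-/

set_option autoImplicit false

namespace Cfsg.Agent.Lib.Helper78.S2719K

open Module Matrix Cfsg.Agent.Lib.Helper50

universe u

section generic

variable {F : Type u} [Field F] [Fintype F] {ι : Type} [Fintype ι] [DecidableEq ι]
variable (Q : QuadraticForm F (ι → F))

/-- a similarity pushes through a product of reflections -/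
theorem sim_mul_prod_reflection (h : Matrix ι ι F) (μ : F) (hμ0 : μ ≠ 0)
    (hh : ∀ v, Q (h *ᵥ v) = μ * Q v) (l : List (ι → F)) :
    h * (l.map (fun v => Cfsg.reflectionMatrix (⇑Q) v)).prod =
      ((l.map (fun v => h *ᵥ v)).map (fun v => Cfsg.reflectionMatrix (⇑Q) v)).prod * h := by
  induction l with
  | nil => simp
  | cons a t ih =>
    rw [List.map_cons, List.prod_cons, List.map_cons, List.map_cons, List.prod_cons, ← mul_assoc,
      Cfsg.Agent.Lib.Helper30.S2718K.sim_mul_reflection Q h μ hμ0 hh a, mul_assoc, ih, mul_assoc]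

/-- a similarity with nonzero multiplier of a nondegenerate form is invertible -/
theorem isUnit_of_similarity (hQ : (QuadraticMap.polarBilin Q).Nondegenerate)
    (h : Matrix ι ι F) (μ : F) (hμ0 : μ ≠ 0) (hh : ∀ v, Q (h *ᵥ v) = μ * Q v) : IsUnit h := by
  rw [← Matrix.mulVec_injective_iff_isUnit]
  intro v w hvw
  have hsub : h *ᵥ (v - w) = 0 := by rw [Matrix.mulVec_sub, hvw, sub_self]
  have : v - w = 0 := by
    apply hQ.1 (v - w)
    intro y
    rw [QuadraticMap.polarBilin_apply_apply]
    have h1 := Cfsg.Agent.Lib.Helper30.S2718K.polar_mulVec_sim Q h μ hh (v - w) y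
    rw [hsub] at h1
    have h0 : QuadraticMap.polar (⇑Q) 0 (h *ᵥ y) = 0 := by
      simp [QuadraticMap.polar]
    rw [h0] at h1
    rcases mul_eq_zero.mp h1.symm with h3 | h3
    · exact absurd h3 hμ0
    · exact h3
  exact sub_eq_zero.mp this

/-- K-S2719-N1 (generic, odd characteristic): a similarity `h` commuting with an isometry `t` of
determinant `-1` has a square multiplier. -/
theorem isSquare_mult_of_commute (h2 : (2 : F) ≠ 0) (hQ : (QuadraticMap.polarBilin Q).Nondegenerate)
    (t h : Matrix ι ι F) (μ : F) (hμ0 : μ ≠ 0) (ht : ∀ v, Q (t *ᵥ v) = Q v) (hdet : t.det = -1)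
    (hh : ∀ v, Q (h *ᵥ v) = μ * Q v) (hcomm : h * t = t * h) : IsSquare μ := by
  classical
  by_contra hμ
  obtain ⟨l, hl, htl⟩ := Cfsg.Agent.Lib.Helper19.isometry_eq_prod_reflectionMatrix h2 Q hQ t ht
  have htl' : t = (l.map (fun v => Cfsg.reflectionMatrix (⇑Q) v)).prod := htl
  -- the number of reflections is odd
  have hodd : Odd l.length := by
    have hd := det_prod_reflection Q l hl
    rw [← htl', hdet] at hd
    rcases Nat.even_or_odd l.length with he | ho
    · exfalso
      rw [he.neg_one_pow] at hd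
      apply h2
      have : (1 : F) + 1 = 0 := by
        nth_rewrite 1 [← hd]
        ring
      rw [← this]; norm_num
    · exact ho
  -- the conjugated list
  set l' := l.map (fun v => h *ᵥ v) with hl'
  have hl'Q : ∀ v ∈ l', Q v ≠ 0 := by
    intro v hv
    rw [hl', List.mem_map] at hv
    obtain ⟨w, hw, rfl⟩ := hv
    rw [hh]
    exact mul_ne_zero hμ0 (hl w hw)
  have hpush := sim_mul_prod_reflection Q h μ hμ0 hh l
  rw [← htl', hcomm] at hpush
  obtain ⟨u, hu⟩ := isUnit_of_similarity Q hQ h μ hμ0 hh
  have htl'' : t = (l'.map (fun v => Cfsg.reflectionMatrix (⇑Q) v)).prod := by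
    have h1 : t * h * u⁻¹.val = (l'.map (fun v => Cfsg.reflectionMatrix (⇑Q) v)).prod * h * u⁻¹.val := by
      rw [hpush]
    rw [mul_assoc, mul_assoc, ← hu, Units.mul_inv, mul_one, mul_one] at h1
    exact h1
  -- the two products of reflections are the same isometry
  have hgg : (l.map (reflO Q)).prod = (l'.map (reflO Q)).prod := by
    apply O_ext
    rw [reflO_prod_val Q l hl, reflO_prod_val Q l' hl'Q, ← htl', ← htl'']
  obtain ⟨ζ, hζ⟩ := exists_nonsquare_of_two_ne_zero (F := F) h2
  have h1 := theta_prod_reflO h2 Q ζ hζ l hl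
  have h2' := theta_prod_reflO h2 Q ζ hζ l' hl'Q
  rw [← hgg] at h2'
  have hiff : IsSquare (l.map (fun v => Q v)).prod ↔ IsSquare (l'.map (fun v => Q v)).prod :=
    h1.symm.trans h2'
  -- the second product is `μ ^ |l|` times the first
  have hprod : (l'.map (fun v => Q v)).prod = μ ^ l.length * (l.map (fun v => Q v)).prod := by
    rw [hl', List.map_map]
    clear hiff h1 h2' hgg htl'' hpush hl'Q hl' hodd htl' htl hl
    induction l with
    | nil => simp
    | cons a s ih =>
      rw [List.map_cons, List.prod_cons, List.map_cons, List.prod_cons, ih, List.length_cons,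
        pow_succ]
      simp only [Function.comp_apply]
      rw [hh]
      ring
  set s := (l.map (fun v => Q v)).prod with hs
  have hs0 : s ≠ 0 := by
    apply List.prod_ne_zero
    intro h0
    rw [List.mem_map] at h0
    obtain ⟨v, hv, hv0⟩ := h0
    exact hl v hv hv0
  -- `μ ^ |l|` is a nonsquare
  have hμn : ¬ IsSquare (μ ^ l.length) := by
    intro hsq
    obtain ⟨k, hk⟩ := hodd
    apply hμ
    have h3 : μ = μ ^ l.length / (μ ^ k * μ ^ k) := by
      rw [hk]
      field_simp
      ring
    rw [h3]
    exact hsq.div ⟨μ ^ k, rfl⟩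
  have hμn0 : μ ^ l.length ≠ 0 := pow_ne_zero _ hμ0
  -- two-class argument
  have key := isSquare_prod_iff [μ ^ l.length, s] (by
    intro a ha
    simp only [List.mem_cons, List.not_mem_nil, or_false] at ha
    rcases ha with rfl | rfl
    · exact hμn0
    · exact hs0)
  rw [hprod] at hiff
  simp only [List.prod_cons, List.prod_nil, mul_one, List.countP_cons, List.countP_nil, zero_add,
    hμn, decide_false, Bool.not_false, if_true] at key
  by_cases hss : IsSquare s
  · have h5 := hiff.mp hss
    rw [key] at h5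
    simp [hss] at h5
  · have h5 : ¬ IsSquare (μ ^ l.length * s) := fun h => hss (hiff.mpr h)
    rw [key] at h5
    simp [hss] at h5

end generic

end Cfsg.Agent.Lib.Helper78.S2719K
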