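import Mathlib

/-!
# S2719 pack, keystone 271903 K-S2719-Ng: `det_of_anticommute` (pure linear algebra). helper78
-/

set_option autoImplicit false

namespace Cfsg.Agent.Lib.Helper78.S2719K

open Polynomial Matrix

/-- `charmatrix S * charmatrix (-S) = (X² - 1) • 1` for an involution `S` -/
theorem charmatrix_mul_charmatrix_neg {F : Type*} [Field F] {ι : Type*} [Fintype ι] [DecidableEq ι]
    (S : Matrix ι ι F) (hS : S * S = 1) :
    charmatrix S * charmatrix (-S) = (X ^ 2 - C (1 : F)) • (1 : Matrix ι ι F[X]) := by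
  have hA : (C : F →+* F[X]).mapMatrix S * (C : F →+* F[X]).mapMatrix S = 1 := by
    rw [← map_mul, hS, map_one]
  have hcomm : Commute (Matrix.scalar ι (X : F[X])) ((C : F →+* F[X]).mapMatrix S) :=
    Matrix.scalar_commute _ (fun _ => Commute.all _ _) _
  unfold charmatrix
  rw [map_neg, sub_neg_eq_add]
  have h1 : (Matrix.scalar ι (X : F[X]) - (C : F →+* F[X]).mapMatrix S) *
      (Matrix.scalar ι (X : F[X]) + (C : F →+* F[X]).mapMatrix S) =
      Matrix.scalar ι (X : F[X]) * Matrix.scalar ι (X : F[X]) -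
        (C : F →+* F[X]).mapMatrix S * (C : F →+* F[X]).mapMatrix S := by
    rw [sub_mul, mul_add, mul_add, hcomm.eq]
    abel
  rw [h1, hA, ← map_mul, ← sq]
  ext i j
  by_cases hij : i = j
  · subst hij
    simp [Matrix.scalar_apply, Matrix.smul_apply]
  · simp [Matrix.scalar_apply, Matrix.smul_apply, hij]

/-- K-S2719-Ng (PURE LINEAR ALGEBRA, Mathlib only): an involution `S` of a space of even dimension
`2n` which is conjugate to `-S` (`h S = - S h`, `h` invertible) has determinant `(-1)^n`. -/
theorem det_of_anticommute {F : Type*} [Field F] {ι : Type*} [Fintype ι] [DecidableEq ι]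
    (h2 : (2 : F) ≠ 0) (n : ℕ) (hcard : Fintype.card ι = 2 * n) (S h : Matrix ι ι F)
    (hS : S * S = 1) (hh : IsUnit h.det) (hc : h * S = -(S * h)) : S.det = (-1) ^ n := by
  -- `charpoly (-S) = charpoly S`
  obtain ⟨u, hu⟩ := (Matrix.isUnit_iff_isUnit_det h).mpr hh
  have hconj : u.val * S * u⁻¹.val = -S := by
    rw [hu, hc, neg_mul, mul_assoc, ← hu, Units.mul_inv, mul_one]
  have hcp : (-S).charpoly = S.charpoly := by
    rw [← hconj, Matrix.coe_units_inv]
    exact Matrix.charpoly_units_conj u S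
  set p := S.charpoly with hp
  set q : F[X] := X ^ 2 - C (1 : F) with hq
  have hprod : p * p = (q ^ n) ^ 2 := by
    have h1 : (charmatrix S * charmatrix (-S)).det = (q • (1 : Matrix ι ι F[X])).det := by
      rw [charmatrix_mul_charmatrix_neg S hS]
    rw [Matrix.det_mul, Matrix.det_smul, Matrix.det_one, mul_one, hcard] at h1
    change S.charpoly * (-S).charpoly = q ^ (2 * n) at h1
    rw [hcp] at h1
    rw [h1, ← pow_mul, mul_comm]
  have hqmonic : q.Monic := Polynomial.monic_X_pow_sub_C (1 : F) (two_ne_zero)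
  have hqn : (q ^ n).Monic := hqmonic.pow n
  have hpm : p.Monic := Matrix.charpoly_monic S
  have hpq : p = q ^ n := by
    have h3 : p ^ 2 = (q ^ n) ^ 2 := by rw [sq, hprod]
    rcases sq_eq_sq_iff_eq_or_eq_neg.mp h3 with h4 | h4
    · exact h4
    · exfalso
      have h5 : p.leadingCoeff = (-(q ^ n)).leadingCoeff := by rw [← h4]
      rw [Polynomial.leadingCoeff_neg, hpm.leadingCoeff, hqn.leadingCoeff] at h5
      apply h2
      have : (1 : F) + 1 = 0 := by
        nth_rewrite 1 [h5]
        ring
      rw [← this]; norm_num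
  have hcoeff : p.coeff 0 = (-1) ^ n := by
    rw [hpq, Polynomial.coeff_zero_eq_eval_zero, Polynomial.eval_pow, hq]
    simp
  rw [Matrix.det_eq_sign_charpoly_coeff, ← hp, hcoeff, hcard, pow_mul]
  simp

end Cfsg.Agent.Lib.Helper78.S2719K
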