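import Cfsg.Agent.Lib.Helper21.KRDefs
import Cfsg.Agent.Lib.Helper93.KRF1

/-!
# KR-F2b: the pivot is unchanged by the flip (K-S4651-F2b for S4651), and KR-F2c as a corollary
-/

set_option autoImplicit false
set_option linter.style.haveILetI false
set_option linter.unusedSectionVars false
open Cfsg

namespace Cfsg.Agent.Lib.Helper78.KR

open Cfsg.Agent.Lib.Helper21.KR
open Cfsg.Agent.Lib.Helper93.KR

universe u

section Chain

variable {G : Type u} [Group G] [Finite G] {p : ℕ} [Fact p.Prime] {x : G}
  {s : Finset (Subgroup G)}

theorem mem_flip_iff_of_ne {Q : Subgroup G} (hQ : Q ≠ piv x s) :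
    Q ∈ Helper21.KR.flip x s ↔ Q ∈ s := by
  classical
  unfold Helper21.KR.flip
  by_cases he : piv x s ∈ s
  · rw [if_pos he, Finset.mem_erase]
    exact ⟨fun h => h.2, fun h => ⟨hQ, h⟩⟩
  · rw [if_neg he, Finset.mem_insert]
    exact ⟨fun h => h.resolve_left hQ, fun h => Or.inr h⟩

theorem lowOf_flip (x : G) (s : Finset (Subgroup G)) :
    lowOf x (Helper21.KR.flip x s) = lowOf x s := by
  apply le_antisymm
  · apply lowOf_le
    intro Q hQ hxQ
    have hne : Q ≠ piv x s := by
      intro h
      exact hxQ (h ▸ mem_piv x s)
    exact le_lowOf ((mem_flip_iff_of_ne hne).mp hQ) hxQ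
  · apply lowOf_le
    intro Q hQ hxQ
    have hne : Q ≠ piv x s := by
      intro h
      exact hxQ (h ▸ mem_piv x s)
    exact le_lowOf ((mem_flip_iff_of_ne hne).mpr hQ) hxQ

theorem topOf_le_iff {t : Finset (Subgroup G)} {R : Subgroup G} :
    topOf t ≤ R ↔ ∀ Q ∈ t, Q ≤ R := by
  unfold topOf
  rw [Finset.sup_le_iff]
  rfl

theorem piv_flip (hs : IsNChain p s) (hx : x ∈ chainStab s) :
    piv x (Helper21.KR.flip x s) = piv x s := by
  classical
  have hlow := lowOf_flip x s
  have hTmem : topOf s ∈ s := topOf_mem hs
  by_cases he : piv x s ∈ s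
  · -- erase case
    have hflip : Helper21.KR.flip x s = s.erase (piv x s) := by
      unfold Helper21.KR.flip
      rw [if_pos he]
    by_cases heT : piv x s = topOf s
    · -- the top is removed
      have hxT : x ∈ topOf s := heT ▸ mem_piv x s
      have htop : topOf (Helper21.KR.flip x s) = lowOf x s := by
        apply le_antisymm
        · rw [topOf_le_iff]
          intro Q hQ
          rw [hflip, Finset.mem_erase] at hQ
          apply le_lowOf hQ.2
          intro hxQ
          have h1 : piv x s ≤ Q := piv_le_of_mem hs hQ.2 hxQ
          have h2 : Q ≤ topOf s := le_topOf hQ.2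
          exact hQ.1 (le_antisymm (heT ▸ h2) h1)
        · apply lowOf_le
          intro Q hQ hxQ
          have hne : Q ≠ piv x s := by
            intro h
            exact hxQ (h ▸ mem_piv x s)
          exact le_topOf ((mem_flip_iff_of_ne hne).mpr hQ)
      have hTp : IsPGroup p (topOf s) := (hs.2.2.1 _ hTmem).2
      have hsup : lowOf x s ⊔ Subgroup.zpowers x = topOf s :=
        sup_zpowers_eq_of_pivot_eq hTp lowOf_le_topOf hxT heT
      show pivot (topOf (Helper21.KR.flip x s)) (lowOf x (Helper21.KR.flip x s)) x = piv x s
      rw [htop, hlow, pivot_self, hsup, heT]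
    · -- the top stays
      have htop : topOf (Helper21.KR.flip x s) = topOf s := by
        apply le_antisymm
        · rw [topOf_le_iff]
          intro Q hQ
          rw [hflip] at hQ
          exact le_topOf (Finset.mem_of_mem_erase hQ)
        · apply le_topOf
          rw [hflip, Finset.mem_erase]
          exact ⟨fun h => heT h.symm, hTmem⟩
      show pivot (topOf (Helper21.KR.flip x s)) (lowOf x (Helper21.KR.flip x s)) x = piv x s
      rw [htop, hlow]
      rfl
  · -- insert case
    have hflip : Helper21.KR.flip x s = insert (piv x s) s := by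
      unfold Helper21.KR.flip
      rw [if_neg he]
    by_cases hxT : x ∈ topOf s
    · have hle : piv x s ≤ topOf s :=
        pivot_le lowOf_le_topOf hxT Subgroup.le_normalizer
      have htop : topOf (Helper21.KR.flip x s) = topOf s := by
        apply le_antisymm
        · rw [topOf_le_iff]
          intro Q hQ
          rw [hflip, Finset.mem_insert] at hQ
          rcases hQ with rfl | hQ
          · exact hle
          · exact le_topOf hQ
        · apply le_topOf
          rw [hflip]
          exact Finset.mem_insert_of_mem hTmem
      show pivot (topOf (Helper21.KR.flip x s)) (lowOf x (Helper21.KR.flip x s)) x = piv x s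
      rw [htop, hlow]
      rfl
    · have hL : lowOf x s = topOf s := lowOf_eq_topOf_of_not_mem hxT
      have hpe : piv x s = topOf s ⊔ Subgroup.zpowers x := piv_eq_sup_of_not_mem hxT
      have htop : topOf (Helper21.KR.flip x s) = topOf s ⊔ Subgroup.zpowers x := by
        apply le_antisymm
        · rw [topOf_le_iff]
          intro Q hQ
          rw [hflip, Finset.mem_insert] at hQ
          rcases hQ with rfl | hQ
          · exact le_of_eq hpe
          · exact le_trans (le_topOf hQ) le_sup_left
        · rw [← hpe]
          apply le_topOf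
          rw [hflip]
          exact Finset.mem_insert_self _ _
      show pivot (topOf (Helper21.KR.flip x s)) (lowOf x (Helper21.KR.flip x s)) x = piv x s
      rw [htop, hlow, hL, pivot_sup_zpowers, hpe]

end Chain

end Cfsg.Agent.Lib.Helper78.KR
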