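import Cfsg.Agent.Lib.Helper21.KRDefs
import Cfsg.Agent.Lib.Helper93.KRF1

/-!
# KR-F2c, core: the flip preserves `chainStab s ⊓ C(x)` (keystone K-S4651-F2c for S4651),
with the pivot invariance `piv x (flip x s) = piv x s` (KR-F2b) taken as a hypothesis.
-/

set_option autoImplicit false
set_option linter.style.haveILetI false
set_option linter.unusedSectionVars false
open Cfsg

namespace Cfsg.Agent.Lib.Helper78.KR

open Cfsg.Agent.Lib.Helper21.KR
open Cfsg.Agent.Lib.Helper93.KR

universe u

section Chain

variable {G : Type u} [Group G] [Finite G] {p : ℕ} [Fact p.Prime] {x : G}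
  {s : Finset (Subgroup G)}

/-- the stabilizer of `insert e s`. -/
theorem chainStab_insert_eq [DecidableEq (Subgroup G)] (e : Subgroup G)
    (s : Finset (Subgroup G)) :
    chainStab (insert e s) = Subgroup.normalizer ((e : Subgroup G) : Set G) ⊓ chainStab s := by
  unfold chainStab
  rw [Finset.iInf_insert]

/-- an element of `chainStab s` centralizing `x` stabilizes `insert (piv x s) s`. -/
theorem chainStab_insert_piv_inf [DecidableEq (Subgroup G)] (x : G) (s : Finset (Subgroup G)) :
    chainStab (insert (piv x s) s) ⊓ Subgroup.centralizer ({x} : Set G) =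
      chainStab s ⊓ Subgroup.centralizer ({x} : Set G) := by
  rw [chainStab_insert_eq]
  apply le_antisymm
  · intro g hg
    rw [Subgroup.mem_inf] at hg ⊢
    exact ⟨(Subgroup.mem_inf.mp hg.1).2, hg.2⟩
  · intro g hg
    rw [Subgroup.mem_inf] at hg ⊢
    refine ⟨Subgroup.mem_inf.mpr ⟨?_, hg.1⟩, hg.2⟩
    have hgx : g * x = x * g := by
      have := Subgroup.mem_centralizer_iff.mp hg.2 x (Set.mem_singleton x)
      exact this.symm
    exact mem_normalizer_piv hg.1 hgx

/-- KR-F2c with the pivot invariance (KR-F2b) as a hypothesis. -/
theorem chainStab_flip_inf_of (hpf : piv x (Helper21.KR.flip x s) = piv x s) :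
    chainStab (Helper21.KR.flip x s) ⊓ Subgroup.centralizer ({x} : Set G) =
      chainStab s ⊓ Subgroup.centralizer ({x} : Set G) := by
  classical
  by_cases he : piv x s ∈ s
  · -- erase case
    have hflip : Helper21.KR.flip x s = s.erase (piv x s) := by
      unfold Helper21.KR.flip
      rw [if_pos he]
    have hins : insert (piv x (s.erase (piv x s))) (s.erase (piv x s)) = s := by
      rw [← hflip, hpf, hflip]
      exact Finset.insert_erase he
    have h := chainStab_insert_piv_inf x (s.erase (piv x s))
    rw [hins] at h
    rw [hflip]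
    exact h.symm
  · have hflip : Helper21.KR.flip x s = insert (piv x s) s := by
      unfold Helper21.KR.flip
      rw [if_neg he]
    rw [hflip]
    exact chainStab_insert_piv_inf x s

end Chain

end Cfsg.Agent.Lib.Helper78.KR
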