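import Cfsg.Agent.Lib.Helper21.KRDefs
import Cfsg.Agent.Lib.Helper93.KRF1
import Cfsg.Agent.Lib.Helper78.KRF2b
import Cfsg.Agent.Lib.Helper78.KRF2cCore

/-!
# KR-F2c: the flip preserves `chainStab s ⊓ C(x)` (keystone K-S4651-F2c for S4651), exact signature
-/

set_option autoImplicit false
set_option linter.style.haveILetI false
set_option linter.unusedSectionVars false
open Cfsg

namespace Cfsg.Agent.Lib.Helper78.KR

open Cfsg.Agent.Lib.Helper21.KR

universe u

section Chain

variable {G : Type u} [Group G] [Finite G] {p : ℕ} [Fact p.Prime] {x : G}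
  {s : Finset (Subgroup G)}

theorem chainStab_flip_inf (hs : IsNChain p s) (hx : x ∈ chainStab s) :
    chainStab (Helper21.KR.flip x s) ⊓ Subgroup.centralizer ({x} : Set G) =
      chainStab s ⊓ Subgroup.centralizer ({x} : Set G) :=
  chainStab_flip_inf_of (piv_flip hs hx)

end Chain

end Cfsg.Agent.Lib.Helper78.KR
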