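import Mathlib

set_option autoImplicit false

/-!
# K-OMb-14 (keystone 599114, architect helper32, S5991): `type_of_mod_four`, a pure multiset lemma.
helper78
-/

namespace Cfsg.Agent.Lib.Helper78.OMb

/-- the sum of a multiset whose members lie in `{1, 3, 2}` -/
theorem sum_of_subset_triple (ν : Multiset ℕ) (h : ∀ e ∈ ν, e = 1 ∨ e = 3 ∨ e = 2) :
    ν.sum = ν.count 1 * 1 + (ν.count 3 * 3 + ν.count 2 * 2) := by
  have hsub : ν.toFinset ⊆ ({1, 3, 2} : Finset ℕ) := by
    intro e he
    rw [Multiset.mem_toFinset] at he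
    rcases h e he with rfl | rfl | rfl <;> simp
  rw [Finset.sum_multiset_count_of_subset ν _ hsub,
    Finset.sum_insert (by decide), Finset.sum_pair (by decide)]
  simp [smul_eq_mul]

theorem type_of_mod_four (d : ℕ) (ν : Multiset ℕ) (hν : ν ≤ 1 ::ₘ 3 ::ₘ Multiset.replicate (d - 2) 2)
    (he : ∀ e : ℕ, Even e → Even (ν.count e)) (hs : ν.sum % 4 = 1) :
    ∃ j : ℕ, ν = 1 ::ₘ Multiset.replicate (2 * j) 2 := by
  have hmem : ∀ e ∈ ν, e = 1 ∨ e = 3 ∨ e = 2 := by
    intro e he'
    have := Multiset.mem_of_le hν he'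
    simp only [Multiset.mem_cons, Multiset.mem_replicate] at this
    rcases this with rfl | rfl | ⟨_, rfl⟩ <;> simp
  have hsum := sum_of_subset_triple ν hmem
  have hc1 : ν.count 1 ≤ 1 := by
    have := Multiset.count_le_of_le 1 hν
    simpa [Multiset.count_replicate] using this
  have hc3 : ν.count 3 ≤ 1 := by
    have := Multiset.count_le_of_le 3 hν
    simpa [Multiset.count_replicate] using this
  obtain ⟨c, hc⟩ := he 2 (by decide)
  have h1 : ν.count 1 = 1 := by omega
  have h3 : ν.count 3 = 0 := by omega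
  refine ⟨c, ?_⟩
  ext e
  by_cases e1 : e = 1
  · subst e1
    rw [h1]
    simp [Multiset.count_replicate]
  by_cases e2 : e = 2
  · subst e2
    rw [hc, Multiset.count_cons_of_ne (by decide), Multiset.count_replicate_self]
    omega
  by_cases e3 : e = 3
  · subst e3
    rw [h3, Multiset.count_cons_of_ne (by decide), Multiset.count_replicate]
    simp
  · have hn : e ∉ ν := by
      intro h
      rcases hmem e h with h | h | h
      · exact e1 h
      · exact e3 h
      · exact e2 h
    rw [Multiset.count_eq_zero_of_notMem hn, Multiset.count_cons_of_ne e1,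
      Multiset.count_replicate, if_neg (fun h => e2 h.symm)]

end Cfsg.Agent.Lib.Helper78.OMb
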