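import Mathlib

set_option autoImplicit false

/-!
# K-OMb-9 (keystone 599109, architect helper32, S5991): `exists_bad_partition_odd`, a pure multiset
lemma (copy of `Helper60.OPb.exists_bad_partition` with the two odd parts exposed). helper78

`d` odd, `m % 4 = 3`: `k = 0`, `μ' = 2^(d-1)`; `m % 4 = 1`: `k = 1`, `μ' = 2^(d-3)`.
-/

namespace Cfsg.Agent.Lib.Helper78.OMb

/-- the sum of a multiset whose members lie in `{a, 2}` -/
theorem sum_of_subset_pair_two (ν : Multiset ℕ) (a : ℕ) (ha : a ≠ 2)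
    (h : ∀ e ∈ ν, e = a ∨ e = 2) : ν.sum = ν.count a * a + ν.count 2 * 2 := by
  have hsub : ν.toFinset ⊆ ({a, 2} : Finset ℕ) := by
    intro e he
    rw [Multiset.mem_toFinset] at he
    rcases h e he with rfl | rfl <;> simp
  rw [Finset.sum_multiset_count_of_subset ν _ hsub, Finset.sum_pair ha]
  simp [smul_eq_mul]

theorem exists_bad_partition_odd (p d m : ℕ) (hp : 3 ≤ p) (hd : 4 ≤ d) (hdo : Odd d) (hm : Odd m) :
    ∃ (μ' : Multiset ℕ) (k : ℕ), (∀ e ∈ μ', 0 < e ∧ e ≤ p) ∧ (∀ e : ℕ, Even e → Even (μ'.count e)) ∧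
      2 * k + 1 ≤ p ∧ μ'.sum + (2 * k + 1) + (2 * k + 1) = 2 * d ∧ (∃ e ∈ μ', e ≠ 1) ∧
      ∀ ν : Multiset ℕ, ν ≤ (2 * k + 1) ::ₘ (2 * k + 1) ::ₘ μ' → (∀ e : ℕ, Even e → Even (ν.count e)) → ν.sum ≠ m := by
  obtain ⟨m', hm'⟩ := hm
  obtain ⟨d', hd'⟩ := hdo
  by_cases hm4 : m % 4 = 3
  · -- `k = 0`, `μ' = 2^(d-1)`
    refine ⟨Multiset.replicate (d - 1) 2, 0, ?_, ?_, by omega, ?_, ⟨2, ?_, by norm_num⟩, ?_⟩
    · intro e he
      rw [Multiset.eq_of_mem_replicate he]
      omega
    · intro e _
      rw [Multiset.count_replicate]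
      split_ifs
      · exact ⟨d', by omega⟩
      · exact Even.zero
    · simp [Multiset.sum_replicate]
      omega
    · exact Multiset.mem_replicate.mpr ⟨by omega, rfl⟩
    · intro ν hν hev hsum
      have hmem : ∀ e ∈ ν, e = 1 ∨ e = 2 := by
        intro e he
        have := Multiset.mem_of_le hν he
        simp only [Multiset.mem_cons, Multiset.mem_replicate] at this
        rcases this with rfl | rfl | ⟨_, rfl⟩ <;> simp
      have hs := sum_of_subset_pair_two ν 1 (by norm_num) hmem
      have hc1 : ν.count 1 ≤ 2 := by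
        have := Multiset.count_le_of_le 1 hν
        simpa [Multiset.count_replicate] using this
      obtain ⟨c, hc⟩ := hev 2 (by decide)
      omega
  · -- `k = 1`, `μ' = 2^(d-3)`
    refine ⟨Multiset.replicate (d - 3) 2, 1, ?_, ?_, by omega, ?_, ⟨2, ?_, by norm_num⟩, ?_⟩
    · intro e he
      rw [Multiset.eq_of_mem_replicate he]
      omega
    · intro e _
      rw [Multiset.count_replicate]
      split_ifs
      · exact ⟨d' - 1, by omega⟩
      · exact Even.zero
    · simp [Multiset.sum_replicate]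
      omega
    · exact Multiset.mem_replicate.mpr ⟨by omega, rfl⟩
    · intro ν hν hev hsum
      have hmem : ∀ e ∈ ν, e = 3 ∨ e = 2 := by
        intro e he
        have := Multiset.mem_of_le hν he
        simp only [Multiset.mem_cons, Multiset.mem_replicate] at this
        rcases this with rfl | rfl | ⟨_, rfl⟩ <;> simp
      have hs := sum_of_subset_pair_two ν 3 (by norm_num) hmem
      have hc1 : ν.count 3 ≤ 2 := by
        have := Multiset.count_le_of_le 3 hν
        simpa [Multiset.count_replicate] using this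
      obtain ⟨c, hc⟩ := hev 2 (by decide)
      omega

end Cfsg.Agent.Lib.Helper78.OMb
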