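import Mathlib
import Cfsg.Prelude.Def_HallClasses

/-!
# Hall subgroups in the "trivial" cases (generic finite group version), helper78

`TrivG π G`: at most one prime of `π` divides `|G|`, or every prime dividing `|G|` lies in `π`.
Then Hall `π`-subgroups exist (`exists_isPiHall_of_trivG`) and are conjugate
(`conj_of_trivG`); in the first case they are Sylow subgroups (or trivial), in the second
the whole group.
-/

set_option autoImplicit false

namespace Cfsg.Agent.Lib.Helper78.HallTriv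

open Cfsg
open scoped Pointwise

/-- at most one prime of `π` divides `|G|`, or every prime dividing `|G|` lies in `π` -/
def TrivG (π : Set ℕ) (G : Type*) [Group G] : Prop :=
  (∀ r s : ℕ, r.Prime → s.Prime → r ∣ Nat.card G → s ∣ Nat.card G → r ∈ π → s ∈ π → r = s) ∨
    (∀ r : ℕ, r.Prime → r ∣ Nat.card G → r ∈ π)

/-- conjugation by `g` as `Subgroup.map` equals the pointwise action of `MulAut.conj g` -/
theorem map_conj_eq_smul {G : Type*} [Group G] (g : G) (H : Subgroup G) :
    H.map (MulAut.conj g).toMonoidHom = MulAut.conj g • H := by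
  ext x
  simp [Subgroup.mem_pointwise_smul_iff_inv_smul_mem, Subgroup.mem_map]
  constructor
  · rintro ⟨y, hy, rfl⟩
    simpa [mul_assoc] using hy
  · intro h
    exact ⟨g⁻¹ * x * g, h, by group⟩

/-- a Sylow `p`-subgroup is a Hall `π`-subgroup when `p` is the only prime of `π` dividing `|G|` -/
theorem isPiHall_sylow {G : Type*} [Group G] [Finite G] (π : Set ℕ) (p : ℕ) [Fact p.Prime]
    (hp : p ∈ π) (huniq : ∀ r : ℕ, r.Prime → r ∣ Nat.card G → r ∈ π → r = p) (P : Sylow p G) :
    IsPiHall π (P : Subgroup G) := by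
  refine ⟨fun r hr hrd => ?_, fun r hr hrπ hrd => ?_⟩
  · obtain ⟨k, hk⟩ := IsPGroup.iff_card.mp P.isPGroup'
    rw [hk] at hrd
    have : r = p := (Nat.prime_dvd_prime_iff_eq hr (Fact.out)).mp (hr.dvd_of_dvd_pow hrd)
    rw [this]; exact hp
  · have h1 : r ∣ Nat.card G := hrd.trans (Subgroup.index_dvd_card _)
    have : r = p := huniq r hr h1 hrπ
    subst this
    exact P.not_dvd_index hrd

/-- a Hall `π`-subgroup is a `p`-group with index prime to `p` when `p` is the only prime of
`π` dividing `|G|` -/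
theorem isPGroup_of_isPiHall {G : Type*} [Group G] [Finite G] (π : Set ℕ) (p : ℕ) [Fact p.Prime]
    (hp : p ∈ π) (huniq : ∀ r : ℕ, r.Prime → r ∣ Nat.card G → r ∈ π → r = p) (H : Subgroup G)
    (hH : IsPiHall π H) : IsPGroup p H ∧ ¬ p ∣ H.index := by
  refine ⟨?_, hH.2 p Fact.out hp⟩
  have hne : Nat.card H ≠ 0 := Nat.card_pos.ne'
  have := Nat.eq_prime_pow_of_unique_prime_dvd hne (p := p) (fun {d} hd hdd =>
    huniq d hd (hdd.trans (Subgroup.card_subgroup_dvd_card H)) (hH.1 d hd hdd))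
  exact IsPGroup.of_card this

/-- the trivial subgroup is Hall when no prime of `π` divides `|G|` -/
theorem isPiHall_bot {G : Type*} [Group G] [Finite G] (π : Set ℕ)
    (hno : ∀ r : ℕ, r.Prime → r ∣ Nat.card G → r ∉ π) : IsPiHall π (⊥ : Subgroup G) := by
  refine ⟨fun r hr hrd => ?_, fun r hr hrπ hrd => ?_⟩
  · rw [Subgroup.card_bot] at hrd
    exact absurd (Nat.dvd_one.mp hrd) hr.ne_one
  · rw [Subgroup.index_bot] at hrd
    exact hno r hr hrd hrπ

/-- a Hall subgroup is trivial when no prime of `π` divides `|G|` -/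
theorem eq_bot_of_isPiHall {G : Type*} [Group G] [Finite G] (π : Set ℕ)
    (hno : ∀ r : ℕ, r.Prime → r ∣ Nat.card G → r ∉ π) (H : Subgroup G) (hH : IsPiHall π H) :
    H = ⊥ := by
  rw [← Subgroup.card_eq_one]
  by_contra hne
  obtain ⟨r, hr, hrd⟩ := Nat.exists_prime_and_dvd hne
  exact hno r hr (hrd.trans (Subgroup.card_subgroup_dvd_card H)) (hH.1 r hr hrd)

/-- the whole group is Hall when every prime dividing `|G|` lies in `π` -/
theorem isPiHall_top {G : Type*} [Group G] [Finite G] (π : Set ℕ)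
    (hall : ∀ r : ℕ, r.Prime → r ∣ Nat.card G → r ∈ π) : IsPiHall π (⊤ : Subgroup G) := by
  refine ⟨fun r hr hrd => ?_, fun r hr _ hrd => ?_⟩
  · rw [Subgroup.card_top] at hrd
    exact hall r hr hrd
  · rw [Subgroup.index_top] at hrd
    exact absurd (Nat.dvd_one.mp hrd) hr.ne_one

/-- a Hall subgroup is the whole group when every prime dividing `|G|` lies in `π` -/
theorem eq_top_of_isPiHall {G : Type*} [Group G] [Finite G] (π : Set ℕ)
    (hall : ∀ r : ℕ, r.Prime → r ∣ Nat.card G → r ∈ π) (H : Subgroup G) (hH : IsPiHall π H) :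
    H = ⊤ := by
  rw [← Subgroup.index_eq_one]
  by_contra hne
  obtain ⟨r, hr, hrd⟩ := Nat.exists_prime_and_dvd hne
  exact hH.2 r hr (hall r hr (hrd.trans (Subgroup.index_dvd_card H))) hrd

/-- **existence** of Hall subgroups in the trivial cases -/
theorem exists_isPiHall_of_trivG {G : Type*} [Group G] [Finite G] (π : Set ℕ)
    (hT : TrivG π G) : ∃ H : Subgroup G, IsPiHall π H := by
  rcases hT with hT | hT
  · by_cases hex : ∃ p : ℕ, p.Prime ∧ p ∣ Nat.card G ∧ p ∈ π
    · obtain ⟨p, hp, hpd, hpπ⟩ := hex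
      have : Fact p.Prime := ⟨hp⟩
      obtain ⟨P⟩ : Nonempty (Sylow p G) := inferInstance
      exact ⟨P, isPiHall_sylow π p hpπ (fun r hr hrd hrπ => hT r p hr hp hrd hpd hrπ hpπ) P⟩
    · push Not at hex
      exact ⟨⊥, isPiHall_bot π (fun r hr hrd hrπ => hex r hr hrd hrπ)⟩
  · exact ⟨⊤, isPiHall_top π hT⟩

/-- **conjugacy** of Hall subgroups in the trivial cases -/
theorem conj_of_trivG {G : Type*} [Group G] [Finite G] (π : Set ℕ)
    (hT : TrivG π G) (H K : Subgroup G) (hH : IsPiHall π H) (hK : IsPiHall π K) :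
    ∃ g : G, K = H.map (MulAut.conj g).toMonoidHom := by
  rcases hT with hT | hT
  · by_cases hex : ∃ p : ℕ, p.Prime ∧ p ∣ Nat.card G ∧ p ∈ π
    · obtain ⟨p, hp, hpd, hpπ⟩ := hex
      have : Fact p.Prime := ⟨hp⟩
      have huniq : ∀ r : ℕ, r.Prime → r ∣ Nat.card G → r ∈ π → r = p :=
        fun r hr hrd hrπ => hT r p hr hp hrd hpd hrπ hpπ
      obtain ⟨hH1, hH2⟩ := isPGroup_of_isPiHall π p hpπ huniq H hH
      obtain ⟨hK1, hK2⟩ := isPGroup_of_isPiHall π p hpπ huniq K hK
      obtain ⟨g, hg⟩ := MulAction.exists_smul_eq G (hH1.toSylow hH2) (hK1.toSylow hK2)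
      refine ⟨g, ?_⟩
      have h2 := congrArg (fun P : Sylow p G => (P : Subgroup G)) hg
      simp only [Sylow.smul_def, Sylow.pointwise_smul_def, IsPGroup.toSylow_coe] at h2
      rw [map_conj_eq_smul]
      exact h2.symm
    · push Not at hex
      have hno : ∀ r : ℕ, r.Prime → r ∣ Nat.card G → r ∉ π := fun r hr hrd hrπ => hex r hr hrd hrπ
      refine ⟨1, ?_⟩
      rw [eq_bot_of_isPiHall π hno H hH, eq_bot_of_isPiHall π hno K hK, Subgroup.map_bot]
  · refine ⟨1, ?_⟩
    rw [eq_top_of_isPiHall π hT H hH, eq_top_of_isPiHall π hT K hK]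
    simp

end Cfsg.Agent.Lib.Helper78.HallTriv
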