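import Mathlib
import Cfsg.Prelude.Def_HallClasses
import Cfsg.Agent.Lib.Helper06.HallSym.Keys
import Cfsg.Agent.Lib.Helper38.HallAlt.Main
import Cfsg.Agent.Lib.Helper78.HallTrivGen

/-!
# HallAlt pack part 2: keystones K-HB-T1 (253817) and K-HB-T2 (253818), helper78

Trivial cases for `Perm α`: existence and conjugacy of Hall `π`-subgroups.
-/

set_option autoImplicit false
open Cfsg
open scoped Pointwise

namespace Cfsg.Agent.Lib.Helper78.HallAlt
open Cfsg.Agent.Lib.Helper06.HallSym Cfsg.Agent.Lib.Helper38.HallAlt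
open Cfsg.Agent.Lib.Helper78.HallTriv

/-- a prime dividing the order of a subgroup of `Perm α` is at most `|α|` -/
theorem prime_le_of_dvd_card_subgroup {α : Type} [Finite α] (L : Subgroup (Equiv.Perm α))
    {r : ℕ} (hr : r.Prime) (hrd : r ∣ Nat.card L) : r ≤ Nat.card α := by
  have h1 : r ∣ Nat.card (Equiv.Perm α) := hrd.trans (Subgroup.card_subgroup_dvd_card L)
  rw [Nat.card_perm] at h1
  exact hr.dvd_factorial.mp h1

/-- `Triv π |α|` gives the generic triviality hypothesis for every subgroup of `Perm α` -/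
theorem trivG_subgroup_of_triv (π : Set ℕ) {α : Type} [Finite α] (hT : Triv π (Nat.card α))
    (L : Subgroup (Equiv.Perm α)) : TrivG π L := by
  rcases hT with hT | hT
  · left
    intro r s hr hs hrd hsd hrπ hsπ
    exact hT r s hr hs (prime_le_of_dvd_card_subgroup L hr hrd)
      (prime_le_of_dvd_card_subgroup L hs hsd) hrπ hsπ
  · right
    intro r hr hrd
    exact hT r hr (prime_le_of_dvd_card_subgroup L hr hrd)

/-- `Triv π |α|` gives the generic triviality hypothesis for `Perm α` -/
theorem trivG_perm_of_triv (π : Set ℕ) {α : Type} [Finite α] (hT : Triv π (Nat.card α)) :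
    TrivG π (Equiv.Perm α) := by
  rcases hT with hT | hT
  · left
    intro r s hr hs hrd hsd hrπ hsπ
    rw [Nat.card_perm] at hrd hsd
    exact hT r s hr hs (hr.dvd_factorial.mp hrd) (hs.dvd_factorial.mp hsd) hrπ hsπ
  · right
    intro r hr hrd
    rw [Nat.card_perm] at hrd
    exact hT r hr (hr.dvd_factorial.mp hrd)

/-- **K-HB-T1** (253817). -/
theorem hall_of_triv (π : Set ℕ) {α : Type} [Finite α] (hT : Triv π (Nat.card α)) :
    IsEPiGroup π (Equiv.Perm α) :=
  exists_isPiHall_of_trivG π (trivG_perm_of_triv π hT)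

/-- **K-HB-T2** (253818). -/
theorem conj_of_triv (π : Set ℕ) {α : Type} [Finite α] (hT : Triv π (Nat.card α))
    (H K : Subgroup (Equiv.Perm α)) (hH : IsPiHall π H) (hK : IsPiHall π K) :
    ∃ g : Equiv.Perm α, K = H.map (MulAut.conj g).toMonoidHom :=
  conj_of_trivG π (trivG_perm_of_triv π hT) H K hH hK

end Cfsg.Agent.Lib.Helper78.HallAlt
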