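import Mathlib
import Cfsg.Prelude.Def_HallClasses
import Cfsg.Agent.Lib.Helper06.HallSym.Keys
import Cfsg.Agent.Lib.Helper38.HallAlt.Main
import Cfsg.Agent.Lib.Helper78.HallTrivGen
import Cfsg.Agent.Lib.Helper78.HallAltT12

/-!
# HallAlt pack part 2: keystone K-HB-T4 (253820), helper78

Trivial cases, `2 ∈ π`: a Hall `π`-subgroup `H` of `Alt(α)` is `M₀ ⊓ Alt(α)` for a Hall
`π`-subgroup `M₀` of `Perm α` not contained in `Alt(α)` (when `2 ≤ |α|`).
-/

set_option autoImplicit false
open Cfsg
open scoped Pointwise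

namespace Cfsg.Agent.Lib.Helper78.HallAlt
open Cfsg.Agent.Lib.Helper06.HallSym Cfsg.Agent.Lib.Helper38.HallAlt
open Cfsg.Agent.Lib.Helper78.HallTriv

/-- the alternating subgroup has index two when `2 ≤ |α|` -/
theorem altSub_index_eq_two {α : Type} [Finite α] (h2 : 2 ≤ Nat.card α) :
    (altSub α).index = 2 := by
  classical
  let _ := Fintype.ofFinite α
  have : Nontrivial α := by
    rw [← Finite.one_lt_card_iff_nontrivial]
    omega
  rw [altSub_eq]
  exact alternatingGroup.index_eq_two

/-- **K-HB-T4** (253820). -/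
theorem exists_ext_of_triv (π : Set ℕ) (h2 : 2 ∈ π) {α : Type} [Finite α] (hT : Triv π (Nat.card α))
    (H : Subgroup (Equiv.Perm α)) (hH : AltHall π H) :
    ∃ M₀ : Subgroup (Equiv.Perm α), IsPiHall π M₀ ∧ M₀ ⊓ altSub α = H ∧
      (2 ≤ Nat.card α → ¬ M₀ ≤ altSub α) := by
  obtain ⟨hHA, hH1, hH2⟩ := hH
  by_cases hn : 2 ≤ Nat.card α
  swap
  · -- `Perm α` is trivial
    have hsub : Subsingleton α := by
      rw [← Finite.card_le_one_iff_subsingleton]
      omega
    have hcard : Nat.card (Equiv.Perm α) = 1 := by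
      rw [Nat.card_perm]
      have : Nat.card α ≤ 1 := by omega
      interval_cases (Nat.card α) <;> rfl
    refine ⟨⊤, isPiHall_top π (fun r hr hrd => ?_), ?_, fun h => absurd h hn⟩
    · rw [hcard] at hrd
      exact absurd (Nat.dvd_one.mp hrd) hr.ne_one
    · have : Subsingleton (Equiv.Perm α) := (Nat.card_eq_one_iff_unique.mp hcard).1
      exact Subsingleton.elim _ _
  · have hidx := altSub_index_eq_two hn
    rcases hT with hT | hT
    · -- at most one prime of `π` up to `n`: it is `2`
      have : Fact (Nat.Prime 2) := ⟨Nat.prime_two⟩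
      have huniq : ∀ r : ℕ, r.Prime → r ∣ Nat.card (Equiv.Perm α) → r ∈ π → r = 2 := by
        intro r hr hrd hrπ
        rw [Nat.card_perm] at hrd
        exact hT r 2 hr Nat.prime_two (hr.dvd_factorial.mp hrd) hn hrπ h2
      have hHp : IsPGroup 2 H := by
        have hne : Nat.card H ≠ 0 := Nat.card_pos.ne'
        have := Nat.eq_prime_pow_of_unique_prime_dvd hne (p := 2) (fun {d} hd hdd =>
          huniq d hd (hdd.trans (Subgroup.card_subgroup_dvd_card H)) (hH1 d hd hdd))
        exact IsPGroup.of_card this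
      obtain ⟨P, hHP⟩ := hHp.exists_le_sylow
      have hinf : (P : Subgroup (Equiv.Perm α)) ⊓ altSub α = H := by
        apply le_antisymm
        · have hHQ : H ≤ (P : Subgroup (Equiv.Perm α)) ⊓ altSub α := le_inf hHP hHA
          have hQA : (P : Subgroup (Equiv.Perm α)) ⊓ altSub α ≤ altSub α := inf_le_right
          have hmul := Subgroup.relIndex_mul_relIndex H _ _ hHQ hQA
          rw [← Subgroup.relIndex_eq_one]
          by_contra hne
          obtain ⟨r, hr, hrd⟩ := Nat.exists_prime_and_dvd hne
          have hr2 : r = 2 := by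
            have h1 : r ∣ Nat.card ((P : Subgroup (Equiv.Perm α)) ⊓ altSub α : Subgroup _) :=
              hrd.trans (Subgroup.relIndex_dvd_card _ _)
            have h3 : r ∣ Nat.card (P : Subgroup (Equiv.Perm α)) :=
              h1.trans (Subgroup.card_dvd_of_le inf_le_left)
            obtain ⟨k, hk⟩ := IsPGroup.iff_card.mp P.isPGroup'
            rw [hk] at h3
            exact (Nat.prime_dvd_prime_iff_eq hr Nat.prime_two).mp (hr.dvd_of_dvd_pow h3)
          subst hr2
          exact hH2 2 Nat.prime_two h2 (hmul ▸ Dvd.dvd.mul_right hrd _)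
        · exact le_inf hHP hHA
      refine ⟨P, isPiHall_sylow π 2 h2 huniq P, hinf, fun _ hPA => ?_⟩
      have hmul := Subgroup.relIndex_mul_index hPA
      rw [hidx] at hmul
      exact P.not_dvd_index (hmul ▸ Dvd.intro_left _ rfl)
    · -- every prime up to `n` lies in `π`
      have hall : ∀ r : ℕ, r.Prime → r ∣ Nat.card (Equiv.Perm α) → r ∈ π := by
        intro r hr hrd
        rw [Nat.card_perm] at hrd
        exact hT r hr (hr.dvd_factorial.mp hrd)
      refine ⟨⊤, isPiHall_top π hall, ?_, fun _ htop => ?_⟩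
      · rw [top_inf_eq]
        apply le_antisymm _ hHA
        rw [← Subgroup.relIndex_eq_one]
        by_contra hne
        obtain ⟨r, hr, hrd⟩ := Nat.exists_prime_and_dvd hne
        have h1 : r ∣ Nat.card (altSub α) := hrd.trans (Subgroup.relIndex_dvd_card _ _)
        exact hH2 r hr (hT r hr (prime_le_of_dvd_card_subgroup _ hr h1)) hrd
      · have : altSub α = ⊤ := top_le_iff.mp htop
        rw [this, Subgroup.index_top] at hidx
        omega
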