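import Cfsg.Agent.Lib.Helper78.SpUAux

set_option autoImplicit false
set_option linter.unusedSimpArgs false
set_option linter.unusedVariables false
set_option linter.unusedSectionVars false

/-!
# S5665 pack (architect helper44), keystone 566508 K-SpU2-C `pair_mem`. helper78
-/

namespace Cfsg.Agent.Lib.Helper78.SpU

open Matrix Cfsg.Agent.Lib.Helper18 Cfsg.Agent.Lib.Helper11.SpMax Cfsg.Agent.Lib.Helper44.SpU

variable {F : Type*} [Field F] [Fintype F] {m : ℕ}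

local notation "V" => (Fin m ⊕ Fin m → F)
local notation "ff" => Cfsg.sympForm m F
local notation "GLm" => Matrix.GeneralLinearGroup (Fin m ⊕ Fin m) F
local notation "Mat" => Matrix (Fin m ⊕ Fin m) (Fin m ⊕ Fin m) F

/-- KEYSTONE 566508 K-SpU2-C. -/
theorem pair_mem (U : SData m F) (M : Subgroup GLm) (hM : M ≤ Cfsg.spGL m F) (v v' x : V)
    (hvv' : ff v v' = 0) (hx : KI U x) (h1 : ff v x = 1) (h2 : ff v (U.δ *ᵥ x) = 0)
    (h3 : ff v' x = 0) (h4 : ff v' (U.δ *ᵥ x) = 0)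
    (hP : ∀ c : F, tg m v c * tg m v' (-(c / U.d)) ∈ M) (hQ : ∀ c : F, ut U x c ∈ M) :
    ∀ c : F, tg m v' (-c) * tg m (U.δ *ᵥ x) c ∈ M := by
  intro c
  have hx' : ff x (U.δ *ᵥ x) = 0 := hx
  have hv'v : ff v' v = 0 := by rw [sf_swap, hvv', neg_zero]
  have hxv : ff x v = -1 := by rw [sf_swap, h1]
  have hδxv : ff (U.δ *ᵥ x) v = 0 := by rw [sf_swap, h2, neg_zero]
  have hxv' : ff x v' = 0 := by rw [sf_swap, h3, neg_zero]
  have hδxv' : ff (U.δ *ᵥ x) v' = 0 := by rw [sf_swap, h4, neg_zero]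
  have hδxx : ff (U.δ *ᵥ x) x = 0 := by rw [sf_swap, hx', neg_zero]
  -- the actions of `P 1` and `Q 1`
  have hPact : ∀ y : V, (tg m v 1 * tg m v' (-(1 / U.d))).1 *ᵥ y =
      y + (-(1 / U.d) * ff y v') • v' + ff y v • v := by
    intro y
    rw [gl_mul_act, tg_act, tg_act]
    simp only [sf_add_left, sf_smul_left, hv'v, mul_zero, add_zero, one_mul]
  have hQact : ∀ y : V, (ut U x 1).1 *ᵥ y =
      y + (-(1 / U.d) * ff y (U.δ *ᵥ x)) • (U.δ *ᵥ x) + ff y x • x := by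
    intro y
    unfold ut
    rw [gl_mul_act, tg_act, tg_act]
    simp only [sf_add_left, sf_smul_left, hδxx, mul_zero, add_zero, one_mul]
  have hWM : (tg m v 1 * tg m v' (-(1 / U.d))) * ut U x 1 * (tg m v 1 * tg m v' (-(1 / U.d))) ∈ M :=
    M.mul_mem (M.mul_mem (hP 1) (hQ 1)) (hP 1)
  have hWS := hM hWM
  have hWv : ((tg m v 1 * tg m v' (-(1 / U.d))) * ut U x 1 *
      (tg m v 1 * tg m v' (-(1 / U.d)))).1 *ᵥ v = x := by
    rw [gl_mul_act, gl_mul_act, hPact v, sf_self, hvv']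
    simp only [mul_zero, zero_smul, add_zero]
    rw [hQact v, h2, h1]
    simp only [mul_zero, zero_smul, add_zero, one_smul]
    rw [hPact (v + x)]
    simp only [sf_add_left, sf_self, hvv', hxv', hxv, add_zero, mul_zero, zero_smul, zero_add]
    module
  have hWv' : ((tg m v 1 * tg m v' (-(1 / U.d))) * ut U x 1 *
      (tg m v 1 * tg m v' (-(1 / U.d)))).1 *ᵥ v' = v' := by
    rw [gl_mul_act, gl_mul_act, hPact v', sf_self, hv'v]
    simp only [mul_zero, zero_smul, add_zero]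
    rw [hQact v', h4, h3]
    simp only [mul_zero, zero_smul, add_zero]
    rw [hPact v', sf_self, hv'v]
    simp only [mul_zero, zero_smul, add_zero]
  -- conjugate `P (d c)` by `W` and multiply by `Q (d c)⁻¹`
  have hdc : U.d * c / U.d = c := by
    rw [mul_comm, mul_div_assoc, div_self U.d_ne_zero, mul_one]
  have hmem : ((tg m v 1 * tg m v' (-(1 / U.d))) * ut U x 1 * (tg m v 1 * tg m v' (-(1 / U.d)))) *
      (tg m v (U.d * c) * tg m v' (-(U.d * c / U.d))) *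
      ((tg m v 1 * tg m v' (-(1 / U.d))) * ut U x 1 * (tg m v 1 * tg m v' (-(1 / U.d))))⁻¹ *
      (ut U x (U.d * c))⁻¹ ∈ M :=
    M.mul_mem (M.mul_mem (M.mul_mem hWM (hP _)) (M.inv_mem hWM)) (M.inv_mem (hQ _))
  have heq : ((tg m v 1 * tg m v' (-(1 / U.d))) * ut U x 1 * (tg m v 1 * tg m v' (-(1 / U.d)))) *
      (tg m v (U.d * c) * tg m v' (-(U.d * c / U.d))) *
      ((tg m v 1 * tg m v' (-(1 / U.d))) * ut U x 1 * (tg m v 1 * tg m v' (-(1 / U.d))))⁻¹ *
      (ut U x (U.d * c))⁻¹ = tg m v' (-c) * tg m (U.δ *ᵥ x) c := by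
    set W := (tg m v 1 * tg m v' (-(1 / U.d))) * ut U x 1 * (tg m v 1 * tg m v' (-(1 / U.d)))
      with hW
    have hsplit : W * (tg m v (U.d * c) * tg m v' (-(U.d * c / U.d))) * W⁻¹ =
        (W * tg m v (U.d * c) * W⁻¹) * (W * tg m v' (-(U.d * c / U.d)) * W⁻¹) := by group
    rw [hsplit, conj_tg m W hWS, conj_tg m W hWS, hWv, hWv', hdc]
    have hut : (ut U x (U.d * c))⁻¹ = tg m (U.δ *ᵥ x) c * tg m x (-(U.d * c)) := by
      unfold ut
      rw [_root_.mul_inv_rev, tg_inv, tg_inv, neg_neg, hdc]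
    rw [hut]
    -- `tg x _` commutes with `tg v' _` and `tg (δ x) _`
    have c1 : tg m x (U.d * c) * tg m v' (-c) = tg m v' (-c) * tg m x (U.d * c) :=
      tg_comm_of_orth x v' hxv' _ _
    have c2 : tg m x (U.d * c) * tg m (U.δ *ᵥ x) c = tg m (U.δ *ᵥ x) c * tg m x (U.d * c) :=
      tg_comm_of_orth x (U.δ *ᵥ x) hx' _ _
    calc tg m x (U.d * c) * tg m v' (-c) * (tg m (U.δ *ᵥ x) c * tg m x (-(U.d * c)))
        = tg m v' (-c) * (tg m x (U.d * c) * tg m (U.δ *ᵥ x) c) * tg m x (-(U.d * c)) := by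
          rw [c1]; group
      _ = tg m v' (-c) * tg m (U.δ *ᵥ x) c * (tg m x (U.d * c) * tg m x (-(U.d * c))) := by
          rw [c2]; group
      _ = tg m v' (-c) * tg m (U.δ *ᵥ x) c := by rw [tg_mul_neg, mul_one]
  rw [← heq]
  exact hmem

end Cfsg.Agent.Lib.Helper78.SpU
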