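import Mathlib
import Cfsg.Agent.Lib.Helper02.BG1359
import Cfsg.Agent.Lib.Helper13.BG127
import Cfsg.Agent.Lib.Helper01.ExponentX
import Cfsg.Agent.Lib.Helper78.BG128
import Cfsg.Agent.S0051
import Cfsg.Agent.S1416
import Cfsg.Agent.S1417
import Cfsg.Agent.S1418

/-!
# BG Corollary 12.11 (statement S1421), the case of a nonabelian Sylow `p`-subgroup, `p ∈ τ₂(M)`

In the configuration of BG Theorem 12.7 (`Helper13.BG127.Ctx`), `A₀ = C_A(M_σ)` is a normal subgroup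
of order `p` of `E` containing all `C_E(x)`, `x ∈ M_σ#`; it has a complement `E₀` in `E`
(Gaschütz), which acts semiregularly on `M_σ` and has the same exponent as `E`.
-/

set_option autoImplicit false

namespace Cfsg.Agent.Lib.Helper78.BG1211

open Cfsg Cfsg.Agent.Lib.Helper55 Cfsg.Agent.Lib.Helper13.BG12 Cfsg.Agent.Lib.Helper71.BG11
open Cfsg.Agent.Lib.Helper13.BG127

/-- In a finite abelian group, a subgroup meeting the subgroup of `p`-th powers trivially is a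
direct factor. -/
theorem exists_compl_of_pow_inf_eq_bot {S : Type*} [CommGroup S] [Finite S] {p : ℕ} (hp : p.Prime)
    (A0 : Subgroup S) (h : ∀ s : S, s ^ p ∈ A0 → s ^ p = 1) :
    ∃ B : Subgroup S, B ⊓ A0 = ⊥ ∧ A0 ⊔ B = ⊤ := by
  classical
  let P : Set (Subgroup S) := {B | (∀ s : S, s ^ p ∈ B) ∧ B ⊓ A0 = ⊥}
  have hne : P.Nonempty := by
    refine ⟨(powMonoidHom p : S →* S).range, ?_, ?_⟩
    · intro s; exact ⟨s, rfl⟩
    · rw [eq_bot_iff]
      rintro t ⟨⟨s, rfl⟩, ht⟩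
      exact h s ht
  obtain ⟨B, hBP, hBmax⟩ := (wellFounded_gt (α := Subgroup S)).has_min P hne
  refine ⟨B, hBP.2, ?_⟩
  rw [eq_top_iff]
  intro s _
  by_contra hs
  have hsB : s ∉ B := fun hsB => hs ((le_sup_right : B ≤ A0 ⊔ B) hsB)
  apply hBmax (B ⊔ Subgroup.zpowers s) ?_ ?_
  · refine ⟨fun s' => (le_sup_left : B ≤ B ⊔ Subgroup.zpowers s) (hBP.1 s'), ?_⟩
    rw [eq_bot_iff]
    rintro t ⟨htB, htA⟩
    obtain ⟨b, hb, z, hz, rfl⟩ := Subgroup.mem_sup.mp htB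
    obtain ⟨i, rfl⟩ := Subgroup.mem_zpowers_iff.mp hz
    by_cases hpi : (p : ℤ) ∣ i
    · obtain ⟨j, rfl⟩ := hpi
      have : s ^ ((p : ℤ) * j) ∈ B := by
        rw [zpow_mul, zpow_natCast]
        exact B.zpow_mem (hBP.1 s) j
      have h2 : b * s ^ ((p : ℤ) * j) ∈ B ⊓ A0 := ⟨B.mul_mem hb this, htA⟩
      rw [hBP.2] at h2
      exact h2
    · exfalso
      have hcop : IsCoprime (p : ℤ) i :=
        ((Nat.prime_iff_prime_int.mp hp).irreducible.coprime_iff_not_dvd).mpr hpi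
      obtain ⟨u, v, huv⟩ := hcop
      have hsi : s ^ i ∈ A0 ⊔ B := by
        have : s ^ i = (b * s ^ i) * b⁻¹ := by rw [mul_comm b, mul_inv_cancel_right]
        rw [this]
        exact Subgroup.mul_mem_sup htA (B.inv_mem hb)
      have hsp : s ^ (p : ℤ) ∈ A0 ⊔ B := by
        rw [zpow_natCast]
        exact (le_sup_right : B ≤ A0 ⊔ B) (hBP.1 s)
      apply hs
      have : s = (s ^ (p : ℤ)) ^ u * (s ^ i) ^ v := by
        rw [← zpow_mul, ← zpow_mul, ← zpow_add, mul_comm (p : ℤ), mul_comm i, huv, zpow_one]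
      rw [this]
      exact (A0 ⊔ B).mul_mem ((A0 ⊔ B).zpow_mem hsp u) ((A0 ⊔ B).zpow_mem hsi v)
  · refine lt_of_le_of_ne le_sup_left ?_
    intro heq
    apply hsB
    rw [heq]
    exact (le_sup_right : Subgroup.zpowers s ≤ B ⊔ Subgroup.zpowers s) (Subgroup.mem_zpowers s)

variable {G : Type*} [Group G] [Finite G]

/-- the same for a commutative subgroup `S` of a group -/
theorem exists_compl_in_comm_subgroup {p : ℕ} (hp : p.Prime)
    {S A0 : Subgroup G} (hcomm : ∀ a ∈ S, ∀ b ∈ S, a * b = b * a) (hA0S : A0 ≤ S)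
    (h : ∀ s ∈ S, s ^ p ∈ A0 → s ^ p = 1) :
    ∃ B : Subgroup G, B ≤ S ∧ B ⊓ A0 = ⊥ ∧ A0 ⊔ B = S := by
  let _ : CommGroup ↥S := { (inferInstance : Group ↥S) with
    mul_comm := fun a b => Subtype.ext (hcomm a a.2 b b.2) }
  obtain ⟨B, hB1, hB2⟩ := exists_compl_of_pow_inf_eq_bot (S := ↥S) hp (A0.subgroupOf S) (by
    intro s hs
    rw [Subgroup.mem_subgroupOf] at hs
    have := h (s : G) s.2 (by simpa using hs)
    exact Subtype.ext (by simpa using this))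
  refine ⟨B.map S.subtype, Subgroup.map_subtype_le _, ?_, ?_⟩
  · rw [eq_bot_iff]
    rintro x ⟨⟨y, hy, rfl⟩, hxA⟩
    have : y ∈ B ⊓ A0.subgroupOf S := ⟨hy, Subgroup.mem_subgroupOf.mpr hxA⟩
    rw [hB1, Subgroup.mem_bot] at this
    rw [this]
    exact Subgroup.mem_bot.mpr rfl
  · apply le_antisymm
    · exact sup_le hA0S (Subgroup.map_subtype_le _)
    · intro s hs
      have : (⟨s, hs⟩ : ↥S) ∈ A0.subgroupOf S ⊔ B := by rw [hB2]; exact Subgroup.mem_top _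
      obtain ⟨a, ha, b, hb, hab⟩ := Subgroup.mem_sup.mp this
      have hs' : s = (a : G) * (b : G) := by
        have := congrArg Subtype.val hab
        simpa using this.symm
      rw [hs']
      exact Subgroup.mul_mem_sup (Subgroup.mem_subgroupOf.mp ha) ⟨b, hb, rfl⟩

/-- **Key.** In the configuration of BG 12.7, no non-identity element of `A₀ = C_A(M_σ)` is a
`p`-th power of an element of `E`. -/
theorem pow_eq_one_of_pow_mem_A0 {M E A S : Subgroup G} {p : ℕ} [hp : Fact p.Prime]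
    {P : Sylow p G} {x₀ : G} (c : Ctx M E A S p P x₀) {v : G} (hvE : v ∈ E)
    (hvA : v ^ p ∈ A ⊓ Subgroup.centralizer (sigmaCore M : Set G)) : v ^ p = 1 := by
  have hpp : p.Prime := hp.out
  have hG := c.hG
  obtain ⟨hA₀c, -, hA₀Z, -⟩ := c.main_c
  by_contra hw1
  have hvpp : v ^ (p * p) = 1 := by
    rw [pow_mul]
    exact c.hAe.2 _ hvA.1
  -- conjugate `v` into `S`
  have hVp : IsPGroup p (Subgroup.zpowers v) := by
    rw [IsPGroup.iff_card]
    have hd : orderOf v ∣ p ^ 2 := by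
      rw [pow_two]; exact orderOf_dvd_of_pow_eq_one hvpp
    obtain ⟨k, -, hk⟩ := (Nat.dvd_prime_pow hpp).mp hd
    exact ⟨k, by rw [Nat.card_zpowers, hk]⟩
  have hVM : Subgroup.zpowers v ≤ M := Subgroup.zpowers_le.mpr (c.hEM hvE)
  obtain ⟨m, hmM, hmS⟩ := c.hS.exists_conj_le hVM hVp
  have hv'S : m * v * m⁻¹ ∈ S := hmS (conj_mem_cj (Subgroup.mem_zpowers v))
  have hv'P : m * v * m⁻¹ ∈ (P : Subgroup G) := c.hSP hv'S
  have hv'C : m * v * m⁻¹ ∈ Subgroup.centralizer (A : Set G) := by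
    rw [Subgroup.mem_centralizer_iff]
    intro a ha
    exact c.hScomm a (c.hAS ha) _ hv'S
  have hv'pp : (m * v * m⁻¹) ^ (p * p) = 1 := by
    rw [conj_pow, hvpp, mul_one, mul_inv_cancel]
  have hcen := (Cfsg.Agent.Lib.Helper68.BGCentAb.comm_of_sylow hG p P A c.hAP c.hAe c.hAc
    (fun B _ hBe hAB => c.hAmax B hBe hAB)).2 (m * v * m⁻¹) ⟨hv'P, hv'C⟩ hv'pp
  have hzeq : (m * v * m⁻¹) ^ p = m * v ^ p * m⁻¹ := conj_pow
  have hzZ : m * v ^ p * m⁻¹ ∈ omz p (P : Subgroup G) := by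
    rw [← hzeq, mem_omz]
    refine ⟨(P : Subgroup G).pow_mem hv'P p, fun y hy => (hcen y hy).symm, ?_⟩
    rw [← pow_mul]; exact hv'pp
  have hzA₀ : m * v ^ p * m⁻¹ ∈ A ⊓ Subgroup.centralizer (sigmaCore M : Set G) :=
    (Subgroup.mem_normalizer_iff.mp (c.le_normalizer_A0 hmM) _).mp hvA
  have hz1 : m * v ^ p * m⁻¹ ≠ 1 := by
    intro h
    apply hw1
    have := congrArg (fun t => m⁻¹ * t * m) h
    simpa [mul_assoc] using this
  exact hA₀Z (eq_of_card_prime_of_mem hA₀c c.hZc hzA₀ hzZ hz1)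

/-- **Part 1.** `C_E(x) ≤ A₀` for every non-identity `x ∈ M_σ`. -/
theorem centralizer_le_A0 {M E A S : Subgroup G} {p : ℕ} [hp : Fact p.Prime]
    {P : Sylow p G} {x₀ : G} (c : Ctx M E A S p P x₀) (hτ : tau2 M = {p})
    (h : ∀ e ∈ E, e ≠ 1 → (∀ q : ℕ, q.Prime → q ∣ orderOf e → q ∈ tau1 M ∪ tau3 M) →
      sigmaCore M ⊓ Subgroup.centralizer ({e} : Set G) = ⊥)
    {x : G} (hx : x ∈ sigmaCore M) (hx1 : x ≠ 1) :
    E ⊓ Subgroup.centralizer ({x} : Set G) ≤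
      A ⊓ Subgroup.centralizer (sigmaCore M : Set G) := by
  intro y hy
  obtain ⟨hyE, hyC⟩ := Subgroup.mem_inf.mp hy
  by_cases hy1 : y = 1
  · rw [hy1]; exact Subgroup.one_mem _
  have hcomm : y * x = x * y := by
    rw [Subgroup.mem_centralizer_iff] at hyC
    exact (hyC x rfl).symm
  refine Cfsg.Agent.Lib.Helper02.BG1359.mem_A0_of_ctx c hyE hy1 ?_ hx hx1 hcomm
  intro q hq hqd
  by_contra hqp
  have hn0 : orderOf y ≠ 0 := (orderOf_pos y).ne'
  obtain ⟨m, hm⟩ := hqd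
  have hm0 : m ≠ 0 := by
    rintro rfl
    rw [mul_zero] at hm
    exact hn0 hm
  have hmd : m ∣ orderOf y := ⟨q, by rw [hm, mul_comm]⟩
  have hord : orderOf (y ^ m) = q := by
    rw [orderOf_pow_of_dvd hm0 hmd]
    conv_lhs => rw [hm]
    exact Nat.mul_div_cancel _ (Nat.pos_of_ne_zero hm0)
  have huE : y ^ m ∈ E := E.pow_mem hyE m
  have hu1 : y ^ m ≠ 1 := by
    intro h1
    rw [h1, orderOf_one] at hord
    exact hq.one_lt.ne hord
  have hqE : q ∣ Nat.card E := by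
    have h1 : q ∣ orderOf y := ⟨m, hm⟩
    have h2 : orderOf y ∣ Nat.card E := by
      have := orderOf_dvd_natCard (⟨y, hyE⟩ : ↥E)
      rwa [Subgroup.orderOf_mk] at this
    exact h1.trans h2
  have hqσ : q ∉ sigma M := complIn_prime_not_mem_sigma c.hHall c.hE q hq hqE
  have hqM : q ∣ Nat.card M := hqE.trans (Subgroup.card_dvd_of_le c.hEM)
  have hr2 : PRankLE q 2 M := by
    by_contra hr
    exact hqσ (mem_sigma_of_not_pRankLE_two c.hG c.hM hq hr)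
  have hr1 : PRankLE q 1 M := by
    by_contra hr
    have : q ∈ tau2 M := ⟨hq, hqσ, hr2, hr⟩
    rw [hτ] at this
    exact hqp this
  have hqτ : q ∈ tau1 M ∪ tau3 M := by
    by_cases hd : q ∣ Nat.card ↥⁅M, M⁆
    · exact Or.inr ⟨hq, hqσ, hd, hr1⟩
    · exact Or.inl ⟨hq, hqσ, hqM, hd, hr1⟩
  have h0 := h (y ^ m) huE hu1 (fun r hr hrd => by
    rw [hord] at hrd
    rw [(Nat.prime_dvd_prime_iff_eq hr hq).mp hrd]
    exact hqτ)
  have hxin : x ∈ sigmaCore M ⊓ Subgroup.centralizer ({y ^ m} : Set G) := by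
    refine Subgroup.mem_inf.mpr ⟨hx, ?_⟩
    rw [Subgroup.mem_centralizer_iff]
    intro t ht
    rw [Set.mem_singleton_iff] at ht
    rw [ht]
    have hc : Commute y x := hcomm
    exact (hc.pow_left m).eq
  rw [h0, Subgroup.mem_bot] at hxin
  exact hx1 hxin

/-- **Part 2.** A complement `E₀` of `A₀` in `E`: it acts semiregularly on `M_σ` and has the
exponent of `E`. -/
theorem exists_E0 {M E A S : Subgroup G} {p : ℕ} [hp : Fact p.Prime]
    {P : Sylow p G} {x₀ : G} (c : Ctx M E A S p P x₀)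
    (hcen : ∀ x ∈ sigmaCore M, x ≠ 1 → E ⊓ Subgroup.centralizer ({x} : Set G) ≤
      A ⊓ Subgroup.centralizer (sigmaCore M : Set G)) :
    ∃ E₀ : Subgroup G, E₀ ≤ E ∧ Monoid.exponent E₀ = Monoid.exponent E ∧
      ∀ e ∈ E₀, e ≠ 1 → sigmaCore M ⊓ Subgroup.centralizer ({e} : Set G) = ⊥ := by
  have hpp : p.Prime := hp.out
  obtain ⟨hA₀c, -, -, -⟩ := c.main_c
  set A₀ := A ⊓ Subgroup.centralizer (sigmaCore M : Set G) with hA₀def
  have hA₀A : A₀ ≤ A := inf_le_left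
  have hA₀E : A₀ ≤ E := hA₀A.trans c.hAE
  have hA₀S : A₀ ≤ S := hA₀A.trans c.hAS
  have hSE : S ≤ E := fun s hs => c.hCA (by
    rw [Subgroup.mem_centralizer_iff]
    intro a ha
    exact c.hScomm a (c.hAS ha) s hs)
  have hEN : E ≤ Subgroup.normalizer (A₀ : Set G) := c.hEM.trans c.le_normalizer_A0
  -- a complement of `A₀` in `S`
  obtain ⟨B, hBS, hBA, hAB⟩ := exists_compl_in_comm_subgroup hpp c.hScomm hA₀S
    (fun s hs hsp => pow_eq_one_of_pow_mem_A0 c (hSE hs) hsp)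
  -- Gaschütz in `E`
  have hKn : (A₀.subgroupOf E).Normal :=
    (Subgroup.normal_subgroupOf_iff_le_normalizer hA₀E).mpr hEN
  have hKc : IsMulCommutative (A₀.subgroupOf E) :=
    ⟨⟨fun a b => Subtype.ext (Subtype.ext
      (c.hAcomm _ (hA₀A (Subgroup.mem_subgroupOf.mp a.2)) _
        (hA₀A (Subgroup.mem_subgroupOf.mp b.2))))⟩⟩
  have hcardK : Nat.card (A₀.subgroupOf E) = p := by
    rw [← hA₀c]
    exact Nat.card_congr (Subgroup.subgroupOfEquivOfLe hA₀E).toEquiv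
  have hSylE : IsSylowIn p E S :=
    ⟨hSE, c.hS.2.1, fun T' hT'E hT'p hle => c.hS.2.2 T' (hT'E.trans c.hEM) hT'p hle⟩
  have hcop : (Nat.card (A₀.subgroupOf E)).Coprime (S.subgroupOf E).index := by
    rw [hcardK, Nat.Prime.coprime_iff_not_dvd hpp, ← hSylE.coe_toSylow]
    exact hSylE.toSylow.not_dvd_index
  have hKU : A₀.subgroupOf E ≤ S.subgroupOf E := Subgroup.comap_mono hA₀S
  have hAU : B.subgroupOf E ≤ S.subgroupOf E := Subgroup.comap_mono hBS
  have hAK : B.subgroupOf E ⊓ A₀.subgroupOf E = ⊥ := by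
    rw [eq_bot_iff]
    rintro y ⟨hy1, hy2⟩
    have : (y : G) ∈ B ⊓ A₀ := ⟨Subgroup.mem_subgroupOf.mp hy1, Subgroup.mem_subgroupOf.mp hy2⟩
    rw [hBA, Subgroup.mem_bot] at this
    rw [Subgroup.mem_bot]
    exact Subtype.ext this
  have hKA : A₀.subgroupOf E ⊔ B.subgroupOf E = S.subgroupOf E := by
    rw [← Subgroup.subgroupOf_sup hA₀E (hBS.trans hSE), hAB]
  obtain ⟨H0, hH0⟩ := Cfsg.Agent.S0051.result (A₀.subgroupOf E) (S.subgroupOf E) hKU hcop
    (B.subgroupOf E) hAU hAK hKA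
  set E₀ := H0.map E.subtype with hE₀def
  have hE₀E : E₀ ≤ E := Subgroup.map_subtype_le _
  have hE₀A : ∀ e ∈ E₀, e ∈ A₀ → e = 1 := by
    rintro e ⟨y, hy, rfl⟩ heA
    have : y ∈ A₀.subgroupOf E ⊓ H0 := ⟨Subgroup.mem_subgroupOf.mpr heA, hy⟩
    rw [hH0.disjoint.eq_bot, Subgroup.mem_bot] at this
    rw [this]
    rfl
  refine ⟨E₀, hE₀E, ?_, ?_⟩
  · -- the exponent
    apply Cfsg.Agent.Lib.Helper01.ExponentX.exponent_subgroup_eq_of_primePow E₀ E hE₀E
    intro g hgE q k hq hgo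
    have hn0 : Monoid.exponent ↥E₀ ≠ 0 := Monoid.exponent_ne_zero_of_finite
    -- `g ^ n ∈ A₀` for all `g ∈ E`
    have hpowA : ∀ g ∈ E, g ^ Monoid.exponent ↥E₀ ∈ A₀ := by
      intro g hg
      obtain ⟨⟨⟨a, ha⟩, ⟨e, he⟩⟩, hae, -⟩ := hH0.existsUnique (⟨g, hg⟩ : ↥E)
      have hae' : a * e = ⟨g, hg⟩ := hae
      have hen : e ^ Monoid.exponent ↥E₀ = 1 := by
        have heE₀ : (e : G) ∈ E₀ := ⟨e, he, rfl⟩
        have h1 := Monoid.pow_exponent_eq_one (⟨(e : G), heE₀⟩ : ↥E₀)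
        apply Subtype.ext
        have h2 := congrArg Subtype.val h1
        simpa using h2
      have hmk : (QuotientGroup.mk (⟨g, hg⟩ : ↥E) : ↥E ⧸ A₀.subgroupOf E) =
          QuotientGroup.mk e := by
        rw [← hae', QuotientGroup.mk_mul, (QuotientGroup.eq_one_iff a).mpr ha, one_mul]
      have hmem : ((⟨g, hg⟩ : ↥E) ^ Monoid.exponent ↥E₀) ∈ A₀.subgroupOf E := by
        rw [← QuotientGroup.eq_one_iff, QuotientGroup.mk_pow, hmk, ← QuotientGroup.mk_pow, hen,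
          QuotientGroup.mk_one]
      have := Subgroup.mem_subgroupOf.mp hmem
      simpa using this
    -- `p` divides `n`
    have hpn : p ∣ Monoid.exponent ↥E₀ := by
      have hcard : Nat.card (A₀.subgroupOf E) * Nat.card H0 = Nat.card E := hH0.card_mul_card
      have hcardE₀ : Nat.card E₀ = Nat.card H0 :=
        Nat.card_congr (H0.equivMapOfInjective E.subtype E.subtype_injective).symm.toEquiv
      have hp2 : p ^ 2 ∣ Nat.card E := c.hAc ▸ Subgroup.card_dvd_of_le c.hAE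
      rw [← hcard, hcardK, pow_two] at hp2
      have hpE₀ : p ∣ Nat.card E₀ := by
        rw [hcardE₀]
        exact (Nat.mul_dvd_mul_iff_left hpp.pos).mp hp2
      obtain ⟨t, ht⟩ := exists_prime_orderOf_dvd_card' p hpE₀
      rw [← ht]
      exact Monoid.order_dvd_exponent t
    by_cases hqp : q = p
    · rw [hqp] at hgo ⊢
      obtain ⟨j, m, hpm, hnjm⟩ := Nat.exists_eq_pow_mul_and_not_dvd hn0 p hpp.ne_one
      have hj : j ≠ 0 := by
        rintro rfl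
        rw [pow_zero, one_mul] at hnjm
        exact hpm (hnjm ▸ hpn)
      have hgn : (g ^ p ^ j) ^ m ∈ A₀ := by
        rw [← pow_mul, ← hnjm]
        exact hpowA g hgE
      have hgk : (g ^ p ^ j) ^ p ^ k ∈ A₀ := by
        rw [← pow_mul, mul_comm, pow_mul, ← hgo, pow_orderOf_eq_one, one_pow]
        exact Subgroup.one_mem _
      have hw : g ^ p ^ j ∈ A₀ :=
        Cfsg.Agent.Lib.Helper78.BG128.mem_of_coprime_pow_mem
          (((Nat.Prime.coprime_iff_not_dvd hpp).mpr hpm).symm.pow_right k) hgn hgk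
      have hvp : (g ^ p ^ (j - 1)) ^ p = g ^ p ^ j := by
        rw [← pow_mul, ← pow_succ]
        congr 2
        omega
      have hkey := pow_eq_one_of_pow_mem_A0 c (E.pow_mem hgE (p ^ (j - 1))) (by rw [hvp]; exact hw)
      rw [hvp] at hkey
      have h1 : p ^ k ∣ p ^ j := by
        rw [← hgo]
        exact orderOf_dvd_of_pow_eq_one hkey
      exact h1.trans ⟨m, hnjm⟩
    · have hgA := hpowA g hgE
      have h1 : (g ^ Monoid.exponent ↥E₀) ^ p ∈ (⊥ : Subgroup G) := by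
        rw [Subgroup.mem_bot]
        exact c.hAe.2 _ (hA₀A hgA)
      have h2 : (g ^ Monoid.exponent ↥E₀) ^ q ^ k ∈ (⊥ : Subgroup G) := by
        rw [Subgroup.mem_bot, ← pow_mul, mul_comm, pow_mul, ← hgo, pow_orderOf_eq_one, one_pow]
      have hcop' : p.Coprime (q ^ k) :=
        ((Nat.coprime_primes hpp hq).mpr (Ne.symm hqp)).pow_right k
      have h3 := Cfsg.Agent.Lib.Helper78.BG128.mem_of_coprime_pow_mem hcop' h1 h2
      rw [Subgroup.mem_bot] at h3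
      rw [← hgo]
      exact orderOf_dvd_of_pow_eq_one h3
  · -- semiregularity
    intro e heE₀ he1
    rw [eq_bot_iff]
    intro x hx
    obtain ⟨hxσ, hxC⟩ := Subgroup.mem_inf.mp hx
    rw [Subgroup.mem_bot]
    by_contra hx1
    apply he1
    apply hE₀A e heE₀
    apply hcen x hxσ hx1
    refine Subgroup.mem_inf.mpr ⟨hE₀E heE₀, ?_⟩
    rw [Subgroup.mem_centralizer_iff] at hxC ⊢
    intro t ht
    rw [Set.mem_singleton_iff] at ht
    rw [ht]
    exact (hxC e rfl).symm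

/-- **S1421 (BG Corollary 12.11) when some `p ∈ τ₂(M)` has nonabelian Sylow `p`-subgroups.** -/
theorem s1421_of_nonabelian (hG : IsMinSimpleOddOrder G) (M : Subgroup G) (hM : IsCoatom M)
    (E : Subgroup G) (hE : IsComplIn E (sigmaCore M) M)
    (h : ∀ e ∈ E, e ≠ 1 → (∀ p : ℕ, p.Prime → p ∣ orderOf e → p ∈ tau1 M ∪ tau3 M) →
      sigmaCore M ⊓ Subgroup.centralizer ({e} : Set G) = ⊥)
    (p : ℕ) [Fact p.Prime] (hp : p ∈ tau2 M)
    (hS : ∀ S : Sylow p G, ¬ IsMulCommutative (S : Subgroup G)) :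
    (∃ A₀ : Subgroup G, A₀ ≤ E ∧ E ≤ Subgroup.normalizer (A₀ : Set G) ∧ IsMulCommutative A₀ ∧
        ∀ x ∈ sigmaCore M, x ≠ 1 → E ⊓ Subgroup.centralizer ({x} : Set G) ≤ A₀) ∧
      ∃ E₀ : Subgroup G, E₀ ≤ E ∧ Monoid.exponent E₀ = Monoid.exponent E ∧
        ∀ e ∈ E₀, e ≠ 1 → sigmaCore M ⊓ Subgroup.centralizer ({e} : Set G) = ⊥ := by
  have hHall : IsPiHallOf (sigma M) (sigmaCore M) M := (Cfsg.Agent.S1350.result hG M hM).1
  have h16 : Hyp16 M := fun p _ A hA => (Cfsg.Agent.S1416.result hG M hM p A hA).1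
  have h17 : ∀ M' : Subgroup G, IsCoatom M' → Hyp17 M' :=
    fun M' hM' p _ hp A hA => Cfsg.Agent.S1417.result hG M' hM' p hp A hA
  have h18 : Hyp18 M := fun E hE p _ hp A hA => Cfsg.Agent.S1418.result hG M hM E hE p hp A hA
  obtain ⟨A, hAE, hAel, hAcard⟩ := exists_elemAb_sq_le_compl hG hM hHall hp hE
  obtain ⟨S, P, x₀, c⟩ := exists_ctx hG hM hE hp hS ⟨hAE, hAel, hAcard⟩ (h17 M hM) h18
  have hτ : tau2 M = {p} := c.tau2_eq hp h16 h17 h18
  have hcen := fun x hx hx1 => centralizer_le_A0 c hτ h (x := x) hx hx1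
  refine ⟨⟨A ⊓ Subgroup.centralizer (sigmaCore M : Set G), inf_le_left.trans hAE,
    c.hEM.trans c.le_normalizer_A0, ?_, hcen⟩, exists_E0 c hcen⟩
  exact ⟨⟨fun a b => Subtype.ext (c.hAcomm _ a.2.1 _ b.2.1)⟩⟩

/-- the same with one noncommutative Sylow `p`-subgroup, and without the `Fact` -/
theorem s1421_of_exists_nonabelian (hG : IsMinSimpleOddOrder G) (M : Subgroup G) (hM : IsCoatom M)
    (E : Subgroup G) (hE : IsComplIn E (sigmaCore M) M)
    (h : ∀ e ∈ E, e ≠ 1 → (∀ p : ℕ, p.Prime → p ∣ orderOf e → p ∈ tau1 M ∪ tau3 M) →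
      sigmaCore M ⊓ Subgroup.centralizer ({e} : Set G) = ⊥)
    (hex : ∃ p ∈ tau2 M, ∃ _ : Fact p.Prime, ∃ S : Sylow p G,
      ¬ IsMulCommutative (S : Subgroup G)) :
    (∃ A₀ : Subgroup G, A₀ ≤ E ∧ E ≤ Subgroup.normalizer (A₀ : Set G) ∧ IsMulCommutative A₀ ∧
        ∀ x ∈ sigmaCore M, x ≠ 1 → E ⊓ Subgroup.centralizer ({x} : Set G) ≤ A₀) ∧
      ∃ E₀ : Subgroup G, E₀ ≤ E ∧ Monoid.exponent E₀ = Monoid.exponent E ∧
        ∀ e ∈ E₀, e ≠ 1 → sigmaCore M ⊓ Subgroup.centralizer ({e} : Set G) = ⊥ := by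
  obtain ⟨p, hpτ, hp, S₀, hS₀⟩ := hex
  have hne : ∃ a ∈ (S₀ : Subgroup G), ∃ b ∈ (S₀ : Subgroup G), a * b ≠ b * a := by
    by_contra hcon
    push Not at hcon
    exact hS₀ ⟨⟨fun a b => Subtype.ext (hcon a a.2 b b.2)⟩⟩
  obtain ⟨a, ha, b, hb, hab⟩ := hne
  exact s1421_of_nonabelian hG M hM E hE h p hpτ
    (Cfsg.Agent.Lib.Helper02.BG1359.sylow_not_comm_of_exists ha hb hab)

/-- the same, as the negation of the abelian case -/
theorem s1421_of_not_abelian (hG : IsMinSimpleOddOrder G) (M : Subgroup G) (hM : IsCoatom M)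
    (E : Subgroup G) (hE : IsComplIn E (sigmaCore M) M)
    (h : ∀ e ∈ E, e ≠ 1 → (∀ p : ℕ, p.Prime → p ∣ orderOf e → p ∈ tau1 M ∪ tau3 M) →
      sigmaCore M ⊓ Subgroup.centralizer ({e} : Set G) = ⊥)
    (hnab : ¬ ∀ p ∈ tau2 M, ∀ S : Sylow p G, IsMulCommutative (S : Subgroup G)) :
    (∃ A₀ : Subgroup G, A₀ ≤ E ∧ E ≤ Subgroup.normalizer (A₀ : Set G) ∧ IsMulCommutative A₀ ∧
        ∀ x ∈ sigmaCore M, x ≠ 1 → E ⊓ Subgroup.centralizer ({x} : Set G) ≤ A₀) ∧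
      ∃ E₀ : Subgroup G, E₀ ≤ E ∧ Monoid.exponent E₀ = Monoid.exponent E ∧
        ∀ e ∈ E₀, e ≠ 1 → sigmaCore M ⊓ Subgroup.centralizer ({e} : Set G) = ⊥ := by
  push Not at hnab
  obtain ⟨p, hpτ, S₀, hS₀⟩ := hnab
  exact s1421_of_exists_nonabelian hG M hM E hE h ⟨p, hpτ, ⟨hpτ.1⟩, S₀, hS₀⟩

end Cfsg.Agent.Lib.Helper78.BG1211
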