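import Mathlib
import Cfsg.Agent.Lib.Helper78.BG1211N

/-!
# S1421 leaf (N), in the exact shape of `notes/S1421_keystones.lean.txt`

`nonabelian_case_A0` (N1) and `nonabelian_case_V0` (N2: second conjunct for a normal Hall subgroup
`V` of `E`, with the hypothesis of S1421 only on `V`).
-/

set_option autoImplicit false

namespace Cfsg.Agent.Lib.Helper78.BG1211

open Cfsg Cfsg.Agent.Lib.Helper55 Cfsg.Agent.Lib.Helper13.BG12 Cfsg.Agent.Lib.Helper71.BG11
open Cfsg.Agent.Lib.Helper13.BG127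

variable {G : Type*} [Group G] [Finite G]

/-- **Part 1 for `V ≤ E`.** `C_V(x) ≤ A₀` for every non-identity `x ∈ M_σ`, the hypothesis of S1421
being assumed on `V` only. -/
theorem centralizer_le_A0_of_le {M E A S : Subgroup G} {p : ℕ} [hp : Fact p.Prime]
    {P : Sylow p G} {x₀ : G} (c : Ctx M E A S p P x₀) (hτ : tau2 M = {p})
    {V : Subgroup G} (hVE : V ≤ E)
    (h : ∀ e ∈ V, e ≠ 1 → (∀ q : ℕ, q.Prime → q ∣ orderOf e → q ∈ tau1 M ∪ tau3 M) →
      sigmaCore M ⊓ Subgroup.centralizer ({e} : Set G) = ⊥)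
    {x : G} (hx : x ∈ sigmaCore M) (hx1 : x ≠ 1) :
    V ⊓ Subgroup.centralizer ({x} : Set G) ≤
      A ⊓ Subgroup.centralizer (sigmaCore M : Set G) := by
  intro y hy
  obtain ⟨hyV, hyC⟩ := Subgroup.mem_inf.mp hy
  have hyE : y ∈ E := hVE hyV
  by_cases hy1 : y = 1
  · rw [hy1]; exact Subgroup.one_mem _
  have hcomm : y * x = x * y := by
    rw [Subgroup.mem_centralizer_iff] at hyC
    exact (hyC x rfl).symm
  refine Cfsg.Agent.Lib.Helper02.BG1359.mem_A0_of_ctx c hyE hy1 ?_ hx hx1 hcomm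
  intro q hq hqd
  by_contra hqp
  have hn0 : orderOf y ≠ 0 := (orderOf_pos y).ne'
  obtain ⟨m, hm⟩ := hqd
  have hm0 : m ≠ 0 := by
    rintro rfl
    rw [mul_zero] at hm
    exact hn0 hm
  have hmd : m ∣ orderOf y := ⟨q, by rw [hm, mul_comm]⟩
  have hord : orderOf (y ^ m) = q := by
    rw [orderOf_pow_of_dvd hm0 hmd]
    conv_lhs => rw [hm]
    exact Nat.mul_div_cancel _ (Nat.pos_of_ne_zero hm0)
  have huV : y ^ m ∈ V := V.pow_mem hyV m
  have hu1 : y ^ m ≠ 1 := by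
    intro h1
    rw [h1, orderOf_one] at hord
    exact hq.one_lt.ne hord
  have hqE : q ∣ Nat.card E := by
    have h1 : q ∣ orderOf y := ⟨m, hm⟩
    have h2 : orderOf y ∣ Nat.card E := by
      have := orderOf_dvd_natCard (⟨y, hyE⟩ : ↥E)
      rwa [Subgroup.orderOf_mk] at this
    exact h1.trans h2
  have hqσ : q ∉ sigma M := complIn_prime_not_mem_sigma c.hHall c.hE q hq hqE
  have hqM : q ∣ Nat.card M := hqE.trans (Subgroup.card_dvd_of_le c.hEM)
  have hr2 : PRankLE q 2 M := by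
    by_contra hr
    exact hqσ (mem_sigma_of_not_pRankLE_two c.hG c.hM hq hr)
  have hr1 : PRankLE q 1 M := by
    by_contra hr
    have : q ∈ tau2 M := ⟨hq, hqσ, hr2, hr⟩
    rw [hτ] at this
    exact hqp this
  have hqτ : q ∈ tau1 M ∪ tau3 M := by
    by_cases hd : q ∣ Nat.card ↥⁅M, M⁆
    · exact Or.inr ⟨hq, hqσ, hd, hr1⟩
    · exact Or.inl ⟨hq, hqσ, hqM, hd, hr1⟩
  have h0 := h (y ^ m) huV hu1 (fun r hr hrd => by
    rw [hord] at hrd
    rw [(Nat.prime_dvd_prime_iff_eq hr hq).mp hrd]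
    exact hqτ)
  have hxin : x ∈ sigmaCore M ⊓ Subgroup.centralizer ({y ^ m} : Set G) := by
    refine Subgroup.mem_inf.mpr ⟨hx, ?_⟩
    rw [Subgroup.mem_centralizer_iff]
    intro t ht
    rw [Set.mem_singleton_iff] at ht
    rw [ht]
    have hc : Commute y x := hcomm
    exact (hc.pow_left m).eq
  rw [h0, Subgroup.mem_bot] at hxin
  exact hx1 hxin

/-- **Part 2 for `S ≤ V ≤ E`.** A complement `V₀` of `A₀` in `V`: it acts semiregularly on `M_σ`
and has the exponent of `V`. -/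
theorem exists_V0 {M E A S : Subgroup G} {p : ℕ} [hp : Fact p.Prime]
    {P : Sylow p G} {x₀ : G} (c : Ctx M E A S p P x₀) {V : Subgroup G} (hVE : V ≤ E)
    (hSV : S ≤ V)
    (hcen : ∀ x ∈ sigmaCore M, x ≠ 1 → V ⊓ Subgroup.centralizer ({x} : Set G) ≤
      A ⊓ Subgroup.centralizer (sigmaCore M : Set G)) :
    ∃ V₀ : Subgroup G, V₀ ≤ V ∧ Monoid.exponent V₀ = Monoid.exponent V ∧
      ∀ e ∈ V₀, e ≠ 1 → sigmaCore M ⊓ Subgroup.centralizer ({e} : Set G) = ⊥ := by
  have hpp : p.Prime := hp.out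
  obtain ⟨hA₀c, -, -, -⟩ := c.main_c
  set A₀ := A ⊓ Subgroup.centralizer (sigmaCore M : Set G) with hA₀def
  have hA₀A : A₀ ≤ A := inf_le_left
  have hA₀S : A₀ ≤ S := hA₀A.trans c.hAS
  have hA₀V : A₀ ≤ V := hA₀S.trans hSV
  have hSE : S ≤ E := hSV.trans hVE
  have hVN : V ≤ Subgroup.normalizer (A₀ : Set G) := (hVE.trans c.hEM).trans c.le_normalizer_A0
  -- a complement of `A₀` in `S`
  obtain ⟨B, hBS, hBA, hAB⟩ := exists_compl_in_comm_subgroup hpp c.hScomm hA₀S
    (fun s hs hsp => pow_eq_one_of_pow_mem_A0 c (hSE hs) hsp)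
  -- Gaschütz in `V`
  have hKn : (A₀.subgroupOf V).Normal :=
    (Subgroup.normal_subgroupOf_iff_le_normalizer hA₀V).mpr hVN
  have hKc : IsMulCommutative (A₀.subgroupOf V) :=
    ⟨⟨fun a b => Subtype.ext (Subtype.ext
      (c.hAcomm _ (hA₀A (Subgroup.mem_subgroupOf.mp a.2)) _
        (hA₀A (Subgroup.mem_subgroupOf.mp b.2))))⟩⟩
  have hcardK : Nat.card (A₀.subgroupOf V) = p := by
    rw [← hA₀c]
    exact Nat.card_congr (Subgroup.subgroupOfEquivOfLe hA₀V).toEquiv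
  have hSylV : IsSylowIn p V S :=
    ⟨hSV, c.hS.2.1, fun T' hT'V hT'p hle =>
      c.hS.2.2 T' (hT'V.trans (hVE.trans c.hEM)) hT'p hle⟩
  have hcop : (Nat.card (A₀.subgroupOf V)).Coprime (S.subgroupOf V).index := by
    rw [hcardK, Nat.Prime.coprime_iff_not_dvd hpp, ← hSylV.coe_toSylow]
    exact hSylV.toSylow.not_dvd_index
  have hKU : A₀.subgroupOf V ≤ S.subgroupOf V := Subgroup.comap_mono hA₀S
  have hAU : B.subgroupOf V ≤ S.subgroupOf V := Subgroup.comap_mono hBS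
  have hAK : B.subgroupOf V ⊓ A₀.subgroupOf V = ⊥ := by
    rw [eq_bot_iff]
    intro y hy
    obtain ⟨hy1, hy2⟩ := Subgroup.mem_inf.mp hy
    have : (y : G) ∈ B ⊓ A₀ :=
      Subgroup.mem_inf.mpr ⟨Subgroup.mem_subgroupOf.mp hy1, Subgroup.mem_subgroupOf.mp hy2⟩
    rw [hBA, Subgroup.mem_bot] at this
    rw [Subgroup.mem_bot]
    exact Subtype.ext this
  have hKA : A₀.subgroupOf V ⊔ B.subgroupOf V = S.subgroupOf V := by
    rw [← Subgroup.subgroupOf_sup hA₀V (hBS.trans hSV), hAB]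
  obtain ⟨H0, hH0⟩ := Cfsg.Agent.S0051.result (A₀.subgroupOf V) (S.subgroupOf V) hKU hcop
    (B.subgroupOf V) hAU hAK hKA
  set V₀ := H0.map V.subtype with hV₀def
  have hV₀V : V₀ ≤ V := Subgroup.map_subtype_le _
  have hV₀A : ∀ e ∈ V₀, e ∈ A₀ → e = 1 := by
    rintro e ⟨y, hy, rfl⟩ heA
    have : y ∈ A₀.subgroupOf V ⊓ H0 :=
      Subgroup.mem_inf.mpr ⟨Subgroup.mem_subgroupOf.mpr heA, hy⟩
    rw [hH0.disjoint.eq_bot, Subgroup.mem_bot] at this
    rw [this]
    rfl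
  refine ⟨V₀, hV₀V, ?_, ?_⟩
  · -- the exponent
    apply Cfsg.Agent.Lib.Helper01.ExponentX.exponent_subgroup_eq_of_primePow V₀ V hV₀V
    intro g hgV q k hq hgo
    have hn0 : Monoid.exponent ↥V₀ ≠ 0 := Monoid.exponent_ne_zero_of_finite
    -- `g ^ n ∈ A₀` for all `g ∈ V`
    have hpowA : ∀ g ∈ V, g ^ Monoid.exponent ↥V₀ ∈ A₀ := by
      intro g hg
      obtain ⟨⟨⟨a, ha⟩, ⟨e, he⟩⟩, hae, -⟩ := hH0.existsUnique (⟨g, hg⟩ : ↥V)
      have hae' : a * e = ⟨g, hg⟩ := hae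
      have hen : e ^ Monoid.exponent ↥V₀ = 1 := by
        have heV₀ : (e : G) ∈ V₀ := ⟨e, he, rfl⟩
        have h1 := Monoid.pow_exponent_eq_one (⟨(e : G), heV₀⟩ : ↥V₀)
        apply Subtype.ext
        have h2 := congrArg Subtype.val h1
        simpa using h2
      have hmk : (QuotientGroup.mk (⟨g, hg⟩ : ↥V) : ↥V ⧸ A₀.subgroupOf V) =
          QuotientGroup.mk e := by
        rw [← hae', QuotientGroup.mk_mul, (QuotientGroup.eq_one_iff a).mpr ha, one_mul]
      have hmem : ((⟨g, hg⟩ : ↥V) ^ Monoid.exponent ↥V₀) ∈ A₀.subgroupOf V := by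
        rw [← QuotientGroup.eq_one_iff, QuotientGroup.mk_pow, hmk, ← QuotientGroup.mk_pow, hen,
          QuotientGroup.mk_one]
      have := Subgroup.mem_subgroupOf.mp hmem
      simpa using this
    -- `p` divides `n`
    have hpn : p ∣ Monoid.exponent ↥V₀ := by
      have hcard : Nat.card (A₀.subgroupOf V) * Nat.card H0 = Nat.card V := hH0.card_mul_card
      have hcardV₀ : Nat.card V₀ = Nat.card H0 :=
        Nat.card_congr (H0.equivMapOfInjective V.subtype V.subtype_injective).symm.toEquiv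
      have hp2 : p ^ 2 ∣ Nat.card V := c.hAc ▸ Subgroup.card_dvd_of_le (c.hAS.trans hSV)
      rw [← hcard, hcardK, pow_two] at hp2
      have hpV₀ : p ∣ Nat.card V₀ := by
        rw [hcardV₀]
        exact (Nat.mul_dvd_mul_iff_left hpp.pos).mp hp2
      obtain ⟨t, ht⟩ := exists_prime_orderOf_dvd_card' p hpV₀
      rw [← ht]
      exact Monoid.order_dvd_exponent t
    by_cases hqp : q = p
    · rw [hqp] at hgo ⊢
      obtain ⟨j, m, hpm, hnjm⟩ := Nat.exists_eq_pow_mul_and_not_dvd hn0 p hpp.ne_one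
      have hj : j ≠ 0 := by
        rintro rfl
        rw [pow_zero, one_mul] at hnjm
        exact hpm (hnjm ▸ hpn)
      have hgn : (g ^ p ^ j) ^ m ∈ A₀ := by
        rw [← pow_mul, ← hnjm]
        exact hpowA g hgV
      have hgk : (g ^ p ^ j) ^ p ^ k ∈ A₀ := by
        rw [← pow_mul, mul_comm, pow_mul, ← hgo, pow_orderOf_eq_one, one_pow]
        exact Subgroup.one_mem _
      have hw : g ^ p ^ j ∈ A₀ :=
        Cfsg.Agent.Lib.Helper78.BG128.mem_of_coprime_pow_mem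
          (((Nat.Prime.coprime_iff_not_dvd hpp).mpr hpm).symm.pow_right k) hgn hgk
      have hvp : (g ^ p ^ (j - 1)) ^ p = g ^ p ^ j := by
        rw [← pow_mul, ← pow_succ]
        congr 2
        omega
      have hkey := pow_eq_one_of_pow_mem_A0 c (hVE (V.pow_mem hgV (p ^ (j - 1))))
        (by rw [hvp]; exact hw)
      rw [hvp] at hkey
      have h1 : p ^ k ∣ p ^ j := by
        rw [← hgo]
        exact orderOf_dvd_of_pow_eq_one hkey
      exact h1.trans ⟨m, hnjm⟩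
    · have hgA := hpowA g hgV
      have h1 : (g ^ Monoid.exponent ↥V₀) ^ p ∈ (⊥ : Subgroup G) := by
        rw [Subgroup.mem_bot]
        exact c.hAe.2 _ (hA₀A hgA)
      have h2 : (g ^ Monoid.exponent ↥V₀) ^ q ^ k ∈ (⊥ : Subgroup G) := by
        rw [Subgroup.mem_bot, ← pow_mul, mul_comm, pow_mul, ← hgo, pow_orderOf_eq_one, one_pow]
      have hcop' : p.Coprime (q ^ k) :=
        ((Nat.coprime_primes hpp hq).mpr (Ne.symm hqp)).pow_right k
      have h3 := Cfsg.Agent.Lib.Helper78.BG128.mem_of_coprime_pow_mem hcop' h1 h2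
      rw [Subgroup.mem_bot] at h3
      rw [← hgo]
      exact orderOf_dvd_of_pow_eq_one h3
  · -- semiregularity
    intro e heV₀ he1
    rw [eq_bot_iff]
    intro x hx
    obtain ⟨hxσ, hxC⟩ := Subgroup.mem_inf.mp hx
    rw [Subgroup.mem_bot]
    by_contra hx1
    apply he1
    apply hV₀A e heV₀
    apply hcen x hxσ hx1
    refine Subgroup.mem_inf.mpr ⟨hV₀V heV₀, ?_⟩
    rw [Subgroup.mem_centralizer_iff] at hxC ⊢
    intro t ht
    rw [Set.mem_singleton_iff] at ht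
    rw [ht]
    exact (hxC e rfl).symm

/-- all Sylow `p`-subgroups are noncommutative as soon as one of them is, in the shape of the
keystone pack -/
theorem sylow_not_comm_of_not_forall {p : ℕ} [Fact p.Prime] (S : Sylow p G)
    (hS : ¬ ∀ x ∈ (S : Subgroup G), ∀ y ∈ (S : Subgroup G), x * y = y * x) :
    ∀ S' : Sylow p G, ¬ IsMulCommutative (S' : Subgroup G) := by
  push Not at hS
  obtain ⟨a, ha, b, hb, hab⟩ := hS
  exact Cfsg.Agent.Lib.Helper02.BG1359.sylow_not_comm_of_exists ha hb hab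

/-- **(N1)** some `p ∈ τ₂(M)` has a nonabelian Sylow `p`-subgroup in `G`: first conjunct of
S1421. -/
theorem nonabelian_case_A0 (hG : IsMinSimpleOddOrder G) {M : Subgroup G} (hM : IsCoatom M)
    {E : Subgroup G} (hE : IsComplIn E (sigmaCore M) M)
    (h : ∀ e ∈ E, e ≠ 1 → (∀ p : ℕ, p.Prime → p ∣ orderOf e → p ∈ tau1 M ∪ tau3 M) →
      sigmaCore M ⊓ Subgroup.centralizer ({e} : Set G) = ⊥)
    {p : ℕ} [Fact p.Prime] (hp : p ∈ tau2 M) (S : Sylow p G)
    (hS : ¬ ∀ x ∈ (S : Subgroup G), ∀ y ∈ (S : Subgroup G), x * y = y * x) :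
    ∃ A₀ : Subgroup G, A₀ ≤ E ∧ E ≤ Subgroup.normalizer (A₀ : Set G) ∧ IsMulCommutative A₀ ∧
      ∀ x ∈ sigmaCore M, x ≠ 1 → E ⊓ Subgroup.centralizer ({x} : Set G) ≤ A₀ :=
  (s1421_of_nonabelian hG M hM E hE h p hp (sylow_not_comm_of_not_forall S hS)).1

/-- **(N2)** same case, second conjunct, for a normal Hall subgroup `V` of `E` (`V := E` gives
S1421, `V := U` gives S1360). -/
theorem nonabelian_case_V0 (hG : IsMinSimpleOddOrder G) {M : Subgroup G} (hM : IsCoatom M)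
    {E : Subgroup G} (hE : IsComplIn E (sigmaCore M) M)
    {V : Subgroup G} (hVE : V ≤ E) (hVn : E ≤ Subgroup.normalizer (V : Set G))
    (hVhall : (Nat.card V).Coprime (V.relIndex E))
    (hV : ∀ e ∈ V, e ≠ 1 → (∀ p : ℕ, p.Prime → p ∣ orderOf e → p ∈ tau1 M ∪ tau3 M) →
      sigmaCore M ⊓ Subgroup.centralizer ({e} : Set G) = ⊥)
    {p : ℕ} [Fact p.Prime] (hp : p ∈ tau2 M) (S : Sylow p G)
    (hS : ¬ ∀ x ∈ (S : Subgroup G), ∀ y ∈ (S : Subgroup G), x * y = y * x) :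
    ∃ V₀ : Subgroup G, V₀ ≤ V ∧ Monoid.exponent V₀ = Monoid.exponent V ∧
      ∀ e ∈ V₀, e ≠ 1 → sigmaCore M ⊓ Subgroup.centralizer ({e} : Set G) = ⊥ := by
  have hpp : p.Prime := hp.1
  have hHall : IsPiHallOf (sigma M) (sigmaCore M) M := (Cfsg.Agent.S1350.result hG M hM).1
  have h16 : Hyp16 M := fun p _ A hA => (Cfsg.Agent.S1416.result hG M hM p A hA).1
  have h17 : ∀ M' : Subgroup G, IsCoatom M' → Hyp17 M' :=
    fun M' hM' p _ hp A hA => Cfsg.Agent.S1417.result hG M' hM' p hp A hA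
  have h18 : Hyp18 M := fun E hE p _ hp A hA => Cfsg.Agent.S1418.result hG M hM E hE p hp A hA
  obtain ⟨A, hAE, hAel, hAcard⟩ := exists_elemAb_sq_le_compl hG hM hHall hp hE
  obtain ⟨S', P, x₀, c⟩ := exists_ctx hG hM hE hp (sylow_not_comm_of_not_forall S hS)
    ⟨hAE, hAel, hAcard⟩ (h17 M hM) h18
  have hτ : tau2 M = {p} := c.tau2_eq hp h16 h17 h18
  have hcen := fun x hx hx1 => centralizer_le_A0_of_le c hτ hVE hV (x := x) hx hx1
  obtain ⟨hA₀c, -, -, -⟩ := c.main_c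
  by_cases hpV : p ∣ Nat.card V
  · -- `V` contains the Sylow `p`-subgroup `S'` of `E`
    have hSE : S' ≤ E := fun s hs => c.hCA (by
      rw [Subgroup.mem_centralizer_iff]
      intro a ha
      exact c.hScomm a (c.hAS ha) s hs)
    have hpi : ¬ p ∣ V.relIndex E :=
      (Nat.Prime.coprime_iff_not_dvd hpp).mp (Nat.Coprime.coprime_dvd_left hpV hVhall)
    have hVnorm : (V.subgroupOf E).Normal :=
      (Subgroup.normal_subgroupOf_iff_le_normalizer hVE).mpr hVn
    have hSV : S' ≤ V := by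
      intro s hs
      have h1 : s ^ V.relIndex E ∈ V := by
        have := Subgroup.pow_index_mem (V.subgroupOf E) (⟨s, hSE hs⟩ : ↥E)
        have h2 := Subgroup.mem_subgroupOf.mp this
        have h3 : s ^ (V.subgroupOf E).index ∈ V := by simpa using h2
        exact h3
      obtain ⟨k, hk⟩ := c.hS.2.1 (⟨s, hs⟩ : ↥S')
      have h2 : s ^ p ^ k ∈ V := by
        have := congrArg Subtype.val hk
        have h3 : s ^ p ^ k = 1 := by simpa using this
        rw [h3]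
        exact V.one_mem
      exact Cfsg.Agent.Lib.Helper78.BG128.mem_of_coprime_pow_mem
        (((Nat.Prime.coprime_iff_not_dvd hpp).mpr hpi).symm.pow_right k) h1 h2
    exact exists_V0 c hVE hSV hcen
  · refine ⟨V, le_rfl, rfl, ?_⟩
    intro e heV he1
    rw [eq_bot_iff]
    intro x hx
    obtain ⟨hxσ, hxC⟩ := Subgroup.mem_inf.mp hx
    rw [Subgroup.mem_bot]
    by_contra hx1
    apply hpV
    have heA : e ∈ A ⊓ Subgroup.centralizer (sigmaCore M : Set G) := by
      apply hcen x hxσ hx1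
      refine Subgroup.mem_inf.mpr ⟨heV, ?_⟩
      rw [Subgroup.mem_centralizer_iff] at hxC ⊢
      intro t ht
      rw [Set.mem_singleton_iff] at ht
      rw [ht]
      exact (hxC e rfl).symm
    have ho : orderOf e ∣ p := by
      have := orderOf_dvd_natCard (⟨e, heA⟩ : ↥(A ⊓ Subgroup.centralizer (sigmaCore M : Set G)))
      rwa [Subgroup.orderOf_mk, hA₀c] at this
    have ho' : orderOf e = p := by
      rcases (Nat.dvd_prime hpp).mp ho with h1 | h1
      · exact absurd (orderOf_eq_one_iff.mp h1) he1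
      · exact h1
    rw [← ho']
    have := orderOf_dvd_natCard (⟨e, heV⟩ : ↥V)
    rwa [Subgroup.orderOf_mk] at this

end Cfsg.Agent.Lib.Helper78.BG1211
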