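import Mathlib
import Cfsg.Agent.Lib.Helper78.BG1211V
import Cfsg.Agent.Lib.Helper02.BG1211A
import Cfsg.Agent.Lib.Helper20.BG1211S
import Cfsg.Agent.Lib.Helper22.BG1211P
import Cfsg.Agent.Lib.Helper94.BG1211C

/-!
# S1421 glue: the assembly of the second conjunct in the abelian case, from `KEY_p`

`abelian_case_V0_of_key`: given for every `p ∈ τ₂(M) ∩ π(V)` a normal cyclic fixed-point-free
`p`-subgroup `Y_p` of `V` of order the `p`-part of the exponent of `V` (the statement of `exists_Y`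
of `notes/S1421_keystones.lean.txt`), `V₀ := (∏ Y_p) H`, `H` a complement in `V` of the normal Hall
`τ₂`-subgroup `∏ S_p` of `V`.
-/

set_option autoImplicit false

namespace Cfsg.Agent.Lib.Helper78.BG1211

open Cfsg Cfsg.Agent.Lib.Helper55 Cfsg.Agent.Lib.Helper13.BG12 Cfsg.Agent.Lib.Helper71.BG11

variable {G : Type*} [Group G] [Finite G]

/-- a prime divisor of the order of a complement `E` of `M_σ` outside `τ₂(M)` lies in
`τ₁(M) ∪ τ₃(M)` -/
theorem mem_tau13_of_dvd_card_compl (hG : IsMinSimpleOddOrder G) {M : Subgroup G} (hM : IsCoatom M)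
    {E : Subgroup G} (hE : IsComplIn E (sigmaCore M) M) {q : ℕ} (hq : q.Prime)
    (hqE : q ∣ Nat.card E) (hq2 : q ∉ tau2 M) : q ∈ tau1 M ∪ tau3 M := by
  have hHall : IsPiHallOf (sigma M) (sigmaCore M) M := (Cfsg.Agent.S1350.result hG M hM).1
  have hqσ : q ∉ sigma M := complIn_prime_not_mem_sigma hHall hE q hq hqE
  have hqM : q ∣ Nat.card M := hqE.trans (Subgroup.card_dvd_of_le hE.1)
  have hr2 : PRankLE q 2 M := by
    by_contra hr
    exact hqσ (mem_sigma_of_not_pRankLE_two hG hM hq hr)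
  have hr1 : PRankLE q 1 M := by
    by_contra hr
    exact hq2 ⟨hq, hqσ, hr2, hr⟩
  by_cases hd : q ∣ Nat.card ↥⁅M, M⁆
  · exact Or.inr ⟨hq, hqσ, hd, hr1⟩
  · exact Or.inl ⟨hq, hqσ, hqM, hd, hr1⟩

/-- a normal Hall subgroup `V` of `E` contains every `q`-subgroup of `E`, `q ∣ |V|` -/
theorem pgroup_le_of_normal_hall {E V S : Subgroup G} (hVE : V ≤ E)
    (hVn : E ≤ Subgroup.normalizer (V : Set G))
    (hVhall : (Nat.card V).Coprime (V.relIndex E)) {q : ℕ} (hq : q.Prime)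
    (hqV : q ∣ Nat.card V) (hSE : S ≤ E) (hS : IsPGroup q S) : S ≤ V := by
  have hpi : ¬ q ∣ V.relIndex E :=
    (Nat.Prime.coprime_iff_not_dvd hq).mp (Nat.Coprime.coprime_dvd_left hqV hVhall)
  have hVnorm : (V.subgroupOf E).Normal :=
    (Subgroup.normal_subgroupOf_iff_le_normalizer hVE).mpr hVn
  intro s hs
  have h1 : s ^ V.relIndex E ∈ V := by
    have := Subgroup.pow_index_mem (V.subgroupOf E) (⟨s, hSE hs⟩ : ↥E)
    have h2 := Subgroup.mem_subgroupOf.mp this
    have h3 : s ^ (V.subgroupOf E).index ∈ V := by simpa using h2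
    exact h3
  obtain ⟨k, hk⟩ := hS (⟨s, hs⟩ : ↥S)
  have h2 : s ^ q ^ k ∈ V := by
    have := congrArg Subtype.val hk
    have h3 : s ^ q ^ k = 1 := by simpa using this
    rw [h3]
    exact V.one_mem
  exact Cfsg.Agent.Lib.Helper78.BG128.mem_of_coprime_pow_mem
    (((Nat.Prime.coprime_iff_not_dvd hq).mpr hpi).symm.pow_right k) h1 h2

/-- a subgroup normalizing every member of a family normalizes its join -/
theorem le_normalizer_biSup (E : Subgroup G) (T : Finset ℕ) (Y : ℕ → Subgroup G)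
    (hYn : ∀ q ∈ T, E ≤ Subgroup.normalizer (Y q : Set G)) :
    E ≤ Subgroup.normalizer ((⨆ q ∈ T, Y q : Subgroup G) : Set G) := by
  apply Cfsg.Agent.Lib.Helper78.BG128.le_normalizer_of_conj_mem
  intro g hg
  have hle : (⨆ q ∈ T, Y q) ≤ (⨆ q ∈ T, Y q).comap (MulAut.conj g).toMonoidHom := by
    apply iSup₂_le
    intro q hq y hy
    rw [Subgroup.mem_comap]
    have h1 : g * y * g⁻¹ ∈ Y q := (Subgroup.mem_normalizer_iff.mp (hYn q hq hg) y).mp hy
    exact (le_iSup₂ (f := fun q (_ : q ∈ T) => Y q) q hq) h1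
  intro r hr
  exact hle hr

/-- **Assembly of the second conjunct in the abelian case**, from the statement of `KEY_p`. -/
theorem abelian_case_V0_of_key (hG : IsMinSimpleOddOrder G) {M : Subgroup G}
    (hM : IsCoatom M) {E : Subgroup G} (hE : IsComplIn E (sigmaCore M) M)
    {V : Subgroup G} (hVE : V ≤ E) (hVn : E ≤ Subgroup.normalizer (V : Set G))
    (hVhall : (Nat.card V).Coprime (V.relIndex E))
    (hV : ∀ e ∈ V, e ≠ 1 → (∀ p : ℕ, p.Prime → p ∣ orderOf e → p ∈ tau1 M ∪ tau3 M) →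
      sigmaCore M ⊓ Subgroup.centralizer ({e} : Set G) = ⊥)
    (hab : ∀ p ∈ tau2 M, ∀ S : Sylow p G, ∀ a ∈ (S : Subgroup G), ∀ b ∈ (S : Subgroup G),
      a * b = b * a)
    (hkey : ∀ (p : ℕ) [Fact p.Prime], p ∈ tau2 M → p ∣ Nat.card V →
      ∃ Y : Subgroup G, Y ≤ V ∧ V ≤ Subgroup.normalizer (Y : Set G) ∧ IsCyclic Y ∧ IsPGroup p Y ∧
        (∀ g ∈ V, ∀ k : ℕ, orderOf g = p ^ k → p ^ k ∣ Nat.card Y) ∧
        ∀ y ∈ Y, y ≠ 1 → sigmaCore M ⊓ Subgroup.centralizer ({y} : Set G) = ⊥) :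
    ∃ V₀ : Subgroup G, V₀ ≤ V ∧ Monoid.exponent V₀ = Monoid.exponent V ∧
      ∀ e ∈ V₀, e ≠ 1 → sigmaCore M ⊓ Subgroup.centralizer ({e} : Set G) = ⊥ := by
  classical
  set T : Finset ℕ := (Nat.card V).primeFactors.filter (fun q => q ∈ tau2 M) with hTdef
  have hT : ∀ q, q ∈ T ↔ q.Prime ∧ q ∣ Nat.card V ∧ q ∈ tau2 M := by
    intro q
    rw [hTdef, Finset.mem_filter, Nat.mem_primeFactors]
    constructor
    · rintro ⟨⟨h1, h2, -⟩, h3⟩
      exact ⟨h1, h2, h3⟩
    · rintro ⟨h1, h2, h3⟩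
      exact ⟨⟨h1, h2, Nat.card_pos.ne'⟩, h3⟩
  -- the subgroups `Y q`
  have hexY : ∀ q, ∃ Yq : Subgroup G, q ∈ T →
      (Yq ≤ V ∧ V ≤ Subgroup.normalizer (Yq : Set G) ∧ IsCyclic Yq ∧ IsPGroup q Yq ∧
        (∀ g ∈ V, ∀ k : ℕ, orderOf g = q ^ k → q ^ k ∣ Nat.card Yq) ∧
        ∀ y ∈ Yq, y ≠ 1 → sigmaCore M ⊓ Subgroup.centralizer ({y} : Set G) = ⊥) := by
    intro q
    by_cases hq : q ∈ T
    · obtain ⟨h1, h2, h3⟩ := (hT q).mp hq
      have : Fact q.Prime := ⟨h1⟩
      obtain ⟨Yq, hYq⟩ := hkey q h3 h2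
      exact ⟨Yq, fun _ => hYq⟩
    · exact ⟨⊥, fun h => absurd h hq⟩
  choose Y hY using hexY
  -- the normal Sylow subgroups `Sy q`
  have hexS : ∀ q, ∃ Sq : Subgroup G, q ∈ T →
      (IsPGroup q Sq ∧ Sq ≤ V ∧ E ≤ Subgroup.normalizer (Sq : Set G) ∧ ¬ q ∣ Sq.index) := by
    intro q
    by_cases hq : q ∈ T
    · obtain ⟨h1, h2, h3⟩ := (hT q).mp hq
      have : Fact q.Prime := ⟨h1⟩
      obtain ⟨S, hSE, hES⟩ := Cfsg.Agent.Lib.Helper02.BG1211.exists_normal_sylow hG hM hE h3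
        (hab q h3)
      refine ⟨(S : Subgroup G), fun _ => ⟨S.isPGroup', ?_, hES, S.not_dvd_index⟩⟩
      exact pgroup_le_of_normal_hall hVE hVn hVhall h1 h2 hSE S.isPGroup'
    · exact ⟨⊥, fun h => absurd h hq⟩
  choose Sy hSy using hexS
  set N : Subgroup G := ⨆ q ∈ T, Sy q with hNdef
  set Yt : Subgroup G := ⨆ q ∈ T, Y q with hYtdef
  have hNV : N ≤ V := iSup₂_le (fun q hq => (hSy q hq).2.1)
  have hYtV : Yt ≤ V := iSup₂_le (fun q hq => (hY q hq).1)
  have hVN : V ≤ Subgroup.normalizer (N : Set G) :=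
    le_normalizer_biSup V T Sy (fun q hq => hVE.trans (hSy q hq).2.2.1)
  have hVYt : V ≤ Subgroup.normalizer (Yt : Set G) :=
    le_normalizer_biSup V T Y (fun q hq => (hY q hq).2.1)
  have hNprime : ∀ r : ℕ, r.Prime → r ∣ Nat.card N → r ∈ T := by
    intro r hr hrd
    exact Cfsg.Agent.Lib.Helper22.BG1211.prime_mem_of_dvd_card_iSup V T Sy
      (fun q hq => (hSy q hq).2.1) (fun q hq => hVE.trans (hSy q hq).2.2.1)
      (fun q hq => ⟨((hT q).mp hq).1, (hSy q hq).1⟩) hr hrd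
  have hNrel : ∀ r ∈ T, ¬ r ∣ N.relIndex V := by
    intro r hr hrd
    have hle : Sy r ≤ N := le_iSup₂ (f := fun q (_ : q ∈ T) => Sy q) r hr
    have h1 : N.relIndex V ∣ (Sy r).relIndex V := Subgroup.relIndex_dvd_of_le_left V hle
    have h2 : (Sy r).relIndex V ∣ (Sy r).index :=
      ⟨V.index, (Subgroup.relIndex_mul_index (hSy r hr).2.1).symm⟩
    exact (hSy r hr).2.2.2 (hrd.trans (h1.trans h2))
  -- Schur–Zassenhaus in `V`
  have hNn : (N.subgroupOf V).Normal :=
    (Subgroup.normal_subgroupOf_iff_le_normalizer hNV).mpr hVN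
  have hcardN : Nat.card (N.subgroupOf V) = Nat.card N :=
    Nat.card_congr (Subgroup.subgroupOfEquivOfLe hNV).toEquiv
  have hcop : (Nat.card (N.subgroupOf V)).Coprime (N.subgroupOf V).index := by
    apply Nat.coprime_of_dvd
    intro r hr hr1 hr2
    rw [hcardN] at hr1
    exact hNrel r (hNprime r hr hr1) hr2
  obtain ⟨H0, hH0⟩ := Subgroup.exists_right_complement'_of_coprime hcop
  set H : Subgroup G := H0.map V.subtype with hHdef
  have hHV : H ≤ V := Subgroup.map_subtype_le _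
  have hHsub : H.subgroupOf V = H0 :=
    Subgroup.comap_map_eq_self_of_injective V.subtype_injective H0
  have hHrel : H.relIndex V = Nat.card N := by
    have h1 : H.relIndex V = H0.index := by
      show (H.subgroupOf V).index = H0.index
      rw [hHsub]
    rw [h1, hH0.index_eq_card, hcardN]
  have hcardH : Nat.card H = N.relIndex V := by
    have h1 : Nat.card H = Nat.card H0 :=
      Nat.card_congr (H0.equivMapOfInjective V.subtype V.subtype_injective).symm.toEquiv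
    have h2 : Nat.card (N.subgroupOf V) * Nat.card H0 = Nat.card V := hH0.card_mul_card
    have h3 : Nat.card (N.subgroupOf V) * (N.subgroupOf V).index = Nat.card V :=
      Subgroup.card_mul_index _
    have h4 : Nat.card H0 = (N.subgroupOf V).index :=
      Nat.eq_of_mul_eq_mul_left Nat.card_pos (h2.trans h3.symm)
    rw [h1, h4]
    rfl
  have hHT : ∀ r ∈ T, ¬ r ∣ Nat.card H := by
    intro r hr
    rw [hcardH]
    exact hNrel r hr
  have hHYt : H ≤ Subgroup.normalizer (Yt : Set G) := hHV.trans hVYt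
  refine ⟨Yt ⊔ H, sup_le hYtV hHV, ?_, ?_⟩
  · -- the exponent
    apply Cfsg.Agent.Lib.Helper01.ExponentX.exponent_subgroup_eq_of_primePow (Yt ⊔ H) V
      (sup_le hYtV hHV)
    intro g hgV q k hq hgo
    by_cases hk : k = 0
    · rw [hk, pow_zero]
      exact one_dvd _
    have hqV : q ∣ Nat.card V := by
      have h1 : q ∣ orderOf g := by
        rw [hgo]
        exact dvd_pow_self q hk
      have h2 : orderOf g ∣ Nat.card V := by
        have := orderOf_dvd_natCard (⟨g, hgV⟩ : ↥V)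
        rwa [Subgroup.orderOf_mk] at this
      exact h1.trans h2
    have hord_dvd : ∀ y ∈ Yt ⊔ H, orderOf y ∣ Monoid.exponent ↥(Yt ⊔ H : Subgroup G) := by
      intro y hy
      have := Monoid.order_dvd_exponent (⟨y, hy⟩ : ↥(Yt ⊔ H : Subgroup G))
      rwa [Subgroup.orderOf_mk] at this
    by_cases hq2 : q ∈ tau2 M
    · have hqT : q ∈ T := (hT q).mpr ⟨hq, hqV, hq2⟩
      obtain ⟨-, -, hcyc, -, hdiv, -⟩ := hY q hqT
      have := hcyc
      obtain ⟨y, hy⟩ := IsCyclic.exists_generator (α := ↥(Y q))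
      have hyo : orderOf (y : G) = Nat.card (Y q) := by
        rw [Subgroup.orderOf_coe]
        exact orderOf_eq_card_of_forall_mem_zpowers hy
      have hyV₀ : (y : G) ∈ Yt ⊔ H :=
        (le_sup_left : Yt ≤ Yt ⊔ H) ((le_iSup₂ (f := fun q (_ : q ∈ T) => Y q) q hqT) y.2)
      exact (hdiv g hgV k hgo).trans (hyo ▸ hord_dvd _ hyV₀)
    · have hqT : q ∉ T := fun h => hq2 ((hT q).mp h).2.2
      have hqH : ¬ q ∣ H.relIndex V := by
        rw [hHrel]
        exact fun h => hqT (hNprime q hq h)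
      obtain ⟨c, hcV, hcg⟩ :=
        Cfsg.Agent.Lib.Helper94.BG1211.exists_conj_mem_of_not_dvd_relIndex V H hHV hq hqH hgV hgo
      have ho : orderOf (c * g * c⁻¹) = orderOf g :=
        orderOf_injective (MulAut.conj c).toMonoidHom (MulAut.conj c).injective g
      rw [← hgo, ← ho]
      exact hord_dvd _ ((le_sup_right : H ≤ Yt ⊔ H) hcg)
  · -- semiregularity
    intro e heV₀ he1
    rw [eq_bot_iff]
    intro x hx
    obtain ⟨hxσ, hxC⟩ := Subgroup.mem_inf.mp hx
    rw [Subgroup.mem_bot]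
    by_contra hx1
    have hxe : e * x = x * e := by
      rw [Subgroup.mem_centralizer_iff] at hxC
      exact hxC e rfl
    -- a power `u` of `e` of prime order `q`
    have hn1 : orderOf e ≠ 1 := fun h => he1 (orderOf_eq_one_iff.mp h)
    obtain ⟨q, hq, hqd⟩ := Nat.exists_prime_and_dvd hn1
    have hn0 : orderOf e ≠ 0 := (orderOf_pos e).ne'
    obtain ⟨m, hm⟩ := hqd
    have hm0 : m ≠ 0 := by
      rintro rfl
      rw [mul_zero] at hm
      exact hn0 hm
    have hmd : m ∣ orderOf e := ⟨q, by rw [hm, mul_comm]⟩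
    have hord : orderOf (e ^ m) = q := by
      rw [orderOf_pow_of_dvd hm0 hmd]
      conv_lhs => rw [hm]
      exact Nat.mul_div_cancel _ (Nat.pos_of_ne_zero hm0)
    have huV₀ : e ^ m ∈ Yt ⊔ H := (Yt ⊔ H).pow_mem heV₀ m
    have huV : e ^ m ∈ V := (sup_le hYtV hHV) huV₀
    have hu1 : e ^ m ≠ 1 := by
      intro h1
      rw [h1, orderOf_one] at hord
      exact hq.one_lt.ne hord
    have hux : ∀ j : ℕ, x ∈ sigmaCore M ⊓ Subgroup.centralizer ({(e ^ m) ^ j} : Set G) := by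
      intro j
      refine Subgroup.mem_inf.mpr ⟨hxσ, ?_⟩
      rw [Subgroup.mem_centralizer_iff]
      intro t ht
      rw [Set.mem_singleton_iff] at ht
      rw [ht]
      have hc : Commute e x := hxe
      exact ((hc.pow_left m).pow_left j).eq
    have hqV : q ∣ Nat.card V := by
      have := orderOf_dvd_natCard (⟨e ^ m, huV⟩ : ↥V)
      rwa [Subgroup.orderOf_mk, hord] at this
    by_cases hq2 : q ∈ tau2 M
    · have hqT : q ∈ T := (hT q).mpr ⟨hq, hqV, hq2⟩
      have huY : e ^ m ∈ Yt := by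
        apply Cfsg.Agent.Lib.Helper20.BG1211.mem_of_mem_sup_of_coprime Yt H hHYt huV₀
        rw [hord]
        exact (Nat.Prime.coprime_iff_not_dvd hq).mpr (hHT q hqT)
      obtain ⟨q', hq'T, j, hj, hj1⟩ :=
        Cfsg.Agent.Lib.Helper22.BG1211.exists_pow_mem_of_mem_iSup V T Y
          (fun q hq => (hY q hq).1) (fun q hq => (hY q hq).2.1)
          (fun q hq => ⟨((hT q).mp hq).1, (hY q hq).2.2.2.1⟩) huY hu1
      have h0 := (hY q' hq'T).2.2.2.2.2 _ hj hj1
      have := hux j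
      rw [h0, Subgroup.mem_bot] at this
      exact hx1 this
    · have hqτ : q ∈ tau1 M ∪ tau3 M :=
        mem_tau13_of_dvd_card_compl hG hM hE hq
          (hqV.trans (Subgroup.card_dvd_of_le hVE)) hq2
      have h0 := hV (e ^ m) huV hu1 (fun r hr hrd => by
        rw [hord] at hrd
        rw [(Nat.prime_dvd_prime_iff_eq hr hq).mp hrd]
        exact hqτ)
      have := hux 1
      rw [pow_one, h0, Subgroup.mem_bot] at this
      exact hx1 this

end Cfsg.Agent.Lib.Helper78.BG1211
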