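import Mathlib
import Cfsg.Agent.Lib.Helper71.BG11c
import Cfsg.Agent.S1394
import Cfsg.Agent.S1395

set_option autoImplicit false
set_option linter.unusedSectionVars false
set_option linter.style.haveILetI false

/-! # BG Lemma 12.4, STEP 4, keystone K7b (`normalizer_sylow_eq`)

`N_G(P) = O_{p'}(C_G(P)) ⊔ (N_G(P) ⊓ M)` for a Sylow `p`-subgroup `P` of `M` over `A`, when `p ∉ σ(M)`,
`M_σ` is nilpotent and centralized by `A`.  (S1394 + S1395.) -/

namespace Cfsg.Agent.Lib.Helper78.BG124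

open Cfsg Cfsg.Agent.Lib.Helper55 Cfsg.Agent.Lib.Helper71.BG11 Cfsg.Agent.Lib.Helper71.BG10

/-- every subgroup of a finite nilpotent group is subnormal -/
theorem k7b_isSubnormal_of_nilpotent {X : Type*} [Group X] [Finite X] [hX : Group.IsNilpotent X]
    (K : Subgroup X) : K.IsSubnormal := by
  induction K using WellFoundedGT.induction with
  | _ K ih =>
    by_cases hK : K = ⊤
    · rw [hK]; exact Subgroup.IsSubnormal.top
    · have hlt : K < Subgroup.normalizer (K : Set X) :=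
        Group.normalizerCondition_of_isNilpotent K (lt_top_iff_ne_top.2 hK)
      exact Subgroup.IsSubnormal.step K _ hlt.le (ih _ hlt)
        ((Subgroup.normal_subgroupOf_iff_le_normalizer hlt.le).2 le_rfl)

variable {G : Type*} [Group G] [Finite G] {M A : Subgroup G} {p : ℕ} [Fact p.Prime]

/-- an abelian group of order `p ^ 2` and exponent `p` does not have rank `≤ 1` -/
theorem k7b_not_rankLE_one (hAe : IsElementaryAbelian p A) (hA2 : Nat.card A = p ^ 2) :
    ¬ RankLE 1 ↥(A ⊓ Subgroup.centralizer (A : Set G)) := by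
  have hp : p.Prime := Fact.out
  have hle : A ≤ Subgroup.centralizer (A : Set G) := by
    intro a ha
    rw [Subgroup.mem_centralizer_iff]
    intro b hb
    have := hAe.1.is_comm.comm (⟨b, hb⟩ : A) ⟨a, ha⟩
    exact congrArg Subtype.val this
  have hAC : A ⊓ Subgroup.centralizer (A : Set G) = A := inf_eq_left.mpr hle
  rw [hAC]
  intro h
  have hcomm : IsMulCommutative (⊤ : Subgroup A) :=
    ⟨⟨fun a b => Subtype.ext (hAe.1.is_comm.comm a.1 b.1)⟩⟩
  have h1 := h p hp (⊤ : Subgroup A) hcomm (fun a _ => Subtype.ext (by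
    rw [Subgroup.coe_pow]; exact hAe.2 a.1 a.2))
  rw [Subgroup.card_top, hA2, pow_one] at h1
  have h2 : p * 2 ≤ p * p := Nat.mul_le_mul_left p hp.two_le
  nlinarith [hp.two_le]

theorem normalizer_sylow_eq (hG : IsMinSimpleOddOrder G) (hM : IsCoatom M) (hAM : A ≤ M)
    (hAe : IsElementaryAbelian p A) (hA2 : Nat.card A = p ^ 2) (hσ : p ∉ sigma M)
    (hTH : TransitivityHypothesis A) (hnil : Group.IsNilpotent ↥(sigmaCore M))
    (hcent : A ≤ Subgroup.centralizer ((sigmaCore M : Subgroup G) : Set G))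
    (P : Sylow p M) (hAP : A ≤ (P : Subgroup M).map M.subtype) :
    Subgroup.normalizer ((((P : Subgroup M).map M.subtype : Subgroup G)) : Set G) =
      piCoreOf (primesNotDvd (Nat.card A))
          (Subgroup.centralizer ((((P : Subgroup M).map M.subtype : Subgroup G)) : Set G)) ⊔
        (Subgroup.normalizer ((((P : Subgroup M).map M.subtype : Subgroup G)) : Set G) ⊓ M) := by
  have hp : p.Prime := Fact.out
  set P' : Subgroup G := (P : Subgroup M).map M.subtype with hP'def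
  have hP'M : P' ≤ M := Subgroup.map_subtype_le _
  have hP'p : IsPGroup p P' := P.isPGroup'.map _
  -- `M ≠ ⊥`
  have hM1 : M ≠ ⊥ := by
    intro h
    have hA1 : A = ⊥ := le_bot_iff.mp (h ▸ hAM)
    rw [hA1, Subgroup.card_bot] at hA2
    have : 1 < p ^ 2 := Nat.one_lt_pow (by norm_num) hp.one_lt
    omega
  have hS1 : sigmaCore M ≠ ⊥ := sigmaCore_ne_bot hG hM hM1
  -- a prime divisor `q` of `|M_σ|`
  have hcard1 : Nat.card (sigmaCore M) ≠ 1 := fun h => hS1 (Subgroup.card_eq_one.mp h)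
  obtain ⟨q, hq, hqd⟩ := Nat.exists_prime_and_dvd hcard1
  haveI : Fact q.Prime := ⟨hq⟩
  have hqσ : q ∈ sigma M := sigmaCore_pi hG hM hq hqd
  have hqp : q ≠ p := fun h => hσ (h ▸ hqσ)
  have hqA : ¬ q ∣ Nat.card A := by
    rw [hA2]
    intro h
    exact hqp ((Nat.prime_dvd_prime_iff_eq hq hp).mp (hq.dvd_of_dvd_pow h))
  -- the Sylow `q`-subgroup of `M_σ`
  obtain ⟨Q, hQ, -⟩ := exists_isSylowIn_ge (p := q) (K := sigmaCore M) (Z := ⊥) bot_le IsPGroup.of_bot
  have hQ1 : Q ≠ ⊥ := sylow_ne_bot hqd hQ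
  have hMQ : M ≤ Subgroup.normalizer (Q : Set G) :=
    sylow_normal_of_nilpotent hnil hQ (le_normalizer_sigmaCore M)
  have hQM : Q ≤ M := hQ.1.trans (sigmaCore_le M)
  have hNQ : Subgroup.normalizer (Q : Set G) = M := ms_normalizer_eq hG hM hQ1 hQM hMQ
  have hQtop : IsSylowIn q ⊤ Q :=
    isSylowIn_top_of_not_dvd_index hQ.2.1 (not_dvd_index_of_isSylowIn hQ (sigmaCore_index hG hM hqσ))
  -- `Q ≤ C_G(A)`
  have hQC : Q ≤ Subgroup.centralizer (A : Set G) := by
    intro x hx
    rw [Subgroup.mem_centralizer_iff]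
    intro a ha
    have h1 := hcent ha
    rw [Subgroup.mem_centralizer_iff] at h1
    exact (h1 x (hQ.1 hx)).symm
  have hqQ : q ∣ Nat.card Q := by
    obtain ⟨n, hn⟩ := hQ.2.1.exists_card_eq
    rcases Nat.eq_zero_or_pos n with h0 | h0
    · exfalso
      rw [h0, pow_zero] at hn
      exact hQ1 (Subgroup.card_eq_one.mp hn)
    · rw [hn]; exact dvd_pow_self q h0.ne'
  have hqC : q ∣ Nat.card (Subgroup.centralizer (A : Set G)) :=
    hqQ.trans (Subgroup.card_dvd_of_le hQC)
  have hZ := k7b_not_rankLE_one hAe hA2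
  have htr := Cfsg.Agent.S1394.result hG A hTH hZ q hq hqA hqC
  -- apply S1395 to `P'`
  have hP'top : P' ≠ ⊤ := by
    intro h
    exact hM.1 (top_le_iff.mp (h ▸ hP'M))
  have hPπ : ∀ r : ℕ, r.Prime → r ∣ Nat.card P' → r ∣ Nat.card A := by
    intro r hr hrd
    obtain ⟨n, hn⟩ := hP'p.exists_card_eq
    rw [hn] at hrd
    have : r = p := (Nat.prime_dvd_prime_iff_eq hr hp).mp (hr.dvd_of_dvd_pow hrd)
    rw [this, hA2]
    exact dvd_pow_self p (by norm_num)
  haveI : Group.IsNilpotent P' := hP'p.isNilpotent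
  have hsn : (A.subgroupOf P').IsSubnormal := k7b_isSubnormal_of_nilpotent _
  have h95 := Cfsg.Agent.S1395.result hG A hTH q hq hqA P' hP'top hPπ hAP hsn htr
  have hQmem : Q ∈ maxInvSubgroups ⊤ P' {q} :=
    mem_maxInv_of_sylow P' hQtop (hP'M.trans hMQ)
  have h4 := (h95.2.2.2 Q hQmem).2
  rw [hNQ] at h4
  exact h4

end Cfsg.Agent.Lib.Helper78.BG124
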