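import Mathlib
import Cfsg.Agent.S1350
import Cfsg.Agent.S1374
import Cfsg.Agent.S1375
import Cfsg.Agent.S1420
import Cfsg.Agent.S1426
import Cfsg.Agent.Lib.Helper13.BG1372
import Cfsg.Agent.Lib.Helper55.Uniq2
import Cfsg.Agent.Lib.Helper71.BG10Hall
import Cfsg.Agent.Lib.Helper71.BG11a
import Cfsg.Agent.Lib.Helper31.FittingHall

/-!
# BG 15.7 for type `P₁` (pack K-1383), part 1: the support of an element of `M_σ ∩ M_σ^g`

If `M_σ` is not a TI-subset, there are a prime `p`, an element `y ∈ M_σ` of order `p` outside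
`[M_σ, M_σ]`, and a maximal subgroup `N ≠ M` containing `C_G(y)` such that `M ∩ N` is a complement
of `N_σ` in `N`.  Nilpotent subgroups of `M ∩ N` are abelian, and `M ∩ N` has `p`-rank at most two.
-/

set_option autoImplicit false

namespace Cfsg.Agent.Lib.Helper78.BG1383

open Cfsg

variable {G : Type*} [Group G] [Finite G]

theorem exists_support (hG : IsMinSimpleOddOrder G) {M : Subgroup G} (hM : IsCoatom M)
    {E : Subgroup G} (hE : IsComplIn E (sigmaCore M) M)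
    (hnTI : ¬ IsTISubset (sigmaCore M : Set G)) :
    ∃ (p : ℕ) (y : G) (N : Subgroup G), p.Prime ∧ y ∈ sigmaCore M ∧ orderOf y = p ∧
      y ∉ ⁅sigmaCore M, sigmaCore M⁆ ∧ IsCoatom N ∧ N ≠ M ∧
      Subgroup.centralizer ({y} : Set G) ≤ N ∧ IsComplIn (M ⊓ N) (sigmaCore N) N := by
  unfold IsTISubset at hnTI
  push Not at hnTI
  obtain ⟨g, hgN, x, hx, hgx, hx1⟩ := hnTI
  have hxσ : x ∈ sigmaCore M := hx
  have hwσ : g * x * g⁻¹ ∈ sigmaCore M := hgx
  have hgM : g ∉ M := fun h =>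
    hgN (Cfsg.Agent.Lib.Helper71.BG11.le_normalizer_sigmaCore M h)
  have hw1 : g * x * g⁻¹ ≠ 1 := by
    intro h
    apply hx1
    have : x = g⁻¹ * (g * x * g⁻¹) * g := by group
    rw [this, h]; group
  have hwMg : g * x * g⁻¹ ∈ M.map (MulAut.conj g).toMonoidHom :=
    ⟨x, Cfsg.Agent.Lib.Helper71.BG11.sigmaCore_le M hxσ, by simp [MulAut.conj_apply]⟩
  obtain ⟨-, -, h3⟩ := Cfsg.Agent.S1426.result hG M hM E hE
  obtain ⟨-, -, hbot⟩ := h3 g hgM
  obtain ⟨p, hp, j, hj⟩ := Cfsg.Agent.Lib.Helper13.BG1372.exists_pow_prime_order hw1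
  have hyσ : (g * x * g⁻¹) ^ j ∈ sigmaCore M := pow_mem hwσ j
  have hyMg : (g * x * g⁻¹) ^ j ∈ M.map (MulAut.conj g).toMonoidHom := pow_mem hwMg j
  have hy1 : (g * x * g⁻¹) ^ j ≠ 1 := by
    intro h
    rw [h, orderOf_one] at hj
    exact hp.one_lt.ne hj
  have hyD : (g * x * g⁻¹) ^ j ∉ ⁅sigmaCore M, sigmaCore M⁆ := by
    intro h
    have hmem : (g * x * g⁻¹) ^ j ∈
        sigmaCore M ⊓ M.map (MulAut.conj g).toMonoidHom ⊓ ⁅sigmaCore M, sigmaCore M⁆ :=
      Subgroup.mem_inf.mpr ⟨Subgroup.mem_inf.mpr ⟨hyσ, hyMg⟩, h⟩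
    rw [hbot] at hmem
    exact hy1 (Subgroup.mem_bot.mp hmem)
  obtain ⟨-, R, -, hRc, huniq⟩ :=
    Cfsg.Agent.S1374.result hG M hM ((g * x * g⁻¹) ^ j) hyσ hy1
  obtain ⟨r, ⟨hrR, hrg⟩, -⟩ := huniq g hyMg
  have hyM : ¬ Subgroup.centralizer ({(g * x * g⁻¹) ^ j} : Set G) ≤ M := by
    intro hle
    have hrM : r ∈ M := hle (hRc.2.1 hrR)
    have h1 : M.map (MulAut.conj r).toMonoidHom = M :=
      Cfsg.Agent.Lib.Helper55.cj_eq_self_iff.mpr (Subgroup.le_normalizer hrM)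
    rw [h1] at hrg
    have hgn : g ∈ Subgroup.normalizer (M : Set G) :=
      Cfsg.Agent.Lib.Helper55.cj_eq_self_iff.mp hrg.symm
    have hM1 : M ≠ ⊥ := by
      intro hb
      apply hy1
      have := Cfsg.Agent.Lib.Helper71.BG11.sigmaCore_le M hyσ
      rw [hb] at this
      exact Subgroup.mem_bot.mp this
    rw [Cfsg.Agent.Lib.Helper55.ms_normalizer_eq hG hM hM1 le_rfl Subgroup.le_normalizer] at hgn
    exact hgM hgn
  obtain ⟨N, ⟨hN, hyN⟩, -, -, -, -, hc2, -⟩ :=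
    Cfsg.Agent.S1375.result hG M hM ((g * x * g⁻¹) ^ j) hyσ hy1 hyM
  refine ⟨p, (g * x * g⁻¹) ^ j, N, hp, hyσ, hj, hyD, hN, ?_, hyN, hc2⟩
  rintro rfl
  exact hyM hyN

/-- A prime dividing the order of a complement `D` of `N_σ` in `N` is not in `σ(N)`. -/
theorem not_mem_sigma_of_dvd_compl (hG : IsMinSimpleOddOrder G) {N D : Subgroup G}
    (hN : IsCoatom N) (hc : IsComplIn D (sigmaCore N) N) {q : ℕ} (hq : q.Prime)
    (hqD : q ∣ Nat.card D) : q ∉ sigma N := by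
  intro hqσ
  have hHall := (Cfsg.Agent.S1350.result hG N hN).1
  have h1 := Cfsg.Agent.Lib.Helper31.IsComplIn.card_mul hc
  have h2 : Nat.card (sigmaCore N) * (sigmaCore N).relIndex N = Nat.card N :=
    Cfsg.Agent.Lib.Helper90.BG14D.card_mul_relIndex hHall.1
  have h3 : (sigmaCore N).relIndex N = Nat.card D := by
    have : Nat.card (sigmaCore N) * (sigmaCore N).relIndex N =
        Nat.card (sigmaCore N) * Nat.card D := by
      rw [h2, ← h1]; ring
    exact Nat.eq_of_mul_eq_mul_left Nat.card_pos this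
  exact hHall.2.2 q hq hqσ (h3 ▸ hqD)

/-- Nilpotent subgroups of a complement of `N_σ` in `N` are abelian. -/
theorem isMulCommutative_of_le_compl (hG : IsMinSimpleOddOrder G) {N D : Subgroup G}
    (hN : IsCoatom N) (hc : IsComplIn D (sigmaCore N) N) {L : Subgroup G} (hL : L ≤ D)
    (hLn : Group.IsNilpotent L) : IsMulCommutative L := by
  refine (Cfsg.Agent.S1420.result hG N hN D hc).1 L (hL.trans hc.1) hLn ?_
  intro q hq hqL
  exact not_mem_sigma_of_dvd_compl hG hN hc hq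
    (hqL.trans (Subgroup.card_dvd_of_le hL))

/-- A complement of `N_σ` in `N` has `q`-rank at most two for each of its prime divisors `q`. -/
theorem card_le_sq_of_le_compl (hG : IsMinSimpleOddOrder G) {N D : Subgroup G}
    (hN : IsCoatom N) (hc : IsComplIn D (sigmaCore N) N) {q : ℕ} (hq : q.Prime)
    (hqD : q ∣ Nat.card D) {B : Subgroup G} (hB : B ≤ D) (hBe : IsElementaryAbelian q B) :
    Nat.card B ≤ q ^ 2 := by
  have hqσ : q ∉ sigma N := not_mem_sigma_of_dvd_compl hG hN hc hq hqD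
  have hqα : q ∉ alpha N := fun h =>
    hqσ (Cfsg.Agent.Lib.Helper71.BG10.alpha_subset_sigma hG hN h)
  have hr : PRankLE q 2 ↥N := by
    by_contra h
    exact hqα ⟨hq, h⟩
  have hBN : B ≤ N := hB.trans hc.1
  have hcard : Nat.card (B.subgroupOf N) = Nat.card B :=
    Nat.card_congr (Subgroup.subgroupOfEquivOfLe hBN).toEquiv
  rw [← hcard]
  refine hr (B.subgroupOf N) ?_ ?_
  · obtain ⟨hBc, -⟩ := hBe
    refine ⟨⟨fun a b => ?_⟩⟩
    apply Subtype.ext
    apply Subtype.ext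
    have := hBc.is_comm.comm ⟨((a : N) : G), a.2⟩ ⟨((b : N) : G), b.2⟩
    show ((a : N) : G) * ((b : N) : G) = ((b : N) : G) * ((a : N) : G)
    exact congrArg Subtype.val this
  · intro a ha
    apply Subtype.ext
    rw [Subgroup.coe_pow, Subgroup.coe_one]
    exact hBe.2 (a : G) ha

end Cfsg.Agent.Lib.Helper78.BG1383
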