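import Mathlib
import Cfsg.Agent.S1373
import Cfsg.Agent.S1416
import Cfsg.Agent.S1422
import Cfsg.Agent.S1430
import Cfsg.Agent.S1454
import Cfsg.Agent.Lib.Helper12.BG151Glue
import Cfsg.Agent.Lib.Helper30.BG151F2
import Cfsg.Agent.Lib.Helper71.BG1381E1
import Cfsg.Agent.Lib.Helper78.BG1383G
import Cfsg.Agent.Lib.Helper80.BG1383A
import Cfsg.Agent.Lib.Helper66.BG1383B
import Cfsg.Agent.Lib.Helper93.BG1383C
import Cfsg.Agent.Lib.Helper18.BG1383D
import Cfsg.Agent.Lib.Helper21.BG1383E3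
import Cfsg.Agent.Lib.Helper64.BG1383F
import Cfsg.Agent.Lib.Helper42.BG1383E2

/-!
# BG 15.7 for type `P₁` (pack K-1383), part 2: the alternatives of type V

`M = H ⋊ K` with `H = M_σ = M_F` not a TI-subset: there is a prime `p` with `O_{p'}(H)` cyclic and
`|K| ∣ p - 1`, or `|O_p(H)| = p ^ 3` and `|K| ∣ p + 1`.
-/

set_option autoImplicit false
set_option linter.style.haveILetI false
set_option linter.unusedSectionVars false

namespace Cfsg.Agent.Lib.Helper78.BG1383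

open Cfsg
open scoped commutatorElement

variable {G : Type*} [Group G] [Finite G]

theorem isMulCommutative_of_le' {A B : Subgroup G} (hB : IsMulCommutative B) (hAB : A ≤ B) :
    IsMulCommutative A := by
  refine ⟨⟨fun a b => ?_⟩⟩
  apply Subtype.ext
  have := hB.is_comm.comm ⟨(a : G), hAB a.2⟩ ⟨(b : G), hAB b.2⟩
  show (a : G) * (b : G) = (b : G) * (a : G)
  exact congrArg Subtype.val this

theorem commutator_le_of_parts {H P T : Subgroup G}
    (hcomm : ∀ a ∈ P, ∀ b ∈ T, a * b = b * a)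
    (hH : ∀ h ∈ H, ∃ a ∈ P, ∃ b ∈ T, h = a * b) (hT : IsMulCommutative T) :
    ⁅H, H⁆ ≤ ⁅P, P⁆ := by
  rw [Subgroup.commutator_le]
  intro h₁ hh₁ h₂ hh₂
  obtain ⟨a₁, ha₁, b₁, hb₁, rfl⟩ := hH h₁ hh₁
  obtain ⟨a₂, ha₂, b₂, hb₂, rfl⟩ := hH h₂ hh₂
  have c12 : Commute b₁ b₂ := congrArg Subtype.val (hT.is_comm.comm ⟨b₁, hb₁⟩ ⟨b₂, hb₂⟩)
  have c1a : Commute b₁ a₂ := (hcomm a₂ ha₂ b₁ hb₁).symm
  have c2a : Commute b₂ a₁ := (hcomm a₁ ha₁ b₂ hb₂).symm
  have s1 : b₁ * (a₂ * b₂) * b₁⁻¹ = a₂ * b₂ := (c1a.mul_right c12).mul_inv_cancel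
  have s2 : b₂ * a₁⁻¹ * b₂⁻¹ = a₁⁻¹ := (c2a.inv_right).mul_inv_cancel
  have e : ⁅a₁ * b₁, a₂ * b₂⁆ = ⁅a₁, a₂⁆ := by
    rw [commutatorElement_def, commutatorElement_def]
    calc a₁ * b₁ * (a₂ * b₂) * (a₁ * b₁)⁻¹ * (a₂ * b₂)⁻¹
        = a₁ * (b₁ * (a₂ * b₂) * b₁⁻¹) * a₁⁻¹ * (a₂ * b₂)⁻¹ := by group
      _ = a₁ * (a₂ * b₂) * a₁⁻¹ * (a₂ * b₂)⁻¹ := by rw [s1]
      _ = a₁ * a₂ * (b₂ * a₁⁻¹ * b₂⁻¹) * a₂⁻¹ := by group
      _ = a₁ * a₂ * a₁⁻¹ * a₂⁻¹ := by rw [s2]
  rw [e]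
  exact Subgroup.commutator_mem_commutator ha₁ ha₂

theorem commutator_self_le (P : Subgroup G) : ⁅P, P⁆ ≤ P := by
  rw [Subgroup.commutator_le]
  intro a ha b hb
  rw [commutatorElement_def]
  exact P.mul_mem (P.mul_mem (P.mul_mem ha hb) (P.inv_mem ha)) (P.inv_mem hb)

set_option maxHeartbeats 1600000 in
theorem star (hG : IsMinSimpleOddOrder G) {M K : Subgroup G} (hM : IsCoatom M)
    (hKU : IsSigmaDecomposition M K ⊥) (hK1 : K ≠ ⊥)
    (hF : fittingHallOf M = sigmaCore M) (hnTI : ¬ IsTISubset (fittingHallOf M : Set G)) :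
    (∃ p : ℕ, p.Prime ∧ p ∣ Nat.card (fittingHallOf M) ∧ Nat.card K ∣ p - 1 ∧
        IsCyclic (pPrimeCore p (fittingHallOf M))) ∨
    (∃ p : ℕ, p.Prime ∧ p ∣ Nat.card (fittingHallOf M) ∧
        Nat.card (pCore p (fittingHallOf M)) = p ^ 3 ∧ Nat.card K ∣ p + 1 ∧
        IsCyclic (pPrimeCore p (fittingHallOf M))) := by
  classical
  have hE : IsComplIn K (sigmaCore M) M :=
    Cfsg.Agent.Lib.Helper12.BG151.isComplIn_of_decomp_bot hG hM hKU
  have hnTI' : ¬ IsTISubset (sigmaCore M : Set G) := by rw [← hF]; exact hnTI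
  obtain ⟨p, y, N, hp, hyσ, hyo, hyD, hN, hNM, hyN, hc⟩ := exists_support hG hM hE hnTI'
  haveI : Fact p.Prime := ⟨hp⟩
  have hHnil : Group.IsNilpotent ↥(fittingHallOf M) :=
    Cfsg.Agent.Lib.Helper71.BG1381.isNilpotent_fittingHallOf M
  obtain ⟨hPp, hTcop, hPT, hcomm, hprod, hnorm⟩ := Cfsg.Agent.Lib.Helper93.BG1383.parts_of_nilpotent (fittingHallOf M) hHnil p
  have hPH : (pCore p ↥(fittingHallOf M)).map (fittingHallOf M).subtype ≤ fittingHallOf M :=
    Subgroup.map_subtype_le _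
  have hTH : (pPrimeCore p ↥(fittingHallOf M)).map (fittingHallOf M).subtype ≤ fittingHallOf M :=
    Subgroup.map_subtype_le _
  generalize hPdef : (pCore p ↥(fittingHallOf M)).map (fittingHallOf M).subtype = P at *
  generalize hTdef : (pPrimeCore p ↥(fittingHallOf M)).map (fittingHallOf M).subtype = T at *
  have hHM : fittingHallOf M ≤ M := hF.le.trans (Cfsg.Agent.Lib.Helper71.BG11.sigmaCore_le M)
  have hyH : y ∈ fittingHallOf M := by rw [hF]; exact hyσ
  have hy1 : y ≠ 1 := by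
    intro h
    rw [h, orderOf_one] at hyo
    exact hp.one_lt.ne hyo
  -- `y ∈ P`
  have hyP : y ∈ P := by
    obtain ⟨a, ha, b, hb, hab⟩ := hprod y hyH
    have hcab : Commute a b := hcomm a ha b hb
    have hyp : y ^ p = 1 := by rw [← hyo]; exact pow_orderOf_eq_one y
    have h1 : a ^ p * b ^ p = 1 := by rw [← hcab.mul_pow, ← hab]; exact hyp
    have hbp : b ^ p ∈ P ⊓ T := by
      refine Subgroup.mem_inf.mpr ⟨?_, pow_mem hb p⟩
      have : b ^ p = (a ^ p)⁻¹ := eq_inv_of_mul_eq_one_right h1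
      rw [this]; exact inv_mem (pow_mem ha p)
    rw [hPT, Subgroup.mem_bot] at hbp
    have hbT : b ^ Nat.card T = 1 := by
      have := pow_card_eq_one' (G := T) (x := ⟨b, hb⟩)
      have h2 := congrArg Subtype.val this
      rwa [Subgroup.coe_pow, Subgroup.coe_one] at h2
    have hb1 : b = 1 := by
      have hord : orderOf b ∣ Nat.gcd p (Nat.card T) :=
        Nat.dvd_gcd (orderOf_dvd_of_pow_eq_one hbp) (orderOf_dvd_of_pow_eq_one hbT)
      rw [Nat.Coprime.gcd_eq_one hTcop.symm] at hord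
      exact orderOf_eq_one_iff.mp (Nat.dvd_one.mp hord)
    rw [hab, hb1, mul_one]; exact ha
  -- `C_H(y) ≤ M ⊓ N` is abelian
  have hCH : fittingHallOf M ⊓ Subgroup.centralizer ({y} : Set G) ≤ M ⊓ N := fun z hz =>
    Subgroup.mem_inf.mpr ⟨hHM (Subgroup.mem_inf.mp hz).1, hyN (Subgroup.mem_inf.mp hz).2⟩
  have hCab : IsMulCommutative ↥(fittingHallOf M ⊓ Subgroup.centralizer ({y} : Set G)) :=
    isMulCommutative_of_le_compl hG hN hc hCH
      (Cfsg.Agent.Lib.Helper30.BG151.isNilpotent_of_le hHnil inf_le_left)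
  have hTC : T ≤ fittingHallOf M ⊓ Subgroup.centralizer ({y} : Set G) := by
    intro b hb
    refine Subgroup.mem_inf.mpr ⟨hTH hb, ?_⟩
    rw [Subgroup.mem_centralizer_iff]
    intro h hh
    rw [Set.mem_singleton_iff] at hh
    rw [hh]
    exact hcomm y hyP b hb
  have hTab : IsMulCommutative T := isMulCommutative_of_le' hCab hTC
  -- `K*`
  have hKsprime : (Nat.card ↥(sigmaCore M ⊓ Subgroup.centralizer (K : Set G))).Prime :=
    Cfsg.Agent.S1373.result hG M hM K ⊥ hKU hK1 rfl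
  obtain ⟨hKsD, h26b, -⟩ := Cfsg.Agent.S1426.result hG M hM K hE
  have hPP : ⁅P, P⁆ ≤ P := commutator_self_le P
  have hKsP' : sigmaCore M ⊓ Subgroup.centralizer (K : Set G) ≤ ⁅P, P⁆ := by
    have h1 : ⁅fittingHallOf M, fittingHallOf M⁆ ≤ ⁅P, P⁆ :=
      commutator_le_of_parts hcomm hprod hTab
    rw [hF] at h1
    exact hKsD.trans h1
  have hPna : ¬ IsMulCommutative P := by
    intro hab
    have hbot : ⁅P, P⁆ = ⊥ := by
      rw [Subgroup.commutator_eq_bot_iff_le_centralizer]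
      intro a ha
      rw [Subgroup.mem_centralizer_iff]
      intro b hb
      exact congrArg Subtype.val (hab.is_comm.comm ⟨b, hb⟩ ⟨a, ha⟩)
    rw [hbot] at hKsP'
    have : sigmaCore M ⊓ Subgroup.centralizer (K : Set G) = ⊥ := le_bot_iff.mp hKsP'
    rw [this, Subgroup.card_bot] at hKsprime
    exact Nat.not_prime_one hKsprime
  have hZeq : P ⊓ Subgroup.centralizer (K : Set G) =
      sigmaCore M ⊓ Subgroup.centralizer (K : Set G) := by
    apply le_antisymm
    · intro z hz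
      obtain ⟨hz1, hz2⟩ := Subgroup.mem_inf.mp hz
      exact Subgroup.mem_inf.mpr ⟨hF ▸ hPH hz1, hz2⟩
    · intro z hz
      exact Subgroup.mem_inf.mpr ⟨hPP (hKsP' hz), (Subgroup.mem_inf.mp hz).2⟩
  have hZ' : P ⊓ Subgroup.centralizer (K : Set G) ≤ ⁅P, P⁆ := by rw [hZeq]; exact hKsP'
  have hZcard : Nat.card ↥(P ⊓ Subgroup.centralizer (K : Set G)) = p := by
    rw [hZeq]
    have hKsp : IsPGroup p ↥(sigmaCore M ⊓ Subgroup.centralizer (K : Set G)) :=
      hPp.to_le (hKsP'.trans hPP)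
    obtain ⟨n, hn⟩ := (IsPGroup.iff_card).mp hKsp
    have hn0 : n ≠ 0 := by
      rintro rfl
      rw [hn, pow_zero] at hKsprime
      exact Nat.not_prime_one hKsprime
    have hd : p ∣ Nat.card ↥(sigmaCore M ⊓ Subgroup.centralizer (K : Set G)) := by
      rw [hn]; exact dvd_pow_self p hn0
    rcases (Nat.dvd_prime hKsprime).mp hd with h | h
    · exact absurd h hp.one_lt.ne'
    · exact h.symm
  -- `K` normalizes `P` and `T`
  have hKM : K ≤ M := hKU.hall.1
  have hKN : K ≤ Subgroup.normalizer (fittingHallOf M : Set G) :=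
    hKM.trans (Cfsg.Agent.Lib.Helper31.le_normalizer_fittingHallOf M)
  have hKP : K ≤ Subgroup.normalizer (P : Set G) := fun k hk => (hnorm k (hKN hk)).1
  have hKT : K ≤ Subgroup.normalizer (T : Set G) := fun k hk => (hnorm k (hKN hk)).2
  have hfix : ∀ k ∈ K, k ≠ 1 → P ⊓ Subgroup.centralizer ({k} : Set G) =
      P ⊓ Subgroup.centralizer (K : Set G) := by
    intro k hk hk1
    have h30 := (Cfsg.Agent.S1430.result hG M hM K hKU.hall hK1).1 k hk hk1
    apply le_antisymm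
    · intro z hz
      obtain ⟨hz1, hz2⟩ := Subgroup.mem_inf.mp hz
      have hmem : z ∈ sigmaCore M ⊓ Subgroup.centralizer ({k} : Set G) :=
        Subgroup.mem_inf.mpr ⟨hF ▸ hPH hz1, hz2⟩
      rw [h30] at hmem
      exact Subgroup.mem_inf.mpr ⟨hz1, (Subgroup.mem_inf.mp hmem).2⟩
    · intro z hz
      obtain ⟨hz1, hz2⟩ := Subgroup.mem_inf.mp hz
      exact Subgroup.mem_inf.mpr
        ⟨hz1, Subgroup.centralizer_le (Set.singleton_subset_iff.mpr hk) hz2⟩
  have hpH : p ∣ Nat.card (fittingHallOf M) := by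
    rw [← hyo]
    have := orderOf_dvd_natCard (⟨y, hyH⟩ : fittingHallOf M)
    rwa [Subgroup.orderOf_mk] at this
  have hpσ : p ∈ sigma M :=
    Cfsg.Agent.Lib.Helper71.BG11.sigmaCore_pi hG hM hp (hF ▸ hpH)
  have hKcop : (Nat.card K).Coprime p := by
    rw [Nat.coprime_comm, Nat.Prime.coprime_iff_not_dvd hp]
    intro hd
    exact (hKU.hall.2.1 p hp hd).2.2.1 hpσ
  have hKodd : Odd (Nat.card K) := Cfsg.Agent.Lib.Helper55.ms_odd hG K
  have hHK : ⁅fittingHallOf M, K⁆ = fittingHallOf M := by rw [hF]; exact h26b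
  have hPK : ⁅P, K⁆ = P :=
    Cfsg.Agent.Lib.Helper66.BG1383.commutator_eq_of_parts (fittingHallOf M) P T K hPH hTH hPT hcomm hprod hKP hKT hHK
  -- `T` is cyclic
  have hTcyc : IsCyclic T := by
    by_contra hnc
    obtain ⟨t, B, ht, hBT, hBe, hBcard⟩ :=
      Cfsg.Agent.Lib.Helper80.BG1383.exists_elemAb_sq_of_not_isCyclic T hTab hnc
    haveI : Fact t.Prime := ⟨ht⟩
    have hBN : B ≤ N := fun b hb => (Subgroup.mem_inf.mp (hCH (hTC (hBT hb)))).2
    have hCB : Subgroup.centralizer (B : Set G) ≤ N :=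
      (Cfsg.Agent.S1416.result hG N hN t B ⟨hBN, hBe, hBcard⟩).1
    have hPN : P ≤ N := by
      intro a ha
      apply hCB
      rw [Subgroup.mem_centralizer_iff]
      intro b hb
      exact (hcomm a ha b (hBT hb)).symm
    obtain ⟨M₀, -, huniq⟩ := Cfsg.Agent.S1422.result hG p P hPp hPna
    have e1 := huniq M ⟨hM, hPH.trans hHM⟩
    have e2 := huniq N ⟨hN, hPN⟩
    exact hNM (e2.trans e1.symm)
  have hcyc : IsCyclic (pPrimeCore p ↥(fittingHallOf M)) := by
    have e := Subgroup.equivMapOfInjective (pPrimeCore p ↥(fittingHallOf M))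
      (fittingHallOf M).subtype (Subgroup.subtype_injective _)
    rw [hTdef] at e
    haveI := hTcyc
    exact isCyclic_of_surjective e.symm e.symm.surjective
  -- the rank of `C_P(y)`
  have hpD : p ∣ Nat.card ↥(M ⊓ N) := by
    rw [← hyo]
    have hyD' : y ∈ M ⊓ N :=
      Subgroup.mem_inf.mpr ⟨hHM hyH, hyN (Subgroup.mem_centralizer_singleton_iff.mpr rfl)⟩
    have := orderOf_dvd_natCard (⟨y, hyD'⟩ : ↥(M ⊓ N))
    rwa [Subgroup.orderOf_mk] at this
  have hr : ∀ B : Subgroup G, B ≤ P ⊓ Subgroup.centralizer ({y} : Set G) →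
      IsElementaryAbelian p B → Nat.card B ≤ p ^ 2 := by
    intro B hB hBe
    refine card_le_sq_of_le_compl hG hN hc hp hpD (hB.trans ?_) hBe
    intro z hz
    obtain ⟨hz1, hz2⟩ := Subgroup.mem_inf.mp hz
    exact hCH (Subgroup.mem_inf.mpr ⟨hPH hz1, hz2⟩)
  have hfaith : K ⊓ Subgroup.centralizer (P : Set G) = ⊥ := by
    rw [eq_bot_iff]
    intro k hk
    obtain ⟨hkK, hkC⟩ := Subgroup.mem_inf.mp hk
    rw [Subgroup.mem_bot]
    by_contra hk1
    have hle : P ≤ P ⊓ Subgroup.centralizer ({k} : Set G) := by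
      intro a ha
      refine Subgroup.mem_inf.mpr ⟨ha, ?_⟩
      rw [Subgroup.mem_centralizer_iff]
      intro h hh
      rw [Set.mem_singleton_iff] at hh
      rw [hh]
      exact ((Subgroup.mem_centralizer_iff.mp hkC) a ha).symm
    rw [hfix k hkK hk1] at hle
    apply hPna
    haveI : Fact (Nat.card ↥(P ⊓ Subgroup.centralizer (K : Set G))).Prime := ⟨hZcard ▸ hp⟩
    haveI : IsCyclic ↥(P ⊓ Subgroup.centralizer (K : Set G)) := isCyclic_of_prime_card rfl
    exact isMulCommutative_of_le' IsCyclic.isMulCommutative hle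
  have hP1 : P ≠ ⊥ := by
    intro hb
    rw [hb, Subgroup.mem_bot] at hyP
    exact hy1 hyP
  have hp2 : p ≠ 2 := Cfsg.Agent.Lib.Helper55.ms_prime_ne_two hG hPp hP1
  by_cases hrk : PRankLE p 2 ↥P
  · have hcube : Nat.card P = p ^ 3 :=
      Cfsg.Agent.Lib.Helper18.BG1383.card_eq_cube_of_pRankLE_two p hp2 P K hPp hPna hrk hKP hKcop hKodd hPK hZcard hZ'
    have hdvd : Nat.card K ∣ p - 1 ∨ Nat.card K ∣ p + 1 := by
      by_cases hline : ∃ a ∈ K, a ≠ 1 ∧ ∃ v ∈ P, v ∉ Subgroup.centralizer (K : Set G) ∧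
          a * v * a⁻¹ ∈ Subgroup.zpowers v ⊔ (P ⊓ Subgroup.centralizer (K : Set G))
      · exact Or.inl (Cfsg.Agent.Lib.Helper42.BG1383.card_dvd_pred_of_invariant_line p hp2 P K hcube hPna hKP hKU.cyclic
          hKcop hKodd hZcard hZ' hfix hline)
      · push Not at hline
        exact Or.inr (Cfsg.Agent.Lib.Helper21.BG1383.card_dvd_succ_of_no_invariant_line p hp2 P K hcube hPna hKP hKU.cyclic
          hKcop hKodd hZcard hZ' hfix hline)
    rcases hdvd with h | h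
    · exact Or.inl ⟨p, hp, hpH, h, hcyc⟩
    · refine Or.inr ⟨p, hp, hpH, ?_, h, hcyc⟩
      rw [← hcube, ← hPdef]
      exact Nat.card_congr (Subgroup.equivMapOfInjective _ _
        (Subgroup.subtype_injective _)).toEquiv
  · have hnar : IsNarrow p ↥P :=
      Cfsg.Agent.Lib.Helper64.BG1383.isNarrow_of_centralizer p hp2 P hPp y hyP hyo hr
    have hKtop : K ≠ ⊤ := by
      rintro rfl
      exact hM.1 (top_le_iff.mp hKM)
    have hKs : Group.IsSolvable ↥K := Cfsg.Agent.Lib.Helper55.ms_solvable hG hKtop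
    have h54 := (Cfsg.Agent.S1454.result p hp2 P K hPp hnar hKP hKs hKodd hfaith).2.1 hrk
    haveI := hKU.cyclic
    obtain ⟨a, ha⟩ := IsCyclic.exists_generator (α := K)
    have hord : orderOf (a : G) = Nat.card K := by
      rw [Subgroup.orderOf_coe, orderOf_eq_card_of_forall_mem_zpowers ha]
    have h := h54 (a : G) a.2 (by rw [hord]; exact hKcop)
    rw [hord] at h
    exact Or.inl ⟨p, hp, hpH, h, hcyc⟩

end Cfsg.Agent.Lib.Helper78.BG1383
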