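import Mathlib
import Cfsg.Agent.S1355
import Cfsg.Agent.S1356
import Cfsg.Agent.S1364
import Cfsg.Agent.S1365
import Cfsg.Agent.S1430
import Cfsg.Agent.Lib.Helper02.BG1382Glue
import Cfsg.Agent.Lib.Helper12.BG151Glue
import Cfsg.Agent.Lib.Helper13.BG16P
import Cfsg.Agent.Lib.Helper78.BG1383H

/-!
# Glue for S1383: type V `⇔` `K ≠ ⊥ ∧ U = ⊥ ∧ M_F = M_σ`
-/

set_option autoImplicit false
set_option linter.unusedVariables false

namespace Cfsg.Agent.Lib.Helper78.BG1383

open Cfsg

variable {G : Type*} [Group G] [Finite G]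

theorem s1383_of (hG : IsMinSimpleOddOrder G) (M : Subgroup G) (hM : IsCoatom M)
    (K U : Subgroup G) (hKU : IsSigmaDecomposition M K U) :
    IsOfTypeV M ↔ (K ≠ ⊥ ∧ U = ⊥ ∧ fittingHallOf M = sigmaCore M) := by
  obtain ⟨hF1, hFσ, hσM', hM'lt, -⟩ := Cfsg.Agent.S1355.result hG M hM
  constructor
  · -- `⇒`
    rintro ⟨W₁, U', W₂, hP, hU'bot, -⟩
    have hK1 : K ≠ ⊥ := Cfsg.Agent.Lib.Helper13.BG16.kappaHall_ne_bot_of_typeP hG hM hP hKU.hall
    obtain ⟨h65a, -⟩ := Cfsg.Agent.S1365.result hG M hM K U hKU hK1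
    have hM'F : ⁅M, M⁆ ≤ fittingHallOf M := by
      intro m hm
      obtain ⟨a, ha, b, hb, rfl⟩ := hP.U_compl.2.2.2 m hm
      rw [hU'bot, Subgroup.mem_bot] at hb
      rw [hb, mul_one]
      exact ha
    have hU : U = ⊥ := by
      have hUσ : U ≤ sigmaCore M := by
        have : U ≤ ⁅M, M⁆ := by rw [h65a]; exact le_sup_left
        exact this.trans (hM'F.trans hFσ)
      have hdisj : U ⊓ (K ⊔ sigmaCore M) = ⊥ := hKU.compl.2.2.1
      rw [eq_bot_iff, ← hdisj]
      exact le_inf le_rfl (hUσ.trans le_sup_right)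
    exact ⟨hK1, hU, le_antisymm hFσ (hσM'.trans hM'F)⟩
  · -- `⇐`
    rintro ⟨hK1, hU, hFeq⟩
    subst hU
    obtain ⟨h65a, h65b⟩ := Cfsg.Agent.S1365.result hG M hM K ⊥ hKU hK1
    have hM'σ : ⁅M, M⁆ = sigmaCore M := by rwa [bot_sup_eq] at h65a
    obtain ⟨hKscyc, hKs1, hKsF, hFnc⟩ := Cfsg.Agent.S1364.result hG M hM K ⊥ hKU hK1
    obtain ⟨h56a, h56b, h56c⟩ := Cfsg.Agent.S1356.result hG M hM
    have hκne : (kappa M).Nonempty := by
      have hcard : Nat.card K ≠ 1 := fun h => hK1 (Subgroup.card_eq_one.mp h)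
      obtain ⟨p, hp, hpd⟩ := Nat.exists_prime_and_dvd hcard
      exact ⟨p, hKU.hall.2.1 p hp hpd⟩
    have hKM : K ≤ M := hKU.hall.1
    have hcomplK : IsComplIn K (sigmaCore M) M :=
      Cfsg.Agent.Lib.Helper12.BG151.isComplIn_of_decomp_bot hG hM hKU
    have hnK : K ≤ Subgroup.normalizer (sigmaCore M : Set G) :=
      hKM.trans (Cfsg.Agent.Lib.Helper31.le_normalizer_piCoreOf (sigma M) M)
    have hP : IsTypePWith M K ⊥ (sigmaCore M ⊓ Subgroup.centralizer (K : Set G)) :=
      { W₁_ne := hK1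
        W₁_cyclic := hKU.cyclic
        W₁_hall := by
          by_contra hcon
          obtain ⟨p, hp, hpK, hpi⟩ := Nat.Prime.not_coprime_iff_dvd.mp hcon
          exact hKU.hall.2.2 p hp (hKU.hall.2.1 p hp hpK) hpi
        W₁_compl := by
          rw [hM'σ]
          exact Cfsg.Agent.Lib.Helper02.BG1382.isComplIn_swap_of_le_normalizer hcomplK hnK
        U_nilpotent := inferInstance
        U_normal := by
          intro k _
          rw [Subgroup.mem_normalizer_iff]
          intro h
          simp only [Subgroup.mem_bot]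
          constructor
          · rintro rfl; group
          · intro hh
            have : h = k⁻¹ * (k * h * k⁻¹) * k := by group
            rw [this, hh]; group
        U_compl := by
          refine ⟨hFeq ▸ hσM', bot_le, inf_bot_eq _, ?_⟩
          intro m hm
          refine ⟨m, ?_, 1, Subgroup.mem_bot.mpr rfl, (mul_one m).symm⟩
          rw [hFeq, ← hM'σ]; exact hm
        H_not_cyclic := hFnc
        derived_two_le := by
          rw [sup_comm, ← h56b]; exact h56a
        fitting_eq := by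
          rw [sup_comm]; exact h56b.symm
        fitting_le := h56c hκne
        W₂_le := le_inf hKsF h65b
        W₂_centralizer := by
          intro x hx hx1
          rw [hM'σ]
          exact (Cfsg.Agent.S1430.result hG M hM K hKU.hall hK1).1 x hx hx1
        selfNormalizing :=
          Cfsg.Agent.Lib.Helper13.BG16.selfNormalizing_of_decomp hG hM hKU hK1 }
    refine ⟨K, ⊥, _, hP, rfl, ?_⟩
    by_cases hTI : IsTISubset (fittingHallOf M : Set G)
    · exact Or.inl hTI
    · exact Or.inr (star hG hM hKU hK1 hFeq hTI)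

end Cfsg.Agent.Lib.Helper78.BG1383
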