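import Mathlib
import Cfsg.Agent.Lib.Helper15.BG139Defs
import Cfsg.Agent.Lib.Helper31.BG12a
import Cfsg.Agent.Lib.Helper55.BG134G9
import Cfsg.Agent.Lib.Helper71.BG11a
import Cfsg.Agent.Lib.Helper71.DirectFactor
import Cfsg.Agent.S1426

/-!
# S1378 pack (BG 13.9), keystone 137811 K-S1378-L12 (steps 10 + 12): `C_{M ∩ N}(P) = P`. helper78
-/

set_option autoImplicit false

namespace Cfsg.Agent.Lib.Helper78.BG139

open Cfsg Cfsg.Agent.Lib.Helper55 Cfsg.Agent.Lib.Helper31 Cfsg.Agent.Lib.Helper31.BG134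
  Cfsg.Agent.Lib.Helper15.BG139

variable {G : Type*} [Group G] [Finite G]

/-- `C_M(P) = P × C_{M_σ}(P)` when `E = E₃ P` and `C_{E₃}(P) = 1` -/
theorem Str.centralizer_decomp {M S E P E₃ : Subgroup G} (d : Str M S E P E₃)
    (h3 : E₃ ⊓ Subgroup.centralizer (P : Set G) = ⊥) :
    ∀ x ∈ M ⊓ Subgroup.centralizer (P : Set G), ∃ b ∈ P, ∃ a ∈ CP M P, x = b * a := by
  intro x hx
  obtain ⟨hxM, hxC⟩ := Subgroup.mem_inf.mp hx
  have hPE : P ≤ E := d.hE₁.1
  have hEM : E ≤ M := d.hE.1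
  have hdisj : E ⊓ sigmaCore M = ⊥ := d.hE.2.2.1
  obtain ⟨e, he, a, ha, rfl⟩ := d.hE.2.2.2 x hxM
  have hMσn : M ≤ Subgroup.normalizer (sigmaCore M : Set G) := le_normalizer_piCoreOf (sigma M) M
  -- `P` centralizes `e` and `a`
  have hsplit : ∀ y ∈ P, y * e * y⁻¹ = e ∧ y * a * y⁻¹ = a := by
    intro y hy
    have hyE : y ∈ E := hPE hy
    have hyM : y ∈ M := hEM hyE
    have hcomm : y * (e * a) = (e * a) * y := Subgroup.mem_centralizer_iff.mp hxC y hy
    have h1 : y * e * y⁻¹ ∈ E := E.mul_mem (E.mul_mem hyE he) (E.inv_mem hyE)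
    have h2 : y * a * y⁻¹ ∈ sigmaCore M := (Subgroup.mem_normalizer_iff.mp (hMσn hyM) a).mp ha
    have h3' : (y * e * y⁻¹) * (y * a * y⁻¹) = e * a := by
      calc (y * e * y⁻¹) * (y * a * y⁻¹) = y * (e * a) * y⁻¹ := by group
        _ = (e * a) * y * y⁻¹ := by rw [hcomm]
        _ = e * a := by group
    have h4 : e⁻¹ * (y * e * y⁻¹) = a * (y * a * y⁻¹)⁻¹ := by
      have : (y * e * y⁻¹) = e * a * (y * a * y⁻¹)⁻¹ := by rw [← h3']; group
      rw [this]; group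
    have h5 : e⁻¹ * (y * e * y⁻¹) ∈ E ⊓ sigmaCore M := by
      refine Subgroup.mem_inf.mpr ⟨E.mul_mem (E.inv_mem he) h1, ?_⟩
      rw [h4]
      exact (sigmaCore M).mul_mem ha ((sigmaCore M).inv_mem h2)
    rw [hdisj, Subgroup.mem_bot] at h5
    have h6 : y * e * y⁻¹ = e := by
      have : y * e * y⁻¹ = e * (e⁻¹ * (y * e * y⁻¹)) := by group
      rw [this, h5, mul_one]
    refine ⟨h6, ?_⟩
    rw [h6] at h3'
    exact mul_left_cancel h3'
  have heC : e ∈ Subgroup.centralizer (P : Set G) := by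
    rw [Subgroup.mem_centralizer_iff]
    intro y hy
    have := (hsplit y hy).1
    calc y * e = y * e * y⁻¹ * y := by group
      _ = e * y := by rw [this]
  have haC : a ∈ Subgroup.centralizer (P : Set G) := by
    rw [Subgroup.mem_centralizer_iff]
    intro y hy
    have := (hsplit y hy).2
    calc y * a = y * a * y⁻¹ * y := by group
      _ = a * y := by rw [this]
  -- `e ∈ P`
  obtain ⟨e₃, he₃, b, hb, rfl⟩ := d.hfac e he
  have hPcomm : ∀ u ∈ P, ∀ v ∈ P, u * v = v * u := by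
    intro u hu v hv
    have := d.hE₁c
    have := (IsCyclic.isMulCommutative (α := ↥P)).is_comm.comm ⟨u, hu⟩ ⟨v, hv⟩
    exact congrArg Subtype.val this
  have hbC : b ∈ Subgroup.centralizer (P : Set G) := by
    rw [Subgroup.mem_centralizer_iff]
    intro y hy
    exact hPcomm y hy b hb
  have he₃C : e₃ ∈ Subgroup.centralizer (P : Set G) := by
    have : e₃ = (e₃ * b) * b⁻¹ := by group
    rw [this]
    exact Subgroup.mul_mem _ heC (Subgroup.inv_mem _ hbC)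
  have he₃1 : e₃ = 1 := by
    have : e₃ ∈ E₃ ⊓ Subgroup.centralizer (P : Set G) := Subgroup.mem_inf.mpr ⟨he₃, he₃C⟩
    rw [h3] at this
    exact Subgroup.mem_bot.mp this
  subst he₃1
  refine ⟨b, hb, a, Subgroup.mem_inf.mpr ⟨ha, haC⟩, by rw [one_mul]⟩

/-- elements of `C_N(P)` of order prime to `|P|` lie in `N_σ` -/
theorem Str.mem_sigmaCore_of_coprime {M S E P E₃ : Subgroup G} (d : Str M S E P E₃)
    (h3 : E₃ ⊓ Subgroup.centralizer (P : Set G) = ⊥) {x : G}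
    (hx : x ∈ M ⊓ Subgroup.centralizer (P : Set G))
    (hcop : (orderOf x).Coprime (Nat.card P)) : x ∈ sigmaCore M := by
  obtain ⟨b, hb, a, ha, rfl⟩ := Str.centralizer_decomp d h3 x hx
  obtain ⟨haσ, haC⟩ := Subgroup.mem_inf.mp ha
  have hba : Commute b a := (Subgroup.mem_centralizer_iff.mp haC b hb)
  have hdisj : E ⊓ sigmaCore M = ⊥ := d.hE.2.2.1
  set z := orderOf (b * a) with hz
  have h1 : (b * a) ^ z = 1 := pow_orderOf_eq_one _
  rw [hba.mul_pow] at h1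
  have h2 : b ^ z = (a ^ z)⁻¹ := eq_inv_of_mul_eq_one_left h1
  have h3' : b ^ z ∈ E ⊓ sigmaCore M := by
    refine Subgroup.mem_inf.mpr ⟨E.pow_mem (d.hE₁.1 hb) z, ?_⟩
    rw [h2]
    exact (sigmaCore M).inv_mem ((sigmaCore M).pow_mem haσ z)
  rw [hdisj, Subgroup.mem_bot] at h3'
  have h4 : b ^ Nat.card P = 1 := by
    have : (⟨b, hb⟩ : P) ^ Nat.card P = 1 := pow_card_eq_one'
    exact congrArg Subtype.val this
  have h5 : orderOf b ∣ Nat.gcd z (Nat.card P) :=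
    Nat.dvd_gcd (orderOf_dvd_of_pow_eq_one h3') (orderOf_dvd_of_pow_eq_one h4)
  rw [hcop] at h5
  have hb1 : b = 1 := orderOf_eq_one_iff.mp (Nat.dvd_one.mp h5)
  rw [hb1, one_mul]
  exact haσ

/-- KEYSTONE 137811  K-S1378-L12  (steps 10 + 12: `C_{M∩N}(P) = P`). -/
theorem Cfg.cent_inf_le {M N S E E' P E₃ E₃' : Subgroup G} {p : ℕ} (c : Cfg M N S p)
    (d : Str M S E P E₃) (d' : Str N S E' P E₃') (hr : (Nat.card P).Prime)
    (hτ : tau1 M = tau1 N) (hτ2N : ∀ q : ℕ, q ∉ tau2 N) (h131 : T131 G)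
    (h3 : E₃ ⊓ Subgroup.centralizer (P : Set G) = ⊥)
    (h3' : E₃' ⊓ Subgroup.centralizer (P : Set G) = ⊥) :
    M ⊓ N ⊓ Subgroup.centralizer (P : Set G) ≤ P := by
  have hG := c.hG
  have hM := c.hM
  have hN := c.hN
  have hPE : P ≤ E := d.hE₁.1
  have hEMN : E ≤ M ⊓ N := d.hES.trans c.hNS
  have hrτ : Nat.card P ∈ tau1 M := d.hE₁.2.1 _ hr dvd_rfl
  have hrσ : Nat.card P ∉ sigma M := hrτ.2.1
  -- `F := M_σ ∩ N ∩ C(P)` is trivial
  have hF : sigmaCore M ⊓ N ⊓ Subgroup.centralizer (P : Set G) = ⊥ := by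
    by_contra hne
    have hcard : Nat.card ↥(sigmaCore M ⊓ N ⊓ Subgroup.centralizer (P : Set G)) ≠ 1 :=
      fun h => hne (Subgroup.card_eq_one.mp h)
    obtain ⟨z, hz, hzd⟩ := Nat.exists_prime_and_dvd hcard
    have : Fact z.Prime := ⟨hz⟩
    obtain ⟨⟨ζ, hζF⟩, hζo⟩ := exists_prime_orderOf_dvd_card' z hzd
    have hζo' : orderOf ζ = z := by
      rw [← hζo]; exact (Subgroup.orderOf_mk ζ hζF).symm
    obtain ⟨hζ1, hζC⟩ := Subgroup.mem_inf.mp hζF
    obtain ⟨hζσ, hζN⟩ := Subgroup.mem_inf.mp hζ1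
    have hzσM : z ∈ sigma M := by
      apply Cfsg.Agent.Lib.Helper71.BG11.sigmaCore_pi hG hM hz
      rw [← hζo']
      exact Subgroup.orderOf_dvd_natCard _ hζσ
    have hzr : z ≠ Nat.card P := fun h => hrσ (h ▸ hzσM)
    have hcop : (orderOf ζ).Coprime (Nat.card P) := by
      rw [hζo']
      exact (Nat.coprime_primes hz hr).mpr hzr
    -- (i) `ζ ∈ N_σ`, so `z ∈ σ(N)`
    have hζNσ : ζ ∈ sigmaCore N :=
      Str.mem_sigmaCore_of_coprime d' h3' (Subgroup.mem_inf.mpr ⟨hζN, hζC⟩) hcop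
    have hzσN : z ∈ sigma N := by
      apply Cfsg.Agent.Lib.Helper71.BG11.sigmaCore_pi hG hN hz
      rw [← hζo']
      exact Subgroup.orderOf_dvd_natCard _ hζNσ
    -- (ii) `ζ` centralizes `E₃`
    have key : (Subgroup.centralizer ({ζ} : Set G)).subgroupOf E₃ = ⊤ := by
      apply Cfsg.Agent.Lib.Helper71.eq_top_of_forall_sylow_le
      intro s hs
      obtain ⟨T⟩ : Nonempty (Sylow s ↥E₃) := inferInstance
      refine ⟨T, ?_⟩
      by_cases hT1 : (T : Subgroup ↥E₃) = ⊥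
      · rw [hT1]; exact bot_le
      set TG := (T : Subgroup ↥E₃).map E₃.subtype with hTG
      have hTGle : TG ≤ E₃ := Subgroup.map_subtype_le _
      have hTGp : IsPGroup s TG := T.isPGroup'.map _
      have hTG1 : TG ≠ ⊥ := by
        intro h
        apply hT1
        rw [hTG, Subgroup.map_eq_bot_iff_of_injective _ (Subgroup.subtype_injective _)] at h
        exact h
      have hsTG : s ∣ Nat.card TG := by
        obtain ⟨k, hk⟩ := (IsPGroup.iff_card).1 hTGp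
        have hk0 : k ≠ 0 := by
          intro h0
          rw [h0, pow_zero] at hk
          exact hTG1 (Subgroup.card_eq_one.mp hk)
        rw [hk]
        exact dvd_pow_self s hk0
      have hsτ3 : s ∈ tau3 M :=
        d.hE₃.2.1 s hs.out (hsTG.trans (Subgroup.card_dvd_of_le hTGle))
      have hsσ : s ∉ sigma M := hsτ3.2.1
      have hsτ1 : s ∉ tau1 N := by
        rw [← hτ]
        intro h1
        exact h1.2.2.2.1 hsτ3.2.2.1
      have hTGE : TG ≤ E := hTGle.trans d.hE₃.1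
      have hcent := h131 M N hM hN c.hnc s hsσ TG hTGp (hTGE.trans (hEMN.trans inf_le_left))
        (hTGE.trans (hEMN.trans inf_le_right)) hsτ1
      intro t ht
      rw [Subgroup.mem_subgroupOf, Subgroup.mem_centralizer_iff]
      intro g hg
      rw [Set.mem_singleton_iff] at hg
      subst hg
      have htTG : (t : G) ∈ TG := ⟨t, ht, rfl⟩
      have := Subgroup.mem_centralizer_iff.mp (hcent htTG) g
        (Subgroup.mem_inf.mpr ⟨hζσ, hζN⟩)
      exact this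
    rw [Subgroup.subgroupOf_eq_top] at key
    -- `ζ ∈ M_σ ∩ C(E) ≤ (M_σ)'`
    have hζE : ζ ∈ Subgroup.centralizer (E : Set G) := by
      rw [Subgroup.mem_centralizer_iff]
      intro e he
      obtain ⟨e₃, he₃, b, hb, rfl⟩ := d.hfac e he
      have h1 : e₃ * ζ = ζ * e₃ :=
        ((Subgroup.mem_centralizer_iff.mp (key he₃)) ζ rfl).symm
      have h2 : b * ζ = ζ * b := Subgroup.mem_centralizer_iff.mp hζC b hb
      calc e₃ * b * ζ = e₃ * (b * ζ) := by group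
        _ = e₃ * (ζ * b) := by rw [h2]
        _ = (e₃ * ζ) * b := by group
        _ = ζ * e₃ * b := by rw [h1]
        _ = ζ * (e₃ * b) := by group
    have hζcomm : ζ ∈ ⁅sigmaCore M, sigmaCore M⁆ :=
      (Cfsg.Agent.S1426.result hG M hM E d.hE).1 (Subgroup.mem_inf.mpr ⟨hζσ, hζE⟩)
    have hzcomm : z ∣ Nat.card ↥⁅sigmaCore M, sigmaCore M⁆ := by
      rw [← hζo']
      exact Subgroup.orderOf_dvd_natCard _ hζcomm
    exact (Cfsg.Agent.Lib.Helper55.BG134.comm_of_sigma_sigma hG hM hN c.hnc hzσM hzσN).2.1 hzcomm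
  intro x hx
  obtain ⟨hx1, hxC⟩ := Subgroup.mem_inf.mp hx
  obtain ⟨hxM, hxN⟩ := Subgroup.mem_inf.mp hx1
  obtain ⟨b, hb, a, ha, hxba⟩ := Str.centralizer_decomp d h3 x (Subgroup.mem_inf.mpr ⟨hxM, hxC⟩)
  obtain ⟨haσ, haC⟩ := Subgroup.mem_inf.mp ha
  have hbN : b ∈ N := (hEMN (hPE hb)).2
  have haN : a ∈ N := by
    have : a = b⁻¹ * x := by rw [hxba]; group
    rw [this]
    exact N.mul_mem (N.inv_mem hbN) hxN
  have ha1 : a = 1 := by
    have : a ∈ sigmaCore M ⊓ N ⊓ Subgroup.centralizer (P : Set G) :=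
      Subgroup.mem_inf.mpr ⟨Subgroup.mem_inf.mpr ⟨haσ, haN⟩, haC⟩
    rw [hF] at this
    exact Subgroup.mem_bot.mp this
  rw [hxba, ha1, mul_one]
  exact hb

end Cfsg.Agent.Lib.Helper78.BG139
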