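import Mathlib
import Cfsg.Agent.Lib.Helper15.BG139Defs
import Cfsg.Agent.Lib.Helper31.BG12a
import Cfsg.Agent.Lib.Helper28.BG134G7
import Cfsg.Agent.Lib.Helper56.FrobPre
import Cfsg.Agent.Lib.Helper11.BG134P2
import Cfsg.Agent.Lib.Helper71.BG11a
import Cfsg.Agent.Lib.Helper71.BG10Hall

/-!
# S1378 pack (BG 13.9), keystone 137812 K-S1378-L13 (step 13): `C_{M_σ}(P)` is a `β(M)`-group. helper78
-/

set_option autoImplicit false

namespace Cfsg.Agent.Lib.Helper78.BG139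

open Cfsg Cfsg.Agent.Lib.Helper55 Cfsg.Agent.Lib.Helper31 Cfsg.Agent.Lib.Helper31.BG134
  Cfsg.Agent.Lib.Helper15.BG139

variable {G : Type*} [Group G] [Finite G]

/-- a Sylow `p`-subgroup of `G` is nontrivial when `p ∣ |G|` -/
theorem isSylowIn_top_ne_bot {p : ℕ} [hp : Fact p.Prime] {S : Subgroup G} (hS : IsSylowIn p ⊤ S)
    (hd : p ∣ Nat.card G) : S ≠ ⊥ := by
  intro h0
  obtain ⟨x, hx⟩ := exists_prime_orderOf_dvd_card' p hd
  have hZ : IsPGroup p (Subgroup.zpowers x) := by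
    apply IsPGroup.of_card (n := 1)
    rw [Nat.card_zpowers, hx, pow_one]
  have h1 := hS.2.2 (Subgroup.zpowers x) le_top hZ (by rw [h0]; exact bot_le)
  have h2 : x = 1 := by
    have : x ∈ (⊥ : Subgroup G) := by rw [← h0, ← h1]; exact Subgroup.mem_zpowers x
    exact Subgroup.mem_bot.mp this
  rw [h2, orderOf_one] at hx
  exact hp.out.one_lt.ne hx

/-- pure core of step 13: `M = B D` with `B` normalized by `M`, `P ≤ D` of prime order `r`, `r ∤ |B|`,
`C_D(P) ≤ P`: then `C_M(P) ≤ B P`. -/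
theorem centralizer_le_sup_of_factor {M B D P : Subgroup G} {r : ℕ} [Fact r.Prime]
    (hBM : M ≤ Subgroup.normalizer (B : Set G)) (hDM : D ≤ M)
    (hfac : ∀ l ∈ M, ∃ b ∈ B, ∃ m ∈ D, l = b * m)
    (hPc : Nat.card P = r) (hPD : P ≤ D) (hrB : ¬ r ∣ Nat.card B)
    (hCD : D ⊓ Subgroup.centralizer (P : Set G) ≤ P) :
    M ⊓ Subgroup.centralizer (P : Set G) ≤ B ⊔ P := by
  intro y hy
  obtain ⟨hyM, hyC⟩ := Subgroup.mem_inf.mp hy
  -- a generator of `P`
  have hPcyc : IsCyclic P := isCyclic_of_prime_card hPc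
  obtain ⟨⟨g, hgP⟩, hgen⟩ := hPcyc.exists_generator
  have hgD : g ∈ D := hPD hgP
  have hgM : g ∈ M := hDM hgD
  have hgr : g ^ r = 1 := by
    have h1 : (⟨g, hgP⟩ : P) ^ Nat.card P = 1 := pow_card_eq_one'
    rw [hPc] at h1
    exact congrArg Subtype.val h1
  have hPz : ∀ x ∈ P, x ∈ Subgroup.zpowers g := by
    intro x hx
    obtain ⟨k, hk⟩ := Subgroup.mem_zpowers_iff.mp (hgen ⟨x, hx⟩)
    refine Subgroup.mem_zpowers_iff.mpr ⟨k, ?_⟩
    have := congrArg Subtype.val hk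
    simpa using this
  obtain ⟨b, hb, m, hm, rfl⟩ := hfac y hyM
  have hmM : m ∈ M := hDM hm
  have hgy : g * (b * m) * g⁻¹ = b * m := by
    have := Subgroup.mem_centralizer_iff.mp hyC g hgP
    rw [this]; group
  -- the coset `m (B ⊓ D)` is `g`-invariant
  have hgS : g ∈ Subgroup.normalizer ((B ⊓ D : Subgroup G) : Set G) := by
    rw [Subgroup.mem_normalizer_iff]
    intro x
    have hgB := Subgroup.mem_normalizer_iff.mp (hBM hgM) x
    constructor
    · intro hx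
      obtain ⟨h1, h2⟩ := Subgroup.mem_inf.mp hx
      exact Subgroup.mem_inf.mpr ⟨hgB.mp h1, D.mul_mem (D.mul_mem hgD h2) (D.inv_mem hgD)⟩
    · intro hx
      obtain ⟨h1, h2⟩ := Subgroup.mem_inf.mp hx
      refine Subgroup.mem_inf.mpr ⟨hgB.mpr h1, ?_⟩
      have : x = g⁻¹ * (g * x * g⁻¹) * g := by group
      rw [this]
      exact D.mul_mem (D.mul_mem (D.inv_mem hgD) h2) hgD
  have hrS : ¬ r ∣ Nat.card ((B ⊓ D : Subgroup G)) := fun h =>
    hrB (h.trans (Subgroup.card_dvd_of_le inf_le_left))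
  have hcos : m⁻¹ * (g * m * g⁻¹) ∈ B ⊓ D := by
    refine Subgroup.mem_inf.mpr ⟨?_, D.mul_mem (D.inv_mem hm) (D.mul_mem (D.mul_mem hgD hm) (D.inv_mem hgD))⟩
    -- `g m g⁻¹ = (g b g⁻¹)⁻¹ b m`
    have h1 : g * m * g⁻¹ = (g * b * g⁻¹)⁻¹ * (b * m) := by
      rw [← hgy]; group
    have h2 : (g * b * g⁻¹)⁻¹ * b ∈ B :=
      B.mul_mem (B.inv_mem ((Subgroup.mem_normalizer_iff.mp (hBM hgM) b).mp hb)) hb
    have h3 : m⁻¹ * (g * m * g⁻¹) = m⁻¹ * ((g * b * g⁻¹)⁻¹ * b) * m⁻¹⁻¹ := by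
      rw [h1]; group
    rw [h3]
    exact (Subgroup.mem_normalizer_iff.mp (hBM (M.inv_mem hmM)) _).mp h2
  obtain ⟨n, hn, hfix⟩ := Cfsg.Agent.Lib.Helper56.FrobL.exists_fixed_in_coset_conj r hgr (B ⊓ D) hgS hrS m hcos
  obtain ⟨hnB, hnD⟩ := Subgroup.mem_inf.mp hn
  -- `m n ∈ C_D(P) ≤ P`
  have hmnP : m * n ∈ P := by
    apply hCD
    refine Subgroup.mem_inf.mpr ⟨D.mul_mem hm hnD, ?_⟩
    rw [Subgroup.mem_centralizer_iff]
    intro x hx
    have hxz := hPz x hx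
    have hcomm : g * (m * n) = (m * n) * g := by
      calc g * (m * n) = g * (m * n) * g⁻¹ * g := by group
        _ = (m * n) * g := by rw [hfix]
    have : Commute x (m * n) := by
      obtain ⟨k, rfl⟩ := Subgroup.mem_zpowers_iff.mp hxz
      exact (Commute.zpow_left (show Commute g (m * n) from hcomm) k)
    exact this.eq
  have : b * m = b * (m * n) * n⁻¹ := by group
  rw [this]
  exact Subgroup.mul_mem _ (Subgroup.mul_mem _ (Subgroup.mem_sup_left hb) (Subgroup.mem_sup_right hmnP))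
    (Subgroup.mem_sup_left (B.inv_mem hnB))

/-- KEYSTONE 137812  K-S1378-L13  (step 13: `C_{M_σ}(P)` is a `β(M)`-group). -/
theorem Cfg.cent_le_beta {M N S : Subgroup G} {p : ℕ} (c : Cfg M N S p) {P : Subgroup G} {r : ℕ}
    (hr : r.Prime) (hPc : Nat.card P = r) (hrM : r ∉ sigma M) (hPD : P ≤ M ⊓ N)
    (hCD : M ⊓ N ⊓ Subgroup.centralizer (P : Set G) ≤ P) :
    ∀ q : ℕ, q.Prime → q ∣ Nat.card ↥(CP M P) → q ∈ beta M := by
  have hG := c.hG
  have hM := c.hM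
  have hN := c.hN
  have : Fact p.Prime := ⟨c.hpM.1⟩
  have : Fact r.Prime := ⟨hr⟩
  have hne : M ≠ N := by
    have := c.hnc 1
    rwa [cj_one] at this
  have hSle : S ≤ M ⊓ N := Subgroup.le_normalizer.trans c.hNS
  have hpG : p ∣ Nat.card G := c.hpM.2.1.trans (Subgroup.card_subgroup_dvd_card M)
  have hS1 : S ≠ ⊥ := isSylowIn_top_ne_bot c.hS hpG
  -- G7 with the roles `(M := N, L := M)`
  have hfac := Cfsg.Agent.Lib.Helper28.BG134.eq_beta_mul_inf hG (M := N) (L := M) hN hM hne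
    (q := p) c.hpN c.hpM c.hS.2.1 hS1 (hSle.trans inf_le_right) (c.hNS.trans inf_le_left)
  set B : Subgroup G := piCoreOf (beta M) M with hB
  have hBM : M ≤ Subgroup.normalizer (B : Set G) := le_normalizer_piCoreOf (beta M) M
  have hBpi := piCoreOf_pi (beta M) M
  have hβσ : ∀ q : ℕ, q ∈ beta M → q ∈ sigma M := fun q hq =>
    Cfsg.Agent.Lib.Helper71.BG10.alpha_subset_sigma hG hM hq.1
  have hrB : ¬ r ∣ Nat.card B := fun h => hrM (hβσ r (hBpi r hr h))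
  have hfac' : ∀ l ∈ M, ∃ b ∈ B, ∃ m ∈ M ⊓ N, l = b * m := by
    intro l hl
    obtain ⟨b, hb, m, hm, rfl⟩ := hfac l hl
    exact ⟨b, hb, m, by rw [inf_comm]; exact hm, rfl⟩
  have hkey : M ⊓ Subgroup.centralizer (P : Set G) ≤ B ⊔ P :=
    centralizer_le_sup_of_factor hBM inf_le_left hfac' hPc hPD hrB hCD
  intro q hq hqd
  have hCPle : CP M P ≤ B ⊔ P := by
    refine le_trans ?_ hkey
    exact inf_le_inf_right _ (Cfsg.Agent.Lib.Helper71.BG11.sigmaCore_le M)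
  have h1 : q ∣ Nat.card (B ⊔ P : Subgroup G) := hqd.trans (Subgroup.card_dvd_of_le hCPle)
  have h2 : q ∣ Nat.card B * Nat.card P :=
    h1.trans (Cfsg.Agent.Lib.Helper11.BG134.card_sup_dvd_of_le_normalizer B P
      ((hPD.trans inf_le_left).trans hBM))
  have hqσ : q ∈ sigma M :=
    Cfsg.Agent.Lib.Helper71.BG11.sigmaCore_pi hG hM hq
      (hqd.trans (Subgroup.card_dvd_of_le inf_le_left))
  rcases (Nat.Prime.dvd_mul hq).mp h2 with h3 | h3
  · exact hBpi q hq h3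
  · rw [hPc] at h3
    have : q = r := (Nat.prime_dvd_prime_iff_eq hq hr).mp h3
    exact absurd (this ▸ hqσ) hrM

end Cfsg.Agent.Lib.Helper78.BG139
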