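import Mathlib
import Cfsg.Agent.Lib.Helper11.BG144Defs
import Cfsg.Agent.Lib.Helper55.Basic
import Cfsg.Agent.Lib.Helper55.Uniq2
import Cfsg.Agent.Lib.Helper71.BG11a
import Cfsg.Agent.Lib.Helper12.CNMaxSub
import Cfsg.Agent.S1404

/-!
# K-144 pack (architect helper11), keystone 137402 K-144-A `exists_cent_conj` (parallel hand). helper78

`C_G(x)` is transitive on the conjugates of `M` through `x ∈ M_σ - 1`.
-/

set_option autoImplicit false

namespace Cfsg.Agent.Lib.Helper78.BG144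

open Cfsg Subgroup Cfsg.Agent.Lib.Helper11.BG144

variable {G : Type*} [Group G] [Finite G]

/-- K-144-A (137402). -/
theorem exists_cent_conj (hG : IsMinSimpleOddOrder G) (hQ : HQ G) : HA G := by
  intro M hM x hx hx1 g hxg
  change x ∈ Cfsg.Agent.Lib.Helper55.cj g M at hxg
  change ∃ c ∈ centralizer ({x} : Set G),
    Cfsg.Agent.Lib.Helper55.cj c M = Cfsg.Agent.Lib.Helper55.cj g M
  have hxM : x ∈ M := Cfsg.Agent.Lib.Helper71.BG11.sigmaCore_le M hx
  -- a subgroup `X` of prime order `p` of `⟨x⟩`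
  have hord1 : orderOf x ≠ 1 := fun h => hx1 (orderOf_eq_one_iff.mp h)
  obtain ⟨p, hp, hpd⟩ := Nat.exists_prime_and_dvd hord1
  have : Fact p.Prime := ⟨hp⟩
  have hpos : 0 < orderOf x := orderOf_pos x
  set y : G := x ^ (orderOf x / p) with hy
  have hyo : orderOf y = p := orderOf_pow_orderOf_div hpos.ne' hpd
  have hXc : Nat.card ↥(zpowers y) = p := by rw [Nat.card_zpowers, hyo]
  have hXp : IsPGroup p ↥(zpowers y) := IsPGroup.of_card (n := 1) (by rw [hXc, pow_one])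
  have hX1 : zpowers y ≠ ⊥ := by
    intro h
    rw [h, Subgroup.card_bot] at hXc
    exact hp.ne_one hXc.symm
  have hyx : y ∈ zpowers x := Subgroup.pow_mem _ (mem_zpowers x) _
  have hXx : zpowers y ≤ zpowers x := by rw [zpowers_le]; exact hyx
  have hXM : zpowers y ≤ M := hXx.trans (by rw [zpowers_le]; exact hxM)
  -- `p ∈ σ(M)`
  have hpσ : p ∈ sigma M := by
    apply Cfsg.Agent.Lib.Helper71.BG11.sigmaCore_pi hG hM hp
    have h1 : orderOf x ∣ Nat.card ↥(sigmaCore M) := by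
      have := orderOf_dvd_natCard (⟨x, hx⟩ : ↥(sigmaCore M))
      rwa [Subgroup.orderOf_mk] at this
    exact hpd.trans h1
  -- `x` centralizes `X`
  have hxC : x ∈ centralizer ((zpowers y : Subgroup G) : Set G) := by
    rw [mem_centralizer_iff]
    intro z hz
    obtain ⟨k, rfl⟩ := mem_zpowers_iff.mp (hXx hz)
    exact ((Commute.refl x).zpow_left k).eq
  -- `cj g⁻¹ X ≤ M`
  have hgX : (zpowers y).map (MulAut.conj g⁻¹).toMonoidHom ≤ M := by
    have h1 : g⁻¹ * x * g ∈ M := Cfsg.Agent.Lib.Helper55.mem_cj.mp hxg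
    rintro _ ⟨z, hz, rfl⟩
    obtain ⟨k, rfl⟩ := mem_zpowers_iff.mp (hXx hz)
    have h2 : (MulAut.conj g⁻¹).toMonoidHom (x ^ k) = (g⁻¹ * x * g) ^ k := by
      have h3 := conj_zpow (a := g⁻¹) (b := x) (i := k)
      rw [inv_inv] at h3
      simp only [MulEquiv.coe_toMonoidHom, MulAut.conj_apply, inv_inv]
      exact h3.symm
    rw [h2]
    exact M.zpow_mem h1 k
  obtain ⟨m, hm, c, hc, hgmc⟩ :=
    (Cfsg.Agent.S1404.result hG M hM p hpσ (zpowers y) hXp hX1 hXM).1 g⁻¹ hgX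
  -- `cj g M = cj c⁻¹ M`
  have hg : g = c⁻¹ * m⁻¹ := by
    have : g = (g⁻¹)⁻¹ := (inv_inv g).symm
    rw [this, hgmc, mul_inv_rev]
  have hcj : Cfsg.Agent.Lib.Helper55.cj g M = Cfsg.Agent.Lib.Helper55.cj c⁻¹ M := by
    rw [hg, Cfsg.Agent.Lib.Helper55.cj_mul,
      Cfsg.Agent.Lib.Helper55.cj_eq_self_of_mem (M.inv_mem hm)]
  by_cases hCM : centralizer ((zpowers y : Subgroup G) : Set G) ≤ M
  · refine ⟨1, one_mem _, ?_⟩
    rw [hcj, Cfsg.Agent.Lib.Helper55.cj_one,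
      Cfsg.Agent.Lib.Helper55.cj_eq_self_of_mem (M.inv_mem (hCM hc))]
  · -- a maximal subgroup `N ≠ M` over `N_G(X)`
    have hXtop : zpowers y ≠ ⊤ := Cfsg.Agent.Lib.Helper55.ms_pgroup_ne_top hG hXp
    obtain ⟨N, hN, hNX⟩ :=
      Cfsg.Agent.Lib.Helper12.CNMaxSub.exists_coatom_normalizer_le hG hX1 hXtop
    have hCN : centralizer ((zpowers y : Subgroup G) : Set G) ≤ N :=
      (centralizer_le_normalizer _).trans hNX
    have hNM : N ≠ M := by
      rintro rfl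
      exact hCM hCN
    obtain ⟨-, -, hbot, hcompl, -⟩ := hQ M hM p hp hpσ (zpowers y) hXp hX1 hXM N hN hNM hNX
    obtain ⟨e, he, a, ha, hcea⟩ := hcompl.2.2.2 c (hCN hc)
    -- `cj g M = cj a⁻¹ M`
    have hcj2 : Cfsg.Agent.Lib.Helper55.cj g M = Cfsg.Agent.Lib.Helper55.cj a⁻¹ M := by
      rw [hcj, hcea, mul_inv_rev, Cfsg.Agent.Lib.Helper55.cj_mul,
        Cfsg.Agent.Lib.Helper55.cj_eq_self_of_mem (M.inv_mem (mem_inf.mp he).1)]
    have hxN : x ∈ N := hCN hxC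
    have haN : a ∈ N := hcompl.2.1 ha
    -- `a x a⁻¹ ∈ M`
    have h1 : a * x * a⁻¹ ∈ M := by
      have h2 : x ∈ Cfsg.Agent.Lib.Helper55.cj a⁻¹ M := hcj2 ▸ hxg
      have h3 := Cfsg.Agent.Lib.Helper55.mem_cj.mp h2
      rwa [inv_inv] at h3
    -- `a (x a⁻¹ x⁻¹) ∈ N_σ ∩ M`
    have h4 : x * a⁻¹ * x⁻¹ ∈ sigmaCore N := by
      have hn := Cfsg.Agent.Lib.Helper71.BG11.le_normalizer_sigmaCore N hxN
      exact (mem_normalizer_iff.mp hn a⁻¹).mp ((sigmaCore N).inv_mem ha)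
    have h5 : a * (x * a⁻¹ * x⁻¹) ∈ sigmaCore N ⊓ M := by
      refine mem_inf.mpr ⟨(sigmaCore N).mul_mem ha h4, ?_⟩
      have : a * (x * a⁻¹ * x⁻¹) = (a * x * a⁻¹) * x⁻¹ := by group
      rw [this]
      exact M.mul_mem h1 (M.inv_mem hxM)
    rw [hbot, mem_bot] at h5
    -- so `a` commutes with `x`
    have hax : a * x = x * a := by
      have h6 : a * (x * a⁻¹ * x⁻¹) * (x * a) = x * a := by rw [h5, one_mul]
      have h7 : a * (x * a⁻¹ * x⁻¹) * (x * a) = a * x := by group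
      rw [← h7, h6]
    refine ⟨a⁻¹, ?_, hcj2.symm⟩
    rw [mem_centralizer_iff]
    intro z hz
    rw [Set.mem_singleton_iff] at hz
    subst hz
    have : z * a⁻¹ = a⁻¹ * (a * z) * a⁻¹ := by group
    rw [this, hax]
    group

end Cfsg.Agent.Lib.Helper78.BG144
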