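import Mathlib
import Cfsg.Agent.S1351
import Cfsg.Agent.S1352
import Cfsg.Agent.S1357
import Cfsg.Agent.S1365
import Cfsg.Agent.S1382
import Cfsg.Prelude.Def_OddOrderChar

/-!
# K-1537-A (keystone 153701, row S1537, architect helper2): `M_s = M_σ` for every maximal subgroup.
-/

set_option autoImplicit false

namespace Cfsg.Agent.Lib.Helper78.BG1537

open Cfsg Subgroup

variable {G : Type*} [Group G] [Finite G]

/-- **L-A** `M_s = M_σ` always. -/
theorem typeCore_eq_sigmaCore (hG : IsMinSimpleOddOrder G) {M : Subgroup G} (hM : IsCoatom M) :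
    typeCore M = sigmaCore M := by
  obtain ⟨⟨K, hK⟩, hcyc⟩ := Cfsg.Agent.S1351.result hG M hM
  obtain ⟨⟨U, hKU⟩, -⟩ := Cfsg.Agent.S1352.result hG M hM K (hcyc K hK) hK
  unfold typeCore
  by_cases h : IsOfTypeIII M ∨ IsOfTypeIV M
  · rw [if_pos h]
    obtain ⟨hK1, hU, -⟩ := (Cfsg.Agent.S1382.result hG M hM K U hKU).mp h
    rw [(Cfsg.Agent.S1365.result hG M hM K U hKU hK1).1, hU, bot_sup_eq]
  · rw [if_neg h]
    by_contra hne
    obtain ⟨hU, -, hprime⟩ := Cfsg.Agent.S1357.result hG M hM K U hKU hne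
    have hK1 : K ≠ ⊥ := by
      intro e
      rw [e, Subgroup.card_bot] at hprime
      exact Nat.not_prime_one hprime
    exact h ((Cfsg.Agent.S1382.result hG M hM K U hKU).mpr ⟨hK1, hU, hne⟩)

end Cfsg.Agent.Lib.Helper78.BG1537
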