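import Mathlib
import Cfsg.Agent.Lib.Helper78.BG15KPrime
import Cfsg.Agent.Lib.Helper13.BG12A

/-!
# `K*` is cyclic when `M` is not of type `P₁` (kills the nonregular case for a partner pair)

`M` maximal, `K ≠ 1` a Hall `κ(M)`-subgroup, some prime of `|M|` outside `σ(M) ∪ κ(M)`.
Then `M_σ` is nilpotent, so every subgroup `X ≤ M_σ` which is a `κ(L)`-subgroup of some subgroup `L`
(Sylow subgroups of `L` for primes in `κ(L)` are cyclic) is cyclic.  In particular `K* = C_{M_σ}(K)`
is cyclic as soon as it is a `κ(M*)`-subgroup of a partner `M*`.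
-/

set_option autoImplicit false
set_option linter.unusedSectionVars false
set_option linter.unusedVariables false

namespace Cfsg.Agent.Lib.Helper78.BG15

open Cfsg Subgroup

variable {G : Type*} [Group G] [Finite G]

/-- a nilpotent subgroup `X` of `L` all of whose prime divisors lie in `κ(L)` is cyclic -/
theorem isCyclic_of_nilpotent_of_kappa {L X : Subgroup G} (hXL : X ≤ L)
    (hnil : Group.IsNilpotent ↥X)
    (hκ : ∀ p : ℕ, p.Prime → p ∣ Nat.card X → p ∈ kappa L) : IsCyclic ↥X := by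
  classical
  apply Cfsg.Agent.Lib.Helper13.BG12.isCyclic_of_nilpotent_of_sylow_cyclic
  intro p hp P
  haveI : Fact p.Prime := ⟨hp⟩
  by_cases hP : (P : Subgroup ↥X) = ⊥
  · have h1 : Nat.card ↥(P : Subgroup ↥X) = 1 := by rw [hP]; exact Subgroup.card_bot
    have : Subsingleton ↥(P : Subgroup ↥X) := Finite.card_le_one_iff_subsingleton.mp h1.le
    exact isCyclic_of_subsingleton
  · -- `p ∣ |X|`
    have hpX : p ∣ Nat.card X := by
      have h1 : Nat.card ↥(P : Subgroup ↥X) ∣ Nat.card X := Subgroup.card_subgroup_dvd_card _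
      have h2 : p ∣ Nat.card ↥(P : Subgroup ↥X) := by
        obtain ⟨n, hn⟩ := IsPGroup.iff_card.mp P.2
        rw [hn]
        rcases n with _ | n
        · exfalso
          apply hP
          rw [pow_zero] at hn
          exact Subgroup.card_eq_one.mp hn
        · exact dvd_pow_self p (Nat.succ_ne_zero n)
      exact h2.trans h1
    have hpκ := hκ p hp hpX
    -- the image `Q` of `P` in `G`
    let Q : Subgroup G := (P : Subgroup ↥X).map X.subtype
    have hQ : IsPGroup p Q := P.2.map X.subtype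
    have hQL : Q ≤ L := (Subgroup.map_subtype_le _).trans hXL
    have hQ' : IsPGroup p (Q.subgroupOf L) := hQ.comap_of_injective L.subtype L.subtype_injective
    obtain ⟨S, hS⟩ := hQ'.exists_le_sylow
    have hcyc : IsCyclic ↥(S : Subgroup ↥L) := (hpκ.2.2.2 S).1
    let f : ↥Q →* ↥(S : Subgroup ↥L) :=
      (Subgroup.inclusion hS).comp (Subgroup.subgroupOfEquivOfLe hQL).symm.toMonoidHom
    have hf : Function.Injective f := by
      intro x y hxy
      have h1 := Subgroup.inclusion_injective hS hxy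
      exact (Subgroup.subgroupOfEquivOfLe hQL).symm.injective h1
    have hQc : IsCyclic ↥Q := isCyclic_of_injective f hf
    let e : ↥(P : Subgroup ↥X) ≃* ↥Q :=
      (P : Subgroup ↥X).equivMapOfInjective X.subtype X.subtype_injective
    exact isCyclic_of_injective e.toMonoidHom e.injective

/-- **`K*` cyclic**: `M` not of type `P₁`, `K ≠ 1` Hall `κ(M)`; any `X ≤ M_σ` which is a
`κ(L)`-subgroup of a subgroup `L` is cyclic. -/
theorem isCyclic_of_le_sigmaCore_of_kappa (hG : IsMinSimpleOddOrder G) {M K : Subgroup G}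
    (hM : IsCoatom M) (hK : IsPiHallOf (kappa M) K M) (hK1 : K ≠ ⊥)
    (hP1 : ¬ (∀ q : ℕ, q.Prime → q ∣ Nat.card M → q ∉ sigma M → q ∈ kappa M))
    {L X : Subgroup G} (hXσ : X ≤ sigmaCore M) (hXL : X ≤ L)
    (hκ : ∀ p : ℕ, p.Prime → p ∣ Nat.card X → p ∈ kappa L) : IsCyclic ↥X := by
  obtain ⟨-, -, hnil⟩ := card_kappa_hall_prime hG hM hK hK1 hP1
  have h1 : Group.IsNilpotent ↥(X.subgroupOf (sigmaCore M)) := Subgroup.isNilpotent _
  have h2 : Group.IsNilpotent ↥X :=
    (Group.isNilpotent_congr (Subgroup.subgroupOfEquivOfLe hXσ)).mp h1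
  exact isCyclic_of_nilpotent_of_kappa hXL h2 hκ

/-- the form for a partner pair: `K* = C_{M_σ}(K)` a Hall `κ(M*)`-subgroup of `M*`. -/
theorem isCyclic_kstar (hG : IsMinSimpleOddOrder G) {M K : Subgroup G}
    (hM : IsCoatom M) (hK : IsPiHallOf (kappa M) K M) (hK1 : K ≠ ⊥)
    (hP1 : ¬ (∀ q : ℕ, q.Prime → q ∣ Nat.card M → q ∉ sigma M → q ∈ kappa M))
    {Mstar : Subgroup G}
    (hKstH : IsPiHallOf (kappa Mstar) (sigmaCore M ⊓ centralizer (K : Set G)) Mstar) :
    IsCyclic ↥(sigmaCore M ⊓ centralizer (K : Set G)) :=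
  isCyclic_of_le_sigmaCore_of_kappa hG hM hK hK1 hP1 inf_le_left hKstH.1 hKstH.2.1

/-- the symmetric form: if `M*` is not of type `P₁` then `K = C_{M*_σ}(K*)` is cyclic, for any
Hall `κ(M*)`-subgroup `K* ≠ 1` of `M*`. -/
theorem isCyclic_k_of_partner (hG : IsMinSimpleOddOrder G) {M K Mstar Kstar : Subgroup G}
    (hK : IsPiHallOf (kappa M) K M)
    (hMstar : IsCoatom Mstar) (hKstH : IsPiHallOf (kappa Mstar) Kstar Mstar) (hKst1 : Kstar ≠ ⊥)
    (hP1 : ¬ (∀ q : ℕ, q.Prime → q ∣ Nat.card Mstar → q ∉ sigma Mstar → q ∈ kappa Mstar))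
    (hKst : K ≤ sigmaCore Mstar) : IsCyclic ↥K :=
  isCyclic_of_le_sigmaCore_of_kappa hG hMstar hKstH hKst1 hP1 hKst hK.1 hK.2.1

end Cfsg.Agent.Lib.Helper78.BG15
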