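import Mathlib

/-! Definitions for pack K-BQ2 (S3912): property B and the order-closure property of S3909. -/

set_option autoImplicit false

namespace Cfsg.Agent.Lib.Helper78.BQ2

/-- Property B: abelian subgroups of equal order are conjugate. -/
def PropB (G : Type*) [Group G] : Prop :=
  ∀ A B : Subgroup G, IsMulCommutative ↥A → IsMulCommutative ↥B → Nat.card ↥A = Nat.card ↥B →
    ∃ g : G, B = A.map (MulAut.conj g).toMonoidHom

/-- S3909 (first part) for all normal subgroups: a normal subgroup containing an element of the
order of `a` contains `a`. -/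
def OrdClosed (G : Type*) [Group G] : Prop :=
  ∀ W : Subgroup G, W.Normal → ∀ a : G, (∃ m ∈ W, orderOf m = orderOf a) → a ∈ W

end Cfsg.Agent.Lib.Helper78.BQ2
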