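import Mathlib

/-!
# K-CD3-GRP (keystone 446025): the group lemma behind Isaacs 12.3(b)

`X` finite solvable nonabelian, `X'` contained in every nontrivial normal subgroup, `X` not a `p`-group:
then `X = X' ⋊ Q` with `X'` an abelian `r`-group, `Q` abelian of order prime to `r` acting
fixed-point-freely, and every element outside `X'` acts fixed-point-freely on `X'`.
-/

set_option autoImplicit false

namespace Cfsg.Agent.Lib.Helper78.CD3

universe u

open scoped commutatorElement

/-- A subgroup containing the commutator subgroup is normal. -/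
theorem grp_normal_of_commutator_le {X : Type u} [Group X] (L : Subgroup X)
    (h : commutator X ≤ L) : L.Normal := by
  refine ⟨fun n hn g => ?_⟩
  have h1 : g * n * g⁻¹ * n⁻¹ ∈ commutator X := by
    rw [commutator_def]
    have := Subgroup.commutator_mem_commutator (H₁ := (⊤ : Subgroup X)) (H₂ := (⊤ : Subgroup X))
      (Subgroup.mem_top g) (Subgroup.mem_top n)
    rwa [commutatorElement_def] at this
  have h2 : g * n * g⁻¹ = (g * n * g⁻¹ * n⁻¹) * n := by group
  rw [h2]
  exact L.mul_mem (h h1) hn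

/-- `a b a⁻¹ b⁻¹ = 1` means `a b = b a`. -/
theorem grp_comm_of_commutatorElement_eq_one {X : Type u} [Group X] {a b : X}
    (h : a * b * a⁻¹ * b⁻¹ = 1) : a * b = b * a := by
  calc a * b = (a * b * a⁻¹ * b⁻¹) * (b * a) := by group
    _ = b * a := by rw [h, one_mul]


/-- Step 1: `X'` is nontrivial and abelian. -/
theorem grp_commutator_ne_bot {X : Type u} [Group X] (hnab : ∃ a b : X, a * b ≠ b * a) :
    commutator X ≠ ⊥ := by
  intro h
  obtain ⟨a, b, hab⟩ := hnab
  apply hab
  have h1 : a * b * a⁻¹ * b⁻¹ ∈ commutator X := by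
    rw [commutator_def]
    have := Subgroup.commutator_mem_commutator (H₁ := (⊤ : Subgroup X)) (H₂ := (⊤ : Subgroup X))
      (Subgroup.mem_top a) (Subgroup.mem_top b)
    rwa [commutatorElement_def] at this
  rw [h, Subgroup.mem_bot] at h1
  exact grp_comm_of_commutatorElement_eq_one h1

theorem grp_commutator_abelian {X : Type u} [Group X] (hsolv : Group.IsSolvable X)
    (hne : commutator X ≠ ⊥)
    (hmin : ∀ L : Subgroup X, L.Normal → L ≠ ⊥ → commutator X ≤ L) :
    ∀ a ∈ commutator X, ∀ b ∈ commutator X, a * b = b * a := by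
  by_contra hcon
  have hV2 : ⁅commutator X, commutator X⁆ ≠ ⊥ := by
    intro h
    apply hcon
    intro a ha b hb
    have h1 : ⁅a, b⁆ ∈ ⁅commutator X, commutator X⁆ := Subgroup.commutator_mem_commutator ha hb
    rw [h, Subgroup.mem_bot, commutatorElement_def] at h1
    exact grp_comm_of_commutatorElement_eq_one h1
  have hV2n : (⁅commutator X, commutator X⁆ : Subgroup X).Normal := inferInstance
  have hle : commutator X ≤ ⁅commutator X, commutator X⁆ := hmin _ hV2n hV2
  have heq : ⁅commutator X, commutator X⁆ = commutator X :=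
    le_antisymm (Subgroup.commutator_le_left _ _) hle
  have hds : ∀ n : ℕ, derivedSeries X (n + 1) = commutator X := by
    intro n
    induction n with
    | zero => rw [derivedSeries_succ, derivedSeries_zero, commutator_def]
    | succ k ih => rw [derivedSeries_succ, ih, heq]
  obtain ⟨n, hn⟩ := hsolv.solvable
  cases n with
  | zero =>
    rw [derivedSeries_zero] at hn
    apply hne
    rw [eq_bot_iff, ← hn]
    exact le_top
  | succ k =>
    rw [hds k] at hn
    exact hne hn

/-- Step 2: `X'` has prime exponent `r`. -/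
theorem grp_exists_prime_exponent {X : Type u} [Group X] [Finite X]
    (hne : commutator X ≠ ⊥)
    (hab : ∀ a ∈ commutator X, ∀ b ∈ commutator X, a * b = b * a)
    (hmin : ∀ L : Subgroup X, L.Normal → L ≠ ⊥ → commutator X ≤ L) :
    ∃ r : ℕ, r.Prime ∧ ∀ v ∈ commutator X, v ^ r = 1 := by
  classical
  have hcard : Nat.card (commutator X) ≠ 1 := by
    intro h
    exact hne ((Subgroup.card_eq_one).mp h)
  obtain ⟨r, hr, hdvd⟩ := Nat.exists_prime_and_dvd hcard
  have : Fact r.Prime := ⟨hr⟩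
  refine ⟨r, hr, ?_⟩
  obtain ⟨w, hw⟩ := exists_prime_orderOf_dvd_card' r hdvd
  -- the subgroup of elements of `X'` of order dividing `r`
  let W : Subgroup X :=
    { carrier := {x | x ∈ commutator X ∧ x ^ r = 1}
      one_mem' := ⟨Subgroup.one_mem _, one_pow r⟩
      mul_mem' := by
        rintro x y ⟨hx, hx1⟩ ⟨hy, hy1⟩
        refine ⟨Subgroup.mul_mem _ hx hy, ?_⟩
        have hc : Commute x y := hab x hx y hy
        rw [hc.mul_pow, hx1, hy1, one_mul]
      inv_mem' := by
        rintro x ⟨hx, hx1⟩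
        exact ⟨Subgroup.inv_mem _ hx, by rw [inv_pow, hx1, inv_one]⟩ }
  have hWn : W.Normal := by
    refine ⟨fun n hn g => ?_⟩
    obtain ⟨hn1, hn2⟩ := hn
    refine ⟨(inferInstance : (commutator X).Normal).conj_mem n hn1 g, ?_⟩
    rw [conj_pow, hn2, mul_one, mul_inv_cancel]
  have hWne : W ≠ ⊥ := by
    intro h
    have hwW : (w : X) ∈ W := by
      refine ⟨w.2, ?_⟩
      have : w ^ r = 1 := by rw [← hw]; exact pow_orderOf_eq_one w
      have h2 := congrArg (fun z : commutator X => (z : X)) this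
      simpa using h2
    rw [h, Subgroup.mem_bot] at hwW
    have : w = 1 := Subtype.ext hwW
    rw [this, orderOf_one] at hw
    exact hr.one_lt.ne hw
  intro v hv
  exact (hmin W hWn hWne hv).2


/-- Step 3: data of a complement `M` of an abelian normal subgroup `V` (`M ⊔ V = ⊤`, `M ⊓ V = ⊥`, `M` abelian)
in which `V` lies in every nontrivial normal subgroup: every nontrivial element of `M` acts
fixed-point-freely on `V`. -/
theorem grp_fpf_of_complement {X : Type u} [Group X] (V M : Subgroup X) [hVn : V.Normal]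
    (hVne : V ≠ ⊥)
    (hVab : ∀ a ∈ V, ∀ b ∈ V, a * b = b * a)
    (hMab : ∀ a ∈ M, ∀ b ∈ M, a * b = b * a)
    (hinf : M ⊓ V = ⊥) (hsup : M ⊔ V = ⊤)
    (hmin : ∀ L : Subgroup X, L.Normal → L ≠ ⊥ → V ≤ L) :
    ∀ g ∈ M, g ≠ 1 → ∀ v ∈ V, g * v = v * g → v = 1 := by
  intro g hg hg1 v hv hgv
  -- every element is m * w
  have hdec : ∀ x : X, ∃ m ∈ M, ∃ w ∈ V, x = m * w := by
    intro x
    have hx : x ∈ ((M ⊔ V : Subgroup X) : Set X) := by rw [hsup]; exact Subgroup.mem_top x
    rw [Subgroup.mul_normal M V] at hx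
    obtain ⟨m, hm, w, hw, rfl⟩ := hx
    exact ⟨m, hm, w, hw, rfl⟩
  let C : Subgroup X :=
    { carrier := {w | w ∈ V ∧ g * w = w * g}
      one_mem' := ⟨V.one_mem, by rw [mul_one, one_mul]⟩
      mul_mem' := by
        rintro x y ⟨hx, hx1⟩ ⟨hy, hy1⟩
        refine ⟨V.mul_mem hx hy, ?_⟩
        rw [← mul_assoc, hx1, mul_assoc, hy1, mul_assoc]
      inv_mem' := by
        rintro x ⟨hx, hx1⟩
        refine ⟨V.inv_mem hx, ?_⟩
        have : x⁻¹ * (g * x) * x⁻¹ = x⁻¹ * (x * g) * x⁻¹ := by rw [hx1]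
        calc g * x⁻¹ = x⁻¹ * (x * g) * x⁻¹ := by group
          _ = x⁻¹ * (g * x) * x⁻¹ := by rw [hx1]
          _ = x⁻¹ * g := by group }
  have hCn : C.Normal := by
    refine ⟨fun n hn x => ?_⟩
    obtain ⟨hn1, hn2⟩ := hn
    obtain ⟨m, hm, w, hw, rfl⟩ := hdec x
    have h1 : w * n * w⁻¹ = n := by
      rw [hVab w hw n hn1, mul_assoc, mul_inv_cancel, mul_one]
    have h2 : m * w * n * (m * w)⁻¹ = m * n * m⁻¹ := by
      calc m * w * n * (m * w)⁻¹ = m * (w * n * w⁻¹) * m⁻¹ := by group
        _ = m * n * m⁻¹ := by rw [h1]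
    rw [h2]
    refine ⟨hVn.conj_mem n hn1 m, ?_⟩
    have hgm : g * m = m * g := hMab g hg m hm
    calc g * (m * n * m⁻¹) = (g * m) * n * m⁻¹ := by group
      _ = m * (g * n) * m⁻¹ := by rw [hgm]; group
      _ = m * (n * g) * m⁻¹ := by rw [hn2]
      _ = m * n * (g * m⁻¹) := by group
      _ = m * n * (m⁻¹ * g) := by
          have : g * m⁻¹ = m⁻¹ * g := by
            calc g * m⁻¹ = m⁻¹ * (m * g) * m⁻¹ := by group
              _ = m⁻¹ * (g * m) * m⁻¹ := by rw [hgm]
              _ = m⁻¹ * g := by group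
          rw [this]
      _ = m * n * m⁻¹ * g := by group
  by_contra hv1
  have hCne : C ≠ ⊥ := by
    intro h
    have : v ∈ C := ⟨hv, hgv⟩
    rw [h, Subgroup.mem_bot] at this
    exact hv1 this
  have hVC : V ≤ C := hmin C hCn hCne
  -- g is central
  have hcent : ∀ x : X, g * x = x * g := by
    intro x
    obtain ⟨m, hm, w, hw, rfl⟩ := hdec x
    have h1 : g * m = m * g := hMab g hg m hm
    have h2 : g * w = w * g := (hVC hw).2
    calc g * (m * w) = (g * m) * w := by group
      _ = m * (g * w) := by rw [h1]; group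
      _ = m * w * g := by rw [h2]; group
  have hZn : (Subgroup.zpowers g).Normal := by
    refine ⟨fun n hn x => ?_⟩
    obtain ⟨k, rfl⟩ := Subgroup.mem_zpowers_iff.mp hn
    have : x * g ^ k * x⁻¹ = g ^ k := by
      have hc : Commute g x := hcent x
      have := (hc.zpow_left k).eq
      calc x * g ^ k * x⁻¹ = (g ^ k * x) * x⁻¹ := by rw [this]
        _ = g ^ k := by group
    rw [this]
    exact Subgroup.zpow_mem_zpowers g k
  have hZne : Subgroup.zpowers g ≠ ⊥ := by
    intro h
    exact hg1 (Subgroup.zpowers_eq_bot.mp h)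
  have hVZ : V ≤ Subgroup.zpowers g := hmin _ hZn hZne
  have hZM : Subgroup.zpowers g ≤ M := (Subgroup.zpowers_le).mpr hg
  apply hVne
  rw [eq_bot_iff, ← hinf]
  exact le_inf (hVZ.trans hZM) le_rfl


/-- Step 4: a group acting fixed-point-freely on a nontrivial abelian normal `r`-subgroup has order prime to `r`. -/
theorem grp_coprime_of_fpf {X : Type u} [Group X] [Finite X] (V M : Subgroup X) [hVn : V.Normal]
    (r : ℕ) [hr : Fact r.Prime] (hVne : V ≠ ⊥) (hVr : IsPGroup r V)
    (hVab : ∀ a ∈ V, ∀ b ∈ V, a * b = b * a)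
    (hfpf : ∀ g ∈ M, g ≠ 1 → ∀ v ∈ V, g * v = v * g → v = 1) :
    (Nat.card M).Coprime r := by
  by_contra hcop
  have hdvd : r ∣ Nat.card M := by
    rw [Nat.coprime_comm] at hcop
    exact (Nat.Prime.dvd_iff_not_coprime hr.out).mpr hcop
  obtain ⟨m, hm⟩ := exists_prime_orderOf_dvd_card' r hdvd
  have hmX : orderOf (m : X) = r := by rw [Subgroup.orderOf_coe]; exact hm
  have hm1 : (m : X) ≠ 1 := by
    intro h
    rw [h, orderOf_one] at hmX
    exact hr.out.one_lt.ne hmX
  have hz : IsPGroup r (Subgroup.zpowers (m : X)) := by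
    apply IsPGroup.of_card (n := 1)
    rw [Nat.card_zpowers, hmX, pow_one]
  have hT : IsPGroup r (V ⊔ Subgroup.zpowers (m : X) : Subgroup X) :=
    IsPGroup.to_sup_of_normal_left hVr hz
  obtain ⟨w0, hw01⟩ := (Subgroup.ne_bot_iff_exists_ne_one).mp hVne
  have hw0V : (w0 : X) ∈ V := w0.2
  have hw0ne : (w0 : X) ≠ 1 := by
    intro h; exact hw01 (Subtype.ext h)
  have hVT : V ≤ V ⊔ Subgroup.zpowers (m : X) := le_sup_left
  have hmT : (m : X) ∈ V ⊔ Subgroup.zpowers (m : X) :=
    (le_sup_right : Subgroup.zpowers (m : X) ≤ _) (Subgroup.mem_zpowers _)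
  have : Nontrivial (V ⊔ Subgroup.zpowers (m : X) : Subgroup X) := by
    refine ⟨⟨⟨(w0 : X), hVT hw0V⟩, 1, ?_⟩⟩
    intro h
    exact hw0ne (congrArg Subtype.val h)
  have hcen := hT.center_nontrivial
  obtain ⟨⟨z, hzc⟩, hz1⟩ := exists_ne (1 : Subgroup.center (V ⊔ Subgroup.zpowers (m : X) : Subgroup X))
  have hzne : (z : X) ≠ 1 := by
    intro h
    apply hz1
    apply Subtype.ext
    apply Subtype.ext
    exact h
  rw [Subgroup.mem_center_iff] at hzc
  have hzmem : (z : X) ∈ ((V ⊔ Subgroup.zpowers (m : X) : Subgroup X) : Set X) := z.2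
  rw [Subgroup.normal_mul V (Subgroup.zpowers (m : X))] at hzmem
  obtain ⟨v, hv, h, hh, hvh⟩ := hzmem
  have hvh : v * h = (z : X) := hvh
  have hhM : h ∈ M := by
    have : Subgroup.zpowers (m : X) ≤ M := (Subgroup.zpowers_le).mpr m.2
    exact this hh
  -- z commutes with every element of V and with m
  have hzV : ∀ w ∈ V, (z : X) * w = w * (z : X) := by
    intro w hw
    have := hzc ⟨w, hVT hw⟩
    have h2 := congrArg Subtype.val this
    simpa using h2.symm
  have hzm : (z : X) * (m : X) = (m : X) * (z : X) := by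
    have := hzc ⟨(m : X), hmT⟩
    have h2 := congrArg Subtype.val this
    simpa using h2.symm
  have hhV : ∀ w ∈ V, h * w = w * h := by
    intro w hw
    have h1 := hzV w hw
    rw [← hvh] at h1
    -- v * h * w = w * (v * h)
    have h2 : v * w = w * v := hVab v hv w hw
    calc h * w = v⁻¹ * (v * h * w) := by group
      _ = v⁻¹ * (w * (v * h)) := by rw [h1]
      _ = v⁻¹ * (w * v) * h := by group
      _ = v⁻¹ * (v * w) * h := by rw [h2]
      _ = w * h := by group
  by_cases hh1 : h = 1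
  · rw [hh1, mul_one] at hvh
    have hzv : (z : X) ∈ V := by rw [← hvh]; exact hv
    have := hfpf (m : X) m.2 hm1 (z : X) hzv hzm.symm
    exact hzne this
  · exact hw0ne (hfpf h hhM hh1 (w0 : X) hw0V (hhV _ hw0V))


/-- 446025 K-CD3-GRP: GROUP LEMMA (Isaacs 12.3(b), pure group theory, Mathlib only). -/
theorem frobenius_structure {X : Type u} [Group X] [Finite X] (hsolv : Group.IsSolvable X)
    (hnab : ∃ a b : X, a * b ≠ b * a)
    (hmin : ∀ L : Subgroup X, L.Normal → L ≠ ⊥ → commutator X ≤ L)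
    (hnp : ∀ p : ℕ, p.Prime → ¬ IsPGroup p X) :
    ∃ (r : ℕ) (Q : Subgroup X), r.Prime ∧ IsPGroup r (commutator X) ∧
      (∀ a ∈ commutator X, ∀ b ∈ commutator X, a * b = b * a) ∧
      (∀ a ∈ Q, ∀ b ∈ Q, a * b = b * a) ∧
      commutator X ⊓ Q = ⊥ ∧ commutator X ⊔ Q = ⊤ ∧ (Nat.card Q).Coprime r ∧
      (∀ q ∈ Q, q ≠ 1 → ∀ v ∈ commutator X, q * v = v * q → v = 1) ∧
      (∀ g : X, g ∉ commutator X → ∀ v ∈ commutator X, g * v = v * g → v = 1) ∧
      (commutator X).index = Nat.card Q ∧ 1 < Nat.card Q ∧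
      ∃ a : ℕ, 0 < a ∧ Nat.card (commutator X) = r ^ a := by
  classical
  have hVn : (commutator X).Normal := inferInstance
  have hVne : commutator X ≠ ⊥ := grp_commutator_ne_bot hnab
  have hVab := grp_commutator_abelian hsolv hVne hmin
  obtain ⟨r, hr, hexp⟩ := grp_exists_prime_exponent hVne hVab hmin
  have hrF : Fact r.Prime := ⟨hr⟩
  have hVr : IsPGroup r (commutator X) := by
    intro v
    refine ⟨1, ?_⟩
    apply Subtype.ext
    rw [pow_one]
    simpa using hexp (v : X) v.2
  -- a prime q ≠ r dividing |X|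
  have hq : ∃ q : ℕ, q.Prime ∧ q ∣ Nat.card X ∧ q ≠ r := by
    by_contra hcon
    have hcon' : ∀ d : ℕ, d.Prime → d ∣ Nat.card X → d = r := by
      intro d hd hdv
      by_contra hne
      exact hcon ⟨d, hd, hdv, hne⟩
    have hpos : Nat.card X ≠ 0 := Nat.card_pos.ne'
    have := Nat.eq_prime_pow_of_unique_prime_dvd hpos (fun {d} hd hdv => hcon' d hd hdv)
    exact hnp r hr (IsPGroup.of_card this)
  obtain ⟨q, hqp, hqdvd, hqr⟩ := hq
  have hqF : Fact q.Prime := ⟨hqp⟩
  let Qs : Sylow q X := default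
  have hQsne : (Qs : Subgroup X) ≠ ⊥ := Qs.ne_bot_of_dvd_card hqdvd
  -- K = V ⊔ Qs is normal
  have hKn : (commutator X ⊔ (Qs : Subgroup X)).Normal :=
    grp_normal_of_commutator_le _ le_sup_left
  have hfrat := Sylow.normalizer_sup_eq_top' (N := commutator X ⊔ (Qs : Subgroup X)) Qs le_sup_right
  set M : Subgroup X := Subgroup.normalizer ((Qs : Subgroup X) : Set X) with hM
  have hQsM : (Qs : Subgroup X) ≤ M := Subgroup.le_normalizer
  have hsup : M ⊔ commutator X = ⊤ := by
    rw [eq_top_iff, ← hfrat]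
    refine sup_le le_sup_left (sup_le le_sup_right (hQsM.trans le_sup_left))
  -- decomposition of elements
  have hdec : ∀ x : X, ∃ m ∈ M, ∃ w ∈ commutator X, x = m * w := by
    intro x
    have hx : x ∈ ((M ⊔ commutator X : Subgroup X) : Set X) := by rw [hsup]; exact Subgroup.mem_top x
    rw [Subgroup.mul_normal M (commutator X)] at hx
    obtain ⟨m, hm, w, hw, rfl⟩ := hx
    exact ⟨m, hm, w, hw, rfl⟩
  -- M ⊓ V is normal
  have hIn : (M ⊓ commutator X).Normal := by
    refine ⟨fun n hn x => ?_⟩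
    obtain ⟨hn1, hn2⟩ := hn
    obtain ⟨m, hm, w, hw, rfl⟩ := hdec x
    have h1 : w * n * w⁻¹ = n := by
      rw [hVab w hw n hn2, mul_assoc, mul_inv_cancel, mul_one]
    have h2 : m * w * n * (m * w)⁻¹ = m * n * m⁻¹ := by
      calc m * w * n * (m * w)⁻¹ = m * (w * n * w⁻¹) * m⁻¹ := by group
        _ = m * n * m⁻¹ := by rw [h1]
    rw [h2]
    exact ⟨M.mul_mem (M.mul_mem hm hn1) (M.inv_mem hm), hVn.conj_mem n hn2 m⟩
  have hinf : M ⊓ commutator X = ⊥ := by
    by_contra hne
    have hVM : commutator X ≤ M := (hmin _ hIn hne).trans inf_le_left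
    have hMtop : M = ⊤ := by
      rw [eq_top_iff, ← hsup]
      exact sup_le le_rfl hVM
    have hQsn : (Qs : Subgroup X).Normal := Subgroup.normalizer_eq_top_iff.mp hMtop
    have hVQs : commutator X ≤ (Qs : Subgroup X) := hmin _ hQsn hQsne
    obtain ⟨w0, hw01⟩ := (Subgroup.ne_bot_iff_exists_ne_one).mp hVne
    apply hw01
    apply Subtype.ext
    -- w0 has order dividing r and a power of q
    have h1 : (w0 : X) ^ r = 1 := hexp _ w0.2
    obtain ⟨k, hk⟩ := Qs.2 ⟨(w0 : X), hVQs w0.2⟩
    have h2 : (w0 : X) ^ q ^ k = 1 := by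
      have := congrArg Subtype.val hk
      simpa using this
    have hd1 : orderOf (w0 : X) ∣ r := orderOf_dvd_of_pow_eq_one h1
    have hd2 : orderOf (w0 : X) ∣ q ^ k := orderOf_dvd_of_pow_eq_one h2
    have hcop : Nat.Coprime r (q ^ k) :=
      Nat.Coprime.pow_right k ((Nat.coprime_primes hr hqp).mpr (Ne.symm hqr))
    have : orderOf (w0 : X) = 1 := Nat.eq_one_of_dvd_coprimes hcop hd1 hd2
    exact orderOf_eq_one_iff.mp this
  -- M abelian
  have hMab : ∀ a ∈ M, ∀ b ∈ M, a * b = b * a := by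
    intro a ha b hb
    have h1 : a * b * a⁻¹ * b⁻¹ ∈ commutator X := by
      rw [commutator_def]
      have := Subgroup.commutator_mem_commutator (H₁ := (⊤ : Subgroup X)) (H₂ := (⊤ : Subgroup X))
        (Subgroup.mem_top a) (Subgroup.mem_top b)
      rwa [commutatorElement_def] at this
    have h2 : a * b * a⁻¹ * b⁻¹ ∈ M :=
      M.mul_mem (M.mul_mem (M.mul_mem ha hb) (M.inv_mem ha)) (M.inv_mem hb)
    have h3 : a * b * a⁻¹ * b⁻¹ ∈ M ⊓ commutator X := ⟨h2, h1⟩
    rw [hinf, Subgroup.mem_bot] at h3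
    exact grp_comm_of_commutatorElement_eq_one h3
  have hfpf := grp_fpf_of_complement (commutator X) M hVne hVab hMab hinf hsup hmin
  have hcop := grp_coprime_of_fpf (commutator X) M r hVne hVr hVab hfpf
  refine ⟨r, M, hr, hVr, hVab, hMab, ?_, ?_, hcop, hfpf, ?_, ?_, ?_, ?_⟩
  · rw [inf_comm]; exact hinf
  · rw [sup_comm]; exact hsup
  · -- every element outside V acts fixed-point-freely
    intro g hg v hv hgv
    obtain ⟨m, hm, w, hw, rfl⟩ := hdec g
    have hm1 : m ≠ 1 := by
      intro h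
      apply hg
      rw [h, one_mul]
      exact hw
    have h2 : w * v = v * w := hVab w hw v hv
    have h3 : m * v = v * m := by
      calc m * v = (m * w * v) * w⁻¹ := by rw [mul_assoc m w v, h2]; group
        _ = (v * (m * w)) * w⁻¹ := by rw [hgv]
        _ = v * m := by group
    exact hfpf m hm hm1 v hv h3
  · -- index
    have hcompl : Subgroup.IsComplement' M (commutator X) := by
      apply Subgroup.isComplement'_of_disjoint_and_mul_eq_univ
      · rw [disjoint_iff]; exact hinf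
      · rw [← Subgroup.mul_normal M (commutator X), hsup]; rfl
    exact hcompl.index_eq_card
  · -- 1 < |M|
    rw [Subgroup.one_lt_card_iff_ne_bot]
    intro hMbot
    obtain ⟨a, b, hab⟩ := hnab
    apply hab
    have htop : commutator X = ⊤ := by rw [← hsup, hMbot, bot_sup_eq]
    exact hVab a (by rw [htop]; exact Subgroup.mem_top a) b (by rw [htop]; exact Subgroup.mem_top b)
  · obtain ⟨a, ha⟩ := (IsPGroup.iff_card).mp hVr
    refine ⟨a, ?_, ha⟩
    rcases Nat.eq_zero_or_pos a with h0 | h0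
    · exfalso
      rw [h0, pow_zero] at ha
      exact hVne ((Subgroup.card_eq_one).mp ha)
    · exact h0

end Cfsg.Agent.Lib.Helper78.CD3
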