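import Mathlib

/-!
# Values of cyclotomic polynomials at naturals: the primitive part of `a ^ n - 1`

The structure lemmas (up to `not_sq_dvd`) follow helper44's proof of Zsigmondy's theorem (S2904);
they are copied here so that this library does not depend on the internals of a statement file.
-/

set_option autoImplicit false
set_option linter.style.haveILetI false

namespace Cfsg.Agent.Lib.Helper78.Cyclo

open Polynomial

/-- the value of the `n`-th cyclotomic polynomial at `a`, as a natural number -/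
noncomputable def Phi (n a : ℕ) : ℕ := (eval (a : ℤ) (cyclotomic n ℤ)).natAbs

theorem dvd_iff (r a k : ℕ) (ha : 1 ≤ a) : r ∣ a ^ k - 1 ↔ ((a : ZMod r)) ^ k = 1 := by
  rw [← ZMod.natCast_eq_zero_iff, Nat.cast_sub (Nat.one_le_pow _ _ ha), Nat.cast_pow, Nat.cast_one,
    sub_eq_zero]

theorem natAbs_pow_sub_one (a d : ℕ) (ha : 1 ≤ a) : ((a : ℤ) ^ d - 1).natAbs = a ^ d - 1 := by
  have h1 : ((a : ℤ) ^ d - 1) = ((a ^ d - 1 : ℕ) : ℤ) := by
    rw [Nat.cast_sub (Nat.one_le_pow _ _ ha)]; simp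
  rw [h1, Int.natAbs_natCast]

theorem mul_dvd (a n d : ℕ) (ha : 1 ≤ a) (hd : d ∈ n.properDivisors) :
    (a ^ d - 1) * Phi n a ∣ a ^ n - 1 := by
  have h1 := X_pow_sub_one_mul_cyclotomic_dvd_X_pow_sub_one_of_dvd ℤ hd
  have h2 := eval_dvd (x := (a : ℤ)) h1
  simp only [eval_mul, eval_sub, eval_pow, eval_X, eval_one] at h2
  have h3 := Int.natAbs_dvd_natAbs.2 h2
  rwa [Int.natAbs_mul, natAbs_pow_sub_one a d ha, natAbs_pow_sub_one a n ha] at h3

theorem dvd_pow_sub_one (a n : ℕ) (ha : 1 ≤ a) :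
    Phi n a ∣ a ^ n - 1 := by
  have h1 := cyclotomic.dvd_X_pow_sub_one n ℤ
  have h2 := eval_dvd (x := (a : ℤ)) h1
  simp only [eval_sub, eval_pow, eval_X, eval_one] at h2
  have h3 := Int.natAbs_dvd_natAbs.2 h2
  rwa [natAbs_pow_sub_one a n ha] at h3

/-- the order of `a` mod `p` when `p ∣ Φ_n(a)`, `n = p^e * m`, `p ∤ m`, is `m` -/
theorem order_eq (p : ℕ) [hp : Fact p.Prime] (a e m : ℕ) (hm : ¬ p ∣ m)
    (h : (p : ℤ) ∣ eval (a : ℤ) (cyclotomic (p ^ e * m) ℤ)) :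
    orderOf (a : ZMod p) = m := by
  have h1 : eval ((a : ℤ) : ZMod p) (cyclotomic (p ^ e * m) (ZMod p)) = 0 := by
    rw [← map_cyclotomic_int, eval_intCast_map, eq_intCast, ZMod.intCast_zmod_eq_zero_iff_dvd]
    exact h
  have : NeZero (m : ZMod p) := ⟨by rwa [Ne, ZMod.natCast_eq_zero_iff]⟩
  have h2 : IsPrimitiveRoot ((a : ℤ) : ZMod p) m :=
    isRoot_cyclotomic_prime_pow_mul_iff_of_charP.1 h1
  rw [Int.cast_natCast] at h2
  exact h2.eq_orderOf.symm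

theorem order_eq' (p : ℕ) [hp : Fact p.Prime] (a n : ℕ) (hn : n ≠ 0)
    (h : p ∣ Phi n a) :
    orderOf (a : ZMod p) = n / p ^ n.factorization p := by
  apply order_eq p a (n.factorization p) _ (Nat.not_dvd_ordCompl hp.out hn)
  rw [Nat.ordProj_mul_ordCompl_eq_self, Int.natCast_dvd]
  exact h

theorem ordCompl_dvd (p : ℕ) [hp : Fact p.Prime] (a n : ℕ) (hn : n ≠ 0)
    (h : p ∣ Phi n a) :
    n / p ^ n.factorization p ∣ p - 1 := by
  rw [← order_eq' p a n hn h]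
  apply ZMod.orderOf_dvd_card_sub_one
  intro h0
  have h1 := pow_orderOf_eq_one (a : ZMod p)
  rw [order_eq' p a n hn h, h0, zero_pow] at h1
  · exact zero_ne_one h1
  · exact (Nat.ordCompl_pos p hn).ne'

theorem dvd_of_not_primitive (p : ℕ) [hp : Fact p.Prime] (a n : ℕ) (ha : 1 ≤ a) (hn : n ≠ 0)
    (h : p ∣ Phi n a)
    (k : ℕ) (hk0 : 0 < k) (hkn : k < n) (hk : p ∣ a ^ k - 1) : p ∣ n := by
  by_contra hpn
  have h1 := order_eq' p a n hn h
  rw [Nat.factorization_eq_zero_of_not_dvd hpn, pow_zero, Nat.div_one] at h1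
  rw [dvd_iff p a k ha, ← orderOf_dvd_iff_pow_eq_one, h1] at hk
  exact absurd (Nat.le_of_dvd hk0 hk) (not_le.2 hkn)

theorem prime_le (p q n : ℕ) (hp : p.Prime) (hq : q.Prime)
    (hm : n / p ^ n.factorization p ∣ p - 1) (hqn : q ∣ n) : q ≤ p := by
  rw [← Nat.ordProj_mul_ordCompl_eq_self n p] at hqn
  rcases (Nat.Prime.dvd_mul hq).1 hqn with h | h
  · have := (Nat.prime_dvd_prime_iff_eq hq hp).1 (hq.dvd_of_dvd_pow h)
    exact this.le
  · have h1 : q ∣ p - 1 := h.trans hm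
    have h2 : 0 < p - 1 := by have := hp.two_le; omega
    have := Nat.le_of_dvd h2 h1
    omega

theorem ordCompl_dvd_div (p n : ℕ) (hp : p.Prime) (hn : n ≠ 0) (hpn : p ∣ n) :
    n / p ^ n.factorization p ∣ n / p := by
  have h1 : 1 ≤ n.factorization p := (hp.dvd_iff_one_le_factorization hn).1 hpn
  obtain ⟨e, he⟩ : ∃ e, n.factorization p = e + 1 := ⟨n.factorization p - 1, by omega⟩
  rw [he, pow_succ', ← Nat.div_div_eq_div_mul]
  apply Nat.div_dvd_of_dvd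
  have h2 : p ^ (e + 1) ∣ n := by rw [← he]; exact Nat.ordProj_dvd n p
  rw [pow_succ'] at h2
  exact Nat.dvd_div_of_mul_dvd h2

theorem dvd_pow_div_sub_one (p : ℕ) [hp : Fact p.Prime] (a n : ℕ) (ha : 1 ≤ a) (hn : n ≠ 0)
    (hpn : p ∣ n) (h : p ∣ Phi n a) : p ∣ a ^ (n / p) - 1 := by
  rw [dvd_iff p a _ ha, ← orderOf_dvd_iff_pow_eq_one, order_eq' p a n hn h]
  exact ordCompl_dvd_div p n hp.out hn hpn

theorem not_sq_dvd_odd (p : ℕ) [hp : Fact p.Prime] (hp2 : Odd p) (a n : ℕ) (ha : 2 ≤ a)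
    (hn : n ≠ 0) (hpn : p ∣ n) (h : p ∣ Phi n a) : ¬ p ^ 2 ∣ Phi n a := by
  intro h2
  have hx1 : 1 < a ^ (n / p) := by
    apply Nat.one_lt_pow _ (by omega)
    exact (Nat.div_pos (Nat.le_of_dvd (Nat.pos_of_ne_zero hn) hpn) hp.out.pos).ne'
  have hd : n / p ∈ n.properDivisors := by
    rw [Nat.mem_properDivisors]
    exact ⟨Nat.div_dvd_of_dvd hpn, Nat.div_lt_self (Nat.pos_of_ne_zero hn) hp.out.one_lt⟩
  have h3 := mul_dvd a n (n / p) (by omega) hd
  have h4 := dvd_pow_div_sub_one p a n (by omega) hn hpn h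
  have h5 : ¬ p ∣ a ^ (n / p) := by
    intro h5
    have := (Nat.dvd_sub_iff_right hx1.le h5).1 h4
    exact hp.out.one_lt.ne' (Nat.dvd_one.1 this)
  have h6 := padicValNat.pow_sub_pow hp2 hx1 h4 h5 (n := p) hp.out.ne_zero
  rw [one_pow, ← pow_mul, Nat.div_mul_cancel hpn, padicValNat_self] at h6
  have hne : a ^ n - 1 ≠ 0 := by
    have : 1 < a ^ n := Nat.one_lt_pow hn (by omega)
    omega
  have h7 : p ^ (padicValNat p (a ^ (n / p) - 1) + 2) ∣ a ^ n - 1 := by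
    rw [pow_add]
    exact (Nat.mul_dvd_mul pow_padicValNat_dvd h2).trans h3
  rw [padicValNat_dvd_iff_le hne, h6] at h7
  omega

theorem not_four_dvd_sq_add_one (y : ℕ) : ¬ 4 ∣ y ^ 2 + 1 := by
  intro h
  have h1 : ((y ^ 2 + 1 : ℕ) : ZMod 4) = 0 := (ZMod.natCast_eq_zero_iff _ _).2 h
  push_cast at h1
  generalize (y : ZMod 4) = z at h1
  revert z
  decide

theorem not_sq_dvd_two (a n : ℕ) (ha : 2 ≤ a) (hn : 3 ≤ n)
    (h : 2 ∣ Phi n a) : ¬ 2 ^ 2 ∣ Phi n a := by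
  intro h2
  have : Fact (Nat.Prime 2) := ⟨Nat.prime_two⟩
  have hn0 : n ≠ 0 := by omega
  have h1 := ordCompl_dvd 2 a n hn0 h
  have h3 : n / 2 ^ n.factorization 2 = 1 := Nat.dvd_one.1 h1
  have h4 := Nat.ordProj_mul_ordCompl_eq_self n 2
  rw [h3, mul_one] at h4
  have h5 : 2 ≤ n.factorization 2 := by
    by_contra hlt
    push Not at hlt
    have : n.factorization 2 = 0 ∨ n.factorization 2 = 1 := by omega
    rcases this with h | h <;> rw [h] at h4 <;> omega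
  obtain ⟨e, he⟩ : ∃ e, n.factorization 2 = e + 2 := ⟨n.factorization 2 - 2, by omega⟩
  rw [he] at h4
  have hn4 : n = 4 * 2 ^ e := by rw [← h4, pow_add]; ring
  have hd : 2 * 2 ^ e ∈ n.properDivisors := by
    rw [Nat.mem_properDivisors, hn4]
    refine ⟨⟨2, by ring⟩, ?_⟩
    have : 0 < 2 ^ e := by positivity
    omega
  have h6 := mul_dvd a n (2 * 2 ^ e) (by omega) hd
  set y := a ^ 2 ^ e with hy
  have hy1 : 1 < y := Nat.one_lt_pow (by positivity) (by omega)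
  have e1 : a ^ (2 * 2 ^ e) = y ^ 2 := by rw [hy, ← pow_mul, mul_comm]
  have e2 : a ^ n = (y ^ 2) ^ 2 := by rw [hy, ← pow_mul, ← pow_mul, hn4]; ring_nf
  rw [e1, e2] at h6
  have hy2 : 1 < y ^ 2 := Nat.one_lt_pow (by omega) hy1
  have e3 : (y ^ 2) ^ 2 - 1 = (y ^ 2 - 1) * (y ^ 2 + 1) := by
    zify [hy2.le, Nat.one_le_pow 2 _ hy2.le]
    ring
  rw [e3] at h6
  have h7 : Phi n a ∣ y ^ 2 + 1 := Nat.dvd_of_mul_dvd_mul_left (by omega) h6
  exact not_four_dvd_sq_add_one y (h2.trans h7)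

theorem not_sq_dvd (p : ℕ) [hp : Fact p.Prime] (a n : ℕ) (ha : 2 ≤ a)
    (hn : 3 ≤ n) (hpn : p ∣ n) (h : p ∣ Phi n a) : ¬ p ^ 2 ∣ Phi n a := by
  rcases hp.out.eq_two_or_odd' with rfl | h2
  · exact not_sq_dvd_two a n ha hn h
  · exact not_sq_dvd_odd p h2 a n ha (by omega) hpn h

/-- every prime divisor of `m` is a primitive prime divisor of `a ^ n - 1` -/
def AllPrim (a n m : ℕ) : Prop :=
  ∀ r : ℕ, r.Prime → r ∣ m → ∀ k : ℕ, 0 < k → k < n → ¬ r ∣ a ^ k - 1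

/-- The primitive part of `a ^ n - 1`: `Φ_n(a) = P * m` where `P` is `1` or a prime divisor of `n`
and all prime divisors of `m` are primitive. -/
theorem exists_primitive_part (a n : ℕ) (ha : 2 ≤ a) (hn : 3 ≤ n) :
    ∃ m P : ℕ, Phi n a = P * m ∧ (P = 1 ∨ (P.Prime ∧ P ∣ n)) ∧ m ∣ a ^ n - 1 ∧ AllPrim a n m := by
  have hn0 : n ≠ 0 := by omega
  have ha1 : 1 ≤ a := by omega
  by_cases h : ∃ p : ℕ, p.Prime ∧ p ∣ Phi n a ∧ p ∣ n
  · obtain ⟨p, hp, hpN, hpn⟩ := h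
    haveI : Fact p.Prime := ⟨hp⟩
    obtain ⟨c, hc⟩ := hpN
    refine ⟨c, p, hc, Or.inr ⟨hp, hpn⟩, ?_, ?_⟩
    · exact (Dvd.intro_left p hc.symm).trans (dvd_pow_sub_one a n ha1)
    · intro r hr hrc k hk0 hkn hk
      haveI : Fact r.Prime := ⟨hr⟩
      have hrN : r ∣ Phi n a := by rw [hc]; exact hrc.mul_left p
      have hrn : r ∣ n := dvd_of_not_primitive r a n ha1 hn0 hrN k hk0 hkn hk
      have h1 : r ≤ p := prime_le p r n hp hr (ordCompl_dvd p a n hn0 ⟨c, hc⟩) hrn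
      have h2 : p ≤ r := prime_le r p n hr hp (ordCompl_dvd r a n hn0 hrN) hpn
      have h3 : r = p := le_antisymm h1 h2
      subst h3
      apply not_sq_dvd r a n ha hn hpn ⟨c, hc⟩
      rw [hc, pow_two]
      exact Nat.mul_dvd_mul_left r hrc
  · push Not at h
    refine ⟨Phi n a, 1, (one_mul _).symm, Or.inl rfl, dvd_pow_sub_one a n ha1, ?_⟩
    intro r hr hrN k hk0 hkn hk
    haveI : Fact r.Prime := ⟨hr⟩
    exact h r hr hrN (dvd_of_not_primitive r a n ha1 hn0 hrN k hk0 hkn hk)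

theorem AllPrim.coprime {a n m : ℕ} (h : AllPrim a n m) (i : ℕ) (hi : 1 ≤ i) (hin : i < n) :
    Nat.Coprime m (a ^ i - 1) :=
  Nat.coprime_of_dvd (fun r hr hrm hri => h r hr hrm i hi hin hri)

/-- If `Φ_n(a) ≥ n * c` then the primitive part of `a ^ n - 1` is at least `c`. -/
theorem exists_primitive_divisor_ge (a n c : ℕ) (ha : 2 ≤ a) (hn : 3 ≤ n)
    (h : n * c ≤ Phi n a) :
    ∃ m : ℕ, m ∣ a ^ n - 1 ∧ AllPrim a n m ∧ c ≤ m := by
  obtain ⟨m, P, hPm, hP, hm, hprim⟩ := exists_primitive_part a n ha hn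
  refine ⟨m, hm, hprim, ?_⟩
  have hPn : P ≤ n := by
    rcases hP with rfl | ⟨_, hPn⟩
    · omega
    · exact Nat.le_of_dvd (by omega) hPn
  rw [hPm] at h
  have h1 : n * c ≤ n * m := h.trans (Nat.mul_le_mul_right m hPn)
  exact Nat.le_of_mul_le_mul_left h1 (by omega)

/-- a primitive prime divisor of `a ^ n - 1` is congruent to `1` modulo `n` -/
theorem dvd_sub_one_of_primitive (a n p : ℕ) (hn : 1 ≤ n) (hp : p.Prime) (ha : 1 ≤ a)
    (hm : p ∣ a ^ n - 1) (hprim : ∀ k : ℕ, 0 < k → k < n → ¬ p ∣ a ^ k - 1) :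
    n ∣ p - 1 := by
  haveI : Fact p.Prime := ⟨hp⟩
  have hqe : (a : ZMod p) ^ n = 1 := (dvd_iff p a n ha).mp hm
  have hd : orderOf (a : ZMod p) ∣ n := orderOf_dvd_of_pow_eq_one hqe
  have hdpos : 0 < orderOf (a : ZMod p) := by
    apply Nat.pos_of_ne_zero
    intro h0
    rw [h0] at hd
    have := Nat.eq_zero_of_zero_dvd hd
    omega
  have hde : orderOf (a : ZMod p) = n := by
    by_contra hne
    have hlt : orderOf (a : ZMod p) < n := lt_of_le_of_ne (Nat.le_of_dvd (by omega) hd) hne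
    exact hprim _ hdpos hlt ((dvd_iff p a _ ha).mpr (pow_orderOf_eq_one _))
  have hq0 : (a : ZMod p) ≠ 0 := by
    intro h0
    rw [h0, zero_pow (by omega)] at hqe
    exact zero_ne_one hqe
  rw [← hde]
  exact ZMod.orderOf_dvd_card_sub_one hq0

end Cfsg.Agent.Lib.Helper78.Cyclo
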