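import Mathlib
import Cfsg.Agent.Lib.Helper78.CycloBasic

/-!
# Lower bounds for `Φ_n(a)`

* `pow_totient_le_sq`: `a ^ φ(n) ≤ Φ_n(a) ^ 2` (`n ≥ 3`, `a ≥ 2`);
* `totient_bound`: `n ≤ 2 φ(n)²`;
* `good_or_small`: `Φ_n(a) ≥ n (3n+1)` except for an explicit finite list of pairs `(a, n)`.
-/

set_option autoImplicit false
set_option linter.style.haveILetI false

namespace Cfsg.Agent.Lib.Helper78.Cyclo

open Polynomial



/-- `Phi n a` as a real number -/
theorem Phi_cast (n a : ℕ) (ha : 1 ≤ a) : ((Phi n a : ℕ) : ℝ) = eval (a : ℝ) (cyclotomic n ℝ) := by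
  unfold Phi
  have h0 : 0 ≤ eval (a : ℤ) (cyclotomic n ℤ) := cyclotomic_nonneg n (by exact_mod_cast ha)
  have h1 : ((eval (a : ℤ) (cyclotomic n ℤ)).natAbs : ℤ) = eval (a : ℤ) (cyclotomic n ℤ) :=
    Int.natAbs_of_nonneg h0
  have h2 := cyclotomic.eval_apply (a : ℤ) n (Int.castRingHom ℝ)
  have h3 : (((eval (a : ℤ) (cyclotomic n ℤ)).natAbs : ℕ) : ℝ)
      = ((((eval (a : ℤ) (cyclotomic n ℤ)).natAbs : ℕ) : ℤ) : ℝ) := (Int.cast_natCast _).symm
  rw [h3, h1]
  simpa using h2.symm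

/-- the basic lower bound `(a - 1) ^ φ(n) < Φ_n(a)` -/
theorem sub_one_pow_lt_Phi (n a : ℕ) (hn : 2 ≤ n) (ha : 2 ≤ a) :
    (a - 1) ^ n.totient < Phi n a :=
  sub_one_pow_totient_lt_natAbs_cyclotomic_eval (by omega) (by omega)

theorem key_real (x : ℝ) (hx : 2 ≤ x) (p : ℕ) (hp : 3 ≤ p) :
    (x + 1) * x ^ (p - 2) ≤ x ^ p - 1 := by
  obtain ⟨j, rfl⟩ : ∃ j, p = j + 2 := ⟨p - 2, by omega⟩
  have hj : 1 ≤ j := by omega
  simp only [Nat.add_sub_cancel]
  have h1 : (1 : ℝ) ≤ x ^ j := one_le_pow₀ (by linarith)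
  have h2 : x ^ (j + 2) = x ^ j * x ^ 2 := pow_add x j 2
  rw [h2]
  nlinarith [mul_nonneg (by linarith : (0:ℝ) ≤ x ^ j) (by nlinarith : (0:ℝ) ≤ x ^ 2 - x - 2)]

/-- for an odd prime `p ∤ m`: `a ^ ((p - 2) φ(m)) ≤ Φ_{mp}(a)` -/
theorem pow_le_Phi_mul_prime (m p a : ℕ) (hp : p.Prime) (hp3 : 3 ≤ p) (hpm : ¬ p ∣ m)
    (ha : 2 ≤ a) : a ^ ((p - 2) * m.totient) ≤ Phi (m * p) a := by
  have ha1 : 1 ≤ a := by omega
  have hx : (2 : ℝ) ≤ (a : ℝ) := by exact_mod_cast ha
  have h1 := cyclotomic_expand_eq_cyclotomic_mul hp hpm ℝ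
  have h2 := congrArg (eval (a : ℝ)) h1
  rw [expand_eval, eval_mul, ← Phi_cast (m * p) a ha1] at h2
  have hxp : (1 : ℝ) < (a : ℝ) ^ p := one_lt_pow₀ (by linarith) hp.ne_zero
  have hL := sub_one_pow_totient_le_cyclotomic_eval hxp m
  have hU := cyclotomic_eval_le_add_one_pow_totient (q := (a : ℝ)) (by linarith) m
  have hN0 : (0 : ℝ) ≤ (Phi (m * p) a : ℝ) := Nat.cast_nonneg _
  set t := m.totient with ht
  have h3 : (((a : ℝ) + 1) * (a : ℝ) ^ (p - 2)) ^ t ≤ ((a : ℝ) ^ p - 1) ^ t :=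
    pow_le_pow_left₀ (by positivity) (key_real _ hx p hp3) t
  have h4 : ((a : ℝ) + 1) ^ t * ((a : ℝ) ^ (p - 2)) ^ t ≤ (Phi (m * p) a : ℝ) * ((a : ℝ) + 1) ^ t := by
    rw [← mul_pow]
    calc (((a : ℝ) + 1) * (a : ℝ) ^ (p - 2)) ^ t ≤ ((a : ℝ) ^ p - 1) ^ t := h3
      _ ≤ eval ((a : ℝ) ^ p) (cyclotomic m ℝ) := hL
      _ = (Phi (m * p) a : ℝ) * eval (a : ℝ) (cyclotomic m ℝ) := h2
      _ ≤ (Phi (m * p) a : ℝ) * ((a : ℝ) + 1) ^ t := mul_le_mul_of_nonneg_left hU hN0
  have hpos : (0 : ℝ) < ((a : ℝ) + 1) ^ t := by positivity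
  have h5 : ((a : ℝ) ^ (p - 2)) ^ t ≤ (Phi (m * p) a : ℝ) := by
    have : ((a : ℝ) + 1) ^ t * ((a : ℝ) ^ (p - 2)) ^ t ≤ ((a : ℝ) + 1) ^ t * (Phi (m * p) a : ℝ) := by
      rw [mul_comm (((a : ℝ) + 1) ^ t) (Phi (m * p) a : ℝ)]; exact h4
    exact le_of_mul_le_mul_left this hpos
  rw [← pow_mul] at h5
  exact_mod_cast h5

/-- `a ^ φ(n) ≤ Φ_n(a) ^ 2` for `n ≥ 3`, `a ≥ 2` -/
theorem pow_totient_le_sq (n : ℕ) : 3 ≤ n → ∀ a : ℕ, 2 ≤ a → a ^ n.totient ≤ Phi n a ^ 2 := by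
  induction n using Nat.strong_induction_on with
  | _ n ih =>
  intro hn a ha
  by_cases hsq : ∃ p : ℕ, p.Prime ∧ p ∣ n ∧ p ∣ n / p
  · obtain ⟨p, hp, hpn, hpm⟩ := hsq
    have hnm : n = n / p * p := (Nat.div_mul_cancel hpn).symm
    have h1 : Phi n a = Phi (n / p) (a ^ p) := by
      unfold Phi
      conv_lhs => rw [hnm]
      rw [← cyclotomic_expand_eq_cyclotomic hp hpm ℤ, expand_eval]
      push_cast
      rfl
    have h2 : n.totient = p * (n / p).totient := by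
      conv_lhs => rw [hnm, mul_comm]
      exact Nat.totient_mul_of_prime_of_dvd hp hpm
    have hm0 : 0 < n / p := Nat.div_pos (Nat.le_of_dvd (by omega) hpn) hp.pos
    by_cases hm3 : 3 ≤ n / p
    · have hlt : n / p < n := Nat.div_lt_self (by omega) hp.one_lt
      have hap : 2 ≤ a ^ p := by
        calc 2 ≤ a := ha
          _ = a ^ 1 := (pow_one a).symm
          _ ≤ a ^ p := Nat.pow_le_pow_right (by omega) hp.one_lt.le
      have := ih (n / p) hlt hm3 (a ^ p) hap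
      rw [h1, h2, pow_mul]
      exact this
    · -- n / p ≤ 2, p ∣ n / p, so p = 2 and n = 4
      have hple : p ≤ n / p := Nat.le_of_dvd hm0 hpm
      have hp2 := hp.two_le
      have hp_eq : p = 2 := by omega
      have hm_eq : n / p = 2 := by omega
      have hn4 : n = 4 := by rw [hnm, hm_eq, hp_eq]
      subst hn4
      have h3 := sub_one_pow_lt_Phi 4 a (by norm_num) ha
      have h4 : Nat.totient 4 = 2 := by decide
      rw [h4] at h3 ⊢
      have h5 : a ≤ Phi 4 a := by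
        obtain ⟨b, rfl⟩ : ∃ b, a = b + 2 := ⟨a - 2, by omega⟩
        have : (b + 2 - 1) ^ 2 = b ^ 2 + 2 * b + 1 := by
          have : b + 2 - 1 = b + 1 := by omega
          rw [this]; ring
        nlinarith
      exact Nat.pow_le_pow_left h5 2
  · push Not at hsq
    have hodd : ∃ p : ℕ, p.Prime ∧ p ∣ n ∧ p ≠ 2 := by
      by_contra hcon
      push Not at hcon
      have h2n : n = 2 ^ n.primeFactorsList.length :=
        Nat.eq_prime_pow_of_unique_prime_dvd (by omega) (fun {d} hd hdn => hcon d hd hdn)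
      obtain ⟨k, hk⟩ : ∃ k, n.primeFactorsList.length = k := ⟨_, rfl⟩
      rw [hk] at h2n
      have hk2 : 2 ≤ k := by
        by_contra hk'
        push Not at hk'
        interval_cases k <;> omega
      obtain ⟨j, rfl⟩ : ∃ j, k = j + 2 := ⟨k - 2, by omega⟩
      apply hsq 2 Nat.prime_two
      · rw [h2n]; exact dvd_pow_self 2 (by omega)
      · rw [h2n, pow_succ, Nat.mul_div_cancel _ (by norm_num)]
        exact dvd_pow_self 2 (by omega)
    obtain ⟨p, hp, hpn, hp2⟩ := hodd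
    have hpm : ¬ p ∣ n / p := hsq p hp hpn
    have hnm : n = n / p * p := (Nat.div_mul_cancel hpn).symm
    have hp3 : 3 ≤ p := by have := hp.two_le; omega
    have htot : n.totient = (n / p).totient * (p - 1) := by
      conv_lhs => rw [hnm]
      rw [Nat.totient_mul ((Nat.Prime.coprime_iff_not_dvd hp).mpr hpm).symm, Nat.totient_prime hp]
    have key := pow_le_Phi_mul_prime (n / p) p a hp hp3 hpm ha
    rw [← hnm] at key
    have h1 : a ^ n.totient ≤ a ^ (2 * ((p - 2) * (n / p).totient)) := by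
      apply Nat.pow_le_pow_right (by omega)
      rw [htot]
      obtain ⟨j, rfl⟩ : ∃ j, p = j + 3 := ⟨p - 3, by omega⟩
      have e1 : j + 3 - 1 = j + 2 := by omega
      have e2 : j + 3 - 2 = j + 1 := by omega
      rw [e1, e2]
      nlinarith [Nat.zero_le ((n / (j + 3)).totient * j)]
    calc a ^ n.totient ≤ a ^ (2 * ((p - 2) * (n / p).totient)) := h1
      _ = (a ^ ((p - 2) * (n / p).totient)) ^ 2 := by rw [mul_comm 2, pow_mul]
      _ ≤ Phi n a ^ 2 := Nat.pow_le_pow_left key 2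



/-- `n ≤ 2 φ(n)²`, and `n ≤ φ(n)²` for odd `n` -/
theorem totient_bound (n : ℕ) : n ≤ 2 * n.totient ^ 2 ∧ (Odd n → n ≤ n.totient ^ 2) := by
  induction n using Nat.recOnPosPrimePosCoprime with
  | prime_pow p k hp hk =>
    obtain ⟨j, rfl⟩ : ∃ j, k = j + 1 := ⟨k - 1, by omega⟩
    rw [Nat.totient_prime_pow hp hk, Nat.add_sub_cancel]
    have hpj : 1 ≤ p ^ j := Nat.one_le_pow _ _ hp.pos
    rcases hp.eq_two_or_odd' with rfl | hodd
    · constructor
      · have : (2 ^ j * (2 - 1)) ^ 2 = 2 ^ j * 2 ^ j := by ring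
        rw [this, pow_succ]
        nlinarith
      · intro h
        exfalso
        have h2 : Even (2 ^ (j + 1)) := (Nat.even_pow' (by omega)).mpr even_two
        exact (Nat.not_odd_iff_even.mpr h2) h
    · have hp3 : 3 ≤ p := by
        have := hp.two_le
        rcases hodd with ⟨c, hc⟩
        omega
      have key : p ^ (j + 1) ≤ (p ^ j * (p - 1)) ^ 2 := by
        obtain ⟨q, rfl⟩ : ∃ q, p = q + 3 := ⟨p - 3, by omega⟩
        have e : q + 3 - 1 = q + 2 := by omega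
        rw [e, mul_pow, pow_succ]
        have h1 : (q + 3) ^ j ≤ ((q + 3) ^ j) ^ 2 := by nlinarith
        have h2 : q + 3 ≤ (q + 2) ^ 2 := by nlinarith
        exact Nat.mul_le_mul h1 h2
      exact ⟨by omega, fun _ => key⟩
  | zero => simp
  | one => simp
  | coprime a b ha hb hab iha ihb =>
    rw [Nat.totient_mul hab, mul_pow]
    have hnot : ¬ (Even a ∧ Even b) := by
      rintro ⟨h2a, h2b⟩
      exact Nat.not_coprime_of_dvd_of_dvd (by norm_num : 1 < 2) h2a.two_dvd h2b.two_dvd hab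
    constructor
    · rcases Nat.even_or_odd a with hea | hoa
      · have hob : Odd b := by
          rcases Nat.even_or_odd b with heb | hob
          · exact absurd ⟨hea, heb⟩ hnot
          · exact hob
        calc a * b ≤ (2 * a.totient ^ 2) * (b.totient ^ 2) := Nat.mul_le_mul iha.1 (ihb.2 hob)
          _ = 2 * (a.totient ^ 2 * b.totient ^ 2) := by ring
      · calc a * b ≤ (a.totient ^ 2) * (2 * b.totient ^ 2) := Nat.mul_le_mul (iha.2 hoa) ihb.1
          _ = 2 * (a.totient ^ 2 * b.totient ^ 2) := by ring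
    · intro h
      rw [Nat.odd_mul] at h
      exact Nat.mul_le_mul (iha.2 h.1) (ihb.2 h.2)

theorem succ_pow_eight_le (s : ℕ) (hs : 12 ≤ s) : (s + 1) ^ 8 ≤ 2 * s ^ 8 := by
  obtain ⟨d, rfl⟩ := Nat.exists_eq_add_of_le hs
  have : 2 * (12 + d) ^ 8 = (12 + d + 1) ^ 8 + (d ^ 8 + 88 * d ^ 7 + 3332 * d ^ 6 + 70504 * d ^ 5
      + 903770 * d ^ 4 + 7076776 * d ^ 3 + 32064452 * d ^ 2 + 71320792 * d + 44232671) := by ring
  omega

theorem pow_eight_le_two_pow (s : ℕ) (hs : 55 ≤ s) : 169 * s ^ 8 ≤ 2 ^ s := by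
  induction s, hs using Nat.le_induction with
  | base => norm_num
  | succ s hs ih =>
    have h1 := succ_pow_eight_le s (by omega)
    calc 169 * (s + 1) ^ 8 ≤ 169 * (2 * s ^ 8) := Nat.mul_le_mul_left _ h1
      _ = 2 * (169 * s ^ 8) := by ring
      _ ≤ 2 * 2 ^ s := Nat.mul_le_mul_left _ ih
      _ = 2 ^ (s + 1) := by rw [pow_succ]; ring

/-- for `n ≥ 6000`: `(n (3n+1))² ≤ 2 ^ φ(n)` -/
theorem large_bound (n : ℕ) (hn : 6000 ≤ n) : (n * (3 * n + 1)) ^ 2 ≤ 2 ^ n.totient := by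
  have h1 := (totient_bound n).1
  set s := n.totient with hs
  have hs55 : 55 ≤ s := by
    by_contra h
    push Not at h
    have : s ^ 2 ≤ 54 ^ 2 := Nat.pow_le_pow_left (by omega) 2
    omega
  have h2 : n * (3 * n + 1) ≤ 13 * s ^ 4 := by
    have h3 : n * (3 * n + 1) ≤ (2 * s ^ 2) * (3 * (2 * s ^ 2) + 1) :=
      Nat.mul_le_mul h1 (by omega)
    have h4 : 2 * s ^ 2 ≤ s ^ 4 := by
      have : s ^ 4 = s ^ 2 * s ^ 2 := by ring
      rw [this]
      have : 2 ≤ s ^ 2 := by nlinarith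
      nlinarith
    have h5 : (2 * s ^ 2) * (3 * (2 * s ^ 2) + 1) = 12 * s ^ 4 + 2 * s ^ 2 := by ring
    omega
  calc (n * (3 * n + 1)) ^ 2 ≤ (13 * s ^ 4) ^ 2 := Nat.pow_le_pow_left h2 2
    _ = 169 * s ^ 8 := by ring
    _ ≤ 2 ^ s := pow_eight_le_two_pow s hs55



/-- count (plus `acc`) of the `k < m` coprime to `n`, by `Nat.rec` with an accumulator
(kernel friendly) -/
def cntAux (n m : ℕ) : ℕ → ℕ :=
  Nat.rec (motive := fun _ => ℕ → ℕ) (fun acc => acc)
    (fun k ih acc => ih (cond (Nat.beq (Nat.gcd n k) 1) (acc + 1) acc)) m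

/-- the number of `k < m` coprime to `n` -/
def cntC (n m : ℕ) : ℕ := cntAux n m 0

theorem cntAux_zero (n acc : ℕ) : cntAux n 0 acc = acc := rfl

theorem cntAux_succ (n k acc : ℕ) :
    cntAux n (k + 1) acc = cntAux n k (cond (Nat.beq (Nat.gcd n k) 1) (acc + 1) acc) := rfl

theorem cntAux_eq (n m : ℕ) : ∀ acc : ℕ,
    cntAux n m acc = acc + ((Finset.range m).filter (fun k => n.Coprime k)).card := by
  induction m with
  | zero => intro acc; simp [cntAux_zero]
  | succ k ih =>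
    intro acc
    rw [cntAux_succ, ih, Finset.range_add_one, Finset.filter_insert]
    by_cases h : Nat.gcd n k = 1
    · have hb : Nat.beq (Nat.gcd n k) 1 = true := by rw [h]; rfl
      have hc : n.Coprime k := h
      rw [hb, if_pos hc, Finset.card_insert_of_notMem (by simp)]
      simp only [cond_true]
      ring
    · have hb : Nat.beq (Nat.gcd n k) 1 = false := by
        cases hb : Nat.beq (Nat.gcd n k) 1
        · rfl
        · exact absurd (Nat.eq_of_beq_eq_true hb) h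
      have hc : ¬ n.Coprime k := h
      rw [hb, if_neg hc]
      simp only [cond_false]

theorem cntC_eq (n m : ℕ) : cntC n m = ((Finset.range m).filter (fun k => n.Coprime k)).card := by
  unfold cntC
  rw [cntAux_eq, zero_add]

theorem cntC_self (n : ℕ) : cntC n n = n.totient := by
  rw [cntC_eq]; rfl

theorem cntC_le (n m : ℕ) (h : m ≤ n) : cntC n m ≤ n.totient := by
  rw [cntC_eq]
  exact Finset.card_le_card (Finset.filter_subset_filter _ (Finset.range_mono h))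

/-- conjunction of `f k` over `k < m` -/
def allB (f : ℕ → Bool) (m : ℕ) : Bool := Nat.rec true (fun k ih => f k && ih) m

theorem allB_spec (f : ℕ → Bool) (m : ℕ) (h : allB f m = true) : ∀ k < m, f k = true := by
  induction m with
  | zero => intro k hk; omega
  | succ j ih =>
    have h' : (f j && allB f j) = true := h
    rw [Bool.and_eq_true] at h'
    intro k hk
    rcases Nat.lt_succ_iff_lt_or_eq.mp hk with h1 | rfl
    · exact ih h'.2 k h1
    · exact h'.1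

def S2list : List ℕ := [3, 4, 5, 6, 7, 8, 9, 10, 11, 12, 13, 14, 15, 16, 17, 18, 19, 20, 21, 22, 24, 25, 26, 27, 28, 30, 32, 33, 34, 36, 38, 39, 40, 42, 44, 45, 46, 48, 50, 52, 54, 56, 60, 66, 70, 72, 78, 84, 90]

def chkK (n : ℕ) : Bool :=
  decide (n < 3) || S2list.contains n || Nat.ble ((n * (3 * n + 1)) ^ 2) (2 ^ cntC n n)

theorem kernel_check : allB chkK 318 = true := by decide +kernel


/-- the 66 primes below 318 -/
def PL : List ℕ := [2, 3, 5, 7, 11, 13, 17, 19, 23, 29, 31, 37, 41, 43, 47, 53, 59, 61, 67, 71, 73, 79, 83, 89, 97, 101, 103, 107, 109, 113, 127, 131, 137, 139, 149, 151, 157, 163, 167, 173, 179, 181, 191, 193, 197, 199, 211, 223, 227, 229, 233, 239, 241, 251, 257, 263, 269, 271, 277, 281, 283, 293, 307, 311, 313, 317]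

theorem PL_prime : ∀ p ∈ PL, p.Prime ∧ p < 318 := by
  intro p hp
  simp only [PL, List.mem_cons, List.not_mem_nil, or_false] at hp
  rcases hp with rfl | rfl | rfl | rfl | rfl | rfl | rfl | rfl | rfl | rfl | rfl | rfl | rfl | rfl | rfl | rfl | rfl | rfl | rfl | rfl | rfl | rfl | rfl | rfl | rfl | rfl | rfl | rfl | rfl | rfl | rfl | rfl | rfl | rfl | rfl | rfl | rfl | rfl | rfl | rfl | rfl | rfl | rfl | rfl | rfl | rfl | rfl | rfl | rfl | rfl | rfl | rfl | rfl | rfl | rfl | rfl | rfl | rfl | rfl | rfl | rfl | rfl | rfl | rfl | rfl | rfl <;> norm_num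

theorem PL_card : PL.toFinset.card = 66 := by decide

theorem card_primeFactors_le (n : ℕ) (hn : n ≠ 0) (hn2 : n < 8192) : n.primeFactors.card ≤ 12 := by
  have h1 : 2 ^ n.primeFactors.card ≤ ∏ p ∈ n.primeFactors, p :=
    Finset.pow_card_le_prod _ _ _ (fun p hp => (Nat.prime_of_mem_primeFactors hp).two_le)
  have h2 : ∏ p ∈ n.primeFactors, p ≤ n :=
    Nat.le_of_dvd (Nat.pos_of_ne_zero hn) (Nat.prod_primeFactors_dvd n)
  by_contra h
  push Not at h
  have h3 : 2 ^ 13 ≤ 2 ^ n.primeFactors.card := Nat.pow_le_pow_right (by norm_num) h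
  omega

/-- `φ(n) ≥ 54` for `318 ≤ n < 8192` -/
theorem totient_ge_of_mid (n : ℕ) (h1 : 318 ≤ n) (h2 : n < 8192) : 54 ≤ n.totient := by
  have hn0 : n ≠ 0 := by omega
  -- primes of PL not dividing n are coprime residues
  have hsub : PL.toFinset.filter (fun p => ¬ p ∣ n) ⊆
      (Finset.range n).filter (fun k => n.Coprime k) := by
    intro p hp
    rw [Finset.mem_filter, List.mem_toFinset] at hp
    rw [Finset.mem_filter, Finset.mem_range]
    obtain ⟨hpp, hlt⟩ := PL_prime p hp.1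
    exact ⟨by omega, ((Nat.Prime.coprime_iff_not_dvd hpp).mpr hp.2).symm⟩
  have h3 : (PL.toFinset.filter (fun p => ¬ p ∣ n)).card ≤ n.totient :=
    Finset.card_le_card hsub
  have hsub2 : PL.toFinset.filter (fun p => p ∣ n) ⊆ n.primeFactors := by
    intro p hp
    rw [Finset.mem_filter, List.mem_toFinset] at hp
    exact Nat.mem_primeFactors.mpr ⟨(PL_prime p hp.1).1, hp.2, hn0⟩
  have h4 : (PL.toFinset.filter (fun p => p ∣ n)).card ≤ 12 :=
    (Finset.card_le_card hsub2).trans (card_primeFactors_le n hn0 h2)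
  have h5 := Finset.card_filter_add_card_filter_not (s := PL.toFinset) (fun p => p ∣ n)
  rw [PL_card] at h5
  omega


/-- outside the finite list `S2list`, `(n (3n+1))² ≤ 2 ^ φ(n)` -/
theorem sq_le_two_pow_totient (n : ℕ) (hn : 3 ≤ n) (hS : n ∉ S2list) :
    (n * (3 * n + 1)) ^ 2 ≤ 2 ^ n.totient := by
  rcases Nat.lt_or_ge n 318 with h1 | h1
  · have := allB_spec chkK 318 kernel_check n h1
    unfold chkK at this
    rw [Bool.or_eq_true, Bool.or_eq_true, decide_eq_true_eq, List.contains_iff_mem] at this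
    rcases this with (h | h) | h
    · omega
    · exact absurd h hS
    · rw [cntC_self] at h; exact Nat.le_of_ble_eq_true h
  · rcases Nat.lt_or_ge n 6000 with h2 | h2
    · have h54 := totient_ge_of_mid n h1 (by omega)
      calc (n * (3 * n + 1)) ^ 2 ≤ (6000 * (3 * 6000 + 1)) ^ 2 :=
            Nat.pow_le_pow_left (Nat.mul_le_mul (by omega) (by omega)) 2
        _ ≤ 2 ^ 54 := by norm_num
        _ ≤ 2 ^ n.totient := Nat.pow_le_pow_right (by norm_num) h54
    · exact large_bound n h2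

/-- for `n ∈ S2list`: the least `a₀` with `(a₀ - 1) ^ φ(n) ≥ n (3n+1)` -/
def a0tab : List (ℕ × ℕ) := [(3, 7), (4, 9), (5, 4), (6, 12), (7, 4), (8, 5), (9, 4), (10, 6), (11, 3), (12, 6), (13, 3), (14, 4), (15, 4), (16, 4), (17, 3), (18, 5), (19, 3), (20, 4), (21, 3), (22, 4), (24, 4), (25, 3), (26, 3), (27, 3), (28, 3), (30, 4), (32, 3), (33, 3), (34, 3), (36, 3), (38, 3), (39, 3), (40, 3), (42, 4), (44, 3), (45, 3), (46, 3), (48, 3), (50, 3), (52, 3), (54, 3), (56, 3), (60, 3), (66, 3), (70, 3), (72, 3), (78, 3), (84, 3), (90, 3)]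

/-- the finitely many pairs `(a, n)` not covered by the analytic bounds -/
def smallPairs : List (ℕ × ℕ) := [(2, 3), (3, 3), (4, 3), (5, 3), (6, 3), (2, 4), (3, 4), (4, 4), (5, 4), (6, 4), (7, 4), (8, 4), (2, 5), (3, 5), (2, 6), (3, 6), (4, 6), (5, 6), (6, 6), (7, 6), (8, 6), (9, 6), (10, 6), (11, 6), (2, 7), (3, 7), (2, 8), (3, 8), (4, 8), (2, 9), (3, 9), (2, 10), (3, 10), (4, 10), (5, 10), (2, 11), (2, 12), (3, 12), (4, 12), (5, 12), (2, 13), (2, 14), (3, 14), (2, 15), (3, 15), (2, 16), (3, 16), (2, 17), (2, 18), (3, 18), (4, 18), (2, 19), (2, 20), (3, 20), (2, 21), (2, 22), (3, 22), (2, 24), (3, 24), (2, 25), (2, 26), (2, 27), (2, 28), (2, 30), (3, 30), (2, 32), (2, 33), (2, 34), (2, 36), (2, 38), (2, 39), (2, 40), (2, 42), (3, 42), (2, 44), (2, 45), (2, 46), (2, 48), (2, 50), (2, 52), (2, 54), (2, 56), (2, 60), (2, 66), (2, 70), (2, 72), (2, 78), (2, 84), (2, 90)]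

theorem a0tab_ok : ∀ p ∈ a0tab, p.1 * (3 * p.1 + 1) ≤ (p.2 - 1) ^ cntC p.1 p.1 ∧
    ∀ a < p.2, 2 ≤ a → (a, p.1) ∈ smallPairs := by decide +kernel

theorem S2_cover : ∀ n ∈ S2list, ∃ p ∈ a0tab, p.1 = n := by decide +kernel

/-- Main analytic result: `Φ_n(a) ≥ n (3n+1)` except for the finitely many `smallPairs`. -/
theorem good_or_small (a n : ℕ) (ha : 2 ≤ a) (hn : 3 ≤ n) :
    n * (3 * n + 1) ≤ Phi n a ∨ (a, n) ∈ smallPairs := by
  by_cases hS : n ∈ S2list
  · obtain ⟨p, hp, rfl⟩ := S2_cover n hS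
    obtain ⟨h1, h2⟩ := a0tab_ok p hp
    rcases Nat.lt_or_ge a p.2 with h | h
    · exact Or.inr (h2 a h ha)
    · left
      rw [cntC_self] at h1
      have h3 := sub_one_pow_lt_Phi p.1 a (by omega) ha
      have h4 : (p.2 - 1) ^ p.1.totient ≤ (a - 1) ^ p.1.totient :=
        Nat.pow_le_pow_left (by omega) _
      omega
  · left
    have h1 := sq_le_two_pow_totient n hn hS
    have h2 := pow_totient_le_sq n hn a ha
    have h3 : 2 ^ n.totient ≤ a ^ n.totient := Nat.pow_le_pow_left ha _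
    have h4 : (n * (3 * n + 1)) ^ 2 ≤ Phi n a ^ 2 := h1.trans (h3.trans h2)
    exact (Nat.pow_le_pow_iff_left (by norm_num)).mp h4

end Cfsg.Agent.Lib.Helper78.Cyclo
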