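import Mathlib
import Cfsg.Agent.Lib.Helper78.CycloBound

/-!
# The primitive parts of `a ^ n - 1` for the finitely many pairs not covered by `good_or_small`
-/

set_option autoImplicit false
set_option linter.style.haveILetI false

namespace Cfsg.Agent.Lib.Helper78.Cyclo

/-- triples `(a, n, m)`: `m` is the primitive part of `a ^ n - 1`, for `(a, n) ∈ smallPairs` -/
def primTab : List (ℕ × ℕ × ℕ) := [(2, 3, 7), (3, 3, 13), (4, 3, 7), (5, 3, 31), (6, 3, 43), (2, 4, 5), (3, 4, 5), (4, 4, 17), (5, 4, 13), (6, 4, 37), (7, 4, 25), (8, 4, 65), (2, 5, 31), (3, 5, 121), (2, 6, 1), (3, 6, 7), (4, 6, 13), (5, 6, 7), (6, 6, 31), (7, 6, 43), (8, 6, 19), (9, 6, 73), (10, 6, 91), (11, 6, 37), (2, 7, 127), (3, 7, 1093), (2, 8, 17), (3, 8, 41), (4, 8, 257), (2, 9, 73), (3, 9, 757), (2, 10, 11), (3, 10, 61), (4, 10, 41), (5, 10, 521), (2, 11, 2047), (2, 12, 13), (3, 12, 73), (4, 12, 241), (5, 12, 601), (2, 13, 8191), (2,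 14, 43), (3, 14, 547), (2, 15, 151), (3, 15, 4561), (2, 16, 257), (3, 16, 3281), (2, 17, 131071), (2, 18, 19), (3, 18, 703), (4, 18, 4033), (2, 19, 524287), (2, 20, 41), (3, 20, 1181), (2, 21, 337), (2, 22, 683), (3, 22, 44287), (2, 24, 241), (3, 24, 6481), (2, 25, 1082401), (2, 26, 2731), (2, 27, 262657), (2, 28, 3277), (2, 30, 331), (3, 30, 8401), (2, 32, 65537), (2, 33, 599479), (2, 34, 43691), (2, 36, 4033), (2, 38, 174763), (2, 39, 9588151), (2, 40, 61681), (2, 42, 5419), (3, 42, 97567), (2, 44, 838861), (2, 45, 14709241), (2, 46, 2796203), (2, 48, 65281), (2, 50, 1016801), (2, 52, 13421773), (2, 54, 87211), (2, 56, 15790321), (2, 60, 80581), (2, 66, 1397419), (2, 70, 24214051), (2, 72, 16773121), (2, 78, 22366891), (2, 84, 20647621), (2, 90, 18837001)]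

/-- `m ∣ a ^ n - 1` and `m` is coprime to `a ^ i - 1` for `1 ≤ i < n` -/
def chkPrim (t : ℕ × ℕ × ℕ) : Bool :=
  Nat.beq ((t.1 ^ t.2.1 - 1) % t.2.2) 0 &&
    allB (fun i => Nat.beq i 0 || Nat.beq (Nat.gcd t.2.2 (t.1 ^ i - 1)) 1) t.2.1

theorem primTab_ok : ∀ t ∈ primTab, chkPrim t = true := by decide +kernel

theorem primTab_cover : ∀ p ∈ smallPairs, ∃ t ∈ primTab, t.1 = p.1 ∧ t.2.1 = p.2 := by
  decide +kernel

theorem chkPrim_spec (t : ℕ × ℕ × ℕ) (h : chkPrim t = true) :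
    t.2.2 ∣ t.1 ^ t.2.1 - 1 ∧ ∀ i : ℕ, 1 ≤ i → i < t.2.1 → Nat.Coprime t.2.2 (t.1 ^ i - 1) := by
  unfold chkPrim at h
  rw [Bool.and_eq_true] at h
  refine ⟨Nat.dvd_of_mod_eq_zero (Nat.eq_of_beq_eq_true h.1), ?_⟩
  intro i hi hin
  have h2 := allB_spec _ _ h.2 i hin
  rw [Bool.or_eq_true] at h2
  rcases h2 with h2 | h2
  · have := Nat.eq_of_beq_eq_true h2
    omega
  · exact Nat.eq_of_beq_eq_true h2

/-- coprimality to all `a ^ i - 1` gives prime-wise primitivity -/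
theorem allPrim_of_coprime {a n m : ℕ}
    (h : ∀ i : ℕ, 1 ≤ i → i < n → Nat.Coprime m (a ^ i - 1)) : AllPrim a n m := by
  intro r hr hrm k hk hkn hrk
  have h1 := h k hk hkn
  have h2 : r ∣ Nat.gcd m (a ^ k - 1) := Nat.dvd_gcd hrm hrk
  rw [h1] at h2
  exact hr.one_lt.ne' (Nat.dvd_one.mp h2)

/-- For every `a ≥ 2`, `n ≥ 3` there is a divisor `m` of `a ^ n - 1` all of whose prime divisors
are primitive, with `m ≥ 3n + 1` or `(a, n, m)` in the table `primTab`. -/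
theorem exists_primitive_part_ge_or_table (a n : ℕ) (ha : 2 ≤ a) (hn : 3 ≤ n) :
    ∃ m : ℕ, m ∣ a ^ n - 1 ∧ AllPrim a n m ∧ (3 * n + 1 ≤ m ∨ (a, n, m) ∈ primTab) := by
  rcases good_or_small a n ha hn with h | h
  · obtain ⟨m, hm, hprim, hle⟩ := exists_primitive_divisor_ge a n (3 * n + 1) ha hn h
    exact ⟨m, hm, hprim, Or.inl hle⟩
  · obtain ⟨t, ht, h1, h2⟩ := primTab_cover _ h
    obtain ⟨hd, hc⟩ := chkPrim_spec t (primTab_ok t ht)
    obtain ⟨a', n', m⟩ := t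
    simp only at h1 h2 hd hc
    subst h1 h2
    exact ⟨m, hd, allPrim_of_coprime hc, Or.inr ht⟩

/-- a large primitive prime divisor from a primitive part exceeding `n + 1` -/
theorem exists_large_prime (a n m : ℕ) (ha : 1 ≤ a) (hn : 1 ≤ n) (hm : m ∣ a ^ n - 1)
    (hprim : AllPrim a n m) (hlt : n + 1 < m) :
    ∃ p : ℕ, p.Prime ∧ p ∣ a ^ n - 1 ∧ (∀ i : ℕ, 1 ≤ i → i < n → ¬ p ∣ a ^ i - 1) ∧
      (n + 1 < p ∨ p ^ 2 ∣ a ^ n - 1) := by
  have key : ∀ r : ℕ, r.Prime → r ∣ m → n + 1 ≤ r := by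
    intro r hr hrm
    have h1 := dvd_sub_one_of_primitive a n r hn hr ha (hrm.trans hm) (hprim r hr hrm)
    have h2 : 0 < r - 1 := by have := hr.two_le; omega
    have := Nat.le_of_dvd h2 h1
    omega
  have hm1 : m ≠ 1 := by omega
  obtain ⟨p, hp, hpm⟩ := Nat.exists_prime_and_dvd hm1
  have hp1 := key p hp hpm
  rcases Nat.lt_or_ge (n + 1) p with h | h
  · exact ⟨p, hp, hpm.trans hm, fun i hi hin => hprim p hp hpm i hi hin, Or.inl h⟩
  · have hpe : p = n + 1 := le_antisymm h hp1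
    obtain ⟨c, hc⟩ := hpm
    have hc1 : c ≠ 1 := by
      rintro rfl
      rw [mul_one] at hc
      omega
    obtain ⟨r, hr, hrc⟩ := Nat.exists_prime_and_dvd hc1
    have hrm : r ∣ m := by rw [hc]; exact hrc.mul_left p
    have hr1 := key r hr hrm
    rcases Nat.lt_or_ge (n + 1) r with h' | h'
    · exact ⟨r, hr, hrm.trans hm, fun i hi hin => hprim r hr hrm i hi hin, Or.inl h'⟩
    · have hre : r = p := by omega
      subst hre
      refine ⟨r, hr, (Dvd.intro _ hc.symm).trans hm, fun i hi hin =>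
        hprim r hr (Dvd.intro _ hc.symm) i hi hin, Or.inr ?_⟩
      refine Dvd.dvd.trans ?_ hm
      rw [hc, pow_two]
      exact Nat.mul_dvd_mul_left r hrc

end Cfsg.Agent.Lib.Helper78.Cyclo
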