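import Mathlib
import Cfsg.Agent.Lib.Helper01.Coprime
import Cfsg.Agent.Lib.Helper04.SpecialCoprime
import Cfsg.Agent.Lib.Helper39.FourCent

set_option autoImplicit false
set_option linter.style.haveILetI false
set_option linter.unusedSectionVars false
set_option linter.unusedVariables false

/-!
# Groups without noncyclic abelian subgroups of order `8`: basic tools
-/

namespace Cfsg.Agent.Lib.Helper78.E8Basic

open scoped commutatorElement

variable {G : Type*} [Group G]

/-- no noncyclic abelian subgroup of order `8` inside `Y` -/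
def Free (Y : Subgroup G) : Prop :=
  ¬ ∃ A : Subgroup G, A ≤ Y ∧ IsMulCommutative ↥A ∧ ¬ IsCyclic ↥A ∧ Nat.card ↥A = 8

theorem Free.mono {Y₁ Y₂ : Subgroup G} (h : Y₁ ≤ Y₂) (hF : Free Y₂) : Free Y₁ := by
  rintro ⟨A, hA, h1, h2, h3⟩
  exact hF ⟨A, hA.trans h, h1, h2, h3⟩

/-- elements of the cyclic group generated by an involution -/
theorem mem_zpowers_inv2 {w g : G} (hw : w ^ 2 = 1) (hg : g ∈ Subgroup.zpowers w) :
    g = 1 ∨ g = w := by
  obtain ⟨k, rfl⟩ := Subgroup.mem_zpowers_iff.mp hg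
  have hw' : w ^ (2 : ℤ) = 1 := by
    rw [show (2 : ℤ) = ((2 : ℕ) : ℤ) from rfl, zpow_natCast, hw]
  rcases Int.even_or_odd k with ⟨m, rfl⟩ | ⟨m, rfl⟩
  · left
    rw [← two_mul, zpow_mul, hw', one_zpow]
  · right
    rw [zpow_add, zpow_mul, hw', one_zpow, one_mul, zpow_one]

theorem orderOf_eq_four {x : G} (h4 : x ^ 4 = 1) (h2 : x ^ 2 ≠ 1) : orderOf x = 4 := by
  have := orderOf_eq_prime_pow (p := 2) (n := 1) (x := x) (by rw [pow_one]; exact h2)
    (by rw [show (2 : ℕ) ^ (1 + 1) = 4 from rfl]; exact h4)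
  rw [this]; rfl

theorem orderOf_eq_two {x : G} (h2 : x ^ 2 = 1) (h1 : x ≠ 1) : orderOf x = 2 :=
  orderOf_eq_prime h2 h1

/-- commuting elements generate commuting cyclic groups -/
theorem comm_zpowers {x y : G} (h : x * y = y * x) :
    ∀ a ∈ Subgroup.zpowers x, ∀ b ∈ Subgroup.zpowers y, a * b = b * a := by
  intro a ha b hb
  obtain ⟨k, rfl⟩ := Subgroup.mem_zpowers_iff.mp ha
  obtain ⟨l, rfl⟩ := Subgroup.mem_zpowers_iff.mp hb
  exact (Commute.zpow_zpow (show Commute x y from h) k l).eq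

theorem le_centralizer_of_comm {A B : Subgroup G} (h : ∀ a ∈ A, ∀ b ∈ B, a * b = b * a) :
    A ≤ Subgroup.centralizer (B : Set G) := by
  intro a ha
  rw [Subgroup.mem_centralizer_iff]
  intro b hb
  exact (h a ha b hb).symm

theorem le_normalizer_of_comm {A B : Subgroup G} (h : ∀ a ∈ A, ∀ b ∈ B, a * b = b * a) :
    A ≤ Subgroup.normalizer (B : Set G) :=
  (le_centralizer_of_comm h).trans (Subgroup.centralizer_le_normalizer _)

/-- the join of two commuting commutative subgroups is commutative -/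
theorem comm_sup {A B : Subgroup G} (hA : ∀ a ∈ A, ∀ a' ∈ A, a * a' = a' * a)
    (hB : ∀ b ∈ B, ∀ b' ∈ B, b * b' = b' * b) (hAB : ∀ a ∈ A, ∀ b ∈ B, a * b = b * a) :
    ∀ g ∈ A ⊔ B, ∀ g' ∈ A ⊔ B, g * g' = g' * g := by
  have hcl : A ⊔ B = Subgroup.closure ((A : Set G) ∪ (B : Set G)) := by
    rw [Subgroup.closure_union, Subgroup.closure_eq, Subgroup.closure_eq]
  have hc : IsMulCommutative ↥(Subgroup.closure ((A : Set G) ∪ (B : Set G))) := by
    apply Helper04.isMulCommutative_closure_of_comm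
    rintro a (ha | ha) b (hb | hb)
    · exact hA a ha b hb
    · exact hAB a ha b hb
    · exact (hAB b hb a ha).symm
    · exact hB a ha b hb
  intro g hg g' hg'
  rw [hcl] at hg hg'
  have := hc.is_comm.comm (⟨g, hg⟩ : ↥(Subgroup.closure ((A : Set G) ∪ (B : Set G)))) ⟨g', hg'⟩
  exact congrArg Subtype.val this

theorem isMulCommutative_of_comm {A : Subgroup G} (h : ∀ a ∈ A, ∀ a' ∈ A, a * a' = a' * a) :
    IsMulCommutative ↥A :=
  ⟨⟨fun a b => Subtype.ext (h a a.2 b b.2)⟩⟩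

theorem comm_of_isMulCommutative {A : Subgroup G} (h : IsMulCommutative ↥A) :
    ∀ a ∈ A, ∀ a' ∈ A, a * a' = a' * a := by
  intro a ha a' ha'
  have := h.is_comm.comm (⟨a, ha⟩ : ↥A) ⟨a', ha'⟩
  exact congrArg Subtype.val this

theorem comm_zpowers_self (x : G) :
    ∀ a ∈ Subgroup.zpowers x, ∀ b ∈ Subgroup.zpowers x, a * b = b * a :=
  comm_zpowers rfl

/-- an involution in the cyclic group generated by an element of order four is its square -/
theorem invol_mem_zpowers_four [Finite G] {x y : G} (h4 : x ^ 4 = 1) (h2 : x ^ 2 ≠ 1)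
    (hy : y ∈ Subgroup.zpowers x) (hy2 : y ^ 2 = 1) (hy1 : y ≠ 1) : y = x ^ 2 := by
  have hx2 : x ^ 2 ∈ Subgroup.zpowers x := Subgroup.pow_mem _ (Subgroup.mem_zpowers x) 2
  have := Helper39.FourCent.eq_of_sq_eq_one_of_isCyclic (C := ↥(Subgroup.zpowers x))
    (x := ⟨y, hy⟩) (y := ⟨x ^ 2, hx2⟩)
    (by apply Subtype.ext; show y * y = 1; rw [← pow_two]; exact hy2)
    (by intro h; exact hy1 (congrArg Subtype.val h))
    (by apply Subtype.ext; show x ^ 2 * x ^ 2 = 1; rw [← pow_add]; exact h4)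
    (by intro h; exact h2 (congrArg Subtype.val h))
  exact congrArg Subtype.val this

/-- two distinct commuting involutions generate a four-group -/
theorem four_sub [Finite G] {x y : G} (hx2 : x ^ 2 = 1) (hy2 : y ^ 2 = 1) (hx1 : x ≠ 1)
    (hy1 : y ≠ 1) (hne : x ≠ y) (hxy : x * y = y * x) :
    Nat.card ↥(Subgroup.zpowers x ⊔ Subgroup.zpowers y) = 4 ∧
      ∀ g ∈ Subgroup.zpowers x ⊔ Subgroup.zpowers y, g = 1 ∨ g = x ∨ g = y ∨ g = x * y := by
  have hn : Subgroup.zpowers x ≤ Subgroup.normalizer (Subgroup.zpowers y : Set G) :=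
    le_normalizer_of_comm (comm_zpowers hxy)
  constructor
  · have h := Helper01.card_sup_mul_card_inf_of_le_normalizer (Subgroup.zpowers y)
      (Subgroup.zpowers x) hn
    have hbot : Subgroup.zpowers y ⊓ Subgroup.zpowers x = ⊥ := by
      rw [Subgroup.eq_bot_iff_forall]
      rintro g ⟨hgy, hgx⟩
      rcases mem_zpowers_inv2 hy2 hgy with rfl | rfl
      · rfl
      · rcases mem_zpowers_inv2 hx2 hgx with h | h
        · exact h
        · exact absurd h.symm hne
    rw [hbot, Subgroup.card_bot, mul_one, Nat.card_zpowers, Nat.card_zpowers,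
      orderOf_eq_two hx2 hx1, orderOf_eq_two hy2 hy1] at h
    exact h
  · intro g hg
    obtain ⟨a, ha, n, hn', rfl⟩ := Helper01.exists_mul_of_mem_sup hn hg
    rcases mem_zpowers_inv2 hx2 ha with rfl | rfl <;>
      rcases mem_zpowers_inv2 hy2 hn' with rfl | rfl
    · left; rw [one_mul]
    · right; right; left; rw [one_mul]
    · right; left; rw [mul_one]
    · right; right; right; rfl

/-- **E1**: an element of order four commutes with no involution other than its square -/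
theorem Free.e1 [Finite G] {Y : Subgroup G} (hF : Free Y) {x y : G} (hx : x ∈ Y) (hy : y ∈ Y)
    (h4 : x ^ 4 = 1) (h2 : x ^ 2 ≠ 1) (hy2 : y ^ 2 = 1) (hxy : x * y = y * x) :
    y = 1 ∨ y = x ^ 2 := by
  by_contra hcon
  push Not at hcon
  obtain ⟨hy1, hyx⟩ := hcon
  apply hF
  have hcomm : ∀ g ∈ Subgroup.zpowers y ⊔ Subgroup.zpowers x,
      ∀ g' ∈ Subgroup.zpowers y ⊔ Subgroup.zpowers x, g * g' = g' * g :=
    comm_sup (comm_zpowers_self y) (comm_zpowers_self x) (comm_zpowers hxy.symm)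
  refine ⟨Subgroup.zpowers y ⊔ Subgroup.zpowers x, ?_, isMulCommutative_of_comm hcomm, ?_, ?_⟩
  · exact sup_le (Subgroup.zpowers_le.mpr hy) (Subgroup.zpowers_le.mpr hx)
  · intro hc
    have hxm : x ^ 2 ∈ Subgroup.zpowers y ⊔ Subgroup.zpowers x :=
      (le_sup_right : Subgroup.zpowers x ≤ _) (Subgroup.pow_mem _ (Subgroup.mem_zpowers x) 2)
    have hym : y ∈ Subgroup.zpowers y ⊔ Subgroup.zpowers x :=
      (le_sup_left : Subgroup.zpowers y ≤ _) (Subgroup.mem_zpowers y)
    have := Helper39.FourCent.eq_of_sq_eq_one_of_isCyclic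
      (C := ↥(Subgroup.zpowers y ⊔ Subgroup.zpowers x))
      (x := ⟨y, hym⟩) (y := ⟨x ^ 2, hxm⟩)
      (by apply Subtype.ext; show y * y = 1; rw [← pow_two]; exact hy2)
      (by intro h; exact hy1 (congrArg Subtype.val h))
      (by apply Subtype.ext; show x ^ 2 * x ^ 2 = 1; rw [← pow_add]; exact h4)
      (by intro h; exact h2 (congrArg Subtype.val h))
    exact hyx (congrArg Subtype.val this)
  · have hn : Subgroup.zpowers y ≤ Subgroup.normalizer (Subgroup.zpowers x : Set G) :=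
      le_normalizer_of_comm (comm_zpowers hxy.symm)
    have h := Helper01.card_sup_mul_card_inf_of_le_normalizer (Subgroup.zpowers x)
      (Subgroup.zpowers y) hn
    have hbot : Subgroup.zpowers x ⊓ Subgroup.zpowers y = ⊥ := by
      rw [Subgroup.eq_bot_iff_forall]
      rintro g ⟨hgx, hgy⟩
      rcases mem_zpowers_inv2 hy2 hgy with rfl | rfl
      · rfl
      · exact absurd (invol_mem_zpowers_four h4 h2 hgx hy2 hy1) hyx
    rw [hbot, Subgroup.card_bot, mul_one, Nat.card_zpowers, Nat.card_zpowers,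
      orderOf_eq_four h4 h2, orderOf_eq_two hy2 hy1] at h
    exact h

/-- **E2**: three pairwise commuting involutions are dependent -/
theorem Free.e2 [Finite G] {Y : Subgroup G} (hF : Free Y) {x y z : G} (hx : x ∈ Y) (hy : y ∈ Y)
    (hz : z ∈ Y) (hx2 : x ^ 2 = 1) (hy2 : y ^ 2 = 1) (hz2 : z ^ 2 = 1) (hxy : x * y = y * x)
    (hxz : x * z = z * x) (hyz : y * z = z * y) (hx1 : x ≠ 1) (hy1 : y ≠ 1) (hne : x ≠ y) :
    z = 1 ∨ z = x ∨ z = y ∨ z = x * y := by
  by_contra hcon
  push Not at hcon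
  obtain ⟨hz1, hzx, hzy, hzxy⟩ := hcon
  obtain ⟨h4, hel⟩ := four_sub hx2 hy2 hx1 hy1 hne hxy
  apply hF
  have hB₀ : ∀ g ∈ Subgroup.zpowers x ⊔ Subgroup.zpowers y,
      ∀ g' ∈ Subgroup.zpowers x ⊔ Subgroup.zpowers y, g * g' = g' * g :=
    comm_sup (comm_zpowers_self x) (comm_zpowers_self y) (comm_zpowers hxy)
  have hzB : ∀ a ∈ Subgroup.zpowers z, ∀ b ∈ Subgroup.zpowers x ⊔ Subgroup.zpowers y,
      a * b = b * a := by
    have : Subgroup.zpowers x ⊔ Subgroup.zpowers y ≤
        Subgroup.centralizer (Subgroup.zpowers z : Set G) :=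
      sup_le (le_centralizer_of_comm (comm_zpowers hxz))
        (le_centralizer_of_comm (comm_zpowers hyz))
    intro a ha b hb
    have := this hb
    rw [Subgroup.mem_centralizer_iff] at this
    exact this a ha
  have hcomm := comm_sup (comm_zpowers_self z) hB₀ hzB
  refine ⟨Subgroup.zpowers z ⊔ (Subgroup.zpowers x ⊔ Subgroup.zpowers y), ?_,
    isMulCommutative_of_comm hcomm, ?_, ?_⟩
  · exact sup_le (Subgroup.zpowers_le.mpr hz)
      (sup_le (Subgroup.zpowers_le.mpr hx) (Subgroup.zpowers_le.mpr hy))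
  · intro hc
    have hxm : x ∈ Subgroup.zpowers z ⊔ (Subgroup.zpowers x ⊔ Subgroup.zpowers y) :=
      (le_sup_right : Subgroup.zpowers x ⊔ Subgroup.zpowers y ≤ _)
        ((le_sup_left : Subgroup.zpowers x ≤ _) (Subgroup.mem_zpowers x))
    have hym : y ∈ Subgroup.zpowers z ⊔ (Subgroup.zpowers x ⊔ Subgroup.zpowers y) :=
      (le_sup_right : Subgroup.zpowers x ⊔ Subgroup.zpowers y ≤ _)
        ((le_sup_right : Subgroup.zpowers y ≤ _) (Subgroup.mem_zpowers y))
    have := Helper39.FourCent.eq_of_sq_eq_one_of_isCyclic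
      (C := ↥(Subgroup.zpowers z ⊔ (Subgroup.zpowers x ⊔ Subgroup.zpowers y)))
      (x := ⟨x, hxm⟩) (y := ⟨y, hym⟩)
      (by apply Subtype.ext; show x * x = 1; rw [← pow_two]; exact hx2)
      (by intro h; exact hx1 (congrArg Subtype.val h))
      (by apply Subtype.ext; show y * y = 1; rw [← pow_two]; exact hy2)
      (by intro h; exact hy1 (congrArg Subtype.val h))
    exact hne (congrArg Subtype.val this)
  · have hn : Subgroup.zpowers z ≤
        Subgroup.normalizer ((Subgroup.zpowers x ⊔ Subgroup.zpowers y : Subgroup G) : Set G) :=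
      le_normalizer_of_comm hzB
    have h := Helper01.card_sup_mul_card_inf_of_le_normalizer
      (Subgroup.zpowers x ⊔ Subgroup.zpowers y) (Subgroup.zpowers z) hn
    have hbot : (Subgroup.zpowers x ⊔ Subgroup.zpowers y) ⊓ Subgroup.zpowers z = ⊥ := by
      rw [Subgroup.eq_bot_iff_forall]
      rintro g ⟨hgB, hgz⟩
      rcases mem_zpowers_inv2 hz2 hgz with rfl | rfl
      · rfl
      · rcases hel _ hgB with h | h | h | h
        · exact absurd h hz1
        · exact absurd h hzx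
        · exact absurd h hzy
        · exact absurd h hzxy
    rw [hbot, Subgroup.card_bot, mul_one, h4, Nat.card_zpowers, orderOf_eq_two hz2 hz1] at h
    exact h

/-- a subgroup of index two of `X` contains `⁅X, H⁆` for every `H` normalizing both -/
theorem idx2 {M X H : Subgroup G} (hMX : M ≤ X) (h2 : M.relIndex X = 2)
    (hHM : H ≤ Subgroup.normalizer (M : Set G)) (hHX : H ≤ Subgroup.normalizer (X : Set G)) :
    ⁅X, H⁆ ≤ M := by
  rw [Subgroup.commutator_le]
  intro x hx h hh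
  have hxi : h * x⁻¹ * h⁻¹ ∈ X :=
    (Subgroup.mem_normalizer_iff.mp (hHX hh) x⁻¹).mp (X.inv_mem hx)
  have key := Subgroup.mul_mem_iff_of_index_two (H := M.subgroupOf X) h2
    (a := ⟨x, hx⟩) (b := ⟨h * x⁻¹ * h⁻¹, hxi⟩)
  rw [Subgroup.mem_subgroupOf, Subgroup.mem_subgroupOf, Subgroup.mem_subgroupOf] at key
  have e : ⁅x, h⁆ = x * (h * x⁻¹ * h⁻¹) := by
    rw [commutatorElement_def]; group
  rw [e]
  apply key.mpr
  show x ∈ M ↔ h * x⁻¹ * h⁻¹ ∈ M
  rw [← (Subgroup.mem_normalizer_iff.mp (hHM hh) x⁻¹), inv_mem_iff]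

/-- an element normalizing `K` and `P` normalizes `⁅K, P⁆` -/
theorem mem_normalizer_commutator {K P : Subgroup G} {h : G}
    (hK : h ∈ Subgroup.normalizer (K : Set G)) (hP : h ∈ Subgroup.normalizer (P : Set G)) :
    h ∈ Subgroup.normalizer ((⁅K, P⁆ : Subgroup G) : Set G) := by
  rw [Subgroup.mem_normalizer_iff_map_conj_eq] at hK hP ⊢
  rw [Subgroup.map_commutator, hK, hP]

/-- **U1**: a `2`-group without noncyclic abelian subgroups of order `8` having two distinct
central involutions is a four-group -/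
theorem four_of_central [Finite G] {Y : Subgroup G} (hF : Free Y)
    (hY2 : ∀ y ∈ Y, ∃ n : ℕ, y ^ 2 ^ n = 1) {a b : G} (ha : a ∈ Y) (hb : b ∈ Y)
    (ha2 : a ^ 2 = 1) (hb2 : b ^ 2 = 1) (ha1 : a ≠ 1) (hb1 : b ≠ 1) (hne : a ≠ b)
    (hac : ∀ y ∈ Y, a * y = y * a) (hbc : ∀ y ∈ Y, b * y = y * b) :
    ∀ y ∈ Y, y = 1 ∨ y = a ∨ y = b ∨ y = a * b := by
  have hab : a * b = b * a := hac b hb
  have hab2 : (a * b) ^ 2 = 1 := by
    rw [pow_two]
    calc a * b * (a * b) = a * (b * a) * b := by group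
      _ = a * (a * b) * b := by rw [hab]
      _ = a ^ 2 * b ^ 2 := by rw [pow_two, pow_two]; group
      _ = 1 := by rw [ha2, hb2, one_mul]
  have key : ∀ n : ℕ, ∀ y ∈ Y, y ^ 2 ^ n = 1 → (y = 1 ∨ y = a ∨ y = b ∨ y = a * b) := by
    intro n
    induction n with
    | zero =>
      intro y _ h
      left
      rwa [pow_zero, pow_one] at h
    | succ n ih =>
      intro y hy h
      have hy2 : (y ^ 2) ^ 2 ^ n = 1 := by
        rw [← pow_mul, ← pow_succ']; exact h
      have hyy : y ^ 2 ∈ Y := Y.pow_mem hy 2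
      have hsq : y ^ 2 = 1 → (y = 1 ∨ y = a ∨ y = b ∨ y = a * b) := fun h1 =>
        hF.e2 ha hb hy ha2 hb2 h1 hab (hac y hy) (hbc y hy) ha1 hb1 hne
      have hbad : ∀ v v' : G, y ^ 2 = v → v ^ 2 = 1 → v ≠ 1 → v' ∈ Y → v' ^ 2 = 1 →
          y * v' = v' * y → v' ≠ 1 → v' ≠ v → False := by
        intro v v' hv hv2 hv1 hv'Y hv'2 hc hv'1 hvv
        have h4 : y ^ 4 = 1 := by
          rw [show 4 = 2 * 2 from rfl, pow_mul, hv, hv2]
        have h2 : y ^ 2 ≠ 1 := by rw [hv]; exact hv1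
        rcases hF.e1 hy hv'Y h4 h2 hv'2 hc with h | h
        · exact hv'1 h
        · exact hvv (h.trans hv)
      rcases ih _ hyy hy2 with h1 | h1 | h1 | h1
      · exact hsq h1
      · exact (hbad a b h1 ha2 ha1 hb hb2 (hbc y hy).symm hb1 (Ne.symm hne)).elim
      · exact (hbad b a h1 hb2 hb1 ha ha2 (hac y hy).symm ha1 hne).elim
      · refine (hbad (a * b) a h1 hab2 ?_ ha ha2 (hac y hy).symm ha1 ?_).elim
        · intro h
          -- a * b = 1 → a = b⁻¹ = b
          apply hne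
          have hb' : b⁻¹ = b := by
            rw [inv_eq_iff_mul_eq_one, ← pow_two]; exact hb2
          rw [← hb']
          exact eq_inv_of_mul_eq_one_left h
        · intro h
          apply hb1
          have : a * 1 = a * b := by rw [mul_one]; exact h
          exact (mul_left_cancel this).symm
  intro y hy
  obtain ⟨n, hn⟩ := hY2 y hy
  exact key n y hy hn

/-- the order of the four-group in **U1** -/
theorem card_four_of_central [Finite G] {Y : Subgroup G} (hF : Free Y)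
    (hY2 : ∀ y ∈ Y, ∃ n : ℕ, y ^ 2 ^ n = 1) {a b : G} (ha : a ∈ Y) (hb : b ∈ Y)
    (ha2 : a ^ 2 = 1) (hb2 : b ^ 2 = 1) (ha1 : a ≠ 1) (hb1 : b ≠ 1) (hne : a ≠ b)
    (hac : ∀ y ∈ Y, a * y = y * a) (hbc : ∀ y ∈ Y, b * y = y * b) :
    Nat.card ↥Y = 4 := by
  have hel := four_of_central hF hY2 ha hb ha2 hb2 ha1 hb1 hne hac hbc
  obtain ⟨h4, _⟩ := four_sub ha2 hb2 ha1 hb1 hne (hac b hb)
  have hle : Subgroup.zpowers a ⊔ Subgroup.zpowers b ≤ Y :=
    sup_le (Subgroup.zpowers_le.mpr ha) (Subgroup.zpowers_le.mpr hb)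
  have hge : Y ≤ Subgroup.zpowers a ⊔ Subgroup.zpowers b := by
    intro y hy
    have ham : a ∈ Subgroup.zpowers a ⊔ Subgroup.zpowers b :=
      (le_sup_left : Subgroup.zpowers a ≤ _) (Subgroup.mem_zpowers a)
    have hbm : b ∈ Subgroup.zpowers a ⊔ Subgroup.zpowers b :=
      (le_sup_right : Subgroup.zpowers b ≤ _) (Subgroup.mem_zpowers b)
    rcases hel y hy with rfl | rfl | rfl | rfl
    · exact Subgroup.one_mem _
    · exact ham
    · exact hbm
    · exact Subgroup.mul_mem _ ham hbm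
  rw [← le_antisymm hle hge]
  exact h4

end Cfsg.Agent.Lib.Helper78.E8Basic
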