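import Mathlib
import Cfsg.Agent.Lib.Helper55.CoprimeGen
import Cfsg.Agent.Lib.Helper12.FourGroup

/-!
# Generation by fixed points of a four-group of automorphisms

A group of odd order acted on by a four-group `{1, a, b, ab}` of automorphisms is generated by the
fixed points of `a`, `b` and `ab`.  Deduced from the internal coprime generation lemma
`Helper55.le_of_centralizers_le` inside the semidirect product.
-/

set_option autoImplicit false
set_option linter.style.haveILetI false
set_option linter.unusedSimpArgs false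
set_option linter.deprecated false

namespace Cfsg.Agent.Lib.Helper78.FourGen

open SemidirectProduct Cfsg.Agent.Lib.Helper12

variable {P : Type*} [Group P]

theorem gen_four [Finite P] (hodd : Odd (Nat.card P)) (a b : MulAut P) (ha : a * a = 1)
    (hb : b * b = 1) (hab : a * b = b * a) (ha1 : a ≠ 1) (hb1 : b ≠ 1) (hne : a ≠ b)
    (D : Subgroup P) (hDa : ∀ x, a x = x → x ∈ D) (hDb : ∀ x, b x = x → x ∈ D)
    (hDc : ∀ x, a (b x) = x → x ∈ D) (hinva : ∀ x ∈ D, a x ∈ D) (hinvb : ∀ x ∈ D, b x ∈ D) :
    D = ⊤ := by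
  classical
  set K : Subgroup (MulAut P) := fourSub a b ha hb hab with hKdef
  have hK4 : IsKleinFour K := isKleinFour_fourSub ha hb hab ha1 hb1 hne
  have hKinv : ∀ k ∈ K, ∀ x ∈ D, k x ∈ D := by
    intro k hk x hx
    rcases mem_fourSub.1 hk with rfl | rfl | rfl | rfl
    · simpa using hx
    · exact hinva x hx
    · exact hinvb x hx
    · exact hinva _ (hinvb x hx)
  let φ : K →* MulAut P := K.subtype
  let G := P ⋊[φ] K
  -- the subgroup of elements whose `P`-component lies in `D`
  let H : Subgroup G :=
    { carrier := {g | g.left ∈ D}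
      one_mem' := by simp
      mul_mem' := by
        intro x y hx hy
        simp only [Set.mem_setOf_eq, mul_left] at hx hy ⊢
        exact D.mul_mem hx (hKinv _ x.right.2 _ hy)
      inv_mem' := by
        intro x hx
        simp only [Set.mem_setOf_eq, inv_left] at hx ⊢
        exact hKinv _ (x.right⁻¹).2 _ (D.inv_mem hx) }
  let A : Subgroup G := (inr : K →* G).range
  let N : Subgroup G := (inl : P →* G).range
  haveI : Finite K := inferInstance
  haveI : Finite G := Finite.of_equiv (P × K) SemidirectProduct.equivProd.symm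
  haveI : Fact (Nat.Prime 2) := ⟨Nat.prime_two⟩
  have hNnormal : N.Normal := by
    show ((inl : P →* G).range).Normal
    rw [range_inl_eq_ker_rightHom]; infer_instance
  have hcomm : ∀ x ∈ A, ∀ y ∈ A, x * y = y * x := by
    rintro _ ⟨k, rfl⟩ _ ⟨l, rfl⟩
    rw [← map_mul, ← map_mul]
    congr 1
    exact Subtype.ext (Cfsg.Agent.Lib.Helper12.comm_of_mem_kleinFour K (hU := hK4) k.2 l.2)
  have hexp : ∀ x ∈ A, x ^ 2 = 1 := by
    rintro _ ⟨k, rfl⟩
    rw [← map_pow, pow_two]
    have : k * k = 1 := Subtype.ext (Cfsg.Agent.Lib.Helper12.mul_self_of_mem_kleinFour K (hU := hK4) k.2)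
    rw [this, map_one]
  have hAcard : 2 ^ 2 ≤ Nat.card A := by
    have h1 : Nat.card A = Nat.card K :=
      Nat.card_congr (MonoidHom.ofInjective (inr_injective (φ := φ))).symm.toEquiv
    rw [h1, hK4.card_four]; norm_num
  have hNcard : (Nat.card N).Coprime 2 := by
    have h1 : Nat.card N = Nat.card P :=
      Nat.card_congr (MonoidHom.ofInjective (inl_injective (φ := φ))).symm.toEquiv
    rw [h1]; exact Nat.coprime_two_right.2 hodd
  have hAN : A ≤ Subgroup.normalizer (N : Set G) := by
    rw [Subgroup.normalizer_eq_top_iff.2 hNnormal]; exact le_top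
  have hAH : A ≤ H := by
    rintro _ ⟨k, rfl⟩
    show (inr k : G).left ∈ D
    rw [left_inr]; exact D.one_mem
  have hC : ∀ x ∈ A, x ≠ 1 → N ⊓ Subgroup.centralizer {x} ≤ H := by
    rintro _ ⟨k, rfl⟩ hk1 g ⟨⟨y, rfl⟩, hg2⟩
    show (inl y : G).left ∈ D
    rw [left_inl]
    have hk1' : k ≠ 1 := fun h => hk1 (by rw [h, map_one])
    have hcomm' : (inl y : G) * inr k = inr k * inl y := Subgroup.mem_centralizer_singleton_iff.1 hg2
    have hfix : (k : MulAut P) y = y := by
      have h1 : (inl ((φ k) y) : G) = inr k * inl y * inr k⁻¹ := inl_aut k y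
      rw [← hcomm', mul_assoc, ← map_mul, mul_inv_cancel, map_one, mul_one] at h1
      exact inl_injective h1
    have hkK := k.2
    rcases mem_fourSub.1 hkK with h | h | h | h
    · exact absurd (Subtype.ext h) hk1'
    · rw [h] at hfix; exact hDa y hfix
    · rw [h] at hfix; exact hDb y hfix
    · rw [h] at hfix; exact hDc y hfix
  have hfinal : N ≤ H :=
    Cfsg.Agent.Lib.Helper55.le_of_centralizers_le (p := 2) hcomm hexp hAcard hNcard hAN hAH hC
  rw [eq_top_iff]
  intro y _
  have : (inl y : G) ∈ H := hfinal ⟨y, rfl⟩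
  have h2 : (inl y : G).left ∈ D := this
  rwa [left_inl] at h2

end Cfsg.Agent.Lib.Helper78.FourGen
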