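import Mathlib

/-!
# Involutory automorphisms of groups of odd order

Elementary facts used for statement S4412.
-/

set_option autoImplicit false

namespace Cfsg.Agent.Lib.Helper78.InvolAut

variable {P : Type*} [Group P]

/-- In a finite group of odd order, an element equal to its inverse is trivial. -/
theorem eq_one_of_eq_inv [Finite P] (hodd : Odd (Nat.card P)) {x : P} (h : x = x⁻¹) : x = 1 := by
  have h2 : x ^ 2 = 1 := by
    rw [pow_two]
    nth_rewrite 2 [h]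
    exact mul_inv_cancel x
  have hdvd : orderOf x ∣ 2 := orderOf_dvd_of_pow_eq_one h2
  have hdvd' : orderOf x ∣ Nat.card P := orderOf_dvd_natCard x
  have h1 : orderOf x ∣ Nat.gcd 2 (Nat.card P) := Nat.dvd_gcd hdvd hdvd'
  have hg : Nat.gcd 2 (Nat.card P) = 1 := by
    rw [← Nat.coprime_iff_gcd_eq_one]
    exact Nat.coprime_two_left.2 hodd
  rw [hg] at h1
  exact orderOf_eq_one_iff.1 (Nat.dvd_one.1 h1)

/-- powers of an involution -/
theorem zpow_invol {x : P} (hx : x * x = 1) (k : ℤ) : x ^ k = 1 ∨ x ^ k = x := by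
  rcases Int.emod_two_eq_zero_or_one k with h | h
  · left
    have : k = 2 * (k / 2) := by omega
    rw [this, zpow_mul, zpow_ofNat, pow_two, hx, one_zpow]
  · right
    have : k = 2 * (k / 2) + 1 := by omega
    rw [this, zpow_add, zpow_mul, zpow_ofNat, pow_two, hx, one_zpow, one_mul, zpow_one]

/-- An involutory automorphism acting without nontrivial fixed points on an invariant subgroup `D`
of a finite group inverts `D`, and `D` is abelian. -/
theorem comm_of_fpf_invol [Finite P] (D : Subgroup P) (σ : MulAut P) (hσ : ∀ x, σ (σ x) = x)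
    (hD : ∀ x ∈ D, σ x ∈ D) (hfpf : ∀ x ∈ D, σ x = x → x = 1) :
    (∀ x ∈ D, σ x = x⁻¹) ∧ ∀ x ∈ D, ∀ y ∈ D, x * y = y * x := by
  have hinv : ∀ x ∈ D, σ x = x⁻¹ := by
    let f : D → D := fun x => ⟨(x : P)⁻¹ * σ x, D.mul_mem (D.inv_mem x.2) (hD x x.2)⟩
    have hinj : Function.Injective f := by
      intro x y hxy
      have h1 : (x : P)⁻¹ * σ x = (y : P)⁻¹ * σ y := congrArg Subtype.val hxy
      have h2 : σ ((y : P) * (x : P)⁻¹) = (y : P) * (x : P)⁻¹ := by
        rw [map_mul, map_inv]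
        have : σ (y : P) = (y : P) * ((x : P)⁻¹ * σ x) := by rw [h1]; group
        rw [this]; group
      have h3 := hfpf _ (D.mul_mem y.2 (D.inv_mem x.2)) h2
      exact Subtype.ext (mul_inv_eq_one.1 h3).symm
    have hsurj : Function.Surjective f := Finite.injective_iff_surjective.1 hinj
    intro z hz
    obtain ⟨x, hx⟩ := hsurj ⟨z, hz⟩
    have hz' : z = (x : P)⁻¹ * σ x := (congrArg Subtype.val hx).symm
    rw [hz', map_mul, map_inv, hσ]
    group
  refine ⟨hinv, ?_⟩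
  intro x hx y hy
  have h1 : σ (x * y) = (x * y)⁻¹ := hinv _ (D.mul_mem hx hy)
  rw [map_mul, hinv x hx, hinv y hy, mul_inv_rev] at h1
  have h2 : (x⁻¹ * y⁻¹)⁻¹ = (y⁻¹ * x⁻¹)⁻¹ := congrArg _ h1
  simpa using h2.symm

/-- Number theory: a square root of `1` modulo an odd prime power is `±1`. -/
theorem int_sq_eq_one {p n : ℕ} (hp : p.Prime) (hp2 : p ≠ 2) (k : ℤ)
    (h : ((p ^ n : ℕ) : ℤ) ∣ k * k - 1) :
    ((p ^ n : ℕ) : ℤ) ∣ k - 1 ∨ ((p ^ n : ℕ) : ℤ) ∣ k + 1 := by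
  have hpi : Prime (p : ℤ) := Nat.prime_iff_prime_int.1 hp
  have hfac : k * k - 1 = (k - 1) * (k + 1) := by ring
  rw [hfac] at h
  push_cast at h ⊢
  by_cases h1 : (p : ℤ) ∣ k - 1
  · left
    have h2 : ¬ (p : ℤ) ∣ k + 1 := by
      intro h2
      have h3 : (p : ℤ) ∣ 2 := by
        have := dvd_sub h2 h1
        have e : k + 1 - (k - 1) = 2 := by ring
        rwa [e] at this
      have h4 : (p : ℤ) ≤ 2 := Int.le_of_dvd (by norm_num) h3
      have h5 : p ≤ 2 := by exact_mod_cast h4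
      have := hp.two_le
      omega
    have hc : IsCoprime ((p : ℤ) ^ n) (k + 1) :=
      IsCoprime.pow_left ((Prime.coprime_iff_not_dvd hpi).2 h2)
    exact hc.dvd_of_dvd_mul_right h
  · right
    have hc : IsCoprime ((p : ℤ) ^ n) (k - 1) :=
      IsCoprime.pow_left ((Prime.coprime_iff_not_dvd hpi).2 h1)
    exact hc.dvd_of_dvd_mul_left h

/-- An involutory automorphism preserving a cyclic subgroup `⟨g⟩` of an odd `p`-group fixes or
inverts `g`. -/
theorem cyclic_sign [Finite P] {p : ℕ} (hp : p.Prime) (hp2 : p ≠ 2) (hP : IsPGroup p P) (g : P)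
    (σ : MulAut P) (hσ : ∀ x, σ (σ x) = x) (hg : σ g ∈ Subgroup.zpowers g) :
    σ g = g ∨ σ g = g⁻¹ := by
  obtain ⟨k, hk⟩ := Subgroup.mem_zpowers_iff.1 hg
  have h1 : g ^ (k * k) = g := by
    rw [zpow_mul, hk, ← map_zpow, hk, hσ]
  have h2 : g ^ (k * k - 1) = 1 := by rw [zpow_sub, h1, zpow_one, mul_inv_cancel]
  have h3 : (orderOf g : ℤ) ∣ k * k - 1 := orderOf_dvd_iff_zpow_eq_one.2 h2
  obtain ⟨n, hn⟩ : ∃ n, orderOf g = p ^ n := by
    obtain ⟨m, hm⟩ := hP g
    obtain ⟨n, -, hn⟩ := (Nat.dvd_prime_pow hp).1 (orderOf_dvd_of_pow_eq_one hm)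
    exact ⟨n, hn⟩
  rw [hn] at h3
  rcases int_sq_eq_one hp hp2 k h3 with h | h
  · left
    rw [← hn] at h
    have h4 := orderOf_dvd_iff_zpow_eq_one.1 h
    rw [zpow_sub, zpow_one, mul_inv_eq_one] at h4
    rw [← hk, h4]
  · right
    rw [← hn] at h
    have h4 := orderOf_dvd_iff_zpow_eq_one.1 h
    rw [zpow_add, zpow_one, mul_eq_one_iff_eq_inv] at h4
    rw [← hk, h4]

/-- If `σ` fixes `g` it fixes every element of `⟨g⟩`. -/
theorem fix_zpowers {g : P} (σ : MulAut P) (h : σ g = g) {y : P} (hy : y ∈ Subgroup.zpowers g) :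
    σ y = y := by
  obtain ⟨k, rfl⟩ := Subgroup.mem_zpowers_iff.1 hy
  rw [map_zpow, h]

/-- If `σ` inverts `g` it inverts every element of `⟨g⟩`. -/
theorem inv_zpowers {g : P} (σ : MulAut P) (h : σ g = g⁻¹) {y : P} (hy : y ∈ Subgroup.zpowers g) :
    σ y = y⁻¹ := by
  obtain ⟨k, rfl⟩ := Subgroup.mem_zpowers_iff.1 hy
  rw [map_zpow, h, inv_zpow]

/-- In a finite abelian group of exponent two, a subgroup `A₀` and an element `t ∉ A₀` are
separated by a subgroup `K ≥ A₀` of index two. -/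
theorem exists_avoiding {A : Type*} [CommGroup A] [Finite A] (hsq : ∀ x : A, x * x = 1)
    (A₀ : Subgroup A) (t : A) (ht : t ∉ A₀) :
    ∃ K : Subgroup A, A₀ ≤ K ∧ t ∉ K ∧ ∀ x, x ∈ K ∨ x * t ∈ K := by
  have hfin : ({K : Subgroup A | A₀ ≤ K ∧ t ∉ K} : Set (Subgroup A)).Finite := Set.toFinite _
  obtain ⟨K, hK⟩ := hfin.exists_maximal ⟨A₀, le_rfl, ht⟩
  refine ⟨K, hK.prop.1, hK.prop.2, ?_⟩
  intro x
  by_contra hcon
  push Not at hcon
  obtain ⟨hx1, hx2⟩ := hcon
  have hmem : K ⊔ Subgroup.zpowers x ∈ {K : Subgroup A | A₀ ≤ K ∧ t ∉ K} := by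
    refine ⟨hK.prop.1.trans le_sup_left, ?_⟩
    intro htm
    obtain ⟨y, hy, z, hz, hyz⟩ := Subgroup.mem_sup.1 htm
    obtain ⟨k, rfl⟩ := Subgroup.mem_zpowers_iff.1 hz
    rcases zpow_invol (hsq x) k with h | h
    · rw [h, mul_one] at hyz
      exact hK.prop.2 (hyz ▸ hy)
    · rw [h] at hyz
      apply hx2
      have : x * t = y := by
        rw [← hyz, mul_comm y x, ← mul_assoc, hsq x, one_mul]
      rw [this]; exact hy
  have hle : K ⊔ Subgroup.zpowers x ≤ K := hK.le_of_ge hmem le_sup_left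
  exact hx1 (hle (Subgroup.mem_sup_right (Subgroup.mem_zpowers x)))

end Cfsg.Agent.Lib.Helper78.InvolAut
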