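import Mathlib
import Cfsg.Agent.Lib.Helper78.InvolAut
import Cfsg.Agent.Lib.Helper78.FourGen

/-!
# An elementary abelian group of order 8 acting on an odd `p`-group: structure lemma

If `I ≤ Aut P` is elementary abelian of order `8` and contains a four-group `{1, a, b, ab}` all of
whose nonidentity elements have cyclic fixed-point subgroups, then `P` is abelian, generated by
three elements `ga, gb, gc`, and `I` is the full group of sign changes on these generators.
-/

set_option autoImplicit false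
set_option linter.style.haveILetI false
set_option linter.unusedSectionVars false

namespace Cfsg.Agent.Lib.Helper78.Elem8

open Cfsg.Agent.Lib.Helper78.InvolAut Cfsg.Agent.Lib.Helper78.FourGen

variable {P : Type*} [Group P]

/-- the fixed-point subgroup of `T` is cyclic -/
def Cyc (T : MulAut P) : Prop := ∃ g : P, ∀ x : P, (T x = x ↔ x ∈ Subgroup.zpowers g)

/-- the fixed-point subgroup of an automorphism -/
def fixSub (T : MulAut P) : Subgroup P where
  carrier := {x | T x = x}
  one_mem' := map_one T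
  mul_mem' := by
    intro x y hx hy
    show T (x * y) = x * y
    rw [map_mul, hx, hy]
  inv_mem' := by
    intro x hx
    show T x⁻¹ = x⁻¹
    rw [map_inv, hx]

theorem mem_fixSub {T : MulAut P} {x : P} : x ∈ fixSub T ↔ T x = x := Iff.rfl

theorem odd_card_of_isPGroup [Finite P] {p : ℕ} (hp : p.Prime) (hp2 : p ≠ 2) (hP : IsPGroup p P) :
    Odd (Nat.card P) := by
  haveI : Fact p.Prime := ⟨hp⟩
  obtain ⟨n, hn⟩ := IsPGroup.iff_card.1 hP
  rw [hn]
  exact (hp.odd_of_ne_two hp2).pow

/-- An automorphism `T` commuting with `S` is not "cyclic" if `S` inverts one nontrivial fixed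
point of `T` and fixes another one. -/
theorem not_cyc_of [Finite P] {p : ℕ} (hp : p.Prime) (hp2 : p ≠ 2) (hP : IsPGroup p P)
    (T S : MulAut P) (hTS : ∀ x, T (S x) = S (T x)) (hS : ∀ x, S (S x) = x) (u v : P)
    (hu : T u = u) (hv : T v = v) (hu1 : u ≠ 1) (hv1 : v ≠ 1) (hSu : S u = u⁻¹) (hSv : S v = v) :
    ¬ Cyc T := by
  rintro ⟨g, hg⟩
  have hodd := odd_card_of_isPGroup hp hp2 hP
  have hgfix : T g = g := (hg g).2 (Subgroup.mem_zpowers g)
  have hSg : S g ∈ Subgroup.zpowers g := (hg (S g)).1 (by rw [hTS, hgfix])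
  have hug : u ∈ Subgroup.zpowers g := (hg u).1 hu
  have hvg : v ∈ Subgroup.zpowers g := (hg v).1 hv
  rcases cyclic_sign hp hp2 hP g S hS hSg with h | h
  · have := fix_zpowers S h hug
    rw [hSu] at this
    exact hu1 (eq_one_of_eq_inv hodd this.symm)
  · have := inv_zpowers S h hvg
    rw [hSv] at this
    exact hv1 (eq_one_of_eq_inv hodd this)

/-- **Structure lemma.** -/
theorem structure_of_four [Finite P] {p : ℕ} (hp : p.Prime) (hp2 : p ≠ 2) (hP : IsPGroup p P)
    (I : Subgroup (MulAut P)) (hIc : ∀ x ∈ I, ∀ y ∈ I, x * y = y * x) (hIe : ∀ x ∈ I, x * x = 1)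
    (hI8 : Nat.card I = 8) (a b : MulAut P) (haI : a ∈ I) (hbI : b ∈ I) (ha1 : a ≠ 1) (hb1 : b ≠ 1)
    (hne : a ≠ b) (hca : Cyc a) (hcb : Cyc b) (hcc : Cyc (a * b)) :
    ∃ T₁ ∈ I, ∃ T₂ ∈ I, ∃ T₃ ∈ I, ∃ ga gb gc : P,
      Subgroup.closure {ga, gb, gc} = ⊤ ∧ ga ≠ 1 ∧ gb ≠ 1 ∧ gc ≠ 1 ∧
      (T₁ ga = ga⁻¹ ∧ T₁ gb = gb ∧ T₁ gc = gc) ∧
      (T₂ ga = ga ∧ T₂ gb = gb⁻¹ ∧ T₂ gc = gc) ∧
      (T₃ ga = ga ∧ T₃ gb = gb ∧ T₃ gc = gc⁻¹) ∧
      ∀ x y : P, x * y = y * x := by
  classical
  have hodd := odd_card_of_isPGroup hp hp2 hP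
  obtain ⟨ga, hga⟩ := hca
  obtain ⟨gb, hgb⟩ := hcb
  obtain ⟨gc, hgc⟩ := hcc
  have hcI : a * b ∈ I := I.mul_mem haI hbI
  have hinvol : ∀ T ∈ I, ∀ x, T (T x) = x := by
    intro T hT x
    have h2 : (T * T) x = x := by rw [hIe T hT]; rfl
    exact h2
  have hcommapp : ∀ T ∈ I, ∀ S ∈ I, ∀ x, T (S x) = S (T x) := by
    intro T hT S hS x
    have h2 : (T * S) x = (S * T) x := by rw [hIc T hT S hS]
    exact h2
  have hpres_a : ∀ T ∈ I, T ga ∈ Subgroup.zpowers ga := by
    intro T hT
    rw [← hga, hcommapp a haI T hT, (hga ga).2 (Subgroup.mem_zpowers ga)]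
  have hpres_b : ∀ T ∈ I, T gb ∈ Subgroup.zpowers gb := by
    intro T hT
    rw [← hgb, hcommapp b hbI T hT, (hgb gb).2 (Subgroup.mem_zpowers gb)]
  have hpres_c : ∀ T ∈ I, T gc ∈ Subgroup.zpowers gc := by
    intro T hT
    rw [← hgc, hcommapp (a * b) hcI T hT, (hgc gc).2 (Subgroup.mem_zpowers gc)]
  have hsign_a : ∀ T ∈ I, T ga = ga ∨ T ga = ga⁻¹ := fun T hT =>
    cyclic_sign hp hp2 hP ga T (hinvol T hT) (hpres_a T hT)
  have hsign_b : ∀ T ∈ I, T gb = gb ∨ T gb = gb⁻¹ := fun T hT =>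
    cyclic_sign hp hp2 hP gb T (hinvol T hT) (hpres_b T hT)
  have hsign_c : ∀ T ∈ I, T gc = gc ∨ T gc = gc⁻¹ := fun T hT =>
    cyclic_sign hp hp2 hP gc T (hinvol T hT) (hpres_c T hT)
  -- generation
  set D := Subgroup.closure ({ga, gb, gc} : Set P) with hD
  have hgaD : ga ∈ D := Subgroup.subset_closure (by simp)
  have hgbD : gb ∈ D := Subgroup.subset_closure (by simp)
  have hgcD : gc ∈ D := Subgroup.subset_closure (by simp)
  have hDinv : ∀ T ∈ I, ∀ x ∈ D, T x ∈ D := by
    intro T hT x hx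
    induction hx using Subgroup.closure_induction with
    | mem y hy =>
      rcases hy with rfl | rfl | rfl
      · exact (Subgroup.zpowers_le.2 hgaD) (hpres_a T hT)
      · exact (Subgroup.zpowers_le.2 hgbD) (hpres_b T hT)
      · exact (Subgroup.zpowers_le.2 hgcD) (hpres_c T hT)
    | one => rw [map_one]; exact D.one_mem
    | mul x y _ _ hx hy => rw [map_mul]; exact D.mul_mem hx hy
    | inv x _ hx => rw [map_inv]; exact D.inv_mem hx
  have hDtop : D = ⊤ :=
    gen_four hodd a b (hIe a haI) (hIe b hbI) (hIc a haI b hbI) ha1 hb1 hne D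
      (fun x hx => Subgroup.zpowers_le.2 hgaD ((hga x).1 hx))
      (fun x hx => Subgroup.zpowers_le.2 hgbD ((hgb x).1 hx))
      (fun x hx => Subgroup.zpowers_le.2 hgcD ((hgc x).1 hx))
      (hDinv a haI) (hDinv b hbI)
  -- the sign map
  let f : I → Bool × Bool × Bool := fun T =>
    (decide ((T : MulAut P) ga = ga), decide ((T : MulAut P) gb = gb),
      decide ((T : MulAut P) gc = gc))
  have hfinj : Function.Injective f := by
    intro T T' h
    simp only [f, Prod.mk.injEq, decide_eq_decide] at h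
    obtain ⟨h1, h2, h3⟩ := h
    have e1 : (T : MulAut P) ga = (T' : MulAut P) ga := by
      by_cases h : (T : MulAut P) ga = ga
      · rw [h, h1.1 h]
      · have h' : ¬ (T' : MulAut P) ga = ga := fun h' => h (h1.2 h')
        rw [(hsign_a T T.2).resolve_left h, (hsign_a T' T'.2).resolve_left h']
    have e2 : (T : MulAut P) gb = (T' : MulAut P) gb := by
      by_cases h : (T : MulAut P) gb = gb
      · rw [h, h2.1 h]
      · have h' : ¬ (T' : MulAut P) gb = gb := fun h' => h (h2.2 h')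
        rw [(hsign_b T T.2).resolve_left h, (hsign_b T' T'.2).resolve_left h']
    have e3 : (T : MulAut P) gc = (T' : MulAut P) gc := by
      by_cases h : (T : MulAut P) gc = gc
      · rw [h, h3.1 h]
      · have h' : ¬ (T' : MulAut P) gc = gc := fun h' => h (h3.2 h')
        rw [(hsign_c T T.2).resolve_left h, (hsign_c T' T'.2).resolve_left h']
    have hhom : (T : MulAut P).toMonoidHom = (T' : MulAut P).toMonoidHom := by
      apply MonoidHom.eq_of_eqOn_dense hDtop
      intro x hx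
      rcases hx with rfl | rfl | rfl
      · exact e1
      · exact e2
      · exact e3
    apply Subtype.ext
    apply MulEquiv.ext
    intro x
    exact DFunLike.congr_fun hhom x
  haveI : Fintype I := Fintype.ofFinite I
  have hbij : Function.Bijective f :=
    (Fintype.bijective_iff_injective_and_card f).2
      ⟨hfinj, by rw [← Nat.card_eq_fintype_card, hI8]; rfl⟩
  obtain ⟨T₁, hT₁⟩ := hbij.2 (false, true, true)
  obtain ⟨T₂, hT₂⟩ := hbij.2 (true, false, true)
  obtain ⟨T₃, hT₃⟩ := hbij.2 (true, true, false)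
  simp only [f, Prod.mk.injEq, decide_eq_false_iff_not, decide_eq_true_eq] at hT₁ hT₂ hT₃
  obtain ⟨h1a, h1b, h1c⟩ := hT₁
  obtain ⟨h2a, h2b, h2c⟩ := hT₂
  obtain ⟨h3a, h3b, h3c⟩ := hT₃
  have h1a' := (hsign_a T₁ T₁.2).resolve_left h1a
  have h2b' := (hsign_b T₂ T₂.2).resolve_left h2b
  have h3c' := (hsign_c T₃ T₃.2).resolve_left h3c
  have hga1 : ga ≠ 1 := by
    rintro rfl
    exact h1a (map_one _)
  have hgb1 : gb ≠ 1 := by
    rintro rfl
    exact h2b (map_one _)
  have hgc1 : gc ≠ 1 := by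
    rintro rfl
    exact h3c (map_one _)
  -- commutativity
  have hab_comm : ga * gb = gb * ga := by
    have := (comm_of_fpf_invol (fixSub (T₃ : MulAut P)) (a * b) (hinvol _ hcI)
      (fun x hx => by
        rw [mem_fixSub] at hx ⊢
        rw [hcommapp _ T₃.2 _ hcI, hx])
      (fun x hx hcx => by
        rw [mem_fixSub] at hx
        have hxc : x ∈ Subgroup.zpowers gc := (hgc x).1 hcx
        have := inv_zpowers (T₃ : MulAut P) h3c' hxc
        rw [hx] at this
        exact eq_one_of_eq_inv hodd this)).2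
    exact this ga h3a gb h3b
  have hac_comm : ga * gc = gc * ga := by
    have := (comm_of_fpf_invol (fixSub (T₂ : MulAut P)) b (hinvol _ hbI)
      (fun x hx => by
        rw [mem_fixSub] at hx ⊢
        rw [hcommapp _ T₂.2 _ hbI, hx])
      (fun x hx hcx => by
        rw [mem_fixSub] at hx
        have hxc : x ∈ Subgroup.zpowers gb := (hgb x).1 hcx
        have := inv_zpowers (T₂ : MulAut P) h2b' hxc
        rw [hx] at this
        exact eq_one_of_eq_inv hodd this)).2
    exact this ga h2a gc h2c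
  have hbc_comm : gb * gc = gc * gb := by
    have := (comm_of_fpf_invol (fixSub (T₁ : MulAut P)) a (hinvol _ haI)
      (fun x hx => by
        rw [mem_fixSub] at hx ⊢
        rw [hcommapp _ T₁.2 _ haI, hx])
      (fun x hx hcx => by
        rw [mem_fixSub] at hx
        have hxc : x ∈ Subgroup.zpowers ga := (hga x).1 hcx
        have := inv_zpowers (T₁ : MulAut P) h1a' hxc
        rw [hx] at this
        exact eq_one_of_eq_inv hodd this)).2
    exact this gb h1b gc h1c
  have hcommP : ∀ x y : P, x * y = y * x := by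
    have hS : ∀ x ∈ ({ga, gb, gc} : Set P), ∀ y ∈ ({ga, gb, gc} : Set P), x * y = y * x := by
      intro x hx y hy
      rcases hx with rfl | rfl | rfl <;> rcases hy with rfl | rfl | rfl
      · rfl
      · exact hab_comm
      · exact hac_comm
      · exact hab_comm.symm
      · rfl
      · exact hbc_comm
      · exact hac_comm.symm
      · exact hbc_comm.symm
      · rfl
    have hmc : IsMulCommutative (Subgroup.closure ({ga, gb, gc} : Set P)) :=
      Subgroup.isMulCommutative_closure hS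
    intro x y
    have hx : x ∈ D := by rw [hDtop]; trivial
    have hy : y ∈ D := by rw [hDtop]; trivial
    have := hmc.is_comm.comm ⟨x, hx⟩ ⟨y, hy⟩
    exact congrArg Subtype.val this
  exact ⟨T₁, T₁.2, T₂, T₂.2, T₃, T₃.2, ga, gb, gc, hDtop, hga1, hgb1, hgc1,
    ⟨h1a', h1b, h1c⟩, ⟨h2a, h2b', h2c⟩, ⟨h3a, h3b, h3c'⟩, hcommP⟩

end Cfsg.Agent.Lib.Helper78.Elem8
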