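import Mathlib
import Cfsg.Agent.Lib.Helper78.InvolAut
import Cfsg.Agent.Lib.Helper78.Elem8A
import Cfsg.Agent.Lib.Helper01.Basic

/-!
# An abelian `p`-group with three independent cyclic factors is not generated by two elements
-/

set_option autoImplicit false
set_option linter.style.haveILetI false
set_option linter.unusedSectionVars false

namespace Cfsg.Agent.Lib.Helper78.Elem8

open Cfsg.Agent.Lib.Helper78.InvolAut

/-- In an abelian group, two elements killed by `p` generate a subgroup of order at most `p²`. -/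
theorem card_closure_pair_le {Q : Type*} [CommGroup Q] [Finite Q] {p : ℕ} (hp : p.Prime) (u v : Q)
    (hu : u ^ p = 1) (hv : v ^ p = 1) :
    Nat.card (Subgroup.closure ({u, v} : Set Q)) ≤ p * p := by
  have hcl : Subgroup.closure ({u, v} : Set Q) = Subgroup.zpowers u ⊔ Subgroup.zpowers v := by
    rw [Set.insert_eq, Subgroup.closure_union, Subgroup.zpowers_eq_closure, Subgroup.zpowers_eq_closure]
  rw [hcl]
  let f : Subgroup.zpowers u × Subgroup.zpowers v → ↥(Subgroup.zpowers u ⊔ Subgroup.zpowers v) :=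
    fun x => ⟨(x.1 : Q) * (x.2 : Q),
      mul_mem (Subgroup.mem_sup_left x.1.2) (Subgroup.mem_sup_right x.2.2)⟩
  have hf : Function.Surjective f := by
    rintro ⟨z, hz⟩
    obtain ⟨y, hy, w, hw, rfl⟩ := Subgroup.mem_sup.1 hz
    exact ⟨(⟨y, hy⟩, ⟨w, hw⟩), rfl⟩
  have h1 := Nat.card_le_card_of_surjective f hf
  rw [Nat.card_prod, Nat.card_zpowers, Nat.card_zpowers] at h1
  have h2 : orderOf u ≤ p := Nat.le_of_dvd hp.pos (orderOf_dvd_of_pow_eq_one hu)
  have h3 : orderOf v ≤ p := Nat.le_of_dvd hp.pos (orderOf_dvd_of_pow_eq_one hv)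
  exact h1.trans (Nat.mul_le_mul h2 h3)

/-- In a finite `p`-group a nontrivial element has a power of order `p`. -/
theorem exists_orderOf_eq_prime {P : Type*} [Group P] [Finite P] {p : ℕ} (hp : p.Prime)
    (hP : IsPGroup p P) {g : P} (hg : g ≠ 1) : ∃ α ∈ Subgroup.zpowers g, orderOf α = p := by
  obtain ⟨m, hm⟩ := hP g
  obtain ⟨n, -, hn⟩ := (Nat.dvd_prime_pow hp).1 (orderOf_dvd_of_pow_eq_one hm)
  have hn0 : n ≠ 0 := by
    rintro rfl
    rw [pow_zero, orderOf_eq_one_iff] at hn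
    exact hg hn
  obtain ⟨k, rfl⟩ := Nat.exists_eq_succ_of_ne_zero hn0
  refine ⟨g ^ (p ^ k), Subgroup.npow_mem_zpowers g _, ?_⟩
  rw [orderOf_pow_of_dvd (pow_ne_zero _ hp.ne_zero) (by rw [hn]; exact pow_dvd_pow p (Nat.le_succ k)),
    hn, pow_succ, Nat.mul_div_cancel_left _ (pow_pos hp.pos k)]

theorem not_two_gen {P : Type*} [Group P] [Finite P] {p : ℕ} (hp : p.Prime) (hp2 : p ≠ 2)
    (hP : IsPGroup p P) (hcomm : ∀ x y : P, x * y = y * x) (ga gb gc : P) (hga : ga ≠ 1)
    (hgb : gb ≠ 1) (hgc : gc ≠ 1) (T₁ T₃ : MulAut P) (h1a : T₁ ga = ga⁻¹) (h1b : T₁ gb = gb)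
    (h3a : T₃ ga = ga) (h3b : T₃ gb = gb) (h3c : T₃ gc = gc⁻¹) :
    ¬ ∃ x y : P, Subgroup.closure {x, y} = ⊤ := by
  rintro ⟨x, y, hxy⟩
  have hodd := odd_card_of_isPGroup hp hp2 hP
  letI : CommGroup P := { (inferInstance : Group P) with mul_comm := hcomm }
  obtain ⟨α, hαg, hα⟩ := exists_orderOf_eq_prime hp hP hga
  obtain ⟨β, hβg, hβ⟩ := exists_orderOf_eq_prime hp hP hgb
  obtain ⟨γ, hγg, hγ⟩ := exists_orderOf_eq_prime hp hP hgc
  have hαβ : Subgroup.zpowers β ⊓ Subgroup.zpowers α = ⊥ := by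
    rw [Subgroup.eq_bot_iff_forall]
    rintro z ⟨hz1, hz2⟩
    have h1 : T₁ z = z := fix_zpowers T₁ h1b (Subgroup.zpowers_le.2 hβg hz1)
    have h2 : T₁ z = z⁻¹ := inv_zpowers T₁ h1a (Subgroup.zpowers_le.2 hαg hz2)
    rw [h1] at h2
    exact eq_one_of_eq_inv hodd h2
  have hαβγ : Subgroup.zpowers γ ⊓ (Subgroup.zpowers α ⊔ Subgroup.zpowers β) = ⊥ := by
    rw [Subgroup.eq_bot_iff_forall]
    rintro z ⟨hz1, hz2⟩
    have hle : Subgroup.zpowers α ⊔ Subgroup.zpowers β ≤ fixSub T₃ := by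
      apply sup_le
      · intro w hw
        exact fix_zpowers T₃ h3a (Subgroup.zpowers_le.2 hαg hw)
      · intro w hw
        exact fix_zpowers T₃ h3b (Subgroup.zpowers_le.2 hβg hw)
    have h1 : T₃ z = z := hle hz2
    have h2 : T₃ z = z⁻¹ := inv_zpowers T₃ h3c (Subgroup.zpowers_le.2 hγg hz1)
    rw [h1] at h2
    exact eq_one_of_eq_inv hodd h2
  have hc1 : Nat.card (Subgroup.zpowers α ⊔ Subgroup.zpowers β : Subgroup P) = p * p := by
    have := Cfsg.Agent.Lib.Helper01.card_sup_mul_card_inf (Subgroup.zpowers β) (Subgroup.zpowers α)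
    rw [hαβ, Subgroup.card_bot, mul_one, Nat.card_zpowers, Nat.card_zpowers, hα, hβ] at this
    exact this
  have hc2 : Nat.card (Subgroup.zpowers α ⊔ Subgroup.zpowers β ⊔ Subgroup.zpowers γ : Subgroup P)
      = p * (p * p) := by
    have := Cfsg.Agent.Lib.Helper01.card_sup_mul_card_inf (Subgroup.zpowers γ)
      (Subgroup.zpowers α ⊔ Subgroup.zpowers β)
    rw [hαβγ, Subgroup.card_bot, mul_one, Nat.card_zpowers, hγ, hc1] at this
    exact this
  let φ : P →* P := powMonoidHom p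
  have hE : Subgroup.zpowers α ⊔ Subgroup.zpowers β ⊔ Subgroup.zpowers γ ≤ φ.ker := by
    refine sup_le (sup_le ?_ ?_) ?_
    · rw [Subgroup.zpowers_le, MonoidHom.mem_ker]
      show α ^ p = 1
      rw [← hα]; exact pow_orderOf_eq_one α
    · rw [Subgroup.zpowers_le, MonoidHom.mem_ker]
      show β ^ p = 1
      rw [← hβ]; exact pow_orderOf_eq_one β
    · rw [Subgroup.zpowers_le, MonoidHom.mem_ker]
      show γ ^ p = 1
      rw [← hγ]; exact pow_orderOf_eq_one γ
  have hker : p * (p * p) ≤ Nat.card φ.ker := by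
    rw [← hc2]; exact Subgroup.card_le_of_le hE
  have hidx : φ.range.index = Nat.card φ.ker := by
    have h1 := φ.ker.card_mul_index
    rw [Subgroup.index_ker] at h1
    have h2 := φ.range.card_mul_index
    have hpos : 0 < Nat.card φ.range := Nat.card_pos
    have : Nat.card φ.range * φ.range.index = Nat.card φ.range * Nat.card φ.ker := by
      rw [h2, ← h1, mul_comm]
    exact Nat.eq_of_mul_eq_mul_left hpos this
  -- the quotient
  have hQ : Nat.card (P ⧸ φ.range) ≤ p * p := by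
    have htop : Subgroup.closure ({(QuotientGroup.mk x : P ⧸ φ.range), (QuotientGroup.mk y : P ⧸ φ.range)} : Set (P ⧸ φ.range)) = ⊤ := by
      have h1 : (Subgroup.closure ({x, y} : Set P)).map (QuotientGroup.mk' φ.range) = ⊤ := by
        rw [hxy]
        exact Subgroup.map_top_of_surjective _ (QuotientGroup.mk'_surjective _)
      rw [MonoidHom.map_closure] at h1
      rw [← h1]
      congr 1
      ext z
      simp [Set.image_insert_eq]
    have hx : (QuotientGroup.mk x : P ⧸ φ.range) ^ p = 1 := by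
      rw [← QuotientGroup.mk_pow, QuotientGroup.eq_one_iff]
      exact ⟨x, rfl⟩
    have hy : (QuotientGroup.mk y : P ⧸ φ.range) ^ p = 1 := by
      rw [← QuotientGroup.mk_pow, QuotientGroup.eq_one_iff]
      exact ⟨y, rfl⟩
    have := card_closure_pair_le hp _ _ hx hy
    rw [htop, Subgroup.card_top] at this
    exact this
  rw [← Subgroup.index_eq_card, hidx] at hQ
  have h := hker.trans hQ
  have h2 := hp.two_le
  nlinarith

end Cfsg.Agent.Lib.Helper78.Elem8
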