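import Mathlib
import Cfsg.Agent.Lib.Helper78.InvolAut
import Cfsg.Agent.Lib.Helper78.Elem8A
import Cfsg.Agent.Lib.Helper78.Elem8B

/-!
# An elementary abelian group of order 8 acting on an odd `p`-group: main theorem (S4412)
-/

set_option autoImplicit false
set_option linter.style.haveILetI false
set_option linter.unusedSectionVars false
set_option linter.deprecated false

namespace Cfsg.Agent.Lib.Helper78.Elem8

open Cfsg.Agent.Lib.Helper78.InvolAut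

theorem exists_not_mem_finset {G : Type*} [Group G] (H : Subgroup G) (F : Finset G)
    (h : F.card < Nat.card H) : ∃ x ∈ H, x ∉ F := by
  by_contra hcon
  push Not at hcon
  have hsub : (H : Set G) ⊆ ↑F := fun x hx => hcon x hx
  have h1 : Nat.card H = (H : Set G).ncard := Nat.card_coe_set_eq _
  have h2 : (H : Set G).ncard ≤ (↑F : Set G).ncard := Set.ncard_le_ncard hsub F.finite_toSet
  rw [Set.ncard_coe_finset] at h2
  omega

variable {P : Type*} [Group P]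

/-- Step A: a four-group of elements with cyclic fixed points. -/
theorem exists_four [Finite P]
    (I : Subgroup (MulAut P)) (hIc : ∀ x ∈ I, ∀ y ∈ I, x * y = y * x) (hIe : ∀ x ∈ I, x * x = 1)
    (hI8 : Nat.card I = 8) (I₀ : Subgroup (MulAut P))
    (hdisj : ∀ T ∈ I₀, T ≠ 1 → Cyc T)
    (hprod : ∀ T ∈ I, ∀ T' ∈ I, T ≠ 1 → T' ≠ 1 → ¬ Cyc T → ¬ Cyc T' → T * T' ∈ I₀) :
    ∃ a ∈ I, ∃ b ∈ I, a ≠ 1 ∧ b ≠ 1 ∧ a ≠ b ∧ Cyc a ∧ Cyc b ∧ Cyc (a * b) := by
  classical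
  letI : CommGroup I :=
    { (inferInstance : Group I) with mul_comm := fun x y => Subtype.ext (hIc x x.2 y y.2) }
  obtain ⟨K', hK4, hKc⟩ : ∃ K' : Subgroup I, 4 ≤ Nat.card K' ∧
      ∀ x ∈ K', (x : MulAut P) ≠ 1 → Cyc (x : MulAut P) := by
    by_cases hB : ∃ T₀ ∈ I, T₀ ≠ 1 ∧ ¬ Cyc T₀
    · obtain ⟨T₀, hT₀I, hT₀1, hT₀⟩ := hB
      have ht : (⟨T₀, hT₀I⟩ : I) ∉ I₀.subgroupOf I := by
        rw [Subgroup.mem_subgroupOf]; exact fun h => hT₀ (hdisj T₀ h hT₀1)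
      obtain ⟨K', hK1, hK2, hK3⟩ :=
        exists_avoiding (fun x : I => Subtype.ext (hIe x x.2)) (I₀.subgroupOf I) ⟨T₀, hT₀I⟩ ht
      refine ⟨K', ?_, ?_⟩
      · have hidx : K'.index = 2 := by
          rw [Subgroup.index_eq_two_iff]
          refine ⟨⟨T₀, hT₀I⟩, fun x => ?_⟩
          rcases hK3 x with h | h
          · right
            refine ⟨h, fun h' => hK2 ?_⟩
            have := K'.mul_mem (K'.inv_mem h) h'
            rwa [inv_mul_cancel_left] at this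
          · left
            refine ⟨h, fun h' => hK2 ?_⟩
            have := K'.mul_mem (K'.inv_mem h') h
            rwa [inv_mul_cancel_left] at this
        have := K'.card_mul_index
        rw [hidx, hI8] at this
        omega
      · intro x hx hx1
        by_contra hcx
        have h1 := hprod x x.2 T₀ hT₀I hx1 hT₀1 hcx hT₀
        have h2 : x * ⟨T₀, hT₀I⟩ ∈ K' := hK1 (Subgroup.mem_subgroupOf.2 h1)
        have := K'.mul_mem (K'.inv_mem hx) h2
        rw [inv_mul_cancel_left] at this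
        exact hK2 this
    · push Not at hB
      refine ⟨⊤, by rw [Subgroup.card_top, hI8]; norm_num, fun x _ hx1 => hB x x.2 hx1⟩
  obtain ⟨a, haK, ha⟩ := exists_not_mem_finset K' {1} (by simp; omega)
  obtain ⟨b, hbK, hb⟩ := exists_not_mem_finset K' {1, a} (by
    have : ({1, a} : Finset I).card ≤ 2 := Finset.card_le_two
    omega)
  simp only [Finset.mem_singleton] at ha
  simp only [Finset.mem_insert, Finset.mem_singleton, not_or] at hb
  have ha1 : (a : MulAut P) ≠ 1 := fun h => ha (Subtype.ext h)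
  have hb1 : (b : MulAut P) ≠ 1 := fun h => hb.1 (Subtype.ext h)
  have hne : (a : MulAut P) ≠ (b : MulAut P) := fun h => hb.2 (Subtype.ext h.symm)
  have hab1 : ((a * b : I) : MulAut P) ≠ 1 := by
    intro h
    have h1 : (a : MulAut P) * (b : MulAut P) = 1 := h
    have h2 : (a : MulAut P) * (a : MulAut P) = 1 := hIe a a.2
    have h3 : (b : MulAut P) = (a : MulAut P) := mul_left_cancel (h1.trans h2.symm)
    exact hne h3.symm
  exact ⟨a, a.2, b, b.2, ha1, hb1, hne, hKc a haK ha1, hKc b hbK hb1,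
    hKc (a * b) (K'.mul_mem haK hbK) hab1⟩

/-- **Main theorem** (S4412 in abstract form). -/
theorem main [Finite P] {p : ℕ} (hp : p.Prime) (hp2 : p ≠ 2) (hP : IsPGroup p P)
    (I : Subgroup (MulAut P)) (hIc : ∀ x ∈ I, ∀ y ∈ I, x * y = y * x) (hIe : ∀ x ∈ I, x * x = 1)
    (hI8 : Nat.card I = 8) (I₀ : Subgroup (MulAut P)) (hI₀ : I₀ < I)
    (hdisj : ∀ T ∈ I₀, T ≠ 1 → Cyc T)
    (hprod : ∀ T ∈ I, ∀ T' ∈ I, T ≠ 1 → T' ≠ 1 → ¬ Cyc T → ¬ Cyc T' → T * T' ∈ I₀) :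
    (∀ x y : P, x * y = y * x) ∧ (∃ a b c : P, Subgroup.closure {a, b, c} = ⊤) ∧
      (¬ ∃ a b : P, Subgroup.closure {a, b} = ⊤) ∧
      Nat.card {T : MulAut P // T ∈ I ∧ T ≠ 1 ∧ ¬ Cyc T} = 3 ∧
      Subgroup.closure {T : MulAut P | T ∈ I ∧ T ≠ 1 ∧ ¬ Cyc T} = I ∧
      (I₀ : Set (MulAut P)) = {S : MulAut P | ∃ T T' : MulAut P, T ∈ I ∧ T' ∈ I ∧ T ≠ 1 ∧ T' ≠ 1 ∧
        ¬ Cyc T ∧ ¬ Cyc T' ∧ S = T * T'} := by
  classical
  have hodd := odd_card_of_isPGroup hp hp2 hP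
  obtain ⟨a, haI, b, hbI, ha1, hb1, hne, hca, hcb, hcc⟩ :=
    exists_four I hIc hIe hI8 I₀ hdisj hprod
  obtain ⟨T₁, hT₁I, T₂, hT₂I, T₃, hT₃I, ga, gb, gc, hgen, hga1, hgb1, hgc1, ⟨h1a, h1b, h1c⟩,
    ⟨h2a, h2b, h2c⟩, ⟨h3a, h3b, h3c⟩, hcomm⟩ :=
    structure_of_four hp hp2 hP I hIc hIe hI8 a b haI hbI ha1 hb1 hne hca hcb hcc
  have hinvol : ∀ T ∈ I, ∀ x, T (T x) = x := by
    intro T hT x
    have h2 : (T * T) x = x := by rw [hIe T hT]; rfl
    exact h2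
  have hcommapp : ∀ T ∈ I, ∀ S ∈ I, ∀ x, T (S x) = S (T x) := by
    intro T hT S hS x
    have h2 : (T * S) x = (S * T) x := by rw [hIc T hT S hS]
    exact h2
  have hne_inv : ∀ g : P, g ≠ 1 → g⁻¹ ≠ g := fun g hg h => hg (eq_one_of_eq_inv hodd h.symm)
  have hT₁1 : T₁ ≠ 1 := by
    rintro rfl
    exact hne_inv ga hga1 h1a.symm
  have hT₂1 : T₂ ≠ 1 := by
    rintro rfl
    exact hne_inv gb hgb1 h2b.symm
  have hT₃1 : T₃ ≠ 1 := by
    rintro rfl
    exact hne_inv gc hgc1 h3c.symm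
  have hB₁ : ¬ Cyc T₁ :=
    not_cyc_of hp hp2 hP T₁ T₂ (hcommapp T₁ hT₁I T₂ hT₂I) (hinvol T₂ hT₂I) gb gc h1b h1c hgb1 hgc1
      h2b h2c
  have hB₂ : ¬ Cyc T₂ :=
    not_cyc_of hp hp2 hP T₂ T₁ (hcommapp T₂ hT₂I T₁ hT₁I) (hinvol T₁ hT₁I) ga gc h2a h2c hga1 hgc1
      h1a h1c
  have hB₃ : ¬ Cyc T₃ :=
    not_cyc_of hp hp2 hP T₃ T₁ (hcommapp T₃ hT₃I T₁ hT₁I) (hinvol T₁ hT₁I) ga gb h3a h3b hga1 hgb1
      h1a h1b
  have h12 : T₁ ≠ T₂ := by
    rintro rfl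
    exact hne_inv ga hga1 (h1a.symm.trans h2a)
  have h13 : T₁ ≠ T₃ := by
    rintro rfl
    exact hne_inv ga hga1 (h1a.symm.trans h3a)
  have h23 : T₂ ≠ T₃ := by
    rintro rfl
    exact hne_inv gb hgb1 (h2b.symm.trans h3b)
  have h12I : T₁ * T₂ ∈ I₀ := hprod T₁ hT₁I T₂ hT₂I hT₁1 hT₂1 hB₁ hB₂
  have h13I : T₁ * T₃ ∈ I₀ := hprod T₁ hT₁I T₃ hT₃I hT₁1 hT₃1 hB₁ hB₃
  have h23I : T₂ * T₃ ∈ I₀ := hprod T₂ hT₂I T₃ hT₃I hT₂1 hT₃1 hB₂ hB₃
  have hNinv : ∀ x : P, T₁ (T₂ (T₃ x)) = x⁻¹ := by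
    intro x
    have hx : x ∈ Subgroup.closure ({ga, gb, gc} : Set P) := by rw [hgen]; trivial
    induction hx using Subgroup.closure_induction with
    | mem y hy =>
      rcases hy with rfl | rfl | rfl
      · rw [h3a, h2a, h1a]
      · rw [h3b, h2b, map_inv, h1b]
      · rw [h3c, map_inv, h2c, map_inv, h1c]
    | one => simp
    | mul x y _ _ hx hy => rw [map_mul, map_mul, map_mul, hx, hy, mul_inv_rev, hcomm]
    | inv x _ hx => rw [map_inv, map_inv, map_inv, hx]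
  have hNcyc : Cyc (T₁ * T₂ * T₃) := by
    refine ⟨1, fun x => ⟨fun h => ?_, fun h => ?_⟩⟩
    · have h' : T₁ (T₂ (T₃ x)) = x := h
      have : x⁻¹ = x := (hNinv x).symm.trans h'
      rw [eq_one_of_eq_inv hodd this.symm]; exact Subgroup.one_mem _
    · rw [Subgroup.zpowers_one_eq_bot, Subgroup.mem_bot] at h
      rw [h, map_one]
  -- the four elements of `I₀`
  have d1 : (1 : MulAut P) ≠ T₁ * T₂ := by
    intro h
    have : (1 : MulAut P) ga = (T₁ * T₂) ga := by rw [← h]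
    have h' : ga = T₁ (T₂ ga) := this
    rw [h2a, h1a] at h'
    exact hne_inv ga hga1 h'.symm
  have d2 : (1 : MulAut P) ≠ T₁ * T₃ := by
    intro h
    have : (1 : MulAut P) ga = (T₁ * T₃) ga := by rw [← h]
    have h' : ga = T₁ (T₃ ga) := this
    rw [h3a, h1a] at h'
    exact hne_inv ga hga1 h'.symm
  have d3 : (1 : MulAut P) ≠ T₂ * T₃ := by
    intro h
    have : (1 : MulAut P) gb = (T₂ * T₃) gb := by rw [← h]
    have h' : gb = T₂ (T₃ gb) := this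
    rw [h3b, h2b] at h'
    exact hne_inv gb hgb1 h'.symm
  have d4 : T₁ * T₂ ≠ T₁ * T₃ := fun h => h23 (mul_left_cancel h)
  have d5 : T₁ * T₂ ≠ T₂ * T₃ := by
    intro h
    have : (T₁ * T₂) ga = (T₂ * T₃) ga := by rw [h]
    have h' : T₁ (T₂ ga) = T₂ (T₃ ga) := this
    rw [h2a, h1a, h3a, h2a] at h'
    exact hne_inv ga hga1 h'
  have d6 : T₁ * T₃ ≠ T₂ * T₃ := fun h => h12 (mul_right_cancel h)
  let F : Finset (MulAut P) := {1, T₁ * T₂, T₁ * T₃, T₂ * T₃}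
  have hFcard : F.card = 4 := by
    show ({1, T₁ * T₂, T₁ * T₃, T₂ * T₃} : Finset (MulAut P)).card = 4
    rw [Finset.card_insert_of_notMem, Finset.card_insert_of_notMem, Finset.card_pair d6]
    · simp [d4, d5]
    · simp [d1, d2, d3]
  have hFsub : (↑F : Set (MulAut P)) ⊆ (I₀ : Set (MulAut P)) := by
    intro x hx
    have hx' : x ∈ F := hx
    simp only [F, Finset.mem_insert, Finset.mem_singleton] at hx'
    rcases hx' with rfl | rfl | rfl | rfl
    · exact I₀.one_mem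
    · exact h12I
    · exact h13I
    · exact h23I
  have hI₀card : Nat.card I₀ ≤ 4 := by
    have hdvd := Subgroup.card_dvd_of_le hI₀.le
    rw [hI8] at hdvd
    have hne8 : Nat.card I₀ ≠ 8 := fun h =>
      hI₀.ne (Subgroup.eq_of_le_of_card_ge hI₀.le (by rw [hI8, h]))
    have hle := Nat.le_of_dvd (by norm_num) hdvd
    by_contra hcon
    push Not at hcon
    have h5 : Nat.card I₀ = 5 ∨ Nat.card I₀ = 6 ∨ Nat.card I₀ = 7 := by omega
    rcases h5 with h | h | h <;> rw [h] at hdvd <;> omega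
  have hI₀set : (I₀ : Set (MulAut P)) = ↑F := by
    have h1 : Nat.card I₀ = (I₀ : Set (MulAut P)).ncard := Nat.card_coe_set_eq _
    exact (Set.eq_of_subset_of_ncard_le hFsub
      (by rw [Set.ncard_coe_finset, hFcard, ← h1]; exact hI₀card) (Set.toFinite _)).symm
  have hI₀4 : Nat.card I₀ = 4 := by
    have h1 : Nat.card I₀ = (I₀ : Set (MulAut P)).ncard := Nat.card_coe_set_eq _
    rw [h1, hI₀set, Set.ncard_coe_finset, hFcard]
  -- classification of the broad elements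
  have hbroad : ∀ T ∈ I, T ≠ 1 → ¬ Cyc T → T = T₁ ∨ T = T₂ ∨ T = T₃ := by
    intro T hT hT1 hcT
    have h1 : T * T₁ ∈ (I₀ : Set (MulAut P)) := hprod T hT T₁ hT₁I hT1 hT₁1 hcT hB₁
    rw [hI₀set] at h1
    have h1' : T * T₁ ∈ F := h1
    simp only [F, Finset.mem_insert, Finset.mem_singleton] at h1'
    rcases h1' with h | h | h | h
    · left
      exact mul_right_cancel (h.trans (hIe T₁ hT₁I).symm)
    · right; left
      exact mul_right_cancel (h.trans (hIc T₁ hT₁I T₂ hT₂I))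
    · right; right
      exact mul_right_cancel (h.trans (hIc T₁ hT₁I T₃ hT₃I))
    · exfalso
      apply hcT
      have h2 : T = T₂ * T₃ * T₁ := by
        have : T * T₁ * T₁ = T₂ * T₃ * T₁ := by rw [h]
        rwa [mul_assoc, hIe T₁ hT₁I, mul_one] at this
      have h3 : T₂ * T₃ * T₁ = T₁ * T₂ * T₃ := by
        rw [mul_assoc T₁, hIc T₁ hT₁I (T₂ * T₃) (I.mul_mem hT₂I hT₃I)]
      rw [h2, h3]
      exact hNcyc
  have hSset : {T : MulAut P | T ∈ I ∧ T ≠ 1 ∧ ¬ Cyc T} =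
      ↑({T₁, T₂, T₃} : Finset (MulAut P)) := by
    ext T
    simp only [Set.mem_setOf_eq, Finset.coe_insert, Finset.coe_singleton, Set.mem_insert_iff,
      Set.mem_singleton_iff]
    constructor
    · rintro ⟨hT, hT1, hcT⟩
      exact hbroad T hT hT1 hcT
    · rintro (rfl | rfl | rfl)
      · exact ⟨hT₁I, hT₁1, hB₁⟩
      · exact ⟨hT₂I, hT₂1, hB₂⟩
      · exact ⟨hT₃I, hT₃1, hB₃⟩
  refine ⟨hcomm, ⟨ga, gb, gc, hgen⟩, ?_, ?_, ?_, ?_⟩
  · exact not_two_gen hp hp2 hP hcomm ga gb gc hga1 hgb1 hgc1 T₁ T₃ h1a h1b h3a h3b h3c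
  · show Nat.card ↥{T : MulAut P | T ∈ I ∧ T ≠ 1 ∧ ¬ Cyc T} = 3
    rw [Nat.card_coe_set_eq, hSset, Set.ncard_coe_finset, Finset.card_insert_of_notMem,
      Finset.card_pair h23]
    simp [h12, h13]
  · -- closure of the broad elements
    set L := Subgroup.closure {T : MulAut P | T ∈ I ∧ T ≠ 1 ∧ ¬ Cyc T} with hL
    have hLI : L ≤ I := by
      rw [hL, Subgroup.closure_le]
      intro T hT
      exact hT.1
    have hT₁L : T₁ ∈ L := Subgroup.subset_closure ⟨hT₁I, hT₁1, hB₁⟩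
    have hT₂L : T₂ ∈ L := Subgroup.subset_closure ⟨hT₂I, hT₂1, hB₂⟩
    have hT₃L : T₃ ∈ L := Subgroup.subset_closure ⟨hT₃I, hT₃1, hB₃⟩
    have hI₀L : I₀ ≤ L := by
      intro x hx
      have hx' : x ∈ (I₀ : Set (MulAut P)) := hx
      rw [hI₀set] at hx'
      have hx'' : x ∈ F := hx'
      simp only [F, Finset.mem_insert, Finset.mem_singleton] at hx''
      rcases hx'' with rfl | rfl | rfl | rfl
      · exact L.one_mem
      · exact L.mul_mem hT₁L hT₂L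
      · exact L.mul_mem hT₁L hT₃L
      · exact L.mul_mem hT₂L hT₃L
    have hT₁notI₀ : T₁ ∉ I₀ := fun h => hB₁ (hdisj T₁ h hT₁1)
    have hd1 : Nat.card I₀ ∣ Nat.card L := Subgroup.card_dvd_of_le hI₀L
    have hd2 : Nat.card L ∣ Nat.card I := Subgroup.card_dvd_of_le hLI
    rw [hI₀4] at hd1
    rw [hI8] at hd2
    have hne4 : Nat.card L ≠ 4 := by
      intro h
      have : I₀ = L := Subgroup.eq_of_le_of_card_ge hI₀L (by rw [h, hI₀4])
      exact hT₁notI₀ (this ▸ hT₁L)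
    have hle := Nat.le_of_dvd (by norm_num) hd2
    have hpos : 0 < Nat.card L := Nat.card_pos
    have h8 : Nat.card L = 8 := by
      obtain ⟨k, hk⟩ := hd1
      rw [hk] at hle hne4 hpos ⊢
      have hk2 : k = 1 ∨ k = 2 := by omega
      rcases hk2 with rfl | rfl
      · exact absurd rfl hne4
      · rfl
    exact Subgroup.eq_of_le_of_card_ge hLI (by rw [h8, hI8])
  · -- description of `I₀`
    ext S
    constructor
    · intro hS
      have hS' : S ∈ (I₀ : Set (MulAut P)) := hS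
      rw [hI₀set] at hS'
      have hS'' : S ∈ F := hS'
      simp only [F, Finset.mem_insert, Finset.mem_singleton] at hS''
      rcases hS'' with rfl | rfl | rfl | rfl
      · exact ⟨T₁, T₁, hT₁I, hT₁I, hT₁1, hT₁1, hB₁, hB₁, (hIe T₁ hT₁I).symm⟩
      · exact ⟨T₁, T₂, hT₁I, hT₂I, hT₁1, hT₂1, hB₁, hB₂, rfl⟩
      · exact ⟨T₁, T₃, hT₁I, hT₃I, hT₁1, hT₃1, hB₁, hB₃, rfl⟩
      · exact ⟨T₂, T₃, hT₂I, hT₃I, hT₂1, hT₃1, hB₂, hB₃, rfl⟩
    · rintro ⟨T, T', hT, hT', hT1, hT'1, hcT, hcT', rfl⟩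
      exact hprod T hT T' hT' hT1 hT'1 hcT hcT'

end Cfsg.Agent.Lib.Helper78.Elem8
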