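import Mathlib
import Cfsg.Prelude
import Cfsg.Agent.Lib.Helper01.Basic
import Cfsg.Agent.Lib.Helper01.Coprime

/-!
# Sectional 2-rank in intrinsic form

`RK k S`: every section `K / N` of `S` of exponent two has order at most `2 ^ k`.  This is
equivalent (for finite `S`) to `Cfsg.SectionalPRankLE 2 k S`, passes to subgroups, and satisfies a
doubling lemma.
-/

set_option autoImplicit false
set_option linter.unusedSectionVars false

namespace Cfsg.Agent.Lib.Helper78.SectionRank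

open Cfsg

/-- every section `K / N` of exponent two has order at most `2 ^ k` -/
def RK (k : ℕ) (S : Type*) [Group S] : Prop :=
  ∀ K N : Subgroup S, N ≤ K → (∀ x ∈ K, ∀ n ∈ N, x * n * x⁻¹ ∈ N) → (∀ x ∈ K, x * x ∈ N) →
    N.relIndex K ≤ 2 ^ k

theorem relIndex_mul_card {G : Type*} [Group G] {H K : Subgroup G} (h : H ≤ K) :
    H.relIndex K * Nat.card H = Nat.card K := by
  have h1 := (H.subgroupOf K).card_mul_index
  rw [Cfsg.Agent.Lib.Helper01.card_subgroupOf_of_le h] at h1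
  rw [mul_comm]; exact h1

theorem rk_of_sectional {S : Type*} [Group S] {k : ℕ} (hr : SectionalPRankLE 2 k S) : RK k S := by
  intro K N _ hnorm hsq
  have hN : (N.subgroupOf K).Normal := by
    constructor
    intro n hn g
    rw [Subgroup.mem_subgroupOf] at hn ⊢
    simpa using hnorm g.1 g.2 n.1 hn
  have hsq' : ∀ q : K ⧸ N.subgroupOf K, q * q = 1 := by
    intro q
    induction q using QuotientGroup.induction_on with
    | H x =>
      rw [← QuotientGroup.mk_mul, QuotientGroup.eq_one_iff, Subgroup.mem_subgroupOf]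
      simpa using hsq x.1 x.2
  have hcomm : ∀ p q : K ⧸ N.subgroupOf K, p * q = q * p := by
    intro p q
    have hinv : ∀ y : K ⧸ N.subgroupOf K, y⁻¹ = y := fun y => inv_eq_of_mul_eq_one_left (hsq' y)
    calc p * q = (p * q)⁻¹ := (hinv _).symm
      _ = q⁻¹ * p⁻¹ := mul_inv_rev _ _
      _ = q * p := by rw [hinv, hinv]
  have h := hr K (N.subgroupOf K) (⊤ : Subgroup (K ⧸ N.subgroupOf K))
    ⟨⟨fun a b => Subtype.ext (hcomm a.1 b.1)⟩⟩ (fun a _ => by rw [pow_two]; exact hsq' a)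
  rw [Subgroup.card_top] at h
  exact h

theorem rk_subgroup {S : Type*} [Group S] {k : ℕ} (hR : RK k S) (M : Subgroup S) : RK k M := by
  intro K N hNK hnorm hsq
  have := hR (K.map M.subtype) (N.map M.subtype) (Subgroup.map_mono hNK) ?_ ?_
  · rwa [Subgroup.relIndex_map_map_of_injective _ _ M.subtype_injective] at this
  · rintro _ ⟨x, hx, rfl⟩ _ ⟨n, hn, rfl⟩
    exact ⟨x * n * x⁻¹, hnorm x hx n hn, by simp⟩
  · rintro _ ⟨x, hx, rfl⟩
    exact ⟨x * x, hsq x hx, by simp⟩

theorem sectional_of_rk {S : Type*} [Group S] [Finite S] {k : ℕ} (hR : RK k S) :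
    SectionalPRankLE 2 k S := by
  intro H N _ A _ hA
  -- the preimage of `A`
  set f := QuotientGroup.mk' N with hf
  set K₀ : Subgroup H := A.comap f with hK₀
  have hNK₀ : N ≤ K₀ := by
    intro n hn
    show f n ∈ A
    have : f n = 1 := (QuotientGroup.eq_one_iff n).2 hn
    rw [this]; exact A.one_mem
  have h1 := hR (K₀.map H.subtype) (N.map H.subtype) (Subgroup.map_mono hNK₀) ?_ ?_
  · rw [Subgroup.relIndex_map_map_of_injective _ _ H.subtype_injective] at h1
    have h2 : K₀.map f = A :=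
      Subgroup.map_comap_eq_self_of_surjective (QuotientGroup.mk'_surjective N) A
    have h3 := Cfsg.Agent.Lib.Helper01.card_map_mul_card_ker_of_le f K₀
      (by rw [hf, QuotientGroup.ker_mk']; exact hNK₀)
    rw [h2, hf, QuotientGroup.ker_mk'] at h3
    have h4 := relIndex_mul_card hNK₀
    have hpos : 0 < Nat.card N := Nat.card_pos
    have h5 : Nat.card A = N.relIndex K₀ :=
      Nat.eq_of_mul_eq_mul_right hpos (h3.trans h4.symm)
    rw [h5]; exact h1
  · rintro _ ⟨x, _, rfl⟩ _ ⟨n, hn, rfl⟩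
    refine ⟨x * n * x⁻¹, ?_, by simp⟩
    exact (inferInstance : N.Normal).conj_mem n hn x
  · rintro _ ⟨x, hx, rfl⟩
    refine ⟨x * x, ?_, by simp⟩
    have hx' : f x ∈ A := hx
    have := hA (f x) hx'
    rw [pow_two, ← map_mul] at this
    exact (QuotientGroup.eq_one_iff _).1 this

theorem sectional_subgroup {S : Type*} [Group S] [Finite S] {k : ℕ} (hr : SectionalPRankLE 2 k S)
    (M : Subgroup S) : SectionalPRankLE 2 k M :=
  sectional_of_rk (rk_subgroup (rk_of_sectional hr) M)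

/-- **Doubling lemma**: if `P` and its conjugate `s P s⁻¹` commute elementwise and meet trivially,
then sectional rank at most `4` for `S` gives sectional rank at most `2` for `P`. -/
theorem rk_double {S : Type*} [Group S] [Finite S] (hR : RK 4 S) (P : Subgroup S) (s : S)
    (hcomm : ∀ p ∈ P, ∀ p' ∈ P, p * (s * p' * s⁻¹) = (s * p' * s⁻¹) * p)
    (hint : ∀ p ∈ P, ∀ p' ∈ P, p = s * p' * s⁻¹ → p = 1) : RK 2 P := by
  intro K₀ N₀ hNK₀ hnorm₀ hsq₀
  set c : S →* S := (MulAut.conj s).toMonoidHom with hc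
  have hcinj : Function.Injective c := (MulAut.conj s).injective
  have hcapp : ∀ x, c x = s * x * s⁻¹ := fun x => rfl
  set K := K₀.map P.subtype with hK
  set N := N₀.map P.subtype with hN
  have hNK : N ≤ K := Subgroup.map_mono hNK₀
  have hKP : K ≤ P := by
    rintro _ ⟨x, _, rfl⟩; exact x.2
  have hnorm : ∀ x ∈ K, ∀ n ∈ N, x * n * x⁻¹ ∈ N := by
    rintro _ ⟨x, hx, rfl⟩ _ ⟨n, hn, rfl⟩
    exact ⟨x * n * x⁻¹, hnorm₀ x hx n hn, by simp⟩
  have hsq : ∀ x ∈ K, x * x ∈ N := by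
    rintro _ ⟨x, hx, rfl⟩
    exact ⟨x * x, hsq₀ x hx, by simp⟩
  set Ks := K.map c with hKs
  set Ns := N.map c with hNs
  have hNsKs : Ns ≤ Ks := Subgroup.map_mono hNK
  have hKKs : ∀ k ∈ K, ∀ k' ∈ Ks, k * k' = k' * k := by
    rintro k hk _ ⟨k', hk', rfl⟩
    rw [hcapp]
    exact hcomm k (hKP hk) k' (hKP hk')
  have hKsK : Ks ≤ Subgroup.normalizer (K : Set S) := by
    refine le_trans ?_ (Subgroup.centralizer_le_normalizer _)
    intro x hx
    rw [Subgroup.mem_centralizer_iff]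
    intro k hk
    exact hKKs k hk x hx
  have hNsN : Ns ≤ Subgroup.normalizer (N : Set S) := by
    refine le_trans ?_ (Subgroup.centralizer_le_normalizer _)
    intro x hx
    rw [Subgroup.mem_centralizer_iff]
    intro k hk
    exact hKKs k (hNK hk) x (hNsKs hx)
  have hKinf : K ⊓ Ks = ⊥ := by
    rw [Subgroup.eq_bot_iff_forall]
    rintro x ⟨hx1, ⟨k', hk', hxk⟩⟩
    exact hint x (hKP hx1) k' (hKP hk') hxk.symm
  have hNinf : N ⊓ Ns = ⊥ := by
    rw [eq_bot_iff, ← hKinf]
    exact inf_le_inf hNK hNsKs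
  have hcardK : Nat.card (Ks ⊔ K : Subgroup S) = Nat.card K * Nat.card K := by
    have h := Cfsg.Agent.Lib.Helper01.card_sup_mul_card_inf_of_le_normalizer K Ks hKsK
    rw [hKinf, Subgroup.card_bot, mul_one, Subgroup.card_map_of_injective hcinj] at h
    exact h
  have hcardN : Nat.card (Ns ⊔ N : Subgroup S) = Nat.card N * Nat.card N := by
    have h := Cfsg.Agent.Lib.Helper01.card_sup_mul_card_inf_of_le_normalizer N Ns hNsN
    rw [hNinf, Subgroup.card_bot, mul_one, Subgroup.card_map_of_injective hcinj] at h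
    exact h
  have hle : Ns ⊔ N ≤ Ks ⊔ K := sup_le_sup hNsKs hNK
  have hmain := hR (Ks ⊔ K) (Ns ⊔ N) hle ?_ ?_
  · have h1 := relIndex_mul_card hle
    have h2 := relIndex_mul_card hNK
    rw [hcardK, hcardN] at h1
    rw [← Subgroup.relIndex_map_map_of_injective N₀ K₀ P.subtype_injective]
    have hpos : 0 < Nat.card N := Nat.card_pos
    set r := N.relIndex K
    set R := (Ns ⊔ N).relIndex (Ks ⊔ K)
    set a := Nat.card N
    have h3 : R * (a * a) = (r * r) * (a * a) := by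
      rw [h1, ← h2]; ring
    have h4 : R = r * r := Nat.eq_of_mul_eq_mul_right (Nat.mul_pos hpos hpos) h3
    rw [h4] at hmain
    by_contra hcon
    push Not at hcon
    have : 5 * 5 ≤ r * r := Nat.mul_le_mul hcon hcon
    norm_num at hmain
    omega
  · intro x hx n hn
    obtain ⟨k', hk', k, hk, rfl⟩ := Cfsg.Agent.Lib.Helper01.exists_mul_of_mem_sup hKsK hx
    obtain ⟨m', hm', m, hm, rfl⟩ := Cfsg.Agent.Lib.Helper01.exists_mul_of_mem_sup hNsN hn
    have e1 : k * m' = m' * k := hKKs k hk m' (hNsKs hm')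
    have e2 : k⁻¹ * (k' * m' * k'⁻¹) = (k' * m' * k'⁻¹) * k⁻¹ :=
      hKKs k⁻¹ (K.inv_mem hk) _ (Ks.mul_mem (Ks.mul_mem hk' (hNsKs hm')) (Ks.inv_mem hk'))
    have e3 : k * k' = k' * k := hKKs k hk k' hk'
    have e4 : m * k' = k' * m := hKKs m (hNK hm) k' hk'
    have hA : k' * m' * k'⁻¹ ∈ Ns := by
      obtain ⟨k₁, hk₁, rfl⟩ := hk'
      obtain ⟨m₁, hm₁, rfl⟩ := hm'
      refine ⟨k₁ * m₁ * k₁⁻¹, hnorm k₁ hk₁ m₁ hm₁, ?_⟩
      simp
    have hB : k * m * k⁻¹ ∈ N := hnorm k hk m hm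
    have : k' * k * (m' * m) * (k' * k)⁻¹ = (k' * m' * k'⁻¹) * (k * m * k⁻¹) := by
      have e5 : k * m' = m' * k := e1
      calc k' * k * (m' * m) * (k' * k)⁻¹ = k' * (k * m') * m * k⁻¹ * k'⁻¹ := by group
        _ = k' * (m' * k) * m * k⁻¹ * k'⁻¹ := by rw [e5]
        _ = k' * m' * ((k * m * k⁻¹) * k'⁻¹) := by group
        _ = k' * m' * (k'⁻¹ * (k * m * k⁻¹)) := by
            congr 1
            exact (hKKs _ (K.mul_mem (K.mul_mem hk (hNK hm)) (K.inv_mem hk)) _ (Ks.inv_mem hk'))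
        _ = (k' * m' * k'⁻¹) * (k * m * k⁻¹) := by group
    rw [this]
    exact Subgroup.mul_mem _ (Subgroup.mem_sup_left hA) (Subgroup.mem_sup_right hB)
  · intro x hx
    obtain ⟨k', hk', k, hk, rfl⟩ := Cfsg.Agent.Lib.Helper01.exists_mul_of_mem_sup hKsK hx
    have e3 : k * k' = k' * k := hKKs k hk k' hk'
    have hA : k' * k' ∈ Ns := by
      obtain ⟨k₁, hk₁, rfl⟩ := hk'
      exact ⟨k₁ * k₁, hsq k₁ hk₁, by simp⟩
    have : k' * k * (k' * k) = (k' * k') * (k * k) := by
      calc k' * k * (k' * k) = k' * (k * k') * k := by group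
        _ = k' * (k' * k) * k := by rw [e3]
        _ = (k' * k') * (k * k) := by group
    rw [this]
    exact Subgroup.mul_mem _ (Subgroup.mem_sup_left hA) (Subgroup.mem_sup_right (hsq k hk))

end Cfsg.Agent.Lib.Helper78.SectionRank
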