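import Mathlib
import Cfsg.Agent.Lib.Helper78.E8Basic
import Cfsg.Agent.Lib.Helper78.Elem8C
import Cfsg.Agent.Lib.Helper78.SectionRank
import Cfsg.Agent.Lib.Helper31.SemiPQ
import Cfsg.Agent.Lib.Helper16.KComm
import Cfsg.Agent.Lib.Helper07.QuatEmbed

set_option autoImplicit false
set_option linter.style.haveILetI false
set_option linter.unusedSectionVars false
set_option linter.unusedVariables false

/-!
# Four-groups and quaternion groups as subgroups: elementary calculus
-/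

namespace Cfsg.Agent.Lib.Helper78.E8Q8

open Cfsg.Agent.Lib.Helper78.E8Basic
open scoped commutatorElement

variable {G : Type*} [Group G]

/-- `K` is elementary abelian of order `4` -/
structure IsV4 (K : Subgroup G) : Prop where
  card_eq : Nat.card ↥K = 4
  sq_eq : ∀ x ∈ K, x ^ 2 = 1

/-- `K` is a quaternion group of order `8` with central involution `z` -/
structure IsQ8 (K : Subgroup G) (z : G) : Prop where
  card_eq : Nat.card ↥K = 8
  z_mem : z ∈ K
  z_ne : z ≠ 1
  z_sq : z ^ 2 = 1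
  z_comm : ∀ x ∈ K, z * x = x * z
  sq_eq : ∀ x ∈ K, x ≠ 1 → x ≠ z → x ^ 2 = z

theorem inv_eq_self_of_sq {x : G} (h : x ^ 2 = 1) : x⁻¹ = x := by
  rw [inv_eq_iff_mul_eq_one, ← pow_two]; exact h

theorem IsV4.comm {K : Subgroup G} (h : IsV4 K) : ∀ x ∈ K, ∀ y ∈ K, x * y = y * x := by
  intro x hx y hy
  have ix := inv_eq_self_of_sq (h.sq_eq x hx)
  have iy := inv_eq_self_of_sq (h.sq_eq y hy)
  have ixy := inv_eq_self_of_sq (h.sq_eq (x * y) (K.mul_mem hx hy))
  calc x * y = (x * y)⁻¹ := ixy.symm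
    _ = y⁻¹ * x⁻¹ := mul_inv_rev x y
    _ = y * x := by rw [ix, iy]

theorem IsV4.isPGroup {K : Subgroup G} (h : IsV4 K) : IsPGroup 2 ↥K :=
  IsPGroup.of_card (n := 2) (by rw [h.card_eq]; rfl)

theorem IsV4.ne_bot {K : Subgroup G} (h : IsV4 K) : K ≠ ⊥ := by
  intro hb
  have := h.card_eq
  rw [hb, Subgroup.card_bot] at this
  omega

theorem IsQ8.isPGroup {K : Subgroup G} {z : G} (h : IsQ8 K z) : IsPGroup 2 ↥K :=
  IsPGroup.of_card (n := 3) (by rw [h.card_eq]; rfl)

theorem IsQ8.ne_bot {K : Subgroup G} {z : G} (h : IsQ8 K z) : K ≠ ⊥ := by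
  intro hb
  have := h.card_eq
  rw [hb, Subgroup.card_bot] at this
  omega

/-- the order of a subgroup of a group of order `2 ^ n` -/
theorem card_sub_pow {K L : Subgroup G} (hLK : L ≤ K) {n : ℕ} (hK : Nat.card ↥K = 2 ^ n) :
    ∃ m ≤ n, Nat.card ↥L = 2 ^ m := by
  have hdvd : Nat.card ↥L ∣ 2 ^ n := hK ▸ Subgroup.card_dvd_of_le hLK
  exact (Nat.dvd_prime_pow Nat.prime_two).mp hdvd

/-- an invariant proper subgroup of a four-group `K = ⁅K, H⁆` is trivial -/
theorem IsV4.eq_bot_of_invariant [Finite G] {K L H : Subgroup G} (h : IsV4 K) (hLK : L ≤ K)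
    (hne : L ≠ K) (hHL : H ≤ Subgroup.normalizer (L : Set G))
    (hHK : H ≤ Subgroup.normalizer (K : Set G)) (hKH : ⁅K, H⁆ = K) : L = ⊥ := by
  obtain ⟨m, hm, hcard⟩ := card_sub_pow hLK (n := 2) (by rw [h.card_eq]; rfl)
  have hrel := SectionRank.relIndex_mul_card hLK
  rw [h.card_eq, hcard] at hrel
  interval_cases m
  · exact Subgroup.eq_bot_of_card_eq _ (by rw [hcard]; rfl)
  · exfalso
    have h2 : L.relIndex K = 2 := by
      have : L.relIndex K * 2 = 4 := by simpa using hrel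
      omega
    have := idx2 hLK h2 hHL hHK
    rw [hKH] at this
    exact hne (le_antisymm hLK this)
  · exfalso
    exact hne (Subgroup.eq_of_le_of_card_ge hLK (by rw [h.card_eq, hcard]; rfl))

section q8

variable {K : Subgroup G} {z : G}

theorem IsQ8.pow_four (h : IsQ8 K z) {x : G} (hx : x ∈ K) : x ^ 4 = 1 := by
  by_cases h1 : x = 1
  · rw [h1, one_pow]
  by_cases h2 : x = z
  · rw [h2, show 4 = 2 * 2 from rfl, pow_mul, h.z_sq, one_pow]
  · rw [show 4 = 2 * 2 from rfl, pow_mul, h.sq_eq x hx h1 h2, h.z_sq]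

theorem IsQ8.sq_ne_one (h : IsQ8 K z) {x : G} (hx : x ∈ K) (h1 : x ≠ 1) (h2 : x ≠ z) :
    x ^ 2 ≠ 1 := by
  rw [h.sq_eq x hx h1 h2]; exact h.z_ne

/-- the only involution of `Q₈` -/
theorem IsQ8.invol (h : IsQ8 K z) {x : G} (hx : x ∈ K) (hx2 : x ^ 2 = 1) : x = 1 ∨ x = z := by
  by_contra hcon
  push Not at hcon
  exact h.sq_ne_one hx hcon.1 hcon.2 hx2

theorem IsQ8.orderOf_eq (h : IsQ8 K z) {x : G} (hx : x ∈ K) (h1 : x ≠ 1) (h2 : x ≠ z) :
    orderOf x = 4 :=
  orderOf_eq_four (h.pow_four hx) (h.sq_ne_one hx h1 h2)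

theorem IsQ8.inv_eq (h : IsQ8 K z) {x : G} (hx : x ∈ K) (h1 : x ≠ 1) (h2 : x ≠ z) :
    x⁻¹ = x * z := by
  rw [inv_eq_iff_mul_eq_one, ← mul_assoc, ← pow_two, h.sq_eq x hx h1 h2, ← pow_two, h.z_sq]

theorem IsQ8.conj_z (h : IsQ8 K z) {x : G} (hx : x ∈ K) : x * z * x⁻¹ = z := by
  rw [← h.z_comm x hx, mul_assoc, mul_inv_cancel, mul_one]

theorem IsQ8.ne_of_not_comm (h : IsQ8 K z) {x y : G} (hy : y ∈ K) (hxy : x * y ≠ y * x) :
    x ≠ 1 ∧ x ≠ z := by
  constructor
  · rintro rfl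
    exact hxy (by rw [one_mul, mul_one])
  · rintro rfl
    exact hxy (h.z_comm y hy)

/-- noncommuting elements of `Q₈` commute up to `z` -/
theorem IsQ8.swap (h : IsQ8 K z) {x y : G} (hx : x ∈ K) (hy : y ∈ K) (hxy : x * y ≠ y * x) :
    y * x = x * y * z := by
  obtain ⟨hx1, hxz⟩ := h.ne_of_not_comm hy hxy
  obtain ⟨hy1, hyz⟩ := h.ne_of_not_comm hx (fun e => hxy e.symm)
  have hx2 := h.sq_eq x hx hx1 hxz
  have hy2 := h.sq_eq y hy hy1 hyz
  have hxy1 : x * y ≠ 1 := by
    intro e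
    apply hxy
    have : y = x⁻¹ := eq_inv_of_mul_eq_one_right e
    rw [this, mul_inv_cancel, inv_mul_cancel]
  have hxyz : x * y ≠ z := by
    intro e
    apply hxy
    have : y = x⁻¹ * z := by rw [← e]; group
    rw [this, ← mul_assoc, mul_inv_cancel, one_mul, mul_assoc, h.z_comm x hx, ← mul_assoc,
      inv_mul_cancel, one_mul]
  have hxy2 := h.sq_eq (x * y) (K.mul_mem hx hy) hxy1 hxyz
  have hz2 : z * z = 1 := by rw [← pow_two]; exact h.z_sq
  have e1 : x * y * (y * x) = 1 := by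
    calc x * y * (y * x) = x * (y ^ 2) * x := by rw [pow_two]; group
      _ = x * z * x := by rw [hy2]
      _ = z * (x ^ 2) := by rw [← h.z_comm x hx, pow_two, mul_assoc]
      _ = 1 := by rw [hx2, hz2]
  have e2 : x * y * (x * y * z) = 1 := by
    calc x * y * (x * y * z) = (x * y) ^ 2 * z := by rw [pow_two]; group
      _ = 1 := by rw [hxy2, hz2]
  exact mul_left_cancel (e1.trans e2.symm)

theorem IsQ8.conj_eq (h : IsQ8 K z) {x y : G} (hx : x ∈ K) (hy : y ∈ K) (hxy : x * y ≠ y * x) :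
    y * x * y⁻¹ = x * z := by
  rw [h.swap hx hy hxy, mul_assoc, mul_assoc, h.z_comm y⁻¹ (K.inv_mem hy), ← mul_assoc y,
    mul_inv_cancel, one_mul]

/-- existence of a noncommuting pair in `Q₈` -/
theorem IsQ8.exists_pair (h : IsQ8 K z) : ∃ u ∈ K, ∃ j ∈ K, u * j ≠ j * u := by
  classical
  obtain ⟨u, hu, hu'⟩ := Elem8.exists_not_mem_finset K ({1, z} : Finset G)
    (by rw [h.card_eq]; exact lt_of_le_of_lt Finset.card_le_two (by norm_num))
  simp only [Finset.mem_insert, Finset.mem_singleton, not_or] at hu'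
  obtain ⟨j, hj, hj'⟩ := Elem8.exists_not_mem_finset K ({1, z, u, u * z} : Finset G)
    (by rw [h.card_eq]; exact lt_of_le_of_lt Finset.card_le_four (by norm_num))
  simp only [Finset.mem_insert, Finset.mem_singleton, not_or] at hj'
  refine ⟨u, hu, j, hj, ?_⟩
  intro hc
  have hu2 := h.sq_eq u hu hu'.1 hu'.2
  have hj2 := h.sq_eq j hj hj'.1 hj'.2.1
  have hz2 : z * z = 1 := by rw [← pow_two]; exact h.z_sq
  have h2 : (u * j) ^ 2 = 1 := by
    calc (u * j) ^ 2 = u * (j * u) * j := by rw [pow_two]; group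
      _ = u * (u * j) * j := by rw [hc]
      _ = u ^ 2 * j ^ 2 := by rw [pow_two, pow_two]; group
      _ = 1 := by rw [hu2, hj2, hz2]
  have hinv := h.inv_eq hu hu'.1 hu'.2
  rcases h.invol (K.mul_mem hu hj) h2 with e | e
  · have : j = u⁻¹ := eq_inv_of_mul_eq_one_right e
    rw [hinv] at this
    exact hj'.2.2.2 this
  · have : j = u⁻¹ * z := by rw [← e]; group
    rw [hinv, mul_assoc, hz2, mul_one] at this
    exact hj'.2.2.1 this

/-- a noncommuting pair generates `Q₈` -/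
theorem IsQ8.closure_eq [Finite G] (h : IsQ8 K z) {u j : G} (hu : u ∈ K) (hj : j ∈ K)
    (huj : u * j ≠ j * u) : Subgroup.closure ({u, j} : Set G) = K := by
  obtain ⟨hu1, huz⟩ := h.ne_of_not_comm hj huj
  have hMK : Subgroup.closure ({u, j} : Set G) ≤ K := by
    rw [Subgroup.closure_le]
    rintro x (rfl | rfl)
    · exact hu
    · exact hj
  have huM : Subgroup.zpowers u ≤ Subgroup.closure ({u, j} : Set G) :=
    Subgroup.zpowers_le.mpr (Subgroup.subset_closure (by simp))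
  have hjM : j ∈ Subgroup.closure ({u, j} : Set G) := Subgroup.subset_closure (by simp)
  have hjn : j ∉ Subgroup.zpowers u := by
    intro hjz
    exact huj (comm_zpowers_self u u (Subgroup.mem_zpowers u) j hjz)
  obtain ⟨m, hm, hcard⟩ := card_sub_pow hMK (n := 3) (by rw [h.card_eq]; rfl)
  have h4 : 4 ∣ Nat.card ↥(Subgroup.closure ({u, j} : Set G)) := by
    have := Subgroup.card_dvd_of_le huM
    rwa [Nat.card_zpowers, h.orderOf_eq hu hu1 huz] at this
  rw [hcard] at h4
  interval_cases m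
  · norm_num at h4
  · norm_num at h4
  · exfalso
    have : Subgroup.zpowers u = Subgroup.closure ({u, j} : Set G) :=
      Subgroup.eq_of_le_of_card_ge huM (by
        rw [hcard, Nat.card_zpowers, h.orderOf_eq hu hu1 huz]; rfl)
    rw [← this] at hjM
    exact hjn hjM
  · exact Subgroup.eq_of_le_of_card_ge hMK (by rw [hcard, h.card_eq]; rfl)

/-- commuting with a noncommuting pair means commuting with `Q₈` -/
theorem IsQ8.comm_of_gen [Finite G] (h : IsQ8 K z) {u j : G} (hu : u ∈ K) (hj : j ∈ K)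
    (huj : u * j ≠ j * u) {w : G} (hwu : w * u = u * w) (hwj : w * j = j * w) :
    ∀ x ∈ K, w * x = x * w := by
  have hle : Subgroup.closure ({u, j} : Set G) ≤ Subgroup.centralizer ({w} : Set G) := by
    rw [Subgroup.closure_le]
    rintro x (rfl | rfl)
    · exact Subgroup.mem_centralizer_singleton_iff.mpr hwu.symm
    · exact Subgroup.mem_centralizer_singleton_iff.mpr hwj.symm
  rw [h.closure_eq hu hj huj] at hle
  intro x hx
  exact (Subgroup.mem_centralizer_singleton_iff.mp (hle hx)).symm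

/-- an invariant proper subgroup of `Q₈ = ⁅Q₈, H⁆` lies in the centre -/
theorem IsQ8.le_center_of_invariant [Finite G] {L H : Subgroup G} (h : IsQ8 K z) (hLK : L ≤ K)
    (hne : L ≠ K) (hHL : H ≤ Subgroup.normalizer (L : Set G))
    (hHK : H ≤ Subgroup.normalizer (K : Set G)) (hKH : ⁅K, H⁆ = K) :
    ∀ v ∈ L, v = 1 ∨ v = z := by
  intro v hv
  by_contra hcon
  push Not at hcon
  have ho := h.orderOf_eq (hLK hv) hcon.1 hcon.2
  have h4 : 4 ∣ Nat.card ↥L := ho ▸ L.orderOf_dvd_natCard hv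
  obtain ⟨m, hm, hcard⟩ := card_sub_pow hLK (n := 3) (by rw [h.card_eq]; rfl)
  have hrel := SectionRank.relIndex_mul_card hLK
  rw [h.card_eq, hcard] at hrel
  rw [hcard] at h4
  interval_cases m
  · norm_num at h4
  · norm_num at h4
  · have h2 : L.relIndex K = 2 := by
      have : L.relIndex K * 4 = 8 := by simpa using hrel
      omega
    have := idx2 hLK h2 hHL hHK
    rw [hKH] at this
    exact hne (le_antisymm hLK this)
  · exact hne (Subgroup.eq_of_le_of_card_ge hLK (by rw [h.card_eq, hcard]; rfl))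

/-- **Lemma Q**, for a given noncommuting pair -/
theorem IsQ8.exists_inner_pair [Finite G] (h : IsQ8 K z) {u j : G} (hu : u ∈ K) (hj : j ∈ K)
    (huj : u * j ≠ j * u) {d : G} (hdu : d * u * d⁻¹ = u ∨ d * u * d⁻¹ = u * z)
    (hdj : d * j * d⁻¹ = j ∨ d * j * d⁻¹ = j * z) :
    ∃ k ∈ K, ∀ x ∈ K, (k⁻¹ * d) * x = x * (k⁻¹ * d) := by
  have hju : j * u ≠ u * j := fun e => huj e.symm
  have c1 : j * u * j⁻¹ = u * z := h.conj_eq hu hj huj
  have c2 : u * j * u⁻¹ = j * z := h.conj_eq hj hu hju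
  have key : ∃ k ∈ K, d * u * d⁻¹ = k * u * k⁻¹ ∧ d * j * d⁻¹ = k * j * k⁻¹ := by
    rcases hdu with h1 | h1 <;> rcases hdj with h2 | h2
    · exact ⟨1, K.one_mem, by rw [h1]; group, by rw [h2]; group⟩
    · exact ⟨u, hu, by rw [h1]; group, by rw [h2, c2]⟩
    · exact ⟨j, hj, by rw [h1, c1], by rw [h2]; group⟩
    · refine ⟨u * j, K.mul_mem hu hj, ?_, ?_⟩
      · rw [h1]
        calc u * z = u * (u * z * u⁻¹) := by rw [h.conj_z hu]
          _ = u * (j * u * j⁻¹) * u⁻¹ := by rw [c1]; group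
          _ = u * j * u * (u * j)⁻¹ := by group
      · rw [h2, ← c2]; group
  obtain ⟨k, hk, e1, e2⟩ := key
  refine ⟨k, hk, ?_⟩
  have comm : ∀ x : G, d * x * d⁻¹ = k * x * k⁻¹ → (k⁻¹ * d) * x = x * (k⁻¹ * d) := by
    intro x e
    calc (k⁻¹ * d) * x = k⁻¹ * (d * x * d⁻¹) * d := by group
      _ = k⁻¹ * (k * x * k⁻¹) * d := by rw [e]
      _ = x * (k⁻¹ * d) := by group
  exact h.comm_of_gen hu hj huj (comm u e1) (comm j e2)

/-- **Lemma Q**: an automorphism of `Q₈` acting trivially modulo the centre is inner -/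
theorem IsQ8.exists_inner [Finite G] (h : IsQ8 K z) {d : G}
    (hd : ∀ x ∈ K, d * x * d⁻¹ = x ∨ d * x * d⁻¹ = x * z) :
    ∃ k ∈ K, ∀ x ∈ K, (k⁻¹ * d) * x = x * (k⁻¹ * d) := by
  obtain ⟨u, hu, j, hj, huj⟩ := h.exists_pair
  exact h.exists_inner_pair hu hj huj (hd u hu) (hd j hj)

/-- commuting elements of `Q₈` -/
theorem IsQ8.comm_cases (h : IsQ8 K z) {x y : G} (hx : x ∈ K) (hy : y ∈ K) (hx1 : x ≠ 1)
    (hxz : x ≠ z) (hxy : x * y = y * x) : y = 1 ∨ y = z ∨ y = x ∨ y = x * z := by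
  by_cases hy1 : y = 1
  · exact Or.inl hy1
  by_cases hyz : y = z
  · exact Or.inr (Or.inl hyz)
  have hx2 := h.sq_eq x hx hx1 hxz
  have hy2 := h.sq_eq y hy hy1 hyz
  have hz2 : z * z = 1 := by rw [← pow_two]; exact h.z_sq
  have h2 : (x * y) ^ 2 = 1 := by
    have hc : Commute x y := hxy
    rw [hc.mul_pow, hx2, hy2, hz2]
  have hinv := h.inv_eq hx hx1 hxz
  rcases h.invol (K.mul_mem hx hy) h2 with e | e
  · right; right; right
    have : y = x⁻¹ := eq_inv_of_mul_eq_one_right e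
    rw [this, hinv]
  · right; right; left
    have : y = x⁻¹ * z := by rw [← e]; group
    rw [this, hinv, mul_assoc, hz2, mul_one]

/-- the centre of `Q₈` -/
theorem IsQ8.center (h : IsQ8 K z) {x : G} (hx : x ∈ K) (hc : ∀ y ∈ K, x * y = y * x) :
    x = 1 ∨ x = z := by
  classical
  by_contra hcon
  push Not at hcon
  obtain ⟨y, hy, hy'⟩ := Elem8.exists_not_mem_finset K ({1, z, x, x * z} : Finset G)
    (by rw [h.card_eq]; exact lt_of_le_of_lt Finset.card_le_four (by norm_num))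
  simp only [Finset.mem_insert, Finset.mem_singleton, not_or] at hy'
  rcases h.comm_cases hx hy hcon.1 hcon.2 (hc y hy) with e | e | e | e
  · exact hy'.1 e
  · exact hy'.2.1 e
  · exact hy'.2.2.1 e
  · exact hy'.2.2.2 e

/-- in a `2`-group without noncyclic abelian subgroups of order `8` the centralizer of a
quaternion subgroup is its centre -/
theorem IsQ8.centralizer_free [Finite G] (h : IsQ8 K z) {Y : Subgroup G} (hF : Free Y)
    (hKY : K ≤ Y) (hY2 : ∀ y ∈ Y, ∃ n : ℕ, y ^ 2 ^ n = 1) :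
    ∀ c ∈ Y, (∀ x ∈ K, c * x = x * c) → c = 1 ∨ c = z := by
  obtain ⟨u, hu, j, hj, huj⟩ := h.exists_pair
  obtain ⟨hu1, huz⟩ := h.ne_of_not_comm hj huj
  have hu4 := h.pow_four hu
  have hu2 := h.sq_ne_one hu hu1 huz
  have hu2' := h.sq_eq u hu hu1 huz
  have key : ∀ n : ℕ, ∀ c ∈ Y, (∀ x ∈ K, c * x = x * c) → c ^ 2 ^ n = 1 → (c = 1 ∨ c = z) := by
    intro n
    induction n with
    | zero =>
      intro c _ _ hc
      left
      rwa [pow_zero, pow_one] at hc
    | succ n ih =>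
      intro c hcY hcK hc
      have hc2 : (c ^ 2) ^ 2 ^ n = 1 := by
        rw [← pow_mul, ← pow_succ']; exact hc
      have hccK : ∀ x ∈ K, c ^ 2 * x = x * c ^ 2 := by
        intro x hx
        rw [pow_two, mul_assoc, hcK x hx, ← mul_assoc, hcK x hx, mul_assoc]
      rcases ih (c ^ 2) (Y.pow_mem hcY 2) hccK hc2 with e | e
      · rcases hF.e1 (hKY hu) hcY hu4 hu2 e (hcK u hu).symm with e' | e'
        · exact Or.inl e'
        · exact Or.inr (e'.trans hu2')
      · exfalso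
        have hz2 : z * z = 1 := by rw [← pow_two]; exact h.z_sq
        have huc : (u * c) ^ 2 = 1 := by
          calc (u * c) ^ 2 = u * (c * u) * c := by rw [pow_two]; group
            _ = u * (u * c) * c := by rw [hcK u hu]
            _ = u ^ 2 * c ^ 2 := by rw [pow_two, pow_two]; group
            _ = 1 := by rw [hu2', e, hz2]
        have hcomm : u * (u * c) = (u * c) * u := by
          rw [mul_assoc, hcK u hu]
        rcases hF.e1 (hKY hu) (Y.mul_mem (hKY hu) hcY) hu4 hu2 huc hcomm with e' | e'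
        · have hcu : c = u⁻¹ := eq_inv_of_mul_eq_one_right e'
          apply huj
          have := hcK j hj
          rw [hcu] at this
          calc u * j = u * (u⁻¹ * j) * u := by rw [this]; group
            _ = j * u := by group
        · have hcu : c = u := by
            rw [pow_two] at e'
            exact mul_left_cancel e'
          apply huj
          rw [← hcu]
          exact hcK j hj
  intro c hcY hcK
  obtain ⟨n, hn⟩ := hY2 c hcY
  exact key n c hcY hcK hn

/-- a quaternion group of order `8` in the abstract sense is isomorphic to `QuaternionGroup 2` -/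
theorem IsQ8.nonempty_equiv [Finite G] (h : IsQ8 K z) : Nonempty (↥K ≃* QuaternionGroup 2) := by
  obtain ⟨u, hu, j, hj, huj⟩ := h.exists_pair
  obtain ⟨hu1, huz⟩ := h.ne_of_not_comm hj huj
  obtain ⟨hj1, hjz⟩ := h.ne_of_not_comm hu (fun e => huj e.symm)
  have hc : orderOf u = 2 * 2 := h.orderOf_eq hu hu1 huz
  have hw : j * j = u ^ 2 := by
    rw [← pow_two, h.sq_eq j hj hj1 hjz, h.sq_eq u hu hu1 huz]
  have hwc : j * u = u⁻¹ * j := by
    rw [h.swap hu hj huj, h.inv_eq hu hu1 huz, mul_assoc, mul_assoc, h.z_comm j hj]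
  have hinj := Helper07.quatHom_injective u j (le_refl 2) hc hw hwc
  set φ := Helper07.quatHom u j (by rw [← hc]; exact pow_orderOf_eq_one u) hw hwc with hφ
  have e1 : QuaternionGroup 2 ≃* φ.range := MonoidHom.ofInjective hinj
  have hcard : Nat.card φ.range = 8 := by
    rw [← Nat.card_congr e1.toEquiv, Nat.card_eq_fintype_card, QuaternionGroup.card]
  have hle : φ.range ≤ K := by
    rintro _ ⟨q, rfl⟩
    cases q with
    | a i =>
      rw [hφ, Helper07.quatHom_a]
      exact K.pow_mem hu _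
    | xa i =>
      rw [hφ, Helper07.quatHom_xa]
      exact K.mul_mem hj (K.pow_mem hu _)
  have heq : φ.range = K := Subgroup.eq_of_le_of_card_ge hle (by rw [hcard, h.card_eq])
  exact ⟨(MulEquiv.subgroupCongr heq.symm).trans e1.symm⟩

end q8

/-- the cyclic group generated by a `2`-element is a `2`-group -/
theorem isPGroup_zpowers [Finite G] {d : G} (hd : ∃ n : ℕ, d ^ 2 ^ n = 1) :
    IsPGroup 2 ↥(Subgroup.zpowers d) := by
  obtain ⟨n, hn⟩ := hd
  obtain ⟨m, _, hm⟩ := (Nat.dvd_prime_pow Nat.prime_two).mp (orderOf_dvd_of_pow_eq_one hn)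
  exact IsPGroup.of_card (n := m) (by rw [Nat.card_zpowers, hm])

/-- setting for the next two lemmas: the commutator of `K` with a centralizing `2`-element -/
theorem comm_sub_props [Finite G] {K H : Subgroup G} (hK2 : IsPGroup 2 ↥K) (hKne : K ≠ ⊥)
    (hHK : H ≤ Subgroup.normalizer (K : Set G)) {d : G}
    (hdK : d ∈ Subgroup.normalizer (K : Set G)) (hdH : ∀ h ∈ H, d * h = h * d)
    (hd2 : ∃ n : ℕ, d ^ 2 ^ n = 1) :
    ⁅K, Subgroup.zpowers d⁆ ≤ K ∧ ⁅K, Subgroup.zpowers d⁆ ≠ K ∧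
      H ≤ Subgroup.normalizer ((⁅K, Subgroup.zpowers d⁆ : Subgroup G) : Set G) := by
  have hPK : Subgroup.zpowers d ≤ Subgroup.normalizer (K : Set G) := Subgroup.zpowers_le.mpr hdK
  refine ⟨Helper16.KComm.commutator_le_left_of_normalizer hPK,
    Helper31.commutator_ne_self'' 2 _ K (isPGroup_zpowers hd2) hK2 hPK hKne, ?_⟩
  intro h hh
  apply mem_normalizer_commutator (hHK hh)
  have : Subgroup.zpowers h ≤ Subgroup.centralizer (Subgroup.zpowers d : Set G) :=
    le_centralizer_of_comm (comm_zpowers (hdH h hh).symm)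
  exact Subgroup.centralizer_le_normalizer _ (this (Subgroup.mem_zpowers h))

/-- **NA for `V₄`**: a `2`-element centralizing `H` and normalizing the four-group
`K = ⁅K, H⁆` centralizes `K` -/
theorem IsV4.centralized [Finite G] {K H : Subgroup G} (hK : IsV4 K)
    (hHK : H ≤ Subgroup.normalizer (K : Set G)) (hKH : ⁅K, H⁆ = K) {d : G}
    (hdK : d ∈ Subgroup.normalizer (K : Set G)) (hdH : ∀ h ∈ H, d * h = h * d)
    (hd2 : ∃ n : ℕ, d ^ 2 ^ n = 1) : ∀ x ∈ K, d * x = x * d := by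
  obtain ⟨h1, h2, h3⟩ := comm_sub_props hK.isPGroup hK.ne_bot hHK hdK hdH hd2
  have hbot := hK.eq_bot_of_invariant h1 h2 h3 hHK hKH
  rw [Subgroup.commutator_eq_bot_iff_le_centralizer] at hbot
  intro x hx
  have := hbot hx
  rw [Subgroup.mem_centralizer_iff] at this
  exact this d (Subgroup.mem_zpowers d)

/-- **NA for `Q₈`**: a `2`-element centralizing `H` and normalizing the quaternion group
`K = ⁅K, H⁆` acts on `K` as an inner automorphism -/
theorem IsQ8.inner_of_centralizes [Finite G] {K H : Subgroup G} {z : G} (hK : IsQ8 K z)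
    (hHK : H ≤ Subgroup.normalizer (K : Set G)) (hKH : ⁅K, H⁆ = K) {d : G}
    (hdK : d ∈ Subgroup.normalizer (K : Set G)) (hdH : ∀ h ∈ H, d * h = h * d)
    (hd2 : ∃ n : ℕ, d ^ 2 ^ n = 1) :
    ∃ k ∈ K, ∀ x ∈ K, (k⁻¹ * d) * x = x * (k⁻¹ * d) := by
  obtain ⟨h1, h2, h3⟩ := comm_sub_props hK.isPGroup hK.ne_bot hHK hdK hdH hd2
  have hL := hK.le_center_of_invariant h1 h2 h3 hHK hKH
  apply hK.exists_inner
  intro x hx
  have hm : ⁅x⁻¹, d⁆ ∈ ⁅K, Subgroup.zpowers d⁆ :=
    Subgroup.commutator_mem_commutator (K.inv_mem hx) (Subgroup.mem_zpowers d)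
  have e : ⁅x⁻¹, d⁆ = x⁻¹ * (d * x * d⁻¹) := by
    rw [commutatorElement_def]; group
  rcases hL _ hm with h | h
  · left
    rw [e] at h
    calc d * x * d⁻¹ = x * (x⁻¹ * (d * x * d⁻¹)) := by group
      _ = x := by rw [h, mul_one]
  · right
    rw [e] at h
    calc d * x * d⁻¹ = x * (x⁻¹ * (d * x * d⁻¹)) := by group
      _ = x * z := by rw [h]

end Cfsg.Agent.Lib.Helper78.E8Q8
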