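import Mathlib
import Cfsg.Agent.Lib.Helper78.E8Q8
import Cfsg.Agent.Lib.Helper78.CenterMeet
import Cfsg.Agent.Lib.Helper04.SpecialCoprime
import Cfsg.Agent.Lib.Helper89.CycCover
import Cfsg.Agent.Lib.Helper66.AbelAct
import Cfsg.Agent.Lib.Helper20.UniqueInvolution
import Cfsg.Agent.Lib.Helper52.DihedralComplement
import Cfsg.Agent.Lib.Helper03.PGroupFrattini

set_option autoImplicit false
set_option linter.style.haveILetI false
set_option linter.unusedSectionVars false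
set_option linter.unusedVariables false

/-!
# Coprime action on `2`-groups without noncyclic abelian subgroups of order `8`, part 1
-/

namespace Cfsg.Agent.Lib.Helper78.E8Act

open Cfsg.Agent.Lib.Helper78.E8Basic Cfsg.Agent.Lib.Helper78.E8Q8
open scoped commutatorElement

variable {G : Type*} [Group G]

/-- a proper subgroup whose complement is closed under "product lands inside" has index two -/
theorem relIndex_two_of_prod {N K : Subgroup G} (hNK : N ≤ K) (hne : N ≠ K)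
    (hprod : ∀ k₁ ∈ K, ∀ k₂ ∈ K, k₁ ∉ N → k₂ ∉ N → k₁ * k₂ ∈ N) : N.relIndex K = 2 := by
  obtain ⟨y, hyK, hyN⟩ : ∃ y ∈ K, y ∉ N := by
    by_contra hcon
    push Not at hcon
    exact hne (le_antisymm hNK hcon)
  rw [Subgroup.relIndex, Subgroup.index_eq_two_iff_exists_notMem_and]
  refine ⟨⟨y, hyK⟩, ?_, fun b => ?_⟩
  · rw [Subgroup.mem_subgroupOf]; exact hyN
  · rw [Subgroup.mem_subgroupOf, Subgroup.mem_subgroupOf]
    by_cases hb : (b : G) ∈ N
    · exact Or.inr hb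
    · exact Or.inl (hprod b b.2 y hyK hb hyN)

/-- **Dichotomy** for a coprime action with `K = ⁅K, H⁆`: either `K` is special with centre
the fixed points, or some characteristic abelian subgroup is not centralized -/
theorem special_or_char [Finite G] {K H : Subgroup G} (hK : IsPGroup 2 ↥K)
    (hHK : H ≤ Subgroup.normalizer (K : Set G)) (hcop : (Nat.card ↥H).Coprime 2)
    (hKH : ⁅K, H⁆ = K) :
    ((frattini ↥K = Subgroup.center ↥K ∧ commutator ↥K = Subgroup.center ↥K) ∧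
       ∀ k : ↥K, (k ∈ Subgroup.center ↥K ↔ ∀ h ∈ H, h * (k : G) * h⁻¹ = k)) ∨
    (∃ C : Subgroup G, C ≤ K ∧ (∀ a ∈ C, ∀ b ∈ C, a * b = b * a) ∧
       Subgroup.normalizer (K : Set G) ≤ Subgroup.normalizer (C : Set G) ∧
       ¬ H ≤ Subgroup.centralizer (C : Set G)) := by
  set φ := Helper89.conjAct K H hHK with hφ
  have hφa : ∀ (a : ↥H) (y : ↥K), ((φ a y : ↥K) : G) = (a : G) * y * (a : G)⁻¹ :=
    Helper89.conjAct_apply K H hHK
  have hAc : (Nat.card ↥φ.range).Coprime 2 :=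
    Nat.Coprime.coprime_dvd_left (Subgroup.card_range_dvd φ) hcop
  have hGA : Subgroup.closure {x : ↥K | ∃ g : ↥K, ∃ a ∈ φ.range, x = g⁻¹ * a g} = ⊤ := by
    rw [eq_top_iff]
    intro x _
    have hx : (x : G) ∈ ⁅K, H⁆ := by rw [hKH]; exact x.2
    have hle : ⁅K, H⁆ ≤
        (Subgroup.closure {x : ↥K | ∃ g : ↥K, ∃ a ∈ φ.range, x = g⁻¹ * a g}).map K.subtype := by
      rw [Subgroup.commutator_le]
      intro k hk h hh
      refine ⟨(⟨k, hk⟩ : ↥K) * (φ ⟨h, hh⟩ ((⟨k, hk⟩ : ↥K)⁻¹)),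
        Subgroup.subset_closure ⟨(⟨k, hk⟩ : ↥K)⁻¹, φ ⟨h, hh⟩, ⟨⟨h, hh⟩, rfl⟩, by rw [inv_inv]⟩, ?_⟩
      rw [map_mul]
      show k * ((φ ⟨h, hh⟩ ((⟨k, hk⟩ : ↥K)⁻¹) : ↥K) : G) = ⁅k, h⁆
      rw [hφa, commutatorElement_def]
      show k * (h * k⁻¹ * h⁻¹) = k * h * k⁻¹ * h⁻¹
      group
    obtain ⟨y, hy, hyx⟩ := hle hx
    have : y = x := Subtype.ext hyx
    rw [← this]; exact hy
  by_cases hchar : ∀ C : Subgroup ↥K, C.Characteristic → IsMulCommutative C →
      ∀ a ∈ φ.range, ∀ c ∈ C, a c = c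
  · left
    obtain ⟨h1, h2⟩ := Helper04.special_of_coprime_action hK φ.range hAc hGA hchar
    refine ⟨h1, fun k => ?_⟩
    rw [h2 k]
    constructor
    · intro hfix h hh
      have := hfix (φ ⟨h, hh⟩) ⟨⟨h, hh⟩, rfl⟩
      rw [← hφa ⟨h, hh⟩ k, this]
    · rintro hfix _ ⟨⟨h, hh⟩, rfl⟩
      apply Subtype.ext
      rw [hφa]
      exact hfix h hh
  · right
    push Not at hchar
    obtain ⟨C, hCchar, hCcomm, _, ⟨⟨h, hh⟩, rfl⟩, c, hc, hne⟩ := hchar
    refine ⟨C.map K.subtype, Subgroup.map_subtype_le C, ?_, ?_, ?_⟩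
    · rintro _ ⟨a, ha, rfl⟩ _ ⟨b, hb, rfl⟩
      have := hCcomm.is_comm.comm (⟨a, ha⟩ : ↥C) ⟨b, hb⟩
      have := congrArg Subtype.val this
      exact congrArg Subtype.val this
    · haveI := hCchar
      exact Helper66.normalizer_le_normalizer_map_of_characteristic K C
    · intro hcen
      apply hne
      apply Subtype.ext
      rw [hφa]
      have hcm : (c : G) ∈ C.map K.subtype := ⟨c, hc, rfl⟩
      have := hcen hh
      rw [Subgroup.mem_centralizer_iff] at this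
      have e := this (c : G) hcm
      show h * (c : G) * h⁻¹ = c
      rw [← e, mul_assoc, mul_inv_cancel, mul_one]

/-- elementwise consequences of `Φ(K) = Z(K) = K'` -/
theorem special_elem [Finite G] {K : Subgroup G} (hK : IsPGroup 2 ↥K)
    (h1 : frattini ↥K = Subgroup.center ↥K) (h2 : commutator ↥K = Subgroup.center ↥K) :
    (∀ x ∈ K, ∀ y ∈ K, ∀ w ∈ K, (x * y * x⁻¹ * y⁻¹) * w = w * (x * y * x⁻¹ * y⁻¹)) ∧
    (∀ x ∈ K, ∀ w ∈ K, x ^ 2 * w = w * x ^ 2) ∧
    (∀ c ∈ K, (∀ w ∈ K, c * w = w * c) → c ^ 2 = 1) := by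
  have hcc : ∀ a b : ↥K, ⁅a, b⁆ ∈ Subgroup.center ↥K := by
    intro a b
    rw [← h2, commutator_def]
    exact Subgroup.commutator_mem_commutator (Subgroup.mem_top a) (Subgroup.mem_top b)
  have hsq : ∀ a : ↥K, a ^ 2 ∈ Subgroup.center ↥K := by
    intro a
    rw [← h1]
    exact Helper03.pow_mem_frattini_of_isPGroup hK a
  refine ⟨?_, ?_, ?_⟩
  · intro x hx y hy w hw
    have := Subgroup.mem_center_iff.mp (hcc ⟨x, hx⟩ ⟨y, hy⟩) ⟨w, hw⟩
    have := congrArg Subtype.val this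
    exact this.symm
  · intro x hx w hw
    have := Subgroup.mem_center_iff.mp (hsq ⟨x, hx⟩) ⟨w, hw⟩
    have := congrArg Subtype.val this
    exact this.symm
  · intro c hc hcw
    have hcZ : (⟨c, hc⟩ : ↥K) ∈ Subgroup.center ↥K := by
      rw [Subgroup.mem_center_iff]
      intro g
      exact Subtype.ext (hcw g g.2).symm
    let W : Subgroup ↥K :=
      { carrier := {g | g ∈ Subgroup.center ↥K ∧ g ^ 2 = 1}
        mul_mem' := by
          rintro a b ⟨ha, ha2⟩ ⟨hb, hb2⟩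
          refine ⟨Subgroup.mul_mem _ ha hb, ?_⟩
          have hcomm : Commute a b := (Subgroup.mem_center_iff.mp ha b).symm
          rw [hcomm.mul_pow, ha2, hb2, one_mul]
        one_mem' := ⟨Subgroup.one_mem _, one_pow 2⟩
        inv_mem' := by
          rintro a ⟨ha, ha2⟩
          exact ⟨Subgroup.inv_mem _ ha, by rw [inv_pow, ha2, inv_one]⟩ }
    have hle : commutator ↥K ≤ W := by
      rw [commutator_eq_closure, Subgroup.closure_le]
      rintro _ ⟨a, b, rfl⟩
      refine ⟨hcc a b, ?_⟩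
      have hz : Commute ⁅a, b⁆ a := (Subgroup.mem_center_iff.mp (hcc a b) a).symm
      rw [← Helper32.commutator_pow_left_of_central b a hz 2,
        commutatorElement_eq_one_iff_mul_comm]
      exact (Subgroup.mem_center_iff.mp (hsq a) b).symm
    rw [← h2] at hcZ
    have := (hle hcZ).2
    exact congrArg Subtype.val this

/-- a subgroup all of whose elements are fixed by `H` has trivial commutator with `H` -/
theorem commutator_eq_bot_of_fixed {K H : Subgroup G}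
    (h : ∀ k ∈ K, ∀ g ∈ H, g * k * g⁻¹ = k) : ⁅K, H⁆ = ⊥ := by
  rw [Subgroup.commutator_eq_bot_iff_le_centralizer]
  intro k hk
  rw [Subgroup.mem_centralizer_iff]
  intro g hg
  have := h k hk g hg
  calc g * k = g * k * g⁻¹ * g := by group
    _ = k * g := by rw [this]

/-- a noncentralized characteristic abelian subgroup without noncyclic abelian subgroups of
order `8` is a central four-group -/
theorem char_central [Finite G] {K H C : Subgroup G} (hK2 : ∀ y ∈ K, ∃ n : ℕ, y ^ 2 ^ n = 1)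
    (hKp : IsPGroup 2 ↥K) (hHK : H ≤ Subgroup.normalizer (K : Set G))
    (hcop : (Nat.card ↥H).Coprime 2) (hKH : ⁅K, H⁆ = K) (hFC : Free C) (hCK : C ≤ K)
    (hCc : ∀ a ∈ C, ∀ b ∈ C, a * b = b * a)
    (hNC : Subgroup.normalizer (K : Set G) ≤ Subgroup.normalizer (C : Set G))
    (hHC : ¬ H ≤ Subgroup.centralizer (C : Set G)) :
    ∃ a' ∈ C, ∃ b' ∈ C, a' ^ 2 = 1 ∧ b' ^ 2 = 1 ∧ a' ≠ 1 ∧ b' ≠ 1 ∧ a' ≠ b' ∧
      (∀ w ∈ K, a' * w = w * a') ∧ (∀ w ∈ K, b' * w = w * b') ∧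
      (∀ y ∈ C, y = 1 ∨ y = a' ∨ y = b' ∨ y = a' * b') := by
  have hCp : IsPGroup 2 ↥C := hKp.to_le hCK
  have hC2 : ∀ y ∈ C, ∃ n : ℕ, y ^ 2 ^ n = 1 := fun y hy => hK2 y (hCK hy)
  have hKN : K ≤ Subgroup.normalizer (C : Set G) := Subgroup.le_normalizer.trans hNC
  -- two involutions in `C`
  by_cases huniq : ∀ g h : ↥C, orderOf g = 2 → orderOf h = 2 → g = h
  · exfalso
    have hcyc := Helper20.isCyclic_of_unique_involution' (A := ↥C)
      (fun x y => Subtype.ext (hCc x x.2 y y.2)) hCp huniq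
    apply hHC
    intro g hg
    exact Helper52.mem_centralizer_of_cyclic_two C hcyc hCp g (hNC (hHK hg))
      (Nat.Coprime.coprime_dvd_left (H.orderOf_dvd_natCard hg) hcop)
  push Not at huniq
  obtain ⟨g, h, hg, hh, hgh⟩ := huniq
  have inv_of : ∀ g : ↥C, orderOf g = 2 → (g : G) ^ 2 = 1 ∧ (g : G) ≠ 1 := by
    intro g hg
    constructor
    · have := pow_orderOf_eq_one g
      rw [hg] at this
      exact congrArg Subtype.val this
    · intro h1
      have : g = 1 := Subtype.ext h1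
      rw [this, orderOf_one] at hg
      omega
  obtain ⟨ha2, ha1⟩ := inv_of g hg
  obtain ⟨hb2, hb1⟩ := inv_of h hh
  have hab : (g : G) ≠ h := fun e => hgh (Subtype.ext e)
  have hC4 := four_of_central hFC hC2 g.2 h.2 ha2 hb2 ha1 hb1 hab
    (fun y hy => hCc _ g.2 y hy) (fun y hy => hCc _ h.2 y hy)
  have hCsq : ∀ y ∈ C, y ^ 2 = 1 := by
    intro y hy
    rcases hC4 y hy with rfl | rfl | rfl | rfl
    · exact one_pow 2
    · exact ha2
    · exact hb2
    · have hc : Commute (g : G) h := hCc _ g.2 _ h.2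
      rw [hc.mul_pow, ha2, hb2, one_mul]
  -- a central involution
  obtain ⟨a', ha'C, ha'1, ha'Z⟩ : ∃ a' ∈ C, a' ≠ 1 ∧ ∀ w ∈ K, a' * w = w * a' := by
    haveI : Group.IsNilpotent ↥K := hKp.isNilpotent
    haveI : (C.subgroupOf K).Normal := Subgroup.normal_subgroupOf_of_le_normalizer hKN
    have hne : C.subgroupOf K ≠ ⊥ := by
      intro hb
      have : (⟨(g : G), hCK g.2⟩ : ↥K) ∈ C.subgroupOf K := by
        rw [Subgroup.mem_subgroupOf]; exact g.2
      rw [hb, Subgroup.mem_bot] at this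
      exact ha1 (congrArg Subtype.val this)
    obtain ⟨x, hxC, hxZ, hx1⟩ := Helper78.exists_center_mem_of_normal (C.subgroupOf K) hne
    refine ⟨(x : G), Subgroup.mem_subgroupOf.mp hxC, fun e => hx1 (Subtype.ext e), ?_⟩
    intro w hw
    have := Subgroup.mem_center_iff.mp hxZ ⟨w, hw⟩
    exact (congrArg Subtype.val this).symm
  obtain ⟨b', hb'C, hb'1, hb'a⟩ : ∃ b' ∈ C, b' ≠ 1 ∧ b' ≠ a' := by
    by_cases e : a' = g
    · exact ⟨h, h.2, hb1, fun e' => hab (e.symm.trans e'.symm)⟩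
    · exact ⟨g, g.2, ha1, fun e' => e e'.symm⟩
  have hC4' := four_of_central hFC hC2 ha'C hb'C (hCsq a' ha'C) (hCsq b' hb'C) ha'1 hb'1
    (Ne.symm hb'a) (fun y hy => hCc _ ha'C y hy) (fun y hy => hCc _ hb'C y hy)
  -- the centralizer of `C` in `K`
  have hmemN : ∀ k ∈ K, k * b' = b' * k → k ∈ K ⊓ Subgroup.centralizer (C : Set G) := by
    intro k hk hkb
    refine Subgroup.mem_inf.mpr ⟨hk, ?_⟩
    rw [Subgroup.mem_centralizer_iff]
    intro c hc
    have hka : a' * k = k * a' := ha'Z k hk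
    rcases hC4' c hc with rfl | rfl | rfl | rfl
    · rw [one_mul, mul_one]
    · exact hka
    · exact hkb.symm
    · rw [mul_assoc, ← hkb, ← mul_assoc, hka, mul_assoc]
  have hconj : ∀ k ∈ K, k ∉ K ⊓ Subgroup.centralizer (C : Set G) → k * b' * k⁻¹ = a' * b' := by
    intro k hk hkN
    have hm : k * b' * k⁻¹ ∈ C := (Subgroup.mem_normalizer_iff.mp (hKN hk) b').mp hb'C
    rcases hC4' _ hm with e | e | e | e
    · exfalso
      apply hb'1
      calc b' = k⁻¹ * (k * b' * k⁻¹) * k := by group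
        _ = 1 := by rw [e]; group
    · exfalso
      apply hb'a
      calc b' = k⁻¹ * (k * b' * k⁻¹) * k := by group
        _ = k⁻¹ * (a' * k) := by rw [e, mul_assoc]
        _ = a' := by rw [ha'Z k hk]; group
    · exfalso
      apply hkN
      apply hmemN k hk
      calc k * b' = k * b' * k⁻¹ * k := by group
        _ = b' * k := by rw [e]
    · exact e
  have hNK : K ⊓ Subgroup.centralizer (C : Set G) = K := by
    by_contra hne
    have h2 : (K ⊓ Subgroup.centralizer (C : Set G)).relIndex K = 2 := by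
      apply relIndex_two_of_prod inf_le_left hne
      intro k₁ hk₁ k₂ hk₂ hn₁ hn₂
      apply hmemN _ (K.mul_mem hk₁ hk₂)
      have e₁ := hconj k₁ hk₁ hn₁
      have e₂ := hconj k₂ hk₂ hn₂
      have ha'a' : a' * a' = 1 := by rw [← pow_two]; exact hCsq a' ha'C
      have : k₁ * k₂ * b' * (k₁ * k₂)⁻¹ = b' := by
        calc k₁ * k₂ * b' * (k₁ * k₂)⁻¹ = k₁ * (k₂ * b' * k₂⁻¹) * k₁⁻¹ := by group
          _ = k₁ * (a' * b') * k₁⁻¹ := by rw [e₂]
          _ = (k₁ * a') * b' * k₁⁻¹ := by group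
          _ = (a' * k₁) * b' * k₁⁻¹ := by rw [ha'Z k₁ hk₁]
          _ = a' * (k₁ * b' * k₁⁻¹) := by group
          _ = a' * (a' * b') := by rw [e₁]
          _ = b' := by rw [← mul_assoc, ha'a', one_mul]
      calc k₁ * k₂ * b' = k₁ * k₂ * b' * (k₁ * k₂)⁻¹ * (k₁ * k₂) := by group
        _ = b' * (k₁ * k₂) := by rw [this]
    have hHN : H ≤ Subgroup.normalizer
        ((K ⊓ Subgroup.centralizer (C : Set G) : Subgroup G) : Set G) :=
      Helper31.le_normalizer_inf' hHK (Helper31.le_normalizer_centralizer' (hHK.trans hNC))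
    have := idx2 inf_le_left h2 hHN hHK
    rw [hKH] at this
    exact hne (le_antisymm inf_le_left this)
  have hb'Z : ∀ w ∈ K, b' * w = w * b' := by
    intro w hw
    have : w ∈ K ⊓ Subgroup.centralizer (C : Set G) := by rw [hNK]; exact hw
    have := (Subgroup.mem_inf.mp this).2
    rw [Subgroup.mem_centralizer_iff] at this
    exact this b' hb'C
  exact ⟨a', ha'C, b', hb'C, hCsq a' ha'C, hCsq b' hb'C, ha'1, hb'1, Ne.symm hb'a, ha'Z, hb'Z,
    hC4'⟩

/-- **Lemma K, characteristic case** -/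
theorem lemmaK_char [Finite G] {K H C : Subgroup G} (hK2 : ∀ y ∈ K, ∃ n : ℕ, y ^ 2 ^ n = 1)
    (hKp : IsPGroup 2 ↥K) (hHK : H ≤ Subgroup.normalizer (K : Set G))
    (hcop : (Nat.card ↥H).Coprime 2) (hKH : ⁅K, H⁆ = K) (hF : Free K) (hCK : C ≤ K)
    (hCc : ∀ a ∈ C, ∀ b ∈ C, a * b = b * a)
    (hNC : Subgroup.normalizer (K : Set G) ≤ Subgroup.normalizer (C : Set G))
    (hHC : ¬ H ≤ Subgroup.centralizer (C : Set G)) : IsV4 K := by
  obtain ⟨a', ha'C, b', hb'C, ha'2, hb'2, ha'1, hb'1, hab', ha'Z, hb'Z, _⟩ :=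
    char_central hK2 hKp hHK hcop hKH (hF.mono hCK) hCK hCc hNC hHC
  have hel := four_of_central hF hK2 (hCK ha'C) (hCK hb'C) ha'2 hb'2 ha'1 hb'1 hab'
    ha'Z hb'Z
  refine ⟨card_four_of_central hF hK2 (hCK ha'C) (hCK hb'C) ha'2 hb'2 ha'1 hb'1 hab'
    ha'Z hb'Z, ?_⟩
  intro x hx
  rcases hel x hx with rfl | rfl | rfl | rfl
  · exact one_pow 2
  · exact ha'2
  · exact hb'2
  · have hc : Commute a' b' := ha'Z b' (hCK hb'C)
    rw [hc.mul_pow, ha'2, hb'2, one_mul]

end Cfsg.Agent.Lib.Helper78.E8Act
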