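import Mathlib
import Cfsg.Agent.Lib.Helper78.E8Act1
import Cfsg.Agent.Lib.Helper01.Commutator
import Cfsg.Agent.Lib.Helper32.CoprimeDecomp
import Cfsg.Agent.Lib.Helper68.MetaActC

set_option autoImplicit false
set_option linter.style.haveILetI false
set_option linter.unusedSectionVars false
set_option linter.unusedVariables false
set_option maxHeartbeats 1000000

/-!
# Coprime action on `2`-groups without noncyclic abelian subgroups of order `8`, part 2
-/

namespace Cfsg.Agent.Lib.Helper78.E8Act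

open Cfsg.Agent.Lib.Helper78.E8Basic Cfsg.Agent.Lib.Helper78.E8Q8
open scoped commutatorElement

variable {G : Type*} [Group G]

/-- an element of odd order whose square commutes with `x` commutes with `x` -/
theorem comm_of_sq_comm [Finite G] {h x : G} (hodd : (orderOf h).Coprime 2)
    (hc : (h * h) * x = x * (h * h)) : h * x = x * h := by
  obtain ⟨m, hm⟩ := Nat.coprime_two_right.mp hodd
  have e : (h * h) ^ (m + 1) = h := by
    rw [← pow_two, ← pow_mul]
    have : 2 * (m + 1) = orderOf h + 1 := by omega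
    rw [this, pow_succ, pow_orderOf_eq_one, one_mul]
  have := Commute.pow_left (show Commute (h * h) x from hc) (m + 1)
  rw [e] at this
  exact this.eq

/-- normalizing a cyclic subgroup, elementwise -/
theorem mem_normalizer_zpowers {g c : G} (h1 : g * c * g⁻¹ ∈ Subgroup.zpowers c)
    (h2 : g⁻¹ * c * g ∈ Subgroup.zpowers c) :
    g ∈ Subgroup.normalizer (Subgroup.zpowers c : Set G) := by
  rw [Subgroup.mem_normalizer_iff]
  intro y
  constructor
  · intro hy
    obtain ⟨k, rfl⟩ := Subgroup.mem_zpowers_iff.mp hy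
    rw [← conj_zpow]
    exact Subgroup.zpow_mem _ h1 k
  · intro hy
    obtain ⟨k, hk⟩ := Subgroup.mem_zpowers_iff.mp hy
    have : y = (g⁻¹ * c * g) ^ k := by
      have e : g⁻¹ * c * g = g⁻¹ * c * g⁻¹⁻¹ := by rw [inv_inv]
      rw [e, conj_zpow, hk]; group
    rw [this]
    exact Subgroup.zpow_mem _ h2 k

/-- **Lemma K, special case** -/
theorem lemmaK_special [Finite G] {K H : Subgroup G} (hK2 : ∀ y ∈ K, ∃ n : ℕ, y ^ 2 ^ n = 1)
    (hKp : IsPGroup 2 ↥K) (hHK : H ≤ Subgroup.normalizer (K : Set G))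
    (hcop : (Nat.card ↥H).Coprime 2) (hKH : ⁅K, H⁆ = K) (hF : Free K) (hKne : K ≠ ⊥)
    (hfr : frattini ↥K = Subgroup.center ↥K) (hcm : commutator ↥K = Subgroup.center ↥K)
    (hfix : ∀ k : ↥K, (k ∈ Subgroup.center ↥K ↔ ∀ h ∈ H, h * (k : G) * h⁻¹ = k)) :
    ∃ z, IsQ8 K z := by
  obtain ⟨hcomC, hsqC, hcen2⟩ := special_elem hKp hfr hcm
  have hZfix : ∀ k ∈ K, (∀ w ∈ K, k * w = w * k) ↔ ∀ h ∈ H, h * k * h⁻¹ = k := by
    intro k hk
    rw [← hfix ⟨k, hk⟩, Subgroup.mem_center_iff]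
    constructor
    · intro h g; exact Subtype.ext (h g g.2).symm
    · intro h w hw; exact (congrArg Subtype.val (h ⟨w, hw⟩)).symm
  obtain ⟨t, htK, ht1, htZ⟩ : ∃ t ∈ K, t ≠ 1 ∧ ∀ w ∈ K, t * w = w * t := by
    haveI : Nontrivial ↥K := (Subgroup.nontrivial_iff_ne_bot K).mpr hKne
    haveI := hKp.center_nontrivial
    obtain ⟨x, hx⟩ := exists_ne (1 : ↥(Subgroup.center ↥K))
    refine ⟨((x : ↥K) : G), (x : ↥K).2, ?_, ?_⟩
    · intro e
      apply hx
      apply Subtype.ext
      apply Subtype.ext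
      exact e
    · intro w hw
      have := Subgroup.mem_center_iff.mp x.2 ⟨w, hw⟩
      exact (congrArg Subtype.val this).symm
  have ht2 : t ^ 2 = 1 := hcen2 t htK htZ
  have htt : t * t = 1 := by rw [← pow_two]; exact ht2
  have hnotall : ¬ ∀ k ∈ K, ∀ w ∈ K, k * w = w * k := by
    intro hall
    have : ⁅K, H⁆ = ⊥ :=
      commutator_eq_bot_of_fixed (fun k hk g hg => (hZfix k hk).mp (hall k hk) g hg)
    rw [hKH] at this
    exact hKne this
  have hZ : ∀ c ∈ K, (∀ w ∈ K, c * w = w * c) → c = 1 ∨ c = t := by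
    intro c hc hcZ
    by_contra hcon
    push Not at hcon
    have hc2 := hcen2 c hc hcZ
    have hel := four_of_central hF hK2 htK hc ht2 hc2 ht1 hcon.1 (Ne.symm hcon.2) htZ hcZ
    apply hnotall
    intro k hk w hw
    rcases hel k hk with rfl | rfl | rfl | rfl
    · rw [one_mul, mul_one]
    · exact htZ w hw
    · exact hcZ w hw
    · rw [mul_assoc, hcZ w hw, ← mul_assoc, htZ w hw, mul_assoc]
  have hconjt : ∀ y ∈ K, y * t * y⁻¹ = t := by
    intro y hy
    rw [← htZ y hy, mul_assoc, mul_inv_cancel, mul_one]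
  have hconj : ∀ w ∈ K, ∀ y ∈ K, y * w * y⁻¹ = w ∨ y * w * y⁻¹ = w * t := by
    intro w hw y hy
    rcases hZ _ (K.mul_mem (K.mul_mem (K.mul_mem hy hw) (K.inv_mem hy)) (K.inv_mem hw))
      (hcomC y hy w hw) with e | e
    · left
      calc y * w * y⁻¹ = (y * w * y⁻¹ * w⁻¹) * w := by group
        _ = w := by rw [e, one_mul]
    · right
      calc y * w * y⁻¹ = (y * w * y⁻¹ * w⁻¹) * w := by group
        _ = t * w := by rw [e]
        _ = w * t := htZ w hw
  have hsq : ∀ x ∈ K, x ^ 2 = 1 ∨ x ^ 2 = t := fun x hx => hZ (x ^ 2) (K.pow_mem hx 2) (hsqC x hx)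
  have hconj' : ∀ w ∈ K, ∀ y ∈ K, y * w ≠ w * y → y * w * y⁻¹ = w * t := by
    intro w hw y hy hn
    refine (hconj w hw y hy).resolve_left (fun e => hn ?_)
    calc y * w = y * w * y⁻¹ * y := by group
      _ = w * y := by rw [e]
  have hprod : ∀ w ∈ K, ∀ y₁ ∈ K, ∀ y₂ ∈ K, y₁ * w ≠ w * y₁ → y₂ * w ≠ w * y₂ →
      (y₁ * y₂) * w = w * (y₁ * y₂) := by
    intro w hw y₁ h₁ y₂ h₂ n₁ n₂
    have e₁ := hconj' w hw y₁ h₁ n₁
    have e₂ := hconj' w hw y₂ h₂ n₂
    have : (y₁ * y₂) * w * (y₁ * y₂)⁻¹ = w := by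
      calc (y₁ * y₂) * w * (y₁ * y₂)⁻¹ = y₁ * (y₂ * w * y₂⁻¹) * y₁⁻¹ := by group
        _ = y₁ * (w * t) * y₁⁻¹ := by rw [e₂]
        _ = (y₁ * w * y₁⁻¹) * (y₁ * t * y₁⁻¹) := by group
        _ = w * t * t := by rw [e₁, hconjt y₁ h₁]
        _ = w := by rw [mul_assoc, htt, mul_one]
    calc (y₁ * y₂) * w = ((y₁ * y₂) * w * (y₁ * y₂)⁻¹) * (y₁ * y₂) := by group
      _ = w * (y₁ * y₂) := by rw [this]
  have hnc : ∀ x ∈ K, ¬ (∀ w ∈ K, x * w = w * x) → x ≠ 1 ∧ x ≠ t := by
    intro x hx hxZ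
    constructor
    · rintro rfl
      exact hxZ (fun w _ => by rw [one_mul, mul_one])
    · rintro rfl
      exact hxZ htZ
  have hcent : ∀ x ∈ K, ¬ (∀ w ∈ K, x * w = w * x) → ∀ y ∈ K, y * x = x * y →
      y = 1 ∨ y = t ∨ y = x ∨ y = x * t := by
    intro x hx hxZ y hy hyx
    obtain ⟨hx1, hxt⟩ := hnc x hx hxZ
    rcases hsq x hx with ex | ex
    · rcases hsq y hy with ey | ey
      · rcases hF.e2 hx htK hy ex ht2 ey (htZ x hx).symm hyx.symm (htZ y hy) hx1 ht1 hxt
          with e | e | e | e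
        · exact Or.inl e
        · exact Or.inr (Or.inr (Or.inl e))
        · exact Or.inr (Or.inl e)
        · exact Or.inr (Or.inr (Or.inr e))
      · exfalso
        have h4 : y ^ 4 = 1 := by rw [show 4 = 2 * 2 from rfl, pow_mul, ey, ht2]
        have h2 : y ^ 2 ≠ 1 := by rw [ey]; exact ht1
        rcases hF.e1 hy hx h4 h2 ex hyx with e | e
        · exact hx1 e
        · exact hxt (e.trans ey)
    · have h4 : x ^ 4 = 1 := by rw [show 4 = 2 * 2 from rfl, pow_mul, ex, ht2]
      have h2 : x ^ 2 ≠ 1 := by rw [ex]; exact ht1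
      rcases hsq y hy with ey | ey
      · rcases hF.e1 hx hy h4 h2 ey hyx.symm with e | e
        · exact Or.inl e
        · exact Or.inr (Or.inl (e.trans ex))
      · have hxy2 : (x * y) ^ 2 = 1 := by
          have hc : Commute x y := hyx.symm
          rw [hc.mul_pow, ex, ey, htt]
        have hcomm : x * (x * y) = (x * y) * x := by
          rw [mul_assoc, hyx]
        rcases hF.e1 hx (K.mul_mem hx hy) h4 h2 hxy2 hcomm with e | e
        · right; right; right
          have : y = x⁻¹ := eq_inv_of_mul_eq_one_right e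
          rw [this, inv_eq_iff_mul_eq_one, ← mul_assoc, ← pow_two, ex, htt]
        · right; right; left
          rw [pow_two] at e
          exact mul_left_cancel e
  -- cyclic subgroups of order four have index two
  have hidx : ∀ c ∈ K, c ^ 2 = t → (Subgroup.zpowers c).relIndex K = 2 ∧
      (∀ y ∈ K, y ∉ Subgroup.zpowers c → y * c ≠ c * y) := by
    intro c hc hc2
    have hcZ : ¬ (∀ w ∈ K, c * w = w * c) := by
      intro h
      rcases hZ c hc h with e | e
      · rw [e, one_pow] at hc2; exact ht1 hc2.symm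
      · rw [e, ht2] at hc2; exact ht1 hc2.symm
    have hsub : ∀ y ∈ K, y * c = c * y → y ∈ Subgroup.zpowers c := by
      intro y hy hyc
      rcases hcent c hc hcZ y hy hyc with e | e | e | e
      · rw [e]; exact Subgroup.one_mem _
      · rw [e, ← hc2]; exact Subgroup.pow_mem _ (Subgroup.mem_zpowers c) 2
      · rw [e]; exact Subgroup.mem_zpowers c
      · rw [e, ← hc2]
        exact Subgroup.mul_mem _ (Subgroup.mem_zpowers c)
          (Subgroup.pow_mem _ (Subgroup.mem_zpowers c) 2)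
    have hout : ∀ y ∈ K, y ∉ Subgroup.zpowers c → y * c ≠ c * y :=
      fun y hy hn e => hn (hsub y hy e)
    refine ⟨?_, hout⟩
    apply relIndex_two_of_prod (Subgroup.zpowers_le.mpr hc)
    · intro e
      apply hnotall
      intro k hk w hw
      rw [← e] at hk hw
      exact comm_zpowers_self c k hk w hw
    · intro k₁ hk₁ k₂ hk₂ hn₁ hn₂
      exact hsub _ (K.mul_mem hk₁ hk₂) (hprod c hc k₁ hk₁ k₂ hk₂ (hout k₁ hk₁ hn₁) (hout k₂ hk₂ hn₂))
  -- no noncentral involutions
  have hnoinv : ∀ x ∈ K, ¬ (∀ w ∈ K, x * w = w * x) → x ^ 2 = t := by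
    intro x hx hxZ
    by_contra hne
    have hx2 : x ^ 2 = 1 := (hsq x hx).resolve_right hne
    have hxx : x * x = 1 := by rw [← pow_two]; exact hx2
    obtain ⟨hx1, hxt⟩ := hnc x hx hxZ
    have hmv : ¬ ∀ h ∈ H, h * x * h⁻¹ = x := fun hh => hxZ ((hZfix x hx).mpr hh)
    push Not at hmv
    obtain ⟨h, hh, hmove⟩ := hmv
    have htfix : ∀ g ∈ H, g * t * g⁻¹ = t := (hZfix t htK).mp htZ
    have hx'K : h * x * h⁻¹ ∈ K := (Subgroup.mem_normalizer_iff.mp (hHK hh) x).mp hx
    have hx'2 : (h * x * h⁻¹) ^ 2 = 1 := by rw [conj_pow, hx2]; group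
    have hx'x' : (h * x * h⁻¹) * (h * x * h⁻¹) = 1 := by rw [← pow_two]; exact hx'2
    have hx'1 : h * x * h⁻¹ ≠ 1 := by
      intro e
      apply hx1
      calc x = h⁻¹ * (h * x * h⁻¹) * h := by group
        _ = 1 := by rw [e]; group
    have hx't : h * x * h⁻¹ ≠ t := by
      intro e
      apply hxt
      have e2 : h⁻¹ * t * h⁻¹⁻¹ = t := htfix h⁻¹ (H.inv_mem hh)
      calc x = h⁻¹ * (h * x * h⁻¹) * h⁻¹⁻¹ := by group
        _ = t := by rw [e, e2]
    have hx'xt : h * x * h⁻¹ ≠ x * t := by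
      intro e
      apply hmove
      have hc : (h * h) * x = x * (h * h) := by
        have : (h * h) * x * (h * h)⁻¹ = x := by
          calc (h * h) * x * (h * h)⁻¹ = h * (h * x * h⁻¹) * h⁻¹ := by group
            _ = h * (x * t) * h⁻¹ := by rw [e]
            _ = (h * x * h⁻¹) * (h * t * h⁻¹) := by group
            _ = x * t * t := by rw [e, htfix h hh]
            _ = x := by rw [mul_assoc, htt, mul_one]
        calc (h * h) * x = ((h * h) * x * (h * h)⁻¹) * (h * h) := by group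
          _ = x * (h * h) := by rw [this]
      have := comm_of_sq_comm
        (Nat.Coprime.coprime_dvd_left (H.orderOf_dvd_natCard hh) hcop) hc
      rw [this, mul_assoc, mul_inv_cancel, mul_one]
    have hncomm : (h * x * h⁻¹) * x ≠ x * (h * x * h⁻¹) := by
      intro e
      rcases hcent x hx hxZ _ hx'K e with e' | e' | e' | e'
      · exact hx'1 e'
      · exact hx't e'
      · exact hmove e'
      · exact hx'xt e'
    -- abbreviate
    obtain ⟨x', hx'def⟩ : ∃ x' : G, x' = h * x * h⁻¹ := ⟨_, rfl⟩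
    rw [← hx'def] at hx'K hx'2 hx'x' hx'1 hx't hx'xt hncomm
    have hx'inv : x'⁻¹ = x' := inv_eq_self_of_sq hx'2
    have hxinv : x⁻¹ = x := inv_eq_self_of_sq hx2
    have ec : x' * x * x'⁻¹ = x * t := hconj' x hx x' hx'K hncomm
    have hcK : x * x' ∈ K := K.mul_mem hx hx'K
    have hc2 : (x * x') ^ 2 = t := by
      rw [pow_two]
      calc x * x' * (x * x') = x * (x' * x * x'⁻¹) := by rw [hx'inv]; group
        _ = x * (x * t) := by rw [ec]
        _ = t := by rw [← mul_assoc, hxx, one_mul]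
    obtain ⟨hi2, hout⟩ := hidx (x * x') hcK hc2
    -- `x` does not commute with `c = x x'`
    have e1 : x * (x * x') = x' := by rw [← mul_assoc, hxx, one_mul]
    have hxc : x * (x * x') ≠ (x * x') * x := by
      intro e
      apply hncomm
      rw [e1] at e
      calc x' * x = x * x' * x * x := by conv_lhs => rw [e]
        _ = x * x' := by rw [mul_assoc, hxx, mul_one]
    have hcZ : ¬ (∀ w ∈ K, (x * x') * w = w * (x * x')) := fun hh => hxc (hh x hx).symm
    have hsqs : ∀ v : G, v = x ∨ v = x * t ∨ v = x' ∨ v = x' * t → v ^ 2 = 1 := by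
      intro v hv
      rcases hv with e | e | e | e
      · rw [e]; exact hx2
      · have hc : Commute x t := (htZ x hx).symm
        rw [e, hc.mul_pow, hx2, ht2, one_mul]
      · rw [e]; exact hx'2
      · have hc : Commute x' t := (htZ x' hx'K).symm
        rw [e, hc.mul_pow, hx'2, ht2, one_mul]
    have hclaim : ∀ g ∈ H, g * (x * x') * g⁻¹ ∈ Subgroup.zpowers (x * x') := by
      intro g hg
      by_contra hn
      have hcgK : g * (x * x') * g⁻¹ ∈ K :=
        (Subgroup.mem_normalizer_iff.mp (hHK hg) (x * x')).mp hcK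
      have hcg2 : (g * (x * x') * g⁻¹) ^ 2 = t := by
        rw [conj_pow, hc2, htfix g hg]
      have hn' := hout _ hcgK hn
      have hcomm := hprod (x * x') hcK x hx _ hcgK hxc hn'
      have hcg : g * (x * x') * g⁻¹ = x * (x * (g * (x * x') * g⁻¹)) := by
        rw [← mul_assoc x x, hxx, one_mul]
      have : (g * (x * x') * g⁻¹) ^ 2 = 1 := by
        apply hsqs
        rcases hcent (x * x') hcK hcZ _ (K.mul_mem hx hcgK) hcomm with e | e | e | e
        · left; rw [hcg, e, mul_one]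
        · right; left; rw [hcg, e]
        · right; right; left
          exact mul_left_cancel e
        · right; right; right
          have e' : x * (g * (x * x') * g⁻¹) = x * (x' * t) := by rw [e, mul_assoc]
          exact mul_left_cancel e'
      rw [hcg2] at this
      exact ht1 this
    have hHN : H ≤ Subgroup.normalizer (Subgroup.zpowers (x * x') : Set G) := by
      intro g hg
      apply mem_normalizer_zpowers (hclaim g hg)
      have := hclaim g⁻¹ (H.inv_mem hg)
      rwa [inv_inv] at this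
    have hle := idx2 (Subgroup.zpowers_le.mpr hcK) hi2 hHN hHK
    rw [hKH] at hle
    exact hxc (comm_zpowers_self (x * x') x (hle hx) (x * x') (Subgroup.mem_zpowers _))
  -- conclusion
  push Not at hnotall
  obtain ⟨x, hx, w, hw, hxw⟩ := hnotall
  have hxZ : ¬ (∀ w ∈ K, x * w = w * x) := fun hh => hxw (hh w hw)
  have hx2 := hnoinv x hx hxZ
  obtain ⟨hi2, _⟩ := hidx x hx hx2
  have hcard := SectionRank.relIndex_mul_card (Subgroup.zpowers_le.mpr hx)
  have h4 : x ^ 4 = 1 := by rw [show 4 = 2 * 2 from rfl, pow_mul, hx2, ht2]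
  have h2 : x ^ 2 ≠ 1 := by rw [hx2]; exact ht1
  rw [hi2, Nat.card_zpowers, orderOf_eq_four h4 h2] at hcard
  refine ⟨t, ⟨hcard.symm, htK, ht1, ht2, htZ, ?_⟩⟩
  intro y hy hy1 hyt
  apply hnoinv y hy
  intro hyZ
  rcases hZ y hy hyZ with e | e
  · exact hy1 e
  · exact hyt e

/-- **Lemma K**: a nontrivial `2`-group `K = ⁅K, H⁆` (coprime action) without noncyclic abelian
subgroups of order `8` is a four-group or a quaternion group of order `8` -/
theorem lemmaK [Finite G] {K H : Subgroup G} (hKp : IsPGroup 2 ↥K)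
    (hHK : H ≤ Subgroup.normalizer (K : Set G)) (hcop : (Nat.card ↥H).Coprime 2)
    (hKH : ⁅K, H⁆ = K) (hF : Free K) (hKne : K ≠ ⊥) : IsV4 K ∨ ∃ z, IsQ8 K z := by
  have hK2 : ∀ y ∈ K, ∃ n : ℕ, y ^ 2 ^ n = 1 := by
    intro y hy
    obtain ⟨n, hn⟩ := hKp ⟨y, hy⟩
    exact ⟨n, congrArg Subtype.val hn⟩
  rcases special_or_char hKp hHK hcop hKH with ⟨⟨hfr, hcm⟩, hfix⟩ | ⟨C, hCK, hCc, hNC, hHC⟩
  · exact Or.inr (lemmaK_special hK2 hKp hHK hcop hKH hF hKne hfr hcm hfix)
  · exact Or.inl (lemmaK_char hK2 hKp hHK hcop hKH hF hCK hCc hNC hHC)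

/-- in a `2`-group without noncyclic abelian subgroups of order `8` a four-group is
self-centralizing -/
theorem isV4_centralizer_free [Finite G] {K Y : Subgroup G} (hK : IsV4 K) (hF : Free Y)
    (hKY : K ≤ Y) (hY2 : ∀ y ∈ Y, ∃ n : ℕ, y ^ 2 ^ n = 1) :
    ∀ c ∈ Y, (∀ x ∈ K, c * x = x * c) → c ∈ K := by
  classical
  intro c hc hcK
  obtain ⟨a, ha, ha'⟩ := Elem8.exists_not_mem_finset K ({1} : Finset G)
    (by rw [hK.card_eq, Finset.card_singleton]; norm_num)
  simp only [Finset.mem_singleton] at ha'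
  obtain ⟨b, hb, hb'⟩ := Elem8.exists_not_mem_finset K ({1, a} : Finset G)
    (by rw [hK.card_eq]; exact lt_of_le_of_lt Finset.card_le_two (by norm_num))
  simp only [Finset.mem_insert, Finset.mem_singleton, not_or] at hb'
  have hKc : ∀ x ∈ K, ∀ y ∈ Subgroup.zpowers c, x * y = y * x := by
    intro x hx y hy
    obtain ⟨k, rfl⟩ := Subgroup.mem_zpowers_iff.mp hy
    exact (Commute.zpow_right (show Commute x c from (hcK x hx).symm) k).eq
  have hcomm := comm_sup hK.comm (comm_zpowers_self c) hKc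
  have hle : K ⊔ Subgroup.zpowers c ≤ Y := sup_le hKY (Subgroup.zpowers_le.mpr hc)
  have haY : a ∈ K ⊔ Subgroup.zpowers c := (le_sup_left : K ≤ _) ha
  have hbY : b ∈ K ⊔ Subgroup.zpowers c := (le_sup_left : K ≤ _) hb
  have h4 := card_four_of_central (hF.mono hle) (fun y hy => hY2 y (hle hy)) haY hbY
    (hK.sq_eq a ha) (hK.sq_eq b hb) ha' hb'.1 (Ne.symm hb'.2)
    (fun y hy => hcomm a haY y hy) (fun y hy => hcomm b hbY y hy)
  have : K = K ⊔ Subgroup.zpowers c :=
    Subgroup.eq_of_le_of_card_ge le_sup_left (by rw [h4, hK.card_eq])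
  rw [this]
  exact (le_sup_right : Subgroup.zpowers c ≤ _) (Subgroup.mem_zpowers c)

/-- **Lemma A**: a `2`-group without noncyclic abelian subgroups of order `8` acted on
nontrivially by a group of odd order is a four-group or a quaternion group of order `8` -/
theorem lemmaA [Finite G] {T H : Subgroup G} (hTp : IsPGroup 2 ↥T)
    (hHT : H ≤ Subgroup.normalizer (T : Set G)) (hcop : (Nat.card ↥H).Coprime 2)
    (hF : Free T) (hne : ⁅T, H⁆ ≠ ⊥) : ⁅T, H⁆ = T ∧ (IsV4 T ∨ ∃ z, IsQ8 T z) := by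
  have hKT : ⁅T, H⁆ ≤ T := Helper16.KComm.commutator_le_left_of_normalizer hHT
  have hHK : H ≤ Subgroup.normalizer ((⁅T, H⁆ : Subgroup G) : Set G) :=
    Helper16.KComm.le_normalizer_commutator hHT
  have hTK : T ≤ Subgroup.normalizer ((⁅T, H⁆ : Subgroup G) : Set G) :=
    Helper01.le_normalizer_commutator_left T H
  have hcop' : (Nat.card ↥T).Coprime (Nat.card ↥H) := by
    obtain ⟨n, hn⟩ := IsPGroup.iff_card.mp hTp
    rw [hn]
    exact Nat.Coprime.pow_left n hcop.symm
  haveI : Group.IsNilpotent ↥T := hTp.isNilpotent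
  have hsolv : Group.IsSolvable ↥T := inferInstance
  have hKH : ⁅⁅T, H⁆, H⁆ = ⁅T, H⁆ :=
    Helper68.MA.commutator_commutator_eq_self T H hHT hcop' (Or.inl hsolv)
  have hT2 : ∀ y ∈ T, ∃ n : ℕ, y ^ 2 ^ n = 1 := by
    intro y hy
    obtain ⟨n, hn⟩ := hTp ⟨y, hy⟩
    exact ⟨n, congrArg Subtype.val hn⟩
  have hKp : IsPGroup 2 ↥(⁅T, H⁆ : Subgroup G) := hTp.to_le hKT
  have hK := lemmaK hKp hHK hcop hKH (hF.mono hKT) hne
  have hdecomp : T ≤ (T ⊓ Subgroup.centralizer (H : Set G)) ⊔ ⁅T, H⁆ :=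
    Helper32.le_centralizer_sup_commutator hHT hcop' (Or.inl hsolv)
  have hCK : T ⊓ Subgroup.centralizer (H : Set G) ≤ ⁅T, H⁆ := by
    intro d hd
    obtain ⟨hdT, hdH⟩ := Subgroup.mem_inf.mp hd
    rw [Subgroup.mem_centralizer_iff] at hdH
    have hdH' : ∀ h ∈ H, d * h = h * d := fun h hh => (hdH h hh).symm
    have hdK := hTK hdT
    rcases hK with hV | ⟨z, hQ⟩
    · exact isV4_centralizer_free hV hF hKT hT2 d hdT
        (hV.centralized hHK hKH hdK hdH' (hT2 d hdT))
    · obtain ⟨k, hk, hkc⟩ := hQ.inner_of_centralizes hHK hKH hdK hdH' (hT2 d hdT)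
      have hcT : k⁻¹ * d ∈ T := T.mul_mem (T.inv_mem (hKT hk)) hdT
      have hcK : k⁻¹ * d ∈ (⁅T, H⁆ : Subgroup G) := by
        rcases hQ.centralizer_free hF hKT hT2 _ hcT hkc with e | e
        · rw [e]; exact Subgroup.one_mem _
        · rw [e]; exact hQ.z_mem
      have : d = k * (k⁻¹ * d) := by group
      rw [this]
      exact Subgroup.mul_mem _ hk hcK
  have heq : ⁅T, H⁆ = T := le_antisymm hKT (hdecomp.trans (sup_le hCK le_rfl))
  refine ⟨heq, ?_⟩
  rw [heq] at hK
  exact hK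

end Cfsg.Agent.Lib.Helper78.E8Act
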