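import Mathlib
import Cfsg.Agent.Lib.Helper78.E8Act2
import Cfsg.Agent.Lib.Helper59.AutIndex
import Cfsg.Agent.Lib.Helper61.SolvableCore

set_option autoImplicit false
set_option linter.style.haveILetI false
set_option linter.unusedSectionVars false
set_option linter.unusedVariables false

/-!
# A self-centralizing normal four-group or quaternion group excludes noncyclic abelian
subgroups of order `8`
-/

namespace Cfsg.Agent.Lib.Helper78.E8Case2

open Cfsg.Agent.Lib.Helper78.E8Basic Cfsg.Agent.Lib.Helper78.E8Q8 Cfsg.Agent.Lib.Helper78.E8Act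
open scoped commutatorElement

variable {G : Type*} [Group G]

theorem isKleinFour_of_isV4 {T : Subgroup G} (h : IsV4 T) : IsKleinFour ↥T where
  card_four := h.card_eq
  exponent_two := by
    have h1 : Monoid.exponent ↥T ∣ 2 :=
      Monoid.exponent_dvd_of_forall_pow_eq_one (fun g => Subtype.ext (h.sq_eq g g.2))
    rcases (Nat.dvd_prime Nat.prime_two).mp h1 with h' | h'
    · exfalso
      have hsub : Subsingleton ↥T := Monoid.exp_eq_one_iff.mp h'
      have : Nat.card ↥T ≤ 1 := Finite.card_le_one_iff_subsingleton.mpr hsub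
      have := h.card_eq
      omega
    · exact h'

/-- `|G|` divides `|C_G(T)| |Aut T|` for a normal subgroup `T` -/
theorem card_dvd_of_normal [Finite G] (T : Subgroup G) [T.Normal] :
    Nat.card G ∣ Nat.card ↥(Subgroup.centralizer (T : Set G)) * Nat.card (MulAut ↥T) := by
  rw [← (Subgroup.centralizer (T : Set G)).card_mul_index]
  exact Nat.mul_dvd_mul dvd_rfl (Helper61.index_centralizer_dvd_card_mulAut T)

/-- the order of a `2`-subgroup of a group whose order divides `2 ^ a * 3` -/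
theorem card_two_sub_dvd [Finite G] {W : Subgroup G} (hW : IsPGroup 2 ↥W) {a : ℕ}
    (h : Nat.card G ∣ 2 ^ a * 3) : Nat.card ↥W ∣ 2 ^ a := by
  obtain ⟨k, hk⟩ := IsPGroup.iff_card.mp hW
  have h1 : Nat.card ↥W ∣ 2 ^ a * 3 := (Subgroup.card_subgroup_dvd_card _).trans h
  rw [hk] at h1 ⊢
  have : (2 ^ k).Coprime 3 := Nat.Coprime.pow_left k (by norm_num)
  exact this.dvd_of_dvd_mul_right h1

theorem v4_contra [Finite G] {T A : Subgroup G} [T.Normal] (hT : IsV4 T)
    (hC : Subgroup.centralizer (T : Set G) ≤ T) (hAc : ∀ a ∈ A, ∀ b ∈ A, a * b = b * a)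
    (hA8 : Nat.card ↥A = 8) : False := by
  haveI := isKleinFour_of_isV4 hT
  have h24 : Nat.card G ∣ 2 ^ 3 * 3 := by
    have h1 := card_dvd_of_normal T
    rw [Helper59.card_mulAut_klein] at h1
    have h2 : Nat.card ↥(Subgroup.centralizer (T : Set G)) ∣ 4 :=
      hT.card_eq ▸ Subgroup.card_dvd_of_le hC
    exact h1.trans ((Nat.mul_dvd_mul h2 (dvd_refl 6)).trans (by norm_num))
  have hAp : IsPGroup 2 ↥A := IsPGroup.of_card (n := 3) (by rw [hA8]; rfl)
  have hWp : IsPGroup 2 ↥(A ⊔ T) := hAp.to_sup_of_normal_right hT.isPGroup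
  have hW8 := card_two_sub_dvd hWp h24
  have hAW : A = A ⊔ T :=
    Subgroup.eq_of_le_of_card_ge le_sup_left
      (by rw [hA8]; exact Nat.le_of_dvd (by norm_num) hW8)
  have hTA : T ≤ A := by rw [hAW]; exact le_sup_right
  have hAC : A ≤ Subgroup.centralizer (T : Set G) := by
    intro a ha
    rw [Subgroup.mem_centralizer_iff]
    intro t ht
    exact hAc t (hTA ht) a ha
  have := Subgroup.card_le_of_le (hAC.trans hC)
  rw [hA8, hT.card_eq] at this
  omega

theorem q8_contra [Finite G] {T A : Subgroup G} {z : G} [hTn : T.Normal] (hT : IsQ8 T z)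
    (hC : Subgroup.centralizer (T : Set G) ≤ T) (hAc : ∀ a ∈ A, ∀ b ∈ A, a * b = b * a)
    (hAnc : ¬ IsCyclic ↥A) (hA8 : Nat.card ↥A = 8) : False := by
  classical
  have hz2 : z * z = 1 := by rw [← pow_two]; exact hT.z_sq
  -- the centralizer of `T` has order at most two
  have hCz : Subgroup.centralizer (T : Set G) ≤ Subgroup.zpowers z := by
    intro c hc
    have hcT := hC hc
    rw [Subgroup.mem_centralizer_iff] at hc
    rcases hT.center hcT (fun y hy => (hc y hy).symm) with e | e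
    · rw [e]; exact Subgroup.one_mem _
    · rw [e]; exact Subgroup.mem_zpowers z
  have h48 : Nat.card G ∣ 2 ^ 4 * 3 := by
    obtain ⟨e⟩ := hT.nonempty_equiv
    have h1 := card_dvd_of_normal T
    rw [Helper59.card_mulAut_q8 _ e] at h1
    have h2 : Nat.card ↥(Subgroup.centralizer (T : Set G)) ∣ 2 := by
      have := Subgroup.card_dvd_of_le hCz
      rwa [Nat.card_zpowers, orderOf_eq_two hT.z_sq hT.z_ne] at this
    exact h1.trans (by
      have := Nat.mul_dvd_mul h2 (dvd_refl 24)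
      exact this.trans (by norm_num))
  have hAp : IsPGroup 2 ↥A := IsPGroup.of_card (n := 3) (by rw [hA8]; rfl)
  have hWp : IsPGroup 2 ↥(A ⊔ T) := hAp.to_sup_of_normal_right hT.isPGroup
  have hW16 := card_two_sub_dvd hWp h48
  have hprod := Helper01.card_sup_mul_card_inf_of_le_normalizer T A
    (by rw [Subgroup.normalizer_eq_top]; exact le_top)
  rw [hT.card_eq, hA8] at hprod
  have hI4 : 4 ≤ Nat.card ↥(T ⊓ A) := by
    have hle : Nat.card ↥(A ⊔ T) ≤ 16 := Nat.le_of_dvd (by norm_num) hW16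
    by_contra hlt
    push Not at hlt
    have : Nat.card ↥(A ⊔ T) * Nat.card ↥(T ⊓ A) ≤ 16 * 3 :=
      Nat.mul_le_mul hle (by omega)
    omega
  obtain ⟨u, hu, hu'⟩ := Elem8.exists_not_mem_finset (T ⊓ A) ({1, z} : Finset G)
    (lt_of_le_of_lt Finset.card_le_two (by omega))
  simp only [Finset.mem_insert, Finset.mem_singleton, not_or] at hu'
  obtain ⟨huT, huA⟩ := Subgroup.mem_inf.mp hu
  -- an involution of `A` outside `T`
  obtain ⟨y, hyA, hy2, hy1, hyz⟩ : ∃ y ∈ A, y ^ 2 = 1 ∧ y ≠ 1 ∧ y ≠ z := by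
    by_cases huniq : ∀ g h : ↥A, orderOf g = 2 → orderOf h = 2 → g = h
    · exfalso
      exact hAnc (Helper20.isCyclic_of_unique_involution' (A := ↥A)
        (fun x y => Subtype.ext (hAc x x.2 y y.2)) hAp huniq)
    push Not at huniq
    obtain ⟨g, h, hg, hh, hgh⟩ := huniq
    have inv_of : ∀ g : ↥A, orderOf g = 2 → (g : G) ^ 2 = 1 ∧ (g : G) ≠ 1 := by
      intro g hg
      constructor
      · have := pow_orderOf_eq_one g
        rw [hg] at this
        exact congrArg Subtype.val this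
      · intro h1
        have : g = 1 := Subtype.ext h1
        rw [this, orderOf_one] at hg
        omega
    by_cases e : (g : G) = z
    · refine ⟨h, h.2, (inv_of h hh).1, (inv_of h hh).2, ?_⟩
      intro e'
      exact hgh (Subtype.ext (e.trans e'.symm))
    · exact ⟨g, g.2, (inv_of g hg).1, (inv_of g hg).2, e⟩
  have hyT : y ∉ T := by
    intro hyT
    rcases hT.invol hyT hy2 with e | e
    · exact hy1 e
    · exact hyz e
  have hyinv : y⁻¹ = y := inv_eq_self_of_sq hy2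
  have hyu : y * u = u * y := hAc y hyA u huA
  -- an element of `T` not commuting with `u`
  obtain ⟨j, hj, hju⟩ : ∃ j ∈ T, u * j ≠ j * u := by
    by_contra hcon
    push Not at hcon
    rcases hT.center huT hcon with e | e
    · exact hu'.1 e
    · exact hu'.2 e
  have hj'T : y * j * y⁻¹ ∈ T := hTn.conj_mem j hj y
  have hyuc : y * u * y⁻¹ = u := by rw [hyu, mul_assoc, mul_inv_cancel, mul_one]
  have hj'u : u * (y * j * y⁻¹) ≠ (y * j * y⁻¹) * u := by
    intro e
    apply hju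
    have e1 : y * (u * j) * y⁻¹ = u * (y * j * y⁻¹) := by
      calc y * (u * j) * y⁻¹ = (y * u * y⁻¹) * (y * j * y⁻¹) := by group
        _ = u * (y * j * y⁻¹) := by rw [hyuc]
    have e2 : y * (j * u) * y⁻¹ = (y * j * y⁻¹) * u := by
      calc y * (j * u) * y⁻¹ = (y * j * y⁻¹) * (y * u * y⁻¹) := by group
        _ = (y * j * y⁻¹) * u := by rw [hyuc]
    have : y * (u * j) * y⁻¹ = y * (j * u) * y⁻¹ := by rw [e1, e2, e]
    exact mul_left_cancel (mul_right_cancel this)
  -- `w = j⁻¹ j'` commutes with `u`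
  have c1 : u * j * u⁻¹ = j * z := hT.conj_eq hj huT (fun e => hju e.symm)
  have c2 : u * (y * j * y⁻¹) * u⁻¹ = (y * j * y⁻¹) * z :=
    hT.conj_eq hj'T huT (fun e => hj'u e.symm)
  have hwT : j⁻¹ * (y * j * y⁻¹) ∈ T := T.mul_mem (T.inv_mem hj) hj'T
  have hwu : u * (j⁻¹ * (y * j * y⁻¹)) = (j⁻¹ * (y * j * y⁻¹)) * u := by
    have : u * (j⁻¹ * (y * j * y⁻¹)) * u⁻¹ = j⁻¹ * (y * j * y⁻¹) := by
      calc u * (j⁻¹ * (y * j * y⁻¹)) * u⁻¹
          = (u * j * u⁻¹)⁻¹ * (u * (y * j * y⁻¹) * u⁻¹) := by group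
        _ = (j * z)⁻¹ * ((y * j * y⁻¹) * z) := by rw [c1, c2]
        _ = z⁻¹ * ((j⁻¹ * (y * j * y⁻¹)) * z) := by group
        _ = z⁻¹ * (z * (j⁻¹ * (y * j * y⁻¹))) := by rw [hT.z_comm _ hwT]
        _ = j⁻¹ * (y * j * y⁻¹) := by group
    calc u * (j⁻¹ * (y * j * y⁻¹)) = u * (j⁻¹ * (y * j * y⁻¹)) * u⁻¹ * u := by group
      _ = (j⁻¹ * (y * j * y⁻¹)) * u := by rw [this]
  have hwcases := hT.comm_cases huT hwT hu'.1 hu'.2 hwu
  -- `y` commutes with `w`
  have hyz' : y * z = z * y := by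
    have : z = u ^ 2 := (hT.sq_eq u huT hu'.1 hu'.2).symm
    rw [this, pow_two, ← mul_assoc, hyu, mul_assoc, hyu, mul_assoc]
  have hyw : y * (j⁻¹ * (y * j * y⁻¹)) * y⁻¹ = j⁻¹ * (y * j * y⁻¹) := by
    have comm : y * (j⁻¹ * (y * j * y⁻¹)) = (j⁻¹ * (y * j * y⁻¹)) * y := by
      rcases hwcases with e | e | e | e
      · rw [e, mul_one, one_mul]
      · rw [e]; exact hyz'
      · rw [e]; exact hyu
      · rw [e, ← mul_assoc, hyu, mul_assoc, hyz', mul_assoc]
    rw [comm, mul_assoc, mul_inv_cancel, mul_one]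
  have hyw' : y * (j⁻¹ * (y * j * y⁻¹)) * y⁻¹ = (j⁻¹ * (y * j * y⁻¹))⁻¹ := by
    have hyy : y * y = 1 := by rw [← pow_two]; exact hy2
    rw [hyinv]
    calc y * (j⁻¹ * (y * j * y)) * y = (y * j⁻¹ * y * j) * (y * y) := by group
      _ = y * j⁻¹ * y * j := by rw [hyy, mul_one]
      _ = (j⁻¹ * (y * j * y))⁻¹ := by
        rw [mul_inv_rev, mul_inv_rev, mul_inv_rev, inv_inv, hyinv]; group
  have hw2 : (j⁻¹ * (y * j * y⁻¹)) ^ 2 = 1 := by
    rw [pow_two]
    have : (j⁻¹ * (y * j * y⁻¹))⁻¹ = j⁻¹ * (y * j * y⁻¹) := by rw [← hyw', hyw]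
    calc (j⁻¹ * (y * j * y⁻¹)) * (j⁻¹ * (y * j * y⁻¹))
        = (j⁻¹ * (y * j * y⁻¹))⁻¹ * (j⁻¹ * (y * j * y⁻¹)) := by rw [this]
      _ = 1 := inv_mul_cancel _
  have hdj : y * j * y⁻¹ = j ∨ y * j * y⁻¹ = j * z := by
    rcases hT.invol hwT hw2 with e | e
    · left
      calc y * j * y⁻¹ = j * (j⁻¹ * (y * j * y⁻¹)) := by group
        _ = j := by rw [e, mul_one]
    · right
      calc y * j * y⁻¹ = j * (j⁻¹ * (y * j * y⁻¹)) := by group
        _ = j * z := by rw [e]
  obtain ⟨k, hk, hkc⟩ := hT.exists_inner_pair huT hj hju (Or.inl hyuc) hdj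
  have hcm : k⁻¹ * y ∈ Subgroup.centralizer (T : Set G) := by
    rw [Subgroup.mem_centralizer_iff]
    intro x hx
    exact (hkc x hx).symm
  have := hC hcm
  apply hyT
  have e : y = k * (k⁻¹ * y) := by group
  rw [e]
  exact T.mul_mem hk this

end Cfsg.Agent.Lib.Helper78.E8Case2
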