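import Mathlib
import Cfsg.Agent.Lib.Helper78.E8Act2
import Cfsg.Prelude.Def_Transfer

set_option autoImplicit false
set_option linter.style.haveILetI false
set_option linter.unusedSectionVars false
set_option linter.unusedVariables false
set_option maxHeartbeats 1000000

/-!
# The minimal configuration: normal Sylow `2`-subgroup `X` with a Hall `2'`-subgroup `H`, part 1
-/

namespace Cfsg.Agent.Lib.Helper78.E8Min

open Cfsg.Agent.Lib.Helper78.E8Basic Cfsg.Agent.Lib.Helper78.E8Q8 Cfsg.Agent.Lib.Helper78.E8Act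
open scoped commutatorElement

variable {G : Type*} [Group G]

/-- the minimal configuration -/
structure MinSetting (X H A : Subgroup G) : Prop where
  hXp : IsPGroup 2 ↥X
  hHX : H ≤ Subgroup.normalizer (X : Set G)
  hcop : (Nat.card ↥H).Coprime 2
  hmin : ∀ Y : Subgroup G, Y ≤ X → Y ≠ X → H ≤ Subgroup.normalizer (Y : Set G) → Free Y
  hAX : A ≤ X
  hAc : ∀ a ∈ A, ∀ b ∈ A, a * b = b * a
  hAnc : ¬ IsCyclic ↥A
  hA8 : Nat.card ↥A = 8

theorem le_normalizer_sup_of {H A B : Subgroup G} (hA : H ≤ Subgroup.normalizer (A : Set G))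
    (hB : H ≤ Subgroup.normalizer (B : Set G)) :
    H ≤ Subgroup.normalizer ((A ⊔ B : Subgroup G) : Set G) := by
  intro h hh
  have h1 := Subgroup.mem_normalizer_iff_map_conj_eq.mp (hA hh)
  have h2 := Subgroup.mem_normalizer_iff_map_conj_eq.mp (hB hh)
  rw [Subgroup.mem_normalizer_iff_map_conj_eq, Subgroup.map_sup, h1, h2]

/-- the last power of a `2`-element outside a subgroup -/
theorem exists_sq_mem {K : Subgroup G} {d : G} (hd : d ∉ K) (hd2 : ∃ n : ℕ, d ^ 2 ^ n = 1) :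
    ∃ m : ℕ, d ^ 2 ^ m ∉ K ∧ (d ^ 2 ^ m) ^ 2 ∈ K := by
  classical
  have hex : ∃ n : ℕ, d ^ 2 ^ n ∈ K := by
    obtain ⟨n, hn⟩ := hd2
    exact ⟨n, by rw [hn]; exact K.one_mem⟩
  have h0 : Nat.find hex ≠ 0 := by
    intro h
    have := Nat.find_spec hex
    rw [h, pow_zero, pow_one] at this
    exact hd this
  obtain ⟨m, hm⟩ := Nat.exists_eq_succ_of_ne_zero h0
  refine ⟨m, ?_, ?_⟩
  · exact Nat.find_min hex (by omega)
  · have := Nat.find_spec hex
    rw [hm, pow_succ, pow_mul] at this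
    exact this

theorem MinSetting.notFree {X H A : Subgroup G} (h : MinSetting X H A) : ¬ Free X :=
  fun hF => hF ⟨A, h.hAX, isMulCommutative_of_comm h.hAc, h.hAnc, h.hA8⟩

theorem MinSetting.two_pow {X H A : Subgroup G} (h : MinSetting X H A) :
    ∀ y ∈ X, ∃ n : ℕ, y ^ 2 ^ n = 1 := by
  intro y hy
  obtain ⟨n, hn⟩ := h.hXp ⟨y, hy⟩
  exact ⟨n, congrArg Subtype.val hn⟩

/-- **Case `⁅X, H⁆ = 1`** -/
theorem MinSetting.case_bot [Finite G] {X H A : Subgroup G} (h : MinSetting X H A)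
    (hb : ⁅X, H⁆ = ⊥) : IsMulCommutative ↥X := by
  rw [Subgroup.commutator_eq_bot_iff_le_centralizer] at hb
  have hHA : H ≤ Subgroup.normalizer (A : Set G) := by
    intro g hg
    apply Subgroup.centralizer_le_normalizer
    rw [Subgroup.mem_centralizer_iff]
    intro a ha
    have := hb (h.hAX ha)
    rw [Subgroup.mem_centralizer_iff] at this
    exact (this g hg).symm
  have hAX : A = X := by
    by_contra hne
    exact h.hmin A h.hAX hne hHA ⟨A, le_rfl, isMulCommutative_of_comm h.hAc, h.hAnc, h.hA8⟩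
  rw [← hAX]
  exact isMulCommutative_of_comm h.hAc

/-- **Case `1 < ⁅X, H⁆ < X`** -/
theorem MinSetting.case_mid [Finite G] {X H A : Subgroup G} (h : MinSetting X H A)
    (hb : ⁅X, H⁆ ≠ ⊥) (hne : ⁅X, H⁆ ≠ X) :
    IsMulCommutative ↥X ∨
      ∃ (X₀ : Subgroup G) (k : ℕ), X₀ ≤ X ∧ X₀.relIndex X = 2 ∧
        Nonempty (↥X₀ ≃* QuaternionGroup (2 ^ (k + 1))) ∧
        X₀ ⊔ (X ⊓ Subgroup.centralizer (X₀ : Set G)) = X := by
  have hKX : ⁅X, H⁆ ≤ X := Helper16.KComm.commutator_le_left_of_normalizer h.hHX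
  have hHK : H ≤ Subgroup.normalizer ((⁅X, H⁆ : Subgroup G) : Set G) :=
    Helper16.KComm.le_normalizer_commutator h.hHX
  have hXK : X ≤ Subgroup.normalizer ((⁅X, H⁆ : Subgroup G) : Set G) :=
    Helper01.le_normalizer_commutator_left X H
  have hcop' : (Nat.card ↥X).Coprime (Nat.card ↥H) := by
    obtain ⟨n, hn⟩ := IsPGroup.iff_card.mp h.hXp
    rw [hn]
    exact Nat.Coprime.pow_left n h.hcop.symm
  haveI : Group.IsNilpotent ↥X := h.hXp.isNilpotent
  have hsolv : Group.IsSolvable ↥X := inferInstance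
  have hKH : ⁅⁅X, H⁆, H⁆ = ⁅X, H⁆ :=
    Helper68.MA.commutator_commutator_eq_self X H h.hHX hcop' (Or.inl hsolv)
  have hX2 := h.two_pow
  have hKp : IsPGroup 2 ↥(⁅X, H⁆ : Subgroup G) := h.hXp.to_le hKX
  have hFK : Free (⁅X, H⁆ : Subgroup G) := h.hmin _ hKX hne hHK
  have hK := lemmaK hKp hHK h.hcop hKH hFK hb
  have hdecomp : X ≤ (X ⊓ Subgroup.centralizer (H : Set G)) ⊔ ⁅X, H⁆ :=
    Helper32.le_centralizer_sup_commutator h.hHX hcop' (Or.inl hsolv)
  obtain ⟨d, hdD, hdK⟩ : ∃ d ∈ X ⊓ Subgroup.centralizer (H : Set G), d ∉ (⁅X, H⁆ : Subgroup G) := by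
    by_contra hcon
    push Not at hcon
    exact hne (le_antisymm hKX (hdecomp.trans (sup_le hcon le_rfl)))
  -- properties of elements of `D`
  have hDprop : ∀ d ∈ X ⊓ Subgroup.centralizer (H : Set G),
      d ∈ X ∧ d ∈ Subgroup.normalizer ((⁅X, H⁆ : Subgroup G) : Set G) ∧
        (∀ g ∈ H, d * g = g * d) ∧
        H ≤ Subgroup.normalizer ((⁅X, H⁆ ⊔ Subgroup.zpowers d : Subgroup G) : Set G) ∧
        ⁅X, H⁆ ⊔ Subgroup.zpowers d ≤ X := by
    intro d hdD
    obtain ⟨hdX, hdH⟩ := Subgroup.mem_inf.mp hdD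
    rw [Subgroup.mem_centralizer_iff] at hdH
    have hdH' : ∀ g ∈ H, d * g = g * d := fun g hg => (hdH g hg).symm
    refine ⟨hdX, hXK hdX, hdH', ?_, sup_le hKX (Subgroup.zpowers_le.mpr hdX)⟩
    apply le_normalizer_sup_of hHK
    intro g hg
    have : Subgroup.zpowers g ≤ Subgroup.centralizer (Subgroup.zpowers d : Set G) :=
      le_centralizer_of_comm (comm_zpowers (hdH' g hg).symm)
    exact Subgroup.centralizer_le_normalizer _ (this (Subgroup.mem_zpowers g))
  rcases hK with hV | ⟨z, hQ⟩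
  · -- the four-group case
    left
    obtain ⟨hdX, hdN, hdH', hHY, hYX⟩ := hDprop d hdD
    have hdc : ∀ x ∈ (⁅X, H⁆ : Subgroup G), d * x = x * d :=
      hV.centralized hHK hKH hdN hdH' (hX2 d hdX)
    have hYeq : ⁅X, H⁆ ⊔ Subgroup.zpowers d = X := by
      by_contra hYne
      have hFY := h.hmin _ hYX hYne hHY
      exact hdK (isV4_centralizer_free hV hFY le_sup_left (fun y hy => hX2 y (hYX hy)) d
        ((le_sup_right : Subgroup.zpowers d ≤ _) (Subgroup.mem_zpowers d)) hdc)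
    have hKc : ∀ x ∈ (⁅X, H⁆ : Subgroup G), ∀ y ∈ Subgroup.zpowers d, x * y = y * x := by
      intro x hx y hy
      obtain ⟨k, rfl⟩ := Subgroup.mem_zpowers_iff.mp hy
      exact (Commute.zpow_right (show Commute x d from (hdc x hx).symm) k).eq
    have hcomm := comm_sup hV.comm (comm_zpowers_self d) hKc
    rw [hYeq] at hcomm
    exact isMulCommutative_of_comm hcomm
  · -- the quaternion case
    right
    obtain ⟨m, hm1, hm2⟩ := exists_sq_mem hdK (hX2 d (Subgroup.mem_inf.mp hdD).1)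
    have hd'D : d ^ 2 ^ m ∈ X ⊓ Subgroup.centralizer (H : Set G) := Subgroup.pow_mem _ hdD _
    obtain ⟨d', hd'def⟩ : ∃ d' : G, d' = d ^ 2 ^ m := ⟨_, rfl⟩
    rw [← hd'def] at hm1 hm2 hd'D
    obtain ⟨hdX, hdN, hdH', hHY, hYX⟩ := hDprop d' hd'D
    obtain ⟨k, hk, hkc⟩ := hQ.inner_of_centralizes hHK hKH hdN hdH' (hX2 d' hdX)
    have hYeq : ⁅X, H⁆ ⊔ Subgroup.zpowers d' = X := by
      by_contra hYne
      have hFY := h.hmin _ hYX hYne hHY
      have hd'Y : d' ∈ ⁅X, H⁆ ⊔ Subgroup.zpowers d' :=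
        (le_sup_right : Subgroup.zpowers d' ≤ _) (Subgroup.mem_zpowers d')
      have hkY : k ∈ ⁅X, H⁆ ⊔ Subgroup.zpowers d' := (le_sup_left : ⁅X, H⁆ ≤ _) hk
      have hcY : k⁻¹ * d' ∈ ⁅X, H⁆ ⊔ Subgroup.zpowers d' :=
        Subgroup.mul_mem _ (Subgroup.inv_mem _ hkY) hd'Y
      apply hm1
      have hcK : k⁻¹ * d' ∈ (⁅X, H⁆ : Subgroup G) := by
        rcases hQ.centralizer_free hFY le_sup_left (fun y hy => hX2 y (hYX hy)) _ hcY hkc
          with e | e
        · rw [e]; exact Subgroup.one_mem _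
        · rw [e]; exact hQ.z_mem
      have : d' = k * (k⁻¹ * d') := by group
      rw [this]
      exact Subgroup.mul_mem _ hk hcK
    refine ⟨⁅X, H⁆, 0, hKX, ?_, hQ.nonempty_equiv, ?_⟩
    · -- index two
      have hcoset : ∀ x ∈ X, x ∈ (⁅X, H⁆ : Subgroup G) ∨ d'⁻¹ * x ∈ (⁅X, H⁆ : Subgroup G) := by
        intro x hx
        rw [← hYeq, sup_comm] at hx
        obtain ⟨a, ha, n, hn, rfl⟩ := Helper01.exists_mul_of_mem_sup
          (Subgroup.zpowers_le.mpr hdN) hx
        obtain ⟨i, rfl⟩ := Subgroup.mem_zpowers_iff.mp ha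
        have hsq : ∀ r : ℤ, (d' ^ 2) ^ r ∈ (⁅X, H⁆ : Subgroup G) :=
          fun r => Subgroup.zpow_mem _ hm2 r
        have h2 : d' ^ (2 : ℤ) = d' ^ 2 := by
          rw [show (2 : ℤ) = ((2 : ℕ) : ℤ) from rfl, zpow_natCast]
        rcases Int.even_or_odd i with ⟨r, rfl⟩ | ⟨r, rfl⟩
        · left
          rw [← two_mul, zpow_mul, h2]
          exact Subgroup.mul_mem _ (hsq r) hn
        · right
          have : d'⁻¹ * (d' ^ (2 * r + 1) * n) = (d' ^ 2) ^ r * n := by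
            rw [zpow_add, zpow_one, zpow_mul, h2]
            have hc : Commute ((d' ^ 2) ^ r) d' :=
              Commute.zpow_left (Commute.pow_left (Commute.refl d') 2) r
            rw [hc.eq]; group
          rw [this]
          exact Subgroup.mul_mem _ (hsq r) hn
      apply relIndex_two_of_prod hKX hne
      intro x₁ hx₁ x₂ hx₂ hn₁ hn₂
      have e₁ := (hcoset x₁ hx₁).resolve_left hn₁
      have e₂ := (hcoset x₂ hx₂).resolve_left hn₂
      have hconj : d' * (d'⁻¹ * x₁) * d'⁻¹ ∈ (⁅X, H⁆ : Subgroup G) :=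
        (Subgroup.mem_normalizer_iff.mp hdN _).mp e₁
      have : x₁ * x₂ = (d' * (d'⁻¹ * x₁) * d'⁻¹) * d' ^ 2 * (d'⁻¹ * x₂) := by
        rw [pow_two]; group
      rw [this]
      exact Subgroup.mul_mem _ (Subgroup.mul_mem _ hconj hm2) e₂
    · apply le_antisymm (sup_le hKX inf_le_left)
      refine hYeq.symm.le.trans (sup_le le_sup_left ?_)
      rw [Subgroup.zpowers_le]
      have hcm : k⁻¹ * d' ∈ X ⊓ Subgroup.centralizer ((⁅X, H⁆ : Subgroup G) : Set G) := by
        refine Subgroup.mem_inf.mpr ⟨X.mul_mem (X.inv_mem (hKX hk)) hdX, ?_⟩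
        rw [Subgroup.mem_centralizer_iff]
        intro x hx
        exact (hkc x hx).symm
      have : d' = k * (k⁻¹ * d') := by group
      rw [this]
      exact Subgroup.mul_mem _ ((le_sup_left : ⁅X, H⁆ ≤ _) hk)
        ((le_sup_right : X ⊓ Subgroup.centralizer ((⁅X, H⁆ : Subgroup G) : Set G) ≤ _) hcm)

end Cfsg.Agent.Lib.Helper78.E8Min
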