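import Mathlib
import Cfsg.Agent.Lib.Helper78.E8Min1
import Cfsg.Agent.Lib.Helper78.AbelianIndexTwo

set_option autoImplicit false
set_option linter.style.haveILetI false
set_option linter.unusedSectionVars false
set_option linter.unusedVariables false
set_option maxHeartbeats 1000000

/-!
# The minimal configuration, part 2: the case `⁅X, H⁆ = X`
-/

namespace Cfsg.Agent.Lib.Helper78.E8Min

open Cfsg.Agent.Lib.Helper78.E8Basic Cfsg.Agent.Lib.Helper78.E8Q8 Cfsg.Agent.Lib.Helper78.E8Act
open scoped commutatorElement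

variable {G : Type*} [Group G]

theorem map_center_eq (X : Subgroup G) :
    (Subgroup.center ↥X).map X.subtype = X ⊓ Subgroup.centralizer (X : Set G) := by
  ext g
  constructor
  · rintro ⟨c, hc, rfl⟩
    refine Subgroup.mem_inf.mpr ⟨c.2, ?_⟩
    rw [Subgroup.mem_centralizer_iff]
    intro w hw
    have := Subgroup.mem_center_iff.mp hc ⟨w, hw⟩
    exact congrArg Subtype.val this
  · intro hg
    obtain ⟨hgX, hgC⟩ := Subgroup.mem_inf.mp hg
    refine ⟨⟨g, hgX⟩, ?_, rfl⟩
    show (⟨g, hgX⟩ : ↥X) ∈ Subgroup.center ↥X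
    rw [Subgroup.mem_center_iff]
    intro w
    apply Subtype.ext
    rw [Subgroup.mem_centralizer_iff] at hgC
    exact hgC w w.2

theorem card_center_eq (X : Subgroup G) :
    Nat.card ↥(Subgroup.center ↥X) = Nat.card ↥(X ⊓ Subgroup.centralizer (X : Set G)) := by
  rw [← map_center_eq]
  exact (Subgroup.card_map_of_injective X.subtype_injective).symm

/-- **Case `⁅X, H⁆ = X`** -/
theorem MinSetting.case_top [Finite G] {X H A : Subgroup G} (h : MinSetting X H A)
    (hXH : ⁅X, H⁆ = X) :
    IsMulCommutative ↥X ∨ (Cfsg.IsExtraspecial 2 ↥X ∧ 32 ≤ Nat.card ↥X) ∨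
      (Cfsg.IsSpecial 2 ↥X ∧ Nat.card ↥(Subgroup.center ↥X) = 4) := by
  by_cases hab : ∀ x ∈ X, ∀ y ∈ X, x * y = y * x
  · exact Or.inl (isMulCommutative_of_comm hab)
  right
  push Not at hab
  obtain ⟨x₀, hx₀, y₀, hy₀, hxy₀⟩ := hab
  have hX2 := h.two_pow
  -- the centre
  have hZX : X ⊓ Subgroup.centralizer (X : Set G) ≤ X := inf_le_left
  have hZne : X ⊓ Subgroup.centralizer (X : Set G) ≠ X := by
    intro e
    have : x₀ ∈ X ⊓ Subgroup.centralizer (X : Set G) := by rw [e]; exact hx₀
    have := (Subgroup.mem_inf.mp this).2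
    rw [Subgroup.mem_centralizer_iff] at this
    exact hxy₀ (this y₀ hy₀).symm
  have hHZ : H ≤ Subgroup.normalizer ((X ⊓ Subgroup.centralizer (X : Set G) : Subgroup G) : Set G) :=
    Helper31.le_normalizer_inf' h.hHX (Helper31.le_normalizer_centralizer' h.hHX)
  have hFZ : Free (X ⊓ Subgroup.centralizer (X : Set G)) := h.hmin _ hZX hZne hHZ
  have hZc : ∀ a ∈ X ⊓ Subgroup.centralizer (X : Set G), ∀ w ∈ X, a * w = w * a := by
    intro a ha w hw
    have := (Subgroup.mem_inf.mp ha).2
    rw [Subgroup.mem_centralizer_iff] at this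
    exact (this w hw).symm
  have hZ2 : ∀ y ∈ X ⊓ Subgroup.centralizer (X : Set G), ∃ n : ℕ, y ^ 2 ^ n = 1 :=
    fun y hy => hX2 y (hZX hy)
  have hmemZ : ∀ a ∈ X, (∀ w ∈ X, a * w = w * a) → a ∈ X ⊓ Subgroup.centralizer (X : Set G) := by
    intro a ha hc
    refine Subgroup.mem_inf.mpr ⟨ha, ?_⟩
    rw [Subgroup.mem_centralizer_iff]
    intro w hw
    exact (hc w hw).symm
  rcases special_or_char h.hXp h.hHX h.hcop hXH with ⟨⟨hfr, hcm⟩, hfix⟩ | ⟨C, hCX, hCc, hNC, hHC⟩
  · -- the special case
    obtain ⟨_, _, hcen2⟩ := special_elem h.hXp hfr hcm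
    obtain ⟨t, htZ, ht1⟩ : ∃ t ∈ X ⊓ Subgroup.centralizer (X : Set G), t ≠ 1 := by
      have hXne : X ≠ ⊥ := by
        intro e
        rw [e, Subgroup.mem_bot] at hx₀ hy₀
        rw [hx₀, hy₀] at hxy₀
        exact hxy₀ rfl
      haveI : Nontrivial ↥X := (Subgroup.nontrivial_iff_ne_bot X).mpr hXne
      haveI := h.hXp.center_nontrivial
      obtain ⟨x, hx⟩ := exists_ne (1 : ↥(Subgroup.center ↥X))
      refine ⟨((x : ↥X) : G), ?_, ?_⟩
      · apply hmemZ _ (x : ↥X).2
        intro w hw
        have := Subgroup.mem_center_iff.mp x.2 ⟨w, hw⟩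
        exact (congrArg Subtype.val this).symm
      · intro e
        apply hx
        apply Subtype.ext
        apply Subtype.ext
        exact e
    have ht2 : t ^ 2 = 1 := hcen2 t (hZX htZ) (hZc t htZ)
    by_cases hex : ∃ t' ∈ X ⊓ Subgroup.centralizer (X : Set G), t' ≠ 1 ∧ t' ≠ t
    · right
      obtain ⟨t', ht'Z, ht'1, ht't⟩ := hex
      have ht'2 : t' ^ 2 = 1 := hcen2 t' (hZX ht'Z) (hZc t' ht'Z)
      have h4 := card_four_of_central hFZ hZ2 htZ ht'Z ht2 ht'2 ht1 ht'1 (Ne.symm ht't)
        (fun y hy => hZc t htZ y (hZX hy)) (fun y hy => hZc t' ht'Z y (hZX hy))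
      exact ⟨⟨h.hXp, hfr, hcm⟩, by rw [card_center_eq]; exact h4⟩
    · left
      push Not at hex
      have hZeq : X ⊓ Subgroup.centralizer (X : Set G) = Subgroup.zpowers t := by
        apply le_antisymm
        · intro y hy
          by_cases hy1 : y = 1
          · rw [hy1]; exact Subgroup.one_mem _
          · rw [hex y hy hy1]; exact Subgroup.mem_zpowers t
        · exact Subgroup.zpowers_le.mpr htZ
      have hZcard : Nat.card ↥(Subgroup.center ↥X) = 2 := by
        rw [card_center_eq, hZeq, Nat.card_zpowers, orderOf_eq_two ht2 ht1]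
      refine ⟨⟨⟨h.hXp, hfr, hcm⟩, hZcard⟩, ?_⟩
      obtain ⟨n, hn⟩ := IsPGroup.iff_card.mp h.hXp
      have hAne : A ≠ X := by
        intro e
        apply hxy₀
        rw [← e] at hx₀ hy₀
        exact h.hAc x₀ hx₀ y₀ hy₀
      have h8 : 2 ^ 3 ∣ 2 ^ n := by
        have := Subgroup.card_dvd_of_le h.hAX
        rwa [h.hA8, hn] at this
      have hn3 : 3 ≤ n := (Nat.pow_dvd_pow_iff_le_right (by norm_num)).mp h8
      have hn3' : n ≠ 3 := by
        intro e
        apply hAne
        exact Subgroup.eq_of_le_of_card_ge h.hAX (by rw [h.hA8, hn, e]; rfl)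
      have hn4 : n ≠ 4 := by
        intro e
        have hrel := SectionRank.relIndex_mul_card h.hAX
        rw [h.hA8, hn, e] at hrel
        have h2 : (A.subgroupOf X).index = 2 := by
          have : A.relIndex X * 8 = 16 := by simpa using hrel
          show A.relIndex X = 2
          omega
        have hAc' : ∀ x ∈ A.subgroupOf X, ∀ y ∈ A.subgroupOf X, x * y = y * x := by
          intro x hx y hy
          exact Subtype.ext (h.hAc x (Subgroup.mem_subgroupOf.mp hx) y (Subgroup.mem_subgroupOf.mp hy))
        have hna : ∃ u v : ↥X, u * v ≠ v * u :=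
          ⟨⟨x₀, hx₀⟩, ⟨y₀, hy₀⟩, fun e => hxy₀ (congrArg Subtype.val e)⟩
        have := Helper78.card_eq_card_center_mul_card_commutator (A.subgroupOf X) hAc' h2 hna
        rw [Helper01.card_subgroupOf_of_le h.hAX, h.hA8, hcm, hZcard] at this
        omega
      rw [hn]
      have : 5 ≤ n := by omega
      calc 32 = 2 ^ 5 := by norm_num
        _ ≤ 2 ^ n := Nat.pow_le_pow_right (by norm_num) this
  · -- a noncentralized characteristic abelian subgroup
    right
    have hCne : C ≠ X := by
      intro e
      apply hxy₀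
      rw [← e] at hx₀ hy₀
      exact hCc x₀ hx₀ y₀ hy₀
    have hHC' : H ≤ Subgroup.normalizer (C : Set G) := h.hHX.trans hNC
    have hFC : Free C := h.hmin C hCX hCne hHC'
    obtain ⟨a', ha'C, b', hb'C, ha'2, hb'2, ha'1, hb'1, hab', ha'Z, hb'Z, hC4⟩ :=
      char_central hX2 h.hXp h.hHX h.hcop hXH hFC hCX hCc hNC hHC
    have ha'mZ := hmemZ a' (hCX ha'C) ha'Z
    have hb'mZ := hmemZ b' (hCX hb'C) hb'Z
    have hZ4 := four_of_central hFZ hZ2 ha'mZ hb'mZ ha'2 hb'2 ha'1 hb'1 hab'
      (fun y hy => ha'Z y (hZX hy)) (fun y hy => hb'Z y (hZX hy))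
    have hZcard := card_four_of_central hFZ hZ2 ha'mZ hb'mZ ha'2 hb'2 ha'1 hb'1 hab'
      (fun y hy => ha'Z y (hZX hy)) (fun y hy => hb'Z y (hZX hy))
    have hZC : X ⊓ Subgroup.centralizer (X : Set G) = C := by
      apply le_antisymm
      · intro y hy
        rcases hZ4 y hy with e | e | e | e
        · rw [e]; exact C.one_mem
        · rw [e]; exact ha'C
        · rw [e]; exact hb'C
        · rw [e]; exact C.mul_mem ha'C hb'C
      · intro y hy
        rcases hC4 y hy with e | e | e | e
        · rw [e]; exact Subgroup.one_mem _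
        · rw [e]; exact ha'mZ
        · rw [e]; exact hb'mZ
        · rw [e]; exact Subgroup.mul_mem _ ha'mZ hb'mZ
    have hCcard : Nat.card ↥C = 4 := hZC ▸ hZcard
    -- the Frattini subgroup lies in `C`
    have hΦX : (frattini ↥X).map X.subtype ≤ X := Subgroup.map_subtype_le _
    have hHΦ : H ≤ Subgroup.normalizer (((frattini ↥X).map X.subtype : Subgroup G) : Set G) :=
      h.hHX.trans (Helper66.normalizer_le_normalizer_map_of_characteristic X (frattini ↥X))
    have hYX : (frattini ↥X).map X.subtype ⊔ C ≤ X := sup_le hΦX hCX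
    have hHY : H ≤ Subgroup.normalizer
        (((frattini ↥X).map X.subtype ⊔ C : Subgroup G) : Set G) :=
      le_normalizer_sup_of hHΦ hHC'
    have hYne : (frattini ↥X).map X.subtype ⊔ C ≠ X := by
      intro e
      have htop : C.subgroupOf X ⊔ frattini ↥X = ⊤ := by
        rw [eq_top_iff]
        intro x _
        have hmap : (frattini ↥X).map X.subtype ⊔ C =
            (frattini ↥X ⊔ C.subgroupOf X).map X.subtype := by
          rw [Subgroup.map_sup, Subgroup.map_subgroupOf_eq_of_le hCX]
        have hx : (x : G) ∈ (frattini ↥X ⊔ C.subgroupOf X).map X.subtype := by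
          rw [← hmap, e]; exact x.2
        obtain ⟨y, hy, hyx⟩ := hx
        have : y = x := Subtype.ext hyx
        rw [← this, sup_comm]
        exact hy
      have hCtop := frattini_nongenerating htop
      apply hCne
      apply le_antisymm hCX
      intro x hx
      have : (⟨x, hx⟩ : ↥X) ∈ C.subgroupOf X := by rw [hCtop]; trivial
      exact Subgroup.mem_subgroupOf.mp this
    have hFY := h.hmin _ hYX hYne hHY
    have hCY : C ≤ (frattini ↥X).map X.subtype ⊔ C := le_sup_right
    have hY4 := four_of_central hFY (fun y hy => hX2 y (hYX hy)) (hCY ha'C) (hCY hb'C)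
      ha'2 hb'2 ha'1 hb'1 hab' (fun y hy => ha'Z y (hYX hy)) (fun y hy => hb'Z y (hYX hy))
    have hΦC : (frattini ↥X).map X.subtype ≤ C := by
      intro y hy
      rcases hY4 y ((le_sup_left : (frattini ↥X).map X.subtype ≤ _) hy) with e | e | e | e
      · rw [e]; exact C.one_mem
      · rw [e]; exact ha'C
      · rw [e]; exact hb'C
      · rw [e]; exact C.mul_mem ha'C hb'C
    -- the commutator subgroup
    have hX'Φ : (commutator ↥X).map X.subtype ≤ (frattini ↥X).map X.subtype :=
      Subgroup.map_mono (Helper03.commutator_le_frattini_of_isPGroup h.hXp)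
    have hX'C : (commutator ↥X).map X.subtype ≤ C := hX'Φ.trans hΦC
    have hX'ne : (commutator ↥X).map X.subtype ≠ ⊥ := by
      intro e
      rw [Subgroup.map_eq_bot_iff_of_injective _ X.subtype_injective] at e
      have hm : ⁅(⟨x₀, hx₀⟩ : ↥X), ⟨y₀, hy₀⟩⁆ ∈ commutator ↥X := by
        rw [commutator_def]
        exact Subgroup.commutator_mem_commutator (Subgroup.mem_top _) (Subgroup.mem_top _)
      rw [e, Subgroup.mem_bot, commutatorElement_eq_one_iff_mul_comm] at hm
      exact hxy₀ (congrArg Subtype.val hm)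
    have hHX' : H ≤ Subgroup.normalizer (((commutator ↥X).map X.subtype : Subgroup G) : Set G) := by
      haveI : (commutator ↥X).Characteristic := by
        rw [commutator_def]; infer_instance
      exact h.hHX.trans (Helper66.normalizer_le_normalizer_map_of_characteristic X (commutator ↥X))
    -- `H` has no nontrivial fixed points on `C`
    have hCp : IsPGroup 2 ↥C := h.hXp.to_le hCX
    have hFbot : C ⊓ Subgroup.centralizer (H : Set G) = ⊥ := by
      have hFC' : C ⊓ Subgroup.centralizer (H : Set G) ≤ C := inf_le_left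
      have hHF : H ≤ Subgroup.normalizer
          ((C ⊓ Subgroup.centralizer (H : Set G) : Subgroup G) : Set G) := by
        have : H ≤ Subgroup.centralizer
            ((C ⊓ Subgroup.centralizer (H : Set G) : Subgroup G) : Set G) :=
          Subgroup.le_centralizer_iff.mp inf_le_right
        exact this.trans (Subgroup.centralizer_le_normalizer _)
      have hFne : C ⊓ Subgroup.centralizer (H : Set G) ≠ C := by
        intro e
        apply hHC
        rw [Subgroup.le_centralizer_iff, ← e]
        exact inf_le_right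
      obtain ⟨m, hm, hcard⟩ := card_sub_pow hFC' (n := 2) (by rw [hCcard]; rfl)
      have hrel := SectionRank.relIndex_mul_card hFC'
      rw [hCcard, hcard] at hrel
      interval_cases m
      · exact Subgroup.eq_bot_of_card_eq _ (by rw [hcard]; rfl)
      · exfalso
        have h2 : (C ⊓ Subgroup.centralizer (H : Set G)).relIndex C = 2 := by
          have : (C ⊓ Subgroup.centralizer (H : Set G)).relIndex C * 2 = 4 := by simpa using hrel
          omega
        have hle := idx2 hFC' h2 hHF hHC'
        have hcop' : (Nat.card ↥C).Coprime (Nat.card ↥H) := by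
          rw [hCcard, show 4 = 2 ^ 2 from rfl]
          exact Nat.Coprime.pow_left 2 h.hcop.symm
        haveI : Group.IsNilpotent ↥C := hCp.isNilpotent
        have hsolv : Group.IsSolvable ↥C := inferInstance
        have hCH := Helper68.MA.commutator_commutator_eq_self C H hHC' hcop' (Or.inl hsolv)
        have hbot : ⁅⁅C, H⁆, H⁆ = ⊥ := by
          rw [Subgroup.commutator_eq_bot_iff_le_centralizer]
          exact hle.trans inf_le_right
        rw [hbot] at hCH
        apply hHC
        rw [Subgroup.le_centralizer_iff]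
        exact Subgroup.commutator_eq_bot_iff_le_centralizer.mp hCH.symm
      · exfalso
        exact hFne (Subgroup.eq_of_le_of_card_ge hFC' (by rw [hCcard, hcard]; rfl))
    have hX'eq : (commutator ↥X).map X.subtype = C := by
      obtain ⟨m, hm, hcard⟩ := card_sub_pow hX'C (n := 2) (by rw [hCcard]; rfl)
      interval_cases m
      · exfalso
        exact hX'ne (Subgroup.eq_bot_of_card_eq _ (by rw [hcard]; rfl))
      · exfalso
        haveI : Fact (Nat.Prime 2) := ⟨Nat.prime_two⟩
        have hcyc : IsCyclic ↥((commutator ↥X).map X.subtype) :=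
          isCyclic_of_prime_card (p := 2) (by rw [hcard]; rfl)
        have hp : IsPGroup 2 ↥((commutator ↥X).map X.subtype) := hCp.to_le hX'C
        have hcen : H ≤ Subgroup.centralizer
            (((commutator ↥X).map X.subtype : Subgroup G) : Set G) := by
          intro g hg
          exact Helper52.mem_centralizer_of_cyclic_two _ hcyc hp g (hHX' hg)
            (Nat.Coprime.coprime_dvd_left (H.orderOf_dvd_natCard hg) h.hcop)
        have hle : (commutator ↥X).map X.subtype ≤ C ⊓ Subgroup.centralizer (H : Set G) :=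
          le_inf hX'C (Subgroup.le_centralizer_iff.mp hcen)
        rw [hFbot] at hle
        exact hX'ne (le_bot_iff.mp hle)
      · exact Subgroup.eq_of_le_of_card_ge hX'C (by rw [hCcard, hcard]; rfl)
    have hΦeq : (frattini ↥X).map X.subtype = C :=
      le_antisymm hΦC (hX'eq ▸ hX'Φ)
    have hfr : frattini ↥X = Subgroup.center ↥X := by
      apply Subgroup.map_injective X.subtype_injective
      rw [hΦeq, map_center_eq, hZC]
    have hcm : commutator ↥X = Subgroup.center ↥X := by
      apply Subgroup.map_injective X.subtype_injective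
      rw [hX'eq, map_center_eq, hZC]
    exact ⟨⟨h.hXp, hfr, hcm⟩, by rw [card_center_eq]; exact hZcard⟩

end Cfsg.Agent.Lib.Helper78.E8Min
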