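import Mathlib
import Cfsg.Prelude.Def_Blocks
import Cfsg.Agent.Lib.Helper70.IPDefs
import Cfsg.Agent.Lib.Helper22.BlockRegular
import Cfsg.Agent.Lib.Helper80.IndDegree

/-!
# Pack K-IP (S4463), leaf 446309 IP-L2 `core_index_le` (parallel hand)
-/

set_option autoImplicit false

namespace Cfsg.Agent.Lib.Helper78.IP

open Cfsg Cfsg.Agent.Lib.Helper70.IP Cfsg.Agent.Lib.Helper83
open scoped ComplexConjugate

universe u

theorem ip_charDegree_pos {H : Type u} [Group H] (φ : IrrCharacter H) :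
    0 < charDegree (φ : H → ℂ) := by
  rcases Nat.eq_zero_or_pos (charDegree (φ : H → ℂ)) with h | h
  · exfalso
    have h1 := charDegree_cast (IrrCharacter_isCharacter φ)
    rw [h] at h1
    exact Cfsg.Agent.Lib.Helper82.IsIrrCharacter.apply_one_ne_zero φ.2 (by rw [← h1]; simp)
  · exact h

/-- a character having the irreducible `ψ` as a constituent and degree `≤ ψ(1)` equals `ψ` -/
theorem ip_eq_of_constituent {H : Type u} [Group H] [Fintype H] {θ : H → ℂ}
    (hθ : IsCharacter H θ) (ψ : IrrCharacter H) (hne : classInner θ (ψ : H → ℂ) ≠ 0)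
    (hdeg : charDegree θ ≤ charDegree (ψ : H → ℂ)) : θ = (ψ : H → ℂ) := by
  classical
  have _ : Fintype (IrrCharacter H) := Fintype.ofFinite _
  have hexp := char_eq_sum_irrMult hθ
  have h1 : (charDegree θ : ℂ) =
      ∑ φ : IrrCharacter H, (irrMult θ φ : ℂ) * (charDegree (φ : H → ℂ) : ℂ) := by
    rw [charDegree_cast hθ]
    conv_lhs => rw [hexp]
    rw [Finset.sum_apply]
    apply Finset.sum_congr rfl
    intro φ _
    rw [Pi.smul_apply, smul_eq_mul, charDegree_cast (IrrCharacter_isCharacter φ)]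
  have h1' : charDegree θ = ∑ φ : IrrCharacter H, irrMult θ φ * charDegree (φ : H → ℂ) := by
    exact_mod_cast h1
  have hm : irrMult θ ψ ≠ 0 := by
    intro h0
    apply hne
    rw [← irrMult_cast hθ ψ, h0]
    simp
  rw [← Finset.add_sum_erase Finset.univ _ (Finset.mem_univ ψ)] at h1'
  have hdψ := ip_charDegree_pos ψ
  have hge : charDegree (ψ : H → ℂ) ≤ irrMult θ ψ * charDegree (ψ : H → ℂ) :=
    Nat.le_mul_of_pos_left _ (Nat.pos_of_ne_zero hm)
  have hrest : ∑ φ ∈ Finset.univ.erase ψ, irrMult θ φ * charDegree (φ : H → ℂ) = 0 := by omega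
  have hmψ : irrMult θ ψ * charDegree (ψ : H → ℂ) = charDegree (ψ : H → ℂ) := by omega
  have hm1 : irrMult θ ψ = 1 := by
    have : irrMult θ ψ * charDegree (ψ : H → ℂ) = 1 * charDegree (ψ : H → ℂ) := by rw [hmψ, one_mul]
    exact Nat.eq_of_mul_eq_mul_right hdψ this
  have hz : ∀ φ : IrrCharacter H, φ ≠ ψ → irrMult θ φ = 0 := by
    intro φ hφ
    have h2 := (Finset.sum_eq_zero_iff.mp hrest) φ (Finset.mem_erase.mpr ⟨hφ, Finset.mem_univ _⟩)
    rcases Nat.mul_eq_zero.mp h2 with h3 | h3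
    · exact h3
    · exact absurd h3 (ip_charDegree_pos φ).ne'
  rw [hexp, Finset.sum_eq_single ψ]
  · rw [hm1]; simp
  · intro φ _ hφ
    rw [hz φ hφ]; simp
  · intro h; exact absurd (Finset.mem_univ ψ) h

/-- 446309 IP-L2: Lemma A'. -/
theorem core_index_le {G : Type u} [Group G] [Finite G] (b : ℕ) (hb : DegLE G b)
    (H : Subgroup G) (ψ : IrrCharacter H) (hψ : charDegree (ψ : H → ℂ) = b) :
    Nat.card H ≤ b ^ 2 * Nat.card H.normalCore := by
  classical
  have _ : Fintype G := Fintype.ofFinite G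
  have _ : Fintype H := Fintype.ofFinite H
  have _ : Fintype (IrrCharacter G) := Fintype.ofFinite _
  have hψc : IsCharacter H (ψ : H → ℂ) := IrrCharacter_isCharacter ψ
  have hbpos : 0 < b := hψ ▸ ip_charDegree_pos ψ
  have hψ1 : (ψ : H → ℂ) 1 = (b : ℂ) := by rw [← hψ, charDegree_cast hψc]
  set Φ : G → ℂ := indFun H (ψ : H → ℂ) with hΦdef
  have hΦ : IsCharacter G Φ := Cfsg.Agent.Lib.Helper34.isCharacter_indFun H hψc
  -- Step A: every constituent of Φ restricts to ψ
  have hres : ∀ χ : IrrCharacter G, irrMult Φ χ ≠ 0 →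
      (fun h : H => (χ : G → ℂ) h) = (ψ : H → ℂ) := by
    intro χ hm
    have hχr : IsCharacter H (fun h : H => (χ : G → ℂ) h) :=
      isCharacter_restrict H (IrrCharacter_isCharacter χ)
    apply ip_eq_of_constituent hχr ψ
    · have h1 : classInner Φ (χ : G → ℂ) ≠ 0 := by
        rw [← irrMult_cast hΦ χ]
        exact_mod_cast hm
      rw [hΦdef, Cfsg.Agent.Lib.Helper04.frobenius_reciprocity H (ψ : H → ℂ) (χ : G → ℂ)
        (char_isClassFunction (IrrCharacter_isCharacter χ))] at h1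
      intro h0
      apply h1
      rw [← classInner_conj_symm, h0, map_zero]
    · have : charDegree (fun h : H => (χ : G → ℂ) h) = charDegree (χ : G → ℂ) := by
        unfold charDegree
        simp
      rw [this, hψ]
      exact hb χ
  have hexp := char_eq_sum_irrMult hΦ
  -- Step B/C: Φ restricted to H is (∑ m) ψ
  have hΦH : ∀ h : H, Φ h = ((∑ χ : IrrCharacter G, irrMult Φ χ : ℕ) : ℂ) * (ψ : H → ℂ) h := by
    intro h
    conv_lhs => rw [hexp]
    rw [Finset.sum_apply]
    push_cast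
    rw [Finset.sum_mul]
    apply Finset.sum_congr rfl
    intro χ _
    rw [Pi.smul_apply, smul_eq_mul]
    by_cases hm : irrMult Φ χ = 0
    · rw [hm]; simp
    · have := congrFun (hres χ hm) h
      rw [this]
  have hsum : (∑ χ : IrrCharacter G, irrMult Φ χ : ℕ) = H.index := by
    have h1 := hΦH 1
    have h2 : Φ ((1 : H) : G) = (H.index : ℂ) * (ψ : H → ℂ) 1 := by
      rw [hΦdef]
      exact Cfsg.Agent.Lib.Helper33.indFun_one H (ψ : H → ℂ)
    rw [h2, hψ1] at h1
    have hb0 : (b : ℂ) ≠ 0 := by exact_mod_cast hbpos.ne'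
    have h3 := mul_right_cancel₀ hb0 h1
    exact_mod_cast h3.symm
  -- a constituent χ₀
  obtain ⟨χ₀, hχ₀⟩ : ∃ χ : IrrCharacter G, irrMult Φ χ ≠ 0 := by
    by_contra hcon
    push Not at hcon
    have : (∑ χ : IrrCharacter G, irrMult Φ χ : ℕ) = 0 := Finset.sum_eq_zero (fun χ _ => hcon χ)
    rw [hsum] at this
    exact Subgroup.index_ne_zero_of_finite this
  have hχ₀r := hres χ₀ hχ₀
  have hcf := char_isClassFunction (IrrCharacter_isCharacter χ₀)
  -- Step D: the induction formula on H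
  have hform : ∀ h : H, Φ h = (Nat.card H : ℂ)⁻¹ *
      (((Finset.univ.filter (fun x : G => x⁻¹ * (h : G) * x ∈ H)).card : ℂ) * (ψ : H → ℂ) h) := by
    intro h
    rw [hΦdef, Cfsg.Agent.Lib.Helper04.indFun_apply]
    congr 1
    rw [← nsmul_eq_mul, ← Finset.sum_const, Finset.sum_filter]
    apply Finset.sum_congr rfl
    intro x _
    by_cases hx : x⁻¹ * (h : G) * x ∈ H
    · rw [if_pos hx, Cfsg.Agent.Lib.Helper04.extendByZero_apply_of_mem H _ _ hx]
      have h1 := congrFun hχ₀r ⟨x⁻¹ * (h : G) * x, hx⟩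
      have h2 := congrFun hχ₀r h
      rw [← h1, ← h2]
      have := hcf (h : G) x⁻¹
      rw [inv_inv] at this
      exact this
    · rw [if_neg hx, Cfsg.Agent.Lib.Helper04.extendByZero_apply_not_mem H _ _ hx]
  -- Step E: ψ h ≠ 0 forces h in the core
  have hcore : ∀ h : H, (ψ : H → ℂ) h ≠ 0 → (h : G) ∈ H.normalCore := by
    intro h hne
    have h1 := hΦH h
    rw [hform h, hsum] at h1
    have hH0 : (Nat.card H : ℂ) ≠ 0 := by
      have : Nat.card H ≠ 0 := Nat.card_pos.ne'
      exact_mod_cast this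
    have h2 : ((Finset.univ.filter (fun x : G => x⁻¹ * (h : G) * x ∈ H)).card : ℂ) =
        (Nat.card H : ℂ) * (H.index : ℂ) := by
      have h3 : (Nat.card H : ℂ)⁻¹ *
          ((Finset.univ.filter (fun x : G => x⁻¹ * (h : G) * x ∈ H)).card : ℂ) = (H.index : ℂ) := by
        apply mul_right_cancel₀ hne
        rw [mul_assoc]
        exact h1
      rw [← h3]
      field_simp
    have h4 : (Finset.univ.filter (fun x : G => x⁻¹ * (h : G) * x ∈ H)).card = Nat.card G := by
      have : ((Finset.univ.filter (fun x : G => x⁻¹ * (h : G) * x ∈ H)).card : ℂ) =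
          ((Nat.card H * H.index : ℕ) : ℂ) := by
        rw [h2]; push_cast; ring
      have h5 : (Finset.univ.filter (fun x : G => x⁻¹ * (h : G) * x ∈ H)).card =
          Nat.card H * H.index := by exact_mod_cast this
      rw [h5, Subgroup.card_mul_index]
    have h6 : Finset.univ.filter (fun x : G => x⁻¹ * (h : G) * x ∈ H) = Finset.univ := by
      apply Finset.eq_univ_of_card
      rw [h4, Nat.card_eq_fintype_card]
    intro y
    have := Finset.mem_univ y⁻¹
    rw [← h6, Finset.mem_filter] at this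
    have h7 := this.2
    rw [inv_inv] at h7
    exact h7
  -- Step F: count
  have hnorm : (Nat.card H : ℝ) = ∑ h : H, ‖(ψ : H → ℂ) h‖ ^ 2 := by
    have h1 := irr_inner_self ψ
    rw [classInner_def] at h1
    have hH0 : (Nat.card H : ℂ) ≠ 0 := by
      have : Nat.card H ≠ 0 := Nat.card_pos.ne'
      exact_mod_cast this
    have h2 : ∑ h : H, (ψ : H → ℂ) h * conj ((ψ : H → ℂ) h) = (Nat.card H : ℂ) := by
      have := congrArg (fun z => (Nat.card H : ℂ) * z) h1
      beta_reduce at this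
      rw [← mul_assoc, mul_inv_cancel₀ hH0, one_mul, mul_one] at this
      exact this
    have h3 : ∀ h : H, (ψ : H → ℂ) h * conj ((ψ : H → ℂ) h) = ((‖(ψ : H → ℂ) h‖ ^ 2 : ℝ) : ℂ) := by
      intro h
      rw [Complex.mul_conj, Complex.normSq_eq_norm_sq]
    simp only [h3] at h2
    have h4 : ((∑ h : H, ‖(ψ : H → ℂ) h‖ ^ 2 : ℝ) : ℂ) = ((Nat.card H : ℝ) : ℂ) := by
      push_cast
      push_cast at h2
      exact h2
    exact_mod_cast h4.symm
  let S : Finset H := Finset.univ.filter (fun h : H => h ∈ H.normalCore.subgroupOf H)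
  have hS : ∑ h : H, ‖(ψ : H → ℂ) h‖ ^ 2 = ∑ h ∈ S, ‖(ψ : H → ℂ) h‖ ^ 2 := by
    symm
    apply Finset.sum_subset (Finset.subset_univ _)
    intro h _ hnS
    by_contra hne
    apply hnS
    rw [Finset.mem_filter]
    refine ⟨Finset.mem_univ _, ?_⟩
    rw [Subgroup.mem_subgroupOf]
    apply hcore h
    intro h0
    apply hne
    rw [h0]; simp
  have hbound : ∀ h : H, ‖(ψ : H → ℂ) h‖ ^ 2 ≤ (b : ℝ) ^ 2 := by
    intro h
    have h1 := Cfsg.Agent.Lib.Helper80.char_norm_le_re hψc h
    rw [hψ1] at h1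
    simp at h1
    have h0 : 0 ≤ ‖(ψ : H → ℂ) h‖ := norm_nonneg _
    nlinarith
  have hScard : S.card = Nat.card H.normalCore := by
    have h1 : Nat.card (H.normalCore.subgroupOf H) = Nat.card H.normalCore :=
      Nat.card_congr (Subgroup.subgroupOfEquivOfLe (Subgroup.normalCore_le H)).toEquiv
    rw [← h1, Nat.card_eq_fintype_card, Fintype.card_subtype]
  have hfin : (Nat.card H : ℝ) ≤ (b : ℝ) ^ 2 * (Nat.card H.normalCore : ℝ) := by
    rw [hnorm, hS]
    calc ∑ h ∈ S, ‖(ψ : H → ℂ) h‖ ^ 2 ≤ ∑ _h ∈ S, (b : ℝ) ^ 2 :=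
          Finset.sum_le_sum (fun h _ => hbound h)
      _ = (b : ℝ) ^ 2 * (Nat.card H.normalCore : ℝ) := by
          rw [Finset.sum_const, nsmul_eq_mul, hScard, mul_comm]
  exact_mod_cast hfin

end Cfsg.Agent.Lib.Helper78.IP
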