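import Mathlib

/-!
# K69-A: numerical glue for Jordan's explicit bound `n! · 12^(n (π(n+1) + 1))`

Keystone for S4469 (owner helper80).  Pure Mathlib.
-/

set_option autoImplicit false

namespace Cfsg.Agent.Lib.Helper78.K69A

open Nat

/-- For a prime `p ≤ n + 1`, the `p`-part of `|G : A|` is at most `p^{v_p(n!)} · 12^n`. -/
theorem h78_smallPrime_bound {G : Type*} [Group G] [Finite G] (n : ℕ) (A : Subgroup G) [A.Normal]
    (hA : ∀ H : Subgroup G, (∀ x ∈ H, ∀ y ∈ H, x * y = y * x) → (A.subgroupOf H).index ≤ 12 ^ n)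
    (hB : ∀ p : ℕ, p.Prime → p ≤ n + 1 → ∀ P : Sylow p G, ∃ B : Subgroup G, B ≤ (P : Subgroup G) ∧
      (∀ x ∈ B, ∀ y ∈ B, x * y = y * x) ∧ B.relIndex (P : Subgroup G) ∣ n !)
    (p : ℕ) (hp : p.Prime) (hpn : p ≤ n + 1) :
    p ^ (A.index.factorization p) ≤ p ^ ((n !).factorization p) * 12 ^ n := by
  have : Fact p.Prime := ⟨hp⟩
  obtain ⟨P⟩ : Nonempty (Sylow p G) := inferInstance
  obtain ⟨B, hBP, hBab, hBidx⟩ := hB p hp hpn P
  have h1 : A.relIndex (P : Subgroup G) * ((P : Subgroup G) ⊔ A).index = A.index := by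
    rw [← Subgroup.relIndex_sup_right, Subgroup.relIndex_mul_index le_sup_right]
  have h2 : ¬ p ∣ ((P : Subgroup G) ⊔ A).index := fun h =>
    P.not_dvd_index (h.trans (Subgroup.index_dvd_of_le le_sup_left))
  have h3 : p ^ (A.index.factorization p) ∣ A.relIndex (P : Subgroup G) := by
    have h : p ^ (A.index.factorization p) ∣
        A.relIndex (P : Subgroup G) * ((P : Subgroup G) ⊔ A).index := by
      rw [h1]; exact Nat.ordProj_dvd _ _
    exact (Nat.Coprime.pow_left _ ((Nat.Prime.coprime_iff_not_dvd hp).2 h2)).dvd_of_dvd_mul_right h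
  have h4 : A.relIndex (P : Subgroup G) ∣ A.relIndex B * B.relIndex (P : Subgroup G) := by
    have e1 : (B ⊓ A).relIndex B * B.relIndex (P : Subgroup G) =
        (B ⊓ A).relIndex (P : Subgroup G) :=
      Subgroup.relIndex_mul_relIndex _ _ _ inf_le_left hBP
    rw [Subgroup.inf_relIndex_left] at e1
    rw [e1]
    exact Subgroup.relIndex_dvd_of_le_left _ inf_le_right
  have h5 : B.relIndex (P : Subgroup G) ∣ p ^ ((n !).factorization p) := by
    have h : B.relIndex (P : Subgroup G) ∣ Nat.card (P : Subgroup G) :=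
      Subgroup.index_dvd_card _
    obtain ⟨k, hk⟩ := P.2.exists_card_eq
    rw [hk] at h
    obtain ⟨j, -, hjeq⟩ := (Nat.dvd_prime_pow hp).1 h
    rw [hjeq] at hBidx ⊢
    exact pow_dvd_pow _ ((hp.pow_dvd_iff_le_factorization (Nat.factorial_ne_zero n)).1 hBidx)
  have hpos1 : 0 < A.relIndex B * B.relIndex (P : Subgroup G) :=
    Nat.mul_pos (Nat.pos_of_ne_zero Subgroup.index_ne_zero_of_finite)
      (Nat.pos_of_ne_zero Subgroup.index_ne_zero_of_finite)
  calc p ^ (A.index.factorization p) ≤ A.relIndex B * B.relIndex (P : Subgroup G) :=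
        Nat.le_of_dvd hpos1 (h3.trans h4)
    _ ≤ 12 ^ n * p ^ ((n !).factorization p) :=
        Nat.mul_le_mul (hA B hBab) (Nat.le_of_dvd (pow_pos hp.pos _) h5)
    _ = _ := mul_comm _ _

/-- `∏_{p < n + 2 prime} p^{v_p(n!)} = n!`. -/
theorem h78_prod_primesBelow_factorial (n : ℕ) :
    ∏ p ∈ Nat.primesBelow (n + 2), p ^ (n !).factorization p = n ! := by
  have hsub : (n !).factorization.support ⊆ Nat.primesBelow (n + 2) := by
    intro p hp
    rw [Nat.support_factorization, Nat.mem_primeFactors] at hp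
    rw [Nat.mem_primesBelow]
    have : p ≤ n := (hp.1.dvd_factorial).1 hp.2.1
    exact ⟨by omega, hp.1⟩
  have h := Finsupp.prod_of_support_subset (n !).factorization hsub (fun x1 x2 => x1 ^ x2)
    (fun i _ => pow_zero i)
  rw [← h]
  exact Nat.prod_factorization_pow_eq_self (Nat.factorial_ne_zero n)

/-- **K69-A** (numerical glue for Jordan's explicit bound). -/
theorem index_le_of_local {G : Type*} [Group G] [Finite G] (n : ℕ) (A : Subgroup G) [A.Normal]
    (hA : ∀ H : Subgroup G, (∀ x ∈ H, ∀ y ∈ H, x * y = y * x) → (A.subgroupOf H).index ≤ 12 ^ n)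
    (Hall : Subgroup G) (hHab : ∀ x ∈ Hall, ∀ y ∈ Hall, x * y = y * x)
    (hHidx : ∀ q : ℕ, q.Prime → q ∣ Hall.index → q ≤ n + 1)
    (hB : ∀ p : ℕ, p.Prime → p ≤ n + 1 → ∀ P : Sylow p G, ∃ B : Subgroup G, B ≤ (P : Subgroup G) ∧
      (∀ x ∈ B, ∀ y ∈ B, x * y = y * x) ∧ B.relIndex (P : Subgroup G) ∣ n !) :
    A.index ≤ n ! * 12 ^ (n * (Nat.primeCounting (n + 1) + 1)) := by
  classical
  have hm0 : A.index ≠ 0 := Subgroup.index_ne_zero_of_finite
  have hc0 : (Hall ⊔ A).index ≠ 0 := Subgroup.index_ne_zero_of_finite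
  have h1 : A.relIndex Hall * (Hall ⊔ A).index = A.index := by
    rw [← Subgroup.relIndex_sup_right, Subgroup.relIndex_mul_index le_sup_right]
  have hh : A.relIndex Hall ≤ 12 ^ n := hA Hall hHab
  have hcdvd : (Hall ⊔ A).index ∣ A.index := Dvd.intro_left _ h1
  have hcprime : (Hall ⊔ A).index.primeFactors ⊆ Nat.primesBelow (n + 2) := by
    intro q hq
    rw [Nat.mem_primeFactors] at hq
    rw [Nat.mem_primesBelow]
    have : q ≤ n + 1 := hHidx q hq.1 (hq.2.1.trans (Subgroup.index_dvd_of_le le_sup_left))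
    exact ⟨by omega, hq.1⟩
  have hcard : (Nat.primesBelow (n + 2)).card = Nat.primeCounting (n + 1) := by
    rw [Nat.primesBelow_card_eq_primeCounting']; rfl
  have hcle : (Hall ⊔ A).index ≤ n ! * (12 ^ n) ^ (Nat.primeCounting (n + 1)) := by
    calc (Hall ⊔ A).index
        = ∏ p ∈ (Hall ⊔ A).index.primeFactors, p ^ (Hall ⊔ A).index.factorization p := by
          conv_lhs => rw [← Nat.prod_factorization_pow_eq_self hc0]
          rfl
      _ ≤ ∏ p ∈ (Hall ⊔ A).index.primeFactors, (p ^ (n !).factorization p * 12 ^ n) := by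
          refine Finset.prod_le_prod (fun _ _ => Nat.zero_le _) (fun p hp => ?_)
          have hpb := hcprime hp
          rw [Nat.mem_primesBelow] at hpb
          have hle : (Hall ⊔ A).index.factorization p ≤ A.index.factorization p :=
            (Nat.factorization_le_iff_dvd hc0 hm0).2 hcdvd p
          exact (Nat.pow_le_pow_right hpb.2.pos hle).trans
            (h78_smallPrime_bound n A hA hB p hpb.2 (by omega))
      _ ≤ ∏ p ∈ Nat.primesBelow (n + 2), (p ^ (n !).factorization p * 12 ^ n) := by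
          refine Finset.prod_le_prod_of_subset_of_one_le' hcprime (fun p hp _ => ?_)
          rw [Nat.mem_primesBelow] at hp
          exact Nat.one_le_iff_ne_zero.2
            (Nat.mul_ne_zero (pow_ne_zero _ hp.2.ne_zero) (pow_ne_zero _ (by norm_num)))
      _ = n ! * (12 ^ n) ^ (Nat.primeCounting (n + 1)) := by
          rw [Finset.prod_mul_distrib, Finset.prod_const, h78_prod_primesBelow_factorial, hcard]
  calc A.index = A.relIndex Hall * (Hall ⊔ A).index := h1.symm
    _ ≤ 12 ^ n * (n ! * (12 ^ n) ^ (Nat.primeCounting (n + 1))) := Nat.mul_le_mul hh hcle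
    _ = n ! * 12 ^ (n * (Nat.primeCounting (n + 1) + 1)) := by
          rw [← pow_mul, mul_add, mul_one, pow_add]; ring

end Cfsg.Agent.Lib.Helper78.K69A
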