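import Mathlib
import Cfsg.Agent.Lib.Helper78.MaxClass2

set_option autoImplicit false

/-!
# Structure of 2-groups with `|S : S'| = 4`

`structure_of_index_four`: generators `a` (of order `2^(n-1)`) and `b ∉ ⟨a⟩` with
`b a b⁻¹ ∈ {a⁻¹, a⁻¹ z}` and `b² ∈ {1, z}`, where `z = a^(2^(n-2))` generates the centre.
-/

namespace Cfsg.Agent.Lib.Helper78

universe u

variable {S : Type u} [Group S] [Finite S]

theorem structure_of_index_four (hS : IsPGroup 2 S) (h4 : (commutator S).index = 4)
    (n : ℕ) (hn : 3 ≤ n) (hcard : Nat.card S = 2 ^ n) :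
    ∃ a b z : S, orderOf a = 2 ^ (n - 1) ∧ b ∉ Subgroup.zpowers a ∧
      (Subgroup.zpowers a).index = 2 ∧ z = a ^ (2 ^ (n - 2)) ∧
      orderOf z = 2 ∧ (∀ x, x ∈ Subgroup.center S ↔ x = 1 ∨ x = z) ∧
      (b * a * b⁻¹ = a⁻¹ ∨ b * a * b⁻¹ = a⁻¹ * z) ∧ (b * b = 1 ∨ b * b = z) := by
  have h8 : 8 ≤ Nat.card S := by
    rw [hcard]
    calc 8 = 2 ^ 3 := by norm_num
      _ ≤ 2 ^ n := Nat.pow_le_pow_right two_pos hn
  obtain ⟨C, hCc, hC2⟩ := exists_cyclic_index_two hS h4 h8
  obtain ⟨a', ha'⟩ := hCc.exists_generator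
  obtain ⟨a, haC, rfl⟩ : ∃ a : S, ∃ h : a ∈ C, a' = ⟨a, h⟩ := ⟨a'.1, a'.2, rfl⟩
  have hCeq : C = Subgroup.zpowers a := by
    apply le_antisymm
    · intro x hx
      obtain ⟨k, hk⟩ := Subgroup.mem_zpowers_iff.mp (ha' ⟨x, hx⟩)
      rw [Subgroup.mem_zpowers_iff]
      refine ⟨k, ?_⟩
      have := congrArg Subtype.val hk
      simpa using this
    · exact Subgroup.zpowers_le.mpr haC
  have hCcard : Nat.card C * 2 = 2 ^ n := by
    rw [← hcard, ← hC2]; exact Subgroup.card_mul_index C
  obtain ⟨m, rfl⟩ : ∃ m, n = m + 2 := ⟨n - 2, by omega⟩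
  have hCcard' : Nat.card C = 2 ^ (m + 1) := by
    have : 2 ^ (m + 2) = 2 ^ (m + 1) * 2 := by ring
    omega
  have horda : orderOf a = 2 ^ (m + 1) := by
    rw [← Nat.card_zpowers, ← hCeq, hCcard']
  have hidx : (Subgroup.zpowers a).index = 2 := by rw [← hCeq]; exact hC2
  obtain ⟨b, hb⟩ : ∃ b : S, b ∉ C := by
    by_contra hcon
    push Not at hcon
    have : C = ⊤ := by rw [eq_top_iff]; intro x _; exact hcon x
    rw [this, Subgroup.index_top] at hC2
    omega
  have hCab : ∀ x ∈ C, ∀ y ∈ C, x * y = y * x := by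
    intro x hx y hy
    have := (IsCyclic.isMulCommutative (α := C)).is_comm.comm ⟨x, hx⟩ ⟨y, hy⟩
    exact congrArg Subtype.val this
  have hna := exists_not_comm_of_index_four h4 h8
  have hZC : Subgroup.center S ≤ C := center_le_of_index_two C hCab hC2 hna
  have hZ2 : Nat.card (Subgroup.center S) = 2 := card_center_eq_two hS h4 h8
  obtain ⟨z, hzdef⟩ : ∃ z : S, z = a ^ (2 ^ m) := ⟨_, rfl⟩
  have hzz : z * z = 1 := by
    rw [hzdef, ← pow_add, ← two_mul, ← pow_succ', ← horda, pow_orderOf_eq_one]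
  have hz1 : z ≠ 1 := by
    intro h
    rw [hzdef] at h
    have := orderOf_dvd_of_pow_eq_one h
    rw [horda] at this
    have h1 := Nat.le_of_dvd (pow_pos two_pos m) this
    have : 2 ^ m < 2 ^ (m + 1) := Nat.pow_lt_pow_right (by norm_num) (by omega)
    omega
  have hordz : orderOf z = 2 := by
    apply orderOf_eq_prime
    · rw [pow_two]; exact hzz
    · exact hz1
  -- the centre is {1, z}
  have hcenter : ∀ x, x ∈ Subgroup.center S ↔ x = 1 ∨ x = z := by
    have key : ∀ x ∈ Subgroup.center S, x = 1 ∨ x = z := by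
      intro x hx
      have hxC : x ∈ Subgroup.zpowers a := by rw [← hCeq]; exact hZC hx
      obtain ⟨k, rfl⟩ := Subgroup.mem_zpowers_iff.mp hxC
      -- (a^k)^2 = 1
      have hx2 : (a ^ k) ^ (2 : ℤ) = 1 := by
        have h1 : (⟨a ^ k, hx⟩ : Subgroup.center S) ^ Nat.card (Subgroup.center S) = 1 :=
          pow_card_eq_one'
        rw [hZ2] at h1
        have := congrArg Subtype.val h1
        simpa using this
      rw [← zpow_mul] at hx2
      have hdvd : ((orderOf a : ℕ) : ℤ) ∣ k * 2 := orderOf_dvd_iff_zpow_eq_one.mpr hx2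
      rw [horda] at hdvd
      have hdvd' : ((2 : ℤ) ^ m) ∣ k := by
        have : ((2 ^ (m + 1) : ℕ) : ℤ) = 2 ^ m * 2 := by push_cast; ring
        rw [this] at hdvd
        exact Int.dvd_of_mul_dvd_mul_right (by norm_num) hdvd
      obtain ⟨j, rfl⟩ := hdvd'
      have : a ^ ((2 : ℤ) ^ m * j) = z ^ j := by
        rw [zpow_mul, hzdef]
        congr 1
        have : ((2 : ℤ) ^ m) = ((2 ^ m : ℕ) : ℤ) := by push_cast; ring
        rw [this, zpow_natCast]
      rw [this]
      exact zpow_eq_one_or_self_of_sq hzz j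
    have hzc : z ∈ Subgroup.center S := by
      -- some nontrivial element of the centre
      have : ∃ x ∈ Subgroup.center S, x ≠ 1 := by
        by_contra hcon
        push Not at hcon
        have hbot : Subgroup.center S = ⊥ := by
          rw [eq_bot_iff]; intro x hx; rw [Subgroup.mem_bot]; exact hcon x hx
        rw [hbot, Subgroup.card_bot] at hZ2
        omega
      obtain ⟨x, hx, hx1⟩ := this
      rcases key x hx with h | h
      · exact absurd h hx1
      · rw [← h]; exact hx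
    intro x
    constructor
    · exact key x
    · rintro (rfl | rfl)
      · exact Subgroup.one_mem _
      · exact hzc
  have hCn : C.Normal := Subgroup.normal_of_index_eq_two hC2
  have hbab : b * a * b⁻¹ ∈ C := hCn.conj_mem a haC b
  have hbb : b * b ∈ C := sq_mem_of_index_two C hC2 b
  -- t = a * (b a b⁻¹) is central
  have ht : a * (b * a * b⁻¹) ∈ Subgroup.center S := by
    apply mem_center_of_comm C hC2 b hb
    · intro c hc
      exact hCab c hc _ (C.mul_mem haC hbab)
    · have h1 : (b * b) * a = a * (b * b) := hCab _ hbb _ haC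
      have h2 : (b * a * b⁻¹) * a = a * (b * a * b⁻¹) := hCab _ hbab _ haC
      calc b * (a * (b * a * b⁻¹)) = (b * a * b⁻¹) * ((b * b) * a) * (b * b)⁻¹ * b := by group
        _ = (b * a * b⁻¹) * (a * (b * b)) * (b * b)⁻¹ * b := by rw [h1]
        _ = ((b * a * b⁻¹) * a) * b := by group
        _ = a * (b * a * b⁻¹) * b := by rw [h2]
  have hbbc : b * b ∈ Subgroup.center S := by
    apply mem_center_of_comm C hC2 b hb
    · intro c hc
      exact hCab c hc _ hbb
    · group
  refine ⟨a, b, z, by simpa using horda, by rw [← hCeq]; exact hb, hidx, by simpa using hzdef,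
    hordz, hcenter, ?_, (hcenter _).mp hbbc⟩
  rcases (hcenter _).mp ht with h | h
  · left
    calc b * a * b⁻¹ = a⁻¹ * (a * (b * a * b⁻¹)) := by group
      _ = a⁻¹ := by rw [h, mul_one]
  · right
    calc b * a * b⁻¹ = a⁻¹ * (a * (b * a * b⁻¹)) := by group
      _ = a⁻¹ * z := by rw [h]

end Cfsg.Agent.Lib.Helper78
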