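import Mathlib
import Cfsg.Agent.Lib.Helper78.MaxClass2Structure
import Cfsg.Agent.Lib.Helper66.DihedralIso
import Cfsg.Agent.Lib.Helper59.QuaternionIso

set_option autoImplicit false

/-!
# Recognition of dihedral / semidihedral / quaternion groups from generators
-/

namespace Cfsg.Agent.Lib.Helper78

universe u

variable {G : Type*} [Group G]

/-- Dihedral recognition: `a` generating a subgroup of index 2, `b ∉ ⟨a⟩` an involution
inverting `a`. -/
theorem nonempty_equiv_dihedral (a b : G) (hidx : (Subgroup.zpowers a).index = 2)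
    (hb : b ∉ Subgroup.zpowers a) (hbb : b * b = 1) (hbab : b * a * b⁻¹ = a⁻¹) :
    Nonempty (G ≃* DihedralGroup (orderOf a)) := by
  have hb1 : b ≠ 1 := by
    intro h; apply hb; rw [h]; exact Subgroup.one_mem _
  have hordb : orderOf b = 2 := by
    apply orderOf_eq_prime
    · rw [pow_two]; exact hbb
    · exact hb1
  have hba1 : b * a ≠ 1 := by
    intro h
    apply hb
    have : b = a⁻¹ := eq_inv_of_mul_eq_one_left h
    rw [this]; exact Subgroup.inv_mem _ (Subgroup.mem_zpowers a)
  have hbaba : (b * a) * (b * a) = 1 := by
    calc (b * a) * (b * a) = (b * a * b⁻¹) * ((b * b) * a) := by group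
      _ = 1 := by rw [hbab, hbb]; group
  have hordba : orderOf (b * a) = 2 := by
    apply orderOf_eq_prime
    · rw [pow_two]; exact hbaba
    · exact hba1
  have hxy : b * (b * a) = a := by rw [← mul_assoc, hbb, one_mul]
  have htop : Subgroup.closure ({b, b * a} : Set G) = ⊤ := by
    rw [eq_top_iff]
    intro w _
    have hbm : b ∈ Subgroup.closure ({b, b * a} : Set G) :=
      Subgroup.subset_closure (by simp)
    have ham : a ∈ Subgroup.closure ({b, b * a} : Set G) := by
      have h := Subgroup.mul_mem _ hbm
        (Subgroup.subset_closure (show b * a ∈ ({b, b * a} : Set G) by simp))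
      rwa [hxy] at h
    have hle : Subgroup.zpowers a ≤ Subgroup.closure ({b, b * a} : Set G) :=
      Subgroup.zpowers_le.mpr ham
    rcases mem_or_inv_mul_mem _ hidx b hb w with hw | hw
    · exact hle hw
    · have : w = b * (b⁻¹ * w) := by group
      rw [this]
      exact Subgroup.mul_mem _ hbm (hle hw)
  have := Cfsg.Agent.Lib.Helper66.nonempty_equiv_dihedral_of_closure_eq_top hordb hordba htop
  rw [hxy] at this
  exact this

/-- **Classification** of the finite 2-groups with `|S : S'| = 4` of order `2^n ≥ 8`:
dihedral, generalized quaternion or semidihedral. -/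
theorem classification_of_index_four {S : Type u} [Group S] [Finite S] (hS : IsPGroup 2 S)
    (h4 : (commutator S).index = 4) (n : ℕ) (hn : 3 ≤ n) (hcard : Nat.card S = 2 ^ n) :
    Nonempty (S ≃* DihedralGroup (2 ^ (n - 1))) ∨
    Nonempty (S ≃* QuaternionGroup (2 ^ (n - 2))) ∨
    (4 ≤ n ∧ ∃ a b : S, orderOf a = 2 ^ (n - 1) ∧ orderOf b = 2 ∧
      b * a * b⁻¹ = a ^ (2 ^ (n - 2) - 1)) := by
  obtain ⟨a, b, z, horda, hb, hidx, hzdef, hordz, hcenter, hconj, hsq⟩ :=
    structure_of_index_four hS h4 n hn hcard
  have hzz : z * z = 1 := by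
    have := pow_orderOf_eq_one z
    rw [hordz, pow_two] at this; exact this
  have hzc : z ∈ Subgroup.center S := (hcenter z).mpr (Or.inr rfl)
  have hb1 : b ≠ 1 := by
    intro h; apply hb; rw [h]; exact Subgroup.one_mem _
  rcases hconj with hconj | hconj
  · rcases hsq with hsq | hsq
    · left
      have := nonempty_equiv_dihedral a b hidx hb hsq hconj
      rw [horda] at this
      exact this
    · right; left
      have : NeZero (2 ^ (n - 2)) := ⟨pow_ne_zero _ two_ne_zero⟩
      apply Cfsg.Agent.Lib.Helper59.nonempty_mulEquiv_quaternion (2 ^ (n - 2)) a b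
      · rw [hcard]
        have : n = (n - 2) + 2 := by omega
        conv_lhs => rw [this]
        rw [pow_add]; ring
      · rw [horda]
        have : n - 1 = (n - 2) + 1 := by omega
        rw [this, pow_succ]; ring
      · rw [hsq, hzdef]
      · exact hconj
      · exact hb
  · right; right
    -- n ≥ 4
    have hn4 : 4 ≤ n := by
      by_contra hlt
      have hn3 : n = 3 := by omega
      subst hn3
      -- z = a^2, so b a b⁻¹ = a, hence a is central
      have hz2 : z = a ^ 2 := by rw [hzdef]; norm_num
      have hbab : b * a * b⁻¹ = a := by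
        rw [hconj, hz2, pow_two]; group
      have hac : a ∈ Subgroup.center S := by
        apply mem_center_of_comm (Subgroup.zpowers a) hidx b hb
        · intro c hc
          obtain ⟨k, rfl⟩ := Subgroup.mem_zpowers_iff.mp hc
          rw [← zpow_add_one, ← zpow_one_add, add_comm]
        · calc b * a = (b * a * b⁻¹) * b := by group
            _ = a * b := by rw [hbab]
      rcases (hcenter a).mp hac with h | h
      · rw [h, orderOf_one] at horda
        norm_num at horda
      · rw [h, hordz] at horda
        norm_num at horda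
    refine ⟨hn4, ?_⟩
    have hpow : a ^ (2 ^ (n - 2) - 1) = a⁻¹ * z := by
      have h1 : 1 ≤ 2 ^ (n - 2) := Nat.one_le_two_pow
      have : a ^ (2 ^ (n - 2) - 1) * a = z := by
        rw [← pow_succ, Nat.sub_add_cancel h1, hzdef]
      have hcomm : a⁻¹ * z = z * a⁻¹ := Subgroup.mem_center_iff.mp hzc a⁻¹
      rw [hcomm, ← this]; group
    rcases hsq with hsq | hsq
    · refine ⟨a, b, horda, ?_, ?_⟩
      · apply orderOf_eq_prime
        · rw [pow_two]; exact hsq
        · exact hb1
      · rw [hpow]; exact hconj
    · refine ⟨a, b * a, horda, ?_, ?_⟩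
      · apply orderOf_eq_prime
        · rw [pow_two]
          have hcomm : a⁻¹ * z = z * a⁻¹ := Subgroup.mem_center_iff.mp hzc a⁻¹
          calc (b * a) * (b * a) = (b * a * b⁻¹) * ((b * b) * a) := by group
            _ = (a⁻¹ * z) * (z * a) := by rw [hconj, hsq]
            _ = a⁻¹ * (z * z) * a := by group
            _ = 1 := by rw [hzz]; group
        · intro h
          apply hb
          have : b = a⁻¹ := eq_inv_of_mul_eq_one_left h
          rw [this]; exact Subgroup.inv_mem _ (Subgroup.mem_zpowers a)
      · rw [hpow, ← hconj]; group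

end Cfsg.Agent.Lib.Helper78
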