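import Mathlib
import Cfsg.Prelude.Def_Blocks
import Cfsg.Agent.Lib.Helper78.PDDefs
import Cfsg.Agent.Lib.Helper04.BurnsideSimple
import Cfsg.Agent.Lib.Helper83.CharBasic
import Cfsg.Agent.S4465

/-!
# S4466 pack K-PD: the simple case
A finite simple group not of prime order cannot have all nontrivial irreducible degrees prime.
-/

set_option autoImplicit false

namespace Cfsg.Agent.Lib.Helper78.PD

open Cfsg Cfsg.Agent.Lib.Helper04
open scoped ComplexConjugate
open Module

universe u

theorem pd_end_fin_one_scalar (f : (Fin 1 → ℂ) →ₗ[ℂ] (Fin 1 → ℂ)) :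
    f = (f (fun _ => 1) 0) • (LinearMap.id : (Fin 1 → ℂ) →ₗ[ℂ] (Fin 1 → ℂ)) := by
  apply LinearMap.ext
  intro v
  have hv : v = (v 0) • (fun _ : Fin 1 => (1 : ℂ)) := by
    funext i
    have : i = 0 := Subsingleton.elim _ _
    subst this
    simp
  conv_lhs => rw [hv]
  rw [map_smul]
  funext i
  have : i = 0 := Subsingleton.elim _ _
  subst this
  simp [mul_comm]

section

variable {G : Type u} [Group G] [Finite G] [IsSimpleGroup G]

/-- the degree of the character of a representation on `Fin n → ℂ` -/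
theorem pd_charDegree_rep {H : Type u} [Group H] {n : ℕ} (ρ : Representation ℂ H (Fin n → ℂ)) :
    charDegree ρ.character = n := by
  have h1 : ρ.character 1 = n := by
    rw [Representation.char_one, Module.finrank_fin_fun]
  unfold charDegree
  rw [h1]
  simp

/-- in a simple group not of prime order, a nontrivial irreducible representation has no nontrivial
element acting as a scalar -/
theorem pd_not_scalar (hnp : ¬ (Nat.card G).Prime) {n : ℕ}
    (ρ : Representation ℂ G (Fin n → ℂ)) [ρ.IsIrreducible]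
    (hχ : ρ.character ≠ fun _ => 1) (g : G) (hg : g ≠ 1) (ω : ℂ)
    (hω : ρ g = ω • (LinearMap.id : (Fin n → ℂ) →ₗ[ℂ] (Fin n → ℂ))) : False := by
  have htriv := rep_trivial_of_scalar hnp ρ g hg ω hω
  have hdim := finrank_eq_one_of_trivial ρ htriv
  apply hχ
  funext x
  simp only [Representation.character]
  rw [htriv x, LinearMap.trace_one, hdim]
  simp

theorem pd_degree_ne_one (hnp : ¬ (Nat.card G).Prime) (χ : IrrCharacter G)
    (hχ : (χ : G → ℂ) ≠ fun _ => 1) : charDegree (χ : G → ℂ) ≠ 1 := by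
  obtain ⟨n, ρ, hirr, hρ⟩ := χ.2
  rw [← hρ, pd_charDegree_rep ρ]
  intro hn
  subst hn
  obtain ⟨g, hg⟩ := exists_ne (1 : G)
  exact pd_not_scalar hnp ρ (by rw [hρ]; exact hχ) g hg _ (pd_end_fin_one_scalar (ρ g))

theorem pd_faithful (hnp : ¬ (Nat.card G).Prime) (χ : IrrCharacter G)
    (hχ : (χ : G → ℂ) ≠ fun _ => 1) (g : G) (hg : (χ : G → ℂ) g = (χ : G → ℂ) 1) : g = 1 := by
  obtain ⟨n, ρ, hirr, hρ⟩ := χ.2
  by_contra hne
  have h1 : ρ.character g = (finrank ℂ (Fin n → ℂ) : ℂ) := by
    rw [hρ, hg, ← hρ, Representation.char_one]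
  have h2 := (char_eq_finrank_iff ρ g).mp h1
  refine pd_not_scalar hnp ρ (by rw [hρ]; exact hχ) g hne 1 ?_
  rw [h2, one_smul]

theorem pd_vanish (hnp : ¬ (Nat.card G).Prime) (χ : IrrCharacter G)
    (hχ : (χ : G → ℂ) ≠ fun _ => 1) (g : G) (hg : g ≠ 1)
    (hcop : Nat.Coprime (charDegree (χ : G → ℂ)) (Subgroup.centralizer ({g} : Set G)).index) :
    (χ : G → ℂ) g = 0 := by
  obtain ⟨n, ρ, hirr, hρ⟩ := χ.2
  have hcop' : Nat.Coprime (finrank ℂ (Fin n → ℂ))
      (Subgroup.centralizer ({g} : Set G)).index := by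
    rw [Module.finrank_fin_fun]
    rw [← hρ, pd_charDegree_rep ρ] at hcop
    exact hcop
  rcases Cfsg.Agent.S0142.result ρ g hcop' with h0 | hnorm
  · rw [← hρ]; exact h0
  · exfalso
    obtain ⟨ω, hω⟩ := (norm_char_eq_iff ρ g).mp hnorm
    exact pd_not_scalar hnp ρ (by rw [hρ]; exact hχ) g hg ω hω

/-- the arithmetic endgame: `1 + p * B = 0` with `B` an algebraic integer is impossible -/
theorem pd_endgame (p : ℕ) (hp : p.Prime) (B : ℂ) (hB : IsIntegral ℤ B)
    (h : (1 : ℂ) + p * B = 0) : False := by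
  have hp0 : (p : ℂ) ≠ 0 := by exact_mod_cast hp.ne_zero
  have hBq : B = ((-1 / p : ℚ) : ℂ) := by
    push_cast
    field_simp
    linear_combination h
  rw [hBq] at hB
  have h4 : IsIntegral ℤ (-1 / p : ℚ) := by
    have := (isIntegral_algebraMap_iff (R := ℤ) (A := ℚ) (B := ℂ)
      (algebraMap ℚ ℂ).injective (x := (-1 / p : ℚ))).1
    exact this (by simpa using hB)
  obtain ⟨m, hm⟩ := IsIntegrallyClosed.isIntegral_iff.1 h4
  have hpq : (p : ℚ) ≠ 0 := by exact_mod_cast hp.ne_zero
  have h5 : (m : ℚ) * p = -1 := by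
    have : (algebraMap ℤ ℚ) m = (m : ℚ) := rfl
    rw [this] at hm
    rw [hm]
    field_simp
  have h6 : (m : ℤ) * (p : ℤ) = -1 := by exact_mod_cast h5
  have h7 : (p : ℤ) ∣ 1 := by
    refine ⟨-m, ?_⟩
    linarith
  have h8 : (p : ℤ) = 1 ∨ (p : ℤ) = -1 := by
    have hnn : (0 : ℤ) ≤ p := by positivity
    left
    exact Int.eq_one_of_dvd_one hnn h7
  rcases h8 with h8 | h8
  · have : p = 1 := by exact_mod_cast h8
    exact hp.one_lt.ne' this
  · have hnn : (0 : ℤ) ≤ p := by positivity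
    omega

/-- **The simple case of S4466**: a finite simple group not of prime order, with no irreducible
character of degree 2, cannot have all its nontrivial irreducible degrees prime. -/
theorem simple_case (hnp : ¬ (Nat.card G).Prime) (h : PrimeDeg G)
    (h2 : ∀ χ : IrrCharacter G, charDegree (χ : G → ℂ) ≠ 2) : False := by
  classical
  have _ : Fintype G := Fintype.ofFinite G
  have _ : Fintype (Cfsg.IrrCharacter G) := Fintype.ofFinite _
  let χ₀ : Cfsg.IrrCharacter G := ⟨fun _ => 1, Cfsg.Agent.Lib.Helper05.isIrrCharacter_one⟩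
  have hne1 : ∀ χ : IrrCharacter G, χ ≠ χ₀ → (χ : G → ℂ) ≠ fun _ => 1 := by
    intro χ hχ hh
    exact hχ (Subtype.ext hh)
  by_cases hex : (Finset.univ.erase χ₀).Nonempty
  · obtain ⟨χ₁, hχ₁mem, hmin⟩ := Finset.exists_min_image (Finset.univ.erase χ₀)
      (fun χ : IrrCharacter G => charDegree (χ : G → ℂ)) hex
    have hχ₁ : (χ₁ : G → ℂ) ≠ fun _ => 1 := hne1 χ₁ (Finset.mem_erase.mp hχ₁mem).1
    set p := charDegree (χ₁ : G → ℂ) with hpdef
    have hp1 : p ≠ 1 := pd_degree_ne_one hnp χ₁ hχ₁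
    have hp : p.Prime := h χ₁ hp1
    have hp2 : p ≠ 2 := h2 χ₁
    have hfaith := pd_faithful hnp χ₁ hχ₁
    obtain ⟨A, hAab, -, hAidx⟩ := Cfsg.Agent.S4465.result (χ₁ : G → ℂ)
      (Cfsg.Agent.Lib.Helper83.isCharacter_of_irr χ₁.2) hfaith p rfl
    obtain ⟨g, hg, hgA⟩ : ∃ g : G, g ≠ 1 ∧ ∀ a ∈ A, a * g = g * a := by
      by_cases hA : A = ⊥
      · obtain ⟨g, hg⟩ := exists_ne (1 : G)
        refine ⟨g, hg, ?_⟩
        intro a ha
        rw [hA, Subgroup.mem_bot] at ha
        rw [ha, one_mul, mul_one]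
      · obtain ⟨g, hgA, hg⟩ := (Subgroup.ne_bot_iff_exists_ne_one).mp hA |> fun ⟨⟨g, hgA⟩, hg⟩ =>
          (⟨g, hgA, fun h => hg (Subtype.ext h)⟩ : ∃ g, g ∈ A ∧ g ≠ 1)
        exact ⟨g, hg, fun a ha => hAab a ha g hgA⟩
    have hAC : A ≤ Subgroup.centralizer ({g} : Set G) := by
      intro a ha
      rw [Subgroup.mem_centralizer_singleton_iff]
      exact hgA a ha
    have hidx : (Subgroup.centralizer ({g} : Set G)).index ∣ A.index :=
      Subgroup.index_dvd_of_le hAC
    have key : ∀ χ : IrrCharacter G, χ ≠ χ₀ →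
        ∃ β : ℂ, IsIntegral ℤ β ∧ (χ : G → ℂ) g * conj ((χ : G → ℂ) 1) = p * β := by
      intro χ hχ
      have hχ1 := hne1 χ hχ
      have hdeg : ((charDegree (χ : G → ℂ) : ℕ) : ℂ) = (χ : G → ℂ) 1 :=
        Cfsg.Agent.Lib.Helper83.charDegree_cast (Cfsg.Agent.Lib.Helper83.isCharacter_of_irr χ.2)
      by_cases hq : charDegree (χ : G → ℂ) = p
      · refine ⟨(χ : G → ℂ) g, ?_, ?_⟩
        · obtain ⟨n, ρ, hirr, hρ⟩ := χ.2
          rw [← hρ]
          exact isIntegral_char ρ g
        · rw [← hdeg, hq, Complex.conj_natCast]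
          ring
      · refine ⟨0, isIntegral_zero, ?_⟩
        have hq1 : charDegree (χ : G → ℂ) ≠ 1 := pd_degree_ne_one hnp χ hχ1
        have hqp : (charDegree (χ : G → ℂ)).Prime := h χ hq1
        have hle : p ≤ charDegree (χ : G → ℂ) :=
          hmin χ (Finset.mem_erase.mpr ⟨hχ, Finset.mem_univ _⟩)
        have hodd : p % 2 = 1 := by
          rcases hp.eq_two_or_odd with h | h
          · exact absurd h hp2
          · exact h
        have hgt : p + 1 < charDegree (χ : G → ℂ) := by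
          rcases Nat.lt_or_ge (p + 1) (charDegree (χ : G → ℂ)) with h | h
          · exact h
          · exfalso
            have hqeq : charDegree (χ : G → ℂ) = p + 1 := by omega
            rcases hqp.eq_two_or_odd with h' | h'
            · have : p = 1 := by omega
              exact hp1 this
            · omega
        have hcop : Nat.Coprime (charDegree (χ : G → ℂ))
            (Subgroup.centralizer ({g} : Set G)).index := by
          rw [Nat.Prime.coprime_iff_not_dvd hqp]
          intro hdvd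
          have := hAidx _ hqp (dvd_trans hdvd hidx)
          omega
        rw [pd_vanish hnp χ hχ1 g hg hcop]
        simp
    have hcol := (column_orthogonality g 1).2 (by
      intro hc
      exact hg (isConj_one_left.mp hc))
    rw [finsum_eq_sum_of_fintype] at hcol
    choose! β hβint hβ using key
    rw [← Finset.add_sum_erase Finset.univ _ (Finset.mem_univ χ₀)] at hcol
    have hs : ∑ χ ∈ Finset.univ.erase χ₀, (χ : G → ℂ) g * conj ((χ : G → ℂ) 1) =
        p * ∑ χ ∈ Finset.univ.erase χ₀, β χ := by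
      rw [Finset.mul_sum]
      apply Finset.sum_congr rfl
      intro χ hχ
      exact hβ χ (Finset.mem_erase.mp hχ).1
    rw [hs] at hcol
    have h3 : ((χ₀ : G → ℂ) g) * conj ((χ₀ : G → ℂ) 1) = 1 := by simp [χ₀]
    rw [h3] at hcol
    exact pd_endgame p hp _ (IsIntegral.sum _ (fun χ hχ => hβint χ (Finset.mem_erase.mp hχ).1)) hcol
  · obtain ⟨g, hg⟩ := exists_ne (1 : G)
    have hcol := (column_orthogonality g 1).2 (by
      intro hc
      exact hg (isConj_one_left.mp hc))
    rw [finsum_eq_sum_of_fintype] at hcol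
    rw [← Finset.add_sum_erase Finset.univ _ (Finset.mem_univ χ₀)] at hcol
    rw [Finset.not_nonempty_iff_eq_empty.mp hex, Finset.sum_empty] at hcol
    simp [χ₀] at hcol

end

end Cfsg.Agent.Lib.Helper78.PD
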