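import Mathlib
import Cfsg.Prelude.Def_Blocks
import Cfsg.Agent.Lib.Helper78.PDDefs
import Cfsg.Agent.Lib.Helper78.PDSimple

/-!
# S4466 pack K-PD: the induction (glue over the three leaves, taken as hypotheses)
-/

set_option autoImplicit false

namespace Cfsg.Agent.Lib.Helper78.PD

open Cfsg

universe u

theorem solvable_of_primeDeg_aux
    (hQ : ∀ (G : Type u) [Group G] [Finite G], PrimeDeg G →
      ∀ (N : Subgroup G) [N.Normal], PrimeDeg (G ⧸ N))
    (hN : ∀ (G : Type u) [Group G] [Finite G], PrimeDeg G →
      ∀ (N : Subgroup G) [N.Normal], PrimeDeg N)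
    (hD : ∀ (G : Type u) [Group G] [Finite G] [IsSimpleGroup G], ¬ (Nat.card G).Prime →
      ∀ χ : IrrCharacter G, charDegree (χ : G → ℂ) ≠ 2) :
    ∀ (n : ℕ) (G : Type u) [Group G] [Finite G], Nat.card G = n → PrimeDeg G →
      Group.IsSolvable G := by
  intro n
  induction n using Nat.strong_induction_on with
  | _ n ih =>
    intro G _ _ hcard h
    by_cases hsimple : ∀ N : Subgroup G, N.Normal → N = ⊥ ∨ N = ⊤
    · by_cases htriv : Subsingleton G
      · infer_instance
      · have hnt : Nontrivial G := not_subsingleton_iff_nontrivial.mp htriv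
        have : IsSimpleGroup G := ⟨fun N hN => hsimple N hN⟩
        by_cases hnp : (Nat.card G).Prime
        · have : Fact (Nat.card G).Prime := ⟨hnp⟩
          have hcyc : IsCyclic G := isCyclic_of_prime_card rfl
          let _ : CommGroup G := hcyc.commGroup
          infer_instance
        · exact (simple_case hnp h (hD G hnp)).elim
    · push Not at hsimple
      obtain ⟨N, hNn, hNbot, hNtop⟩ := hsimple
      have hN1 : Nat.card N < n := by
        rw [← hcard]
        apply lt_of_le_of_ne (Subgroup.card_le_card_group N)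
        intro heq
        exact hNtop ((Subgroup.card_eq_iff_eq_top N).mp heq)
      have hQ1 : Nat.card (G ⧸ N) < n := by
        rw [← hcard, Subgroup.card_eq_card_quotient_mul_card_subgroup N]
        have h1 : 1 < Nat.card N := by
          rw [Nat.one_lt_iff_ne_zero_and_ne_one]
          refine ⟨Nat.card_pos.ne', ?_⟩
          intro h1
          exact hNbot ((Subgroup.card_eq_one).mp h1)
        have h0 : 0 < Nat.card (G ⧸ N) := Nat.card_pos
        nlinarith
      have hsN : Group.IsSolvable N := ih _ hN1 N rfl (hN G h N)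
      have hsQ : Group.IsSolvable (G ⧸ N) := ih _ hQ1 (G ⧸ N) rfl (hQ G h N)
      refine Group.isSolvable_of_ker_le_range N.subtype (QuotientGroup.mk' N) ?_
      rw [QuotientGroup.ker_mk', Subgroup.range_subtype]

end Cfsg.Agent.Lib.Helper78.PD
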