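import Mathlib
import Cfsg.Agent.Lib.Helper78.InvolAut

/-!
# Small auxiliary lemmas for S4401
-/

set_option autoImplicit false
set_option linter.unusedSectionVars false

namespace Cfsg.Agent.Lib.Helper78.RankFourAux

open Cfsg.Agent.Lib.Helper78.InvolAut

/-- a subgroup of order two consists of `1` and its nonidentity element -/
theorem eq_one_or_eq_of_card_two {G : Type*} [Group G] (H : Subgroup G) (hH : Nat.card H = 2)
    {z : G} (hz : z ∈ H) (hz1 : z ≠ 1) : ∀ x ∈ H, x = 1 ∨ x = z := by
  haveI : Finite H := Nat.finite_of_card_ne_zero (by rw [hH]; norm_num)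
  have hz2 : z ^ 2 = 1 := by
    have := pow_card_eq_one' (G := H) (x := ⟨z, hz⟩)
    rw [hH] at this
    exact congrArg Subtype.val this
  have hord : orderOf z = 2 := orderOf_eq_prime hz2 hz1
  have hle : Subgroup.zpowers z ≤ H := Subgroup.zpowers_le.2 hz
  have heq : Subgroup.zpowers z = H :=
    Subgroup.eq_of_le_of_card_ge hle (by rw [Nat.card_zpowers, hord, hH])
  intro x hx
  rw [← heq] at hx
  obtain ⟨k, rfl⟩ := Subgroup.mem_zpowers_iff.1 hx
  exact zpow_invol (by rw [← pow_two]; exact hz2) k

/-- the order of the centre is invariant under isomorphism -/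
theorem card_center_congr {G H : Type*} [Group G] [Group H] (e : G ≃* H) :
    Nat.card (Subgroup.center G) = Nat.card (Subgroup.center H) := by
  refine Nat.card_congr
    { toFun := fun x => ⟨e x, ?_⟩
      invFun := fun y => ⟨e.symm y, ?_⟩
      left_inv := fun x => by simp
      right_inv := fun y => by simp }
  · rw [Subgroup.mem_center_iff]
    intro g
    have := Subgroup.mem_center_iff.1 x.2 (e.symm g)
    have h2 := congrArg e this
    simpa using h2
  · rw [Subgroup.mem_center_iff]
    intro g
    have := Subgroup.mem_center_iff.1 y.2 (e g)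
    have h2 := congrArg e.symm this
    simpa using h2

/-- commutativity transfers along an isomorphism -/
theorem isMulCommutative_of_equiv {G H : Type*} [Group G] [Group H] (e : G ≃* H)
    (h : IsMulCommutative G) : IsMulCommutative H := by
  refine ⟨⟨fun a b => ?_⟩⟩
  have := h.is_comm.comm (e.symm a) (e.symm b)
  have h2 := congrArg e this
  simpa using h2

end Cfsg.Agent.Lib.Helper78.RankFourAux
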