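import Mathlib
import Cfsg.Agent.Lib.Helper78.SectionRank
import Cfsg.Agent.Lib.Helper78.CenterMeet

/-!
# Core of S4401 (Gorenstein–Harada): a nonabelian subgroup with centre of order two in a 2-group of
sectional rank at most four
-/

set_option autoImplicit false
set_option linter.unusedSectionVars false
set_option linter.unusedVariables false
set_option linter.style.haveILetI false

namespace Cfsg.Agent.Lib.Helper78.RankFourCore

open Cfsg Cfsg.Agent.Lib.Helper78.SectionRank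
open scoped commutatorElement

variable {S : Type*} [Group S]

/-- an element whose commutators are all central: existence in a non-abelian `2`-group -/
theorem exists_second_center [Finite S] (h2 : IsPGroup 2 S) (hne : Subgroup.center S ≠ ⊤) :
    ∃ y : S, y ∉ Subgroup.center S ∧ ∀ g : S, y * g * y⁻¹ * g⁻¹ ∈ Subgroup.center S := by
  haveI : Fact (Nat.Prime 2) := ⟨Nat.prime_two⟩
  have hnt : Nontrivial (S ⧸ Subgroup.center S) := by
    obtain ⟨g, hg⟩ : ∃ g : S, g ∉ Subgroup.center S := by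
      by_contra hcon
      push Not at hcon
      exact hne (eq_top_iff.2 fun g _ => hcon g)
    refine ⟨⟨(QuotientGroup.mk g : S ⧸ Subgroup.center S), 1, ?_⟩⟩
    intro h
    exact hg ((QuotientGroup.eq_one_iff g).1 h)
  have hq : IsPGroup 2 (S ⧸ Subgroup.center S) := h2.to_quotient _
  have hcn : Nontrivial (Subgroup.center (S ⧸ Subgroup.center S)) := hq.center_nontrivial
  obtain ⟨⟨ybar, hybar⟩, hy1⟩ := exists_ne (1 : Subgroup.center (S ⧸ Subgroup.center S))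
  obtain ⟨y, rfl⟩ := QuotientGroup.mk_surjective ybar
  refine ⟨y, ?_, ?_⟩
  · intro hy
    apply hy1
    apply Subtype.ext
    exact (QuotientGroup.eq_one_iff y).2 hy
  · intro g
    rw [← QuotientGroup.eq_one_iff]
    have := Subgroup.mem_center_iff.1 hybar (QuotientGroup.mk g)
    simp only [QuotientGroup.mk_mul, QuotientGroup.mk_inv]
    rw [← this]
    group

/-- an element whose commutators are central centralizes all commutators -/
theorem conj_commutator_of_central_commutators {y : S}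
    (hy : ∀ g : S, y * g * y⁻¹ * g⁻¹ ∈ Subgroup.center S) (a b : S) :
    y * ⁅a, b⁆ * y⁻¹ = ⁅a, b⁆ := by
  set c₁ := y * a * y⁻¹ * a⁻¹ with hc₁
  set c₂ := y * b * y⁻¹ * b⁻¹ with hc₂
  have h1 : ∀ g, c₁ * g = g * c₁ := fun g => (Subgroup.mem_center_iff.1 (hy a) g).symm
  have h2 : ∀ g, c₂ * g = g * c₂ := fun g => (Subgroup.mem_center_iff.1 (hy b) g).symm
  have e1 : y * a * y⁻¹ = c₁ * a := by rw [hc₁]; group
  have e2 : y * b * y⁻¹ = c₂ * b := by rw [hc₂]; group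
  have e3 : y * ⁅a, b⁆ * y⁻¹ = ⁅y * a * y⁻¹, y * b * y⁻¹⁆ := by
    simp only [commutatorElement_def]; group
  rw [e3, e1, e2]
  simp only [commutatorElement_def, mul_inv_rev]
  have h1' : ∀ g, c₁⁻¹ * g = g * c₁⁻¹ := fun g => by
    have := h1 (c₁⁻¹ * g * c₁⁻¹)
    calc c₁⁻¹ * g = c₁⁻¹ * g * c₁⁻¹ * c₁ := by group
      _ = c₁ * (c₁⁻¹ * g * c₁⁻¹) := (h1 _).symm
      _ = g * c₁⁻¹ := by group
  have h2' : ∀ g, c₂⁻¹ * g = g * c₂⁻¹ := fun g => by
    calc c₂⁻¹ * g = c₂⁻¹ * g * c₂⁻¹ * c₂ := by group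
      _ = c₂ * (c₂⁻¹ * g * c₂⁻¹) := (h2 _).symm
      _ = g * c₂⁻¹ := by group
  calc c₁ * a * (c₂ * b) * (a⁻¹ * c₁⁻¹) * (b⁻¹ * c₂⁻¹)
      = c₁ * (a * c₂) * b * a⁻¹ * (c₁⁻¹ * b⁻¹) * c₂⁻¹ := by group
    _ = c₁ * (c₂ * a) * b * a⁻¹ * (b⁻¹ * c₁⁻¹) * c₂⁻¹ := by rw [h2 a, h1' b⁻¹]
    _ = c₁ * c₂ * (a * b * a⁻¹ * b⁻¹) * c₁⁻¹ * c₂⁻¹ := by group
    _ = c₁ * (c₂ * (a * b * a⁻¹ * b⁻¹)) * c₁⁻¹ * c₂⁻¹ := by group
    _ = c₁ * ((a * b * a⁻¹ * b⁻¹) * c₂) * c₁⁻¹ * c₂⁻¹ := by rw [h2]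
    _ = (c₁ * (a * b * a⁻¹ * b⁻¹)) * (c₂ * c₁⁻¹) * c₂⁻¹ := by group
    _ = ((a * b * a⁻¹ * b⁻¹) * c₁) * (c₁⁻¹ * c₂) * c₂⁻¹ := by rw [h1, h2 c₁⁻¹]
    _ = a * b * a⁻¹ * b⁻¹ := by group

/-- **Core of S4401**, in elementwise form. `P` has centre `{1, z}`, `S₀ = C_S(z)` normalizes `P`,
`s ∈ N_S(S₀) \ S₀`, and `P`, `Q = s P s⁻¹` satisfy the conclusions of S4400 inside `S₀`. -/
theorem core [Finite S] (h2 : IsPGroup 2 S) (P S₀ : Subgroup S) (z s : S)
    (hz1 : z ≠ 1) (hzP : z ∈ P)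
    (hzc : ∀ p ∈ P, (∀ p' ∈ P, p * p' = p' * p) → (p = 1 ∨ p = z))
    (hzc' : ∀ p' ∈ P, z * p' = p' * z)
    (hPna : ¬ IsMulCommutative P)
    (hS₀ : ∀ g, g ∈ S₀ ↔ g * z = z * g)
    (hPn : ∀ t ∈ S₀, ∀ x ∈ P, t * x * t⁻¹ ∈ P)
    (hsN : s ∈ Subgroup.normalizer (S₀ : Set S)) (hsS₀ : s ∉ S₀)
    (hcomm : ∀ p ∈ P, ∀ p' ∈ P, p * (s * p' * s⁻¹) = (s * p' * s⁻¹) * p)
    (hint : ∀ p ∈ P, ∀ p' ∈ P, p = s * p' * s⁻¹ → p = 1)
    (hcent : ∀ x ∈ S₀, (∀ p ∈ P, x * p = p * x) →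
      (∀ p ∈ P, x * (s * p * s⁻¹) = (s * p * s⁻¹) * x) →
      ∃ p ∈ P, ∃ p' ∈ P, x = p * (s * p' * s⁻¹)) :
    S₀.index = 2 := by
  classical
  haveI : Fact (Nat.Prime 2) := ⟨Nat.prime_two⟩
  obtain ⟨z', hz'⟩ : ∃ z', z' = s * z * s⁻¹ := ⟨_, rfl⟩
  -- basic facts on z, z'
  have hzz : z * z = 1 := by
    have hcz : ∀ p' ∈ P, z * z * p' = p' * (z * z) := by
      intro p' hp'
      rw [mul_assoc, hzc' p' hp', ← mul_assoc, hzc' p' hp', mul_assoc]
    rcases hzc (z * z) (P.mul_mem hzP hzP) hcz with h | h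
    · exact h
    · exfalso
      apply hz1
      calc z = z⁻¹ * (z * z) := by group
        _ = z⁻¹ * z := by rw [h]
        _ = 1 := by group
  have hzinv : z⁻¹ = z := inv_eq_of_mul_eq_one_left hzz
  have hz'ne : z' ≠ z := by
    intro h
    apply hsS₀
    rw [hS₀]
    calc s * z = (s * z * s⁻¹) * s := by group
      _ = z * s := by rw [← hz', h]
  have hz'z' : z' * z' = 1 := by
    rw [hz']
    calc s * z * s⁻¹ * (s * z * s⁻¹) = s * (z * z) * s⁻¹ := by group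
      _ = 1 := by rw [hzz]; group
  have hz'inv : z'⁻¹ = z' := inv_eq_of_mul_eq_one_left hz'z'
  have hz'1 : z' ≠ 1 := by
    intro h
    apply hz1
    calc z = s⁻¹ * z' * s := by rw [hz']; group
      _ = 1 := by rw [h]; group
  have hzz'comm : z * z' = z' * z := by rw [hz']; exact hcomm z hzP z hzP
  have hz'notP : z' ∉ P := fun h => hz'1 (hint z' h z hzP hz')
  obtain ⟨w, hw⟩ : ∃ w, w = z * z' := ⟨_, rfl⟩
  have hw1 : w ≠ 1 := by
    intro h
    apply hz'ne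
    calc z' = z⁻¹ * (z * z') := by group
      _ = z⁻¹ := by rw [← hw, h, mul_one]
      _ = z := hzinv
  have hww : w * w = 1 := by
    rw [hw]
    calc z * z' * (z * z') = z * (z' * z) * z' := by group
      _ = z * (z * z') * z' := by rw [hzz'comm]
      _ = (z * z) * (z' * z') := by group
      _ = 1 := by rw [hzz, hz'z', one_mul]
  have hwz : w * z = z' := by
    rw [hw, mul_assoc, ← hzz'comm, ← mul_assoc, hzz, one_mul]
  have hwz' : w * z' = z := by
    rw [hw, mul_assoc, hz'z', mul_one]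
  have hwnotP : w ∉ P := by
    intro h
    apply hz'notP
    rw [← hwz]
    exact P.mul_mem h hzP
  have hwnotQ : ∀ p ∈ P, w ≠ s * p * s⁻¹ := by
    intro p hp h
    apply hz1
    apply hint z hzP (p * z⁻¹) (P.mul_mem hp (P.inv_mem hzP))
    calc z = w * z'⁻¹ := by rw [hz'inv, hwz']
      _ = (s * p * s⁻¹) * (s * z * s⁻¹)⁻¹ := by rw [h, hz']
      _ = s * (p * z⁻¹) * s⁻¹ := by group
  -- P and Q lie in S₀, and S₀ normalizes Q
  have hPS₀ : P ≤ S₀ := fun p hp => (hS₀ p).2 (hzc' p hp).symm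
  have hQS₀ : ∀ p ∈ P, s * p * s⁻¹ ∈ S₀ := fun p hp => (hS₀ _).2 (hcomm z hzP p hp).symm
  have hQn : ∀ t ∈ S₀, ∀ p ∈ P, ∃ p₁ ∈ P, t * (s * p * s⁻¹) * t⁻¹ = s * p₁ * s⁻¹ := by
    intro t ht p hp
    have hsinv : s⁻¹ ∈ Subgroup.normalizer (S₀ : Set S) := Subgroup.inv_mem _ hsN
    have ht' : s⁻¹ * t * s⁻¹⁻¹ ∈ S₀ := (Subgroup.mem_normalizer_iff.1 hsinv t).1 ht
    rw [inv_inv] at ht'
    refine ⟨(s⁻¹ * t * s) * p * (s⁻¹ * t * s)⁻¹, hPn _ ht' p hp, ?_⟩
    group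
  -- z lies in the commutator subgroup of P
  have hzD : z ∈ ⁅P, P⁆ := by
    haveI : Group.IsNilpotent P := (h2.to_subgroup P).isNilpotent
    have hne : commutator P ≠ ⊥ := fun h => hPna ((commutator_eq_bot_iff _).1 h)
    obtain ⟨x, hxD, hxZ, hx1⟩ := Cfsg.Agent.Lib.Helper78.exists_center_mem_of_normal (commutator P) hne
    have hxS : (x : S) ∈ ⁅P, P⁆ := by
      rw [← Subgroup.map_subtype_commutator]
      exact ⟨x, hxD, rfl⟩
    have hxc : ∀ p' ∈ P, (x : S) * p' = p' * (x : S) := by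
      intro p' hp'
      have := Subgroup.mem_center_iff.1 hxZ ⟨p', hp'⟩
      exact (congrArg Subtype.val this).symm
    rcases hzc (x : S) x.2 hxc with h | h
    · exact absurd (Subtype.ext h) hx1
    · rw [← h]; exact hxS
  -- elements centralizing P and Q
  have hLZ : ∀ x ∈ S₀, (∀ p ∈ P, x * p = p * x) →
      (∀ p ∈ P, x * (s * p * s⁻¹) = (s * p * s⁻¹) * x) → x = 1 ∨ x = z ∨ x = z' ∨ x = w := by
    intro x hx hxP hxQ
    obtain ⟨p, hp, p', hp', rfl⟩ := hcent x hx hxP hxQ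
    have hpc : ∀ p₁ ∈ P, p * p₁ = p₁ * p := by
      intro p₁ hp₁
      have h1 := hxP p₁ hp₁
      have h2 : s * p' * s⁻¹ * p₁ = p₁ * (s * p' * s⁻¹) := (hcomm p₁ hp₁ p' hp').symm
      have h3 : p * p₁ * (s * p' * s⁻¹) = p₁ * p * (s * p' * s⁻¹) := by
        calc p * p₁ * (s * p' * s⁻¹) = p * (p₁ * (s * p' * s⁻¹)) := by group
          _ = p * (s * p' * s⁻¹ * p₁) := by rw [h2]
          _ = p * (s * p' * s⁻¹) * p₁ := by group
          _ = p₁ * (p * (s * p' * s⁻¹)) := h1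
          _ = p₁ * p * (s * p' * s⁻¹) := by group
      exact mul_right_cancel h3
    have hp'c : ∀ p₁ ∈ P, p' * p₁ = p₁ * p' := by
      intro p₁ hp₁
      have h1 := hxQ p₁ hp₁
      have h2 : p * (s * p₁ * s⁻¹) = (s * p₁ * s⁻¹) * p := hcomm p hp p₁ hp₁
      have h3 : p * ((s * p' * s⁻¹) * (s * p₁ * s⁻¹)) = p * ((s * p₁ * s⁻¹) * (s * p' * s⁻¹)) := by
        calc p * ((s * p' * s⁻¹) * (s * p₁ * s⁻¹)) = p * (s * p' * s⁻¹) * (s * p₁ * s⁻¹) := by group
          _ = (s * p₁ * s⁻¹) * (p * (s * p' * s⁻¹)) := h1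
          _ = ((s * p₁ * s⁻¹) * p) * (s * p' * s⁻¹) := by group
          _ = (p * (s * p₁ * s⁻¹)) * (s * p' * s⁻¹) := by rw [h2]
          _ = p * ((s * p₁ * s⁻¹) * (s * p' * s⁻¹)) := by group
      have h4 := mul_left_cancel h3
      have h5 : s * (p' * p₁) * s⁻¹ = s * (p₁ * p') * s⁻¹ := by
        calc s * (p' * p₁) * s⁻¹ = (s * p' * s⁻¹) * (s * p₁ * s⁻¹) := by group
          _ = (s * p₁ * s⁻¹) * (s * p' * s⁻¹) := h4
          _ = s * (p₁ * p') * s⁻¹ := by group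
      exact mul_left_cancel (mul_right_cancel h5)
    rcases hzc p hp hpc with rfl | rfl <;> rcases hzc p' hp' hp'c with rfl | rfl
    · left; group
    · right; right; left; rw [hz']; group
    · right; left; group
    · right; right; right; rw [hw, hz']
  -- the centre of S
  have hzncen : z ∉ Subgroup.center S := by
    intro h
    apply hsS₀
    rw [hS₀]
    exact (Subgroup.mem_center_iff.1 h s)
  have hz'ncen : z' ∉ Subgroup.center S := by
    intro h
    apply hz'ne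
    have h1 := Subgroup.mem_center_iff.1 h s⁻¹
    calc z' = s⁻¹ * z' * s := by rw [h1]; group
      _ = z := by rw [hz']; group
  have hcen_sub : ∀ c ∈ Subgroup.center S, c = 1 ∨ c = w := by
    intro c hc
    have hc' := Subgroup.mem_center_iff.1 hc
    have hcS₀ : c ∈ S₀ := (hS₀ c).2 (hc' z).symm
    rcases hLZ c hcS₀ (fun p _ => (hc' p).symm) (fun p _ => (hc' _).symm) with h | h | h | h
    · left; exact h
    · exact absurd (h ▸ hc) hzncen
    · exact absurd (h ▸ hc) hz'ncen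
    · right; exact h
  have hcen_ne_top : Subgroup.center S ≠ ⊤ := fun h => hzncen (h ▸ Subgroup.mem_top z)
  have hwcen : w ∈ Subgroup.center S := by
    haveI : Nontrivial S := ⟨⟨z, 1, hz1⟩⟩
    have hnt : Nontrivial (Subgroup.center S) := h2.center_nontrivial
    obtain ⟨⟨c, hc⟩, hc1⟩ := exists_ne (1 : Subgroup.center S)
    rcases hcen_sub c hc with h | h
    · exact absurd (Subtype.ext h) hc1
    · rw [← h]; exact hc
  have hwc : ∀ g, g * w = w * g := Subgroup.mem_center_iff.1 hwcen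
  obtain ⟨y, hycen, hy⟩ := exists_second_center h2 hcen_ne_top
  have hy' : ∀ g, y * g * y⁻¹ * g⁻¹ = 1 ∨ y * g * y⁻¹ * g⁻¹ = w := fun g => hcen_sub _ (hy g)
  -- y centralizes z
  have hyz : y * z = z * y := by
    have hle : ⁅P, P⁆ ≤ Subgroup.centralizer {y} := by
      rw [Subgroup.commutator_le]
      intro a _ b _
      rw [Subgroup.mem_centralizer_singleton_iff]
      have h := conj_commutator_of_central_commutators hy a b
      calc ⁅a, b⁆ * y = (y * ⁅a, b⁆ * y⁻¹) * y := by rw [h]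
        _ = y * ⁅a, b⁆ := by group
    have := Subgroup.mem_centralizer_singleton_iff.1 (hle hzD)
    exact this.symm
  have hyS₀ : y ∈ S₀ := (hS₀ y).2 hyz
  have hyP : ∀ p ∈ P, y * p = p * y := by
    intro p hp
    rcases hy' p with h | h
    · calc y * p = (y * p * y⁻¹ * p⁻¹) * p * y := by group
        _ = p * y := by rw [h, one_mul]
    · exfalso
      apply hwnotP
      rw [← h]
      exact P.mul_mem (hPn y hyS₀ p hp) (P.inv_mem hp)
  have hyQ : ∀ p ∈ P, y * (s * p * s⁻¹) = (s * p * s⁻¹) * y := by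
    intro p hp
    rcases hy' (s * p * s⁻¹) with h | h
    · calc y * (s * p * s⁻¹) = (y * (s * p * s⁻¹) * y⁻¹ * (s * p * s⁻¹)⁻¹) * (s * p * s⁻¹) * y := by
            group
        _ = (s * p * s⁻¹) * y := by rw [h, one_mul]
    · exfalso
      obtain ⟨p₁, hp₁, he⟩ := hQn y hyS₀ p hp
      apply hwnotQ (p₁ * p⁻¹) (P.mul_mem hp₁ (P.inv_mem hp))
      rw [← h, he]
      group
  have hyzz' : y = z ∨ y = z' := by
    rcases hLZ y hyS₀ hyP hyQ with h | h | h | h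
    · exact absurd (h ▸ (Subgroup.one_mem _)) hycen
    · left; exact h
    · right; exact h
    · exact absurd (h ▸ hwcen) hycen
  have hzcc : ∀ g, z * g * z⁻¹ * g⁻¹ ∈ Subgroup.center S := by
    rcases hyzz' with h | h
    · rw [← h]; exact hy
    · intro g
      have h1 := hy (s * g * s⁻¹)
      rw [h, hz'] at h1
      have h2 : z * g * z⁻¹ * g⁻¹ =
          s⁻¹ * (s * z * s⁻¹ * (s * g * s⁻¹) * (s * z * s⁻¹)⁻¹ * (s * g * s⁻¹)⁻¹) * s⁻¹⁻¹ := by
        group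
      rw [h2]
      exact (inferInstance : (Subgroup.center S).Normal).conj_mem _ h1 s⁻¹
  have hconj : ∀ g, g * z * g⁻¹ = z ∨ g * z * g⁻¹ = z' := by
    intro g
    have e : g * z * g⁻¹ = (z⁻¹ * (z * g * z⁻¹ * g⁻¹))⁻¹ := by group
    rcases hcen_sub _ (hzcc g) with h | h
    · left
      rw [e, h, mul_one, inv_inv]
    · right
      rw [e, h, mul_inv_rev, inv_inv, inv_eq_of_mul_eq_one_left hww, hwz]
  -- the index
  rw [Subgroup.index_eq_two_iff]
  refine ⟨s, fun b => ?_⟩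
  by_cases hb : b ∈ S₀
  · right
    refine ⟨hb, fun h => hsS₀ ?_⟩
    have := S₀.mul_mem (S₀.inv_mem hb) h
    rwa [inv_mul_cancel_left] at this
  · left
    refine ⟨?_, hb⟩
    have h1 : b * z * b⁻¹ = z' := (hconj b).resolve_left (fun h => hb ((hS₀ b).2 (by
      calc b * z = (b * z * b⁻¹) * b := by group
        _ = z * b := by rw [h])))
    have h2 : b * z' * b⁻¹ = z := by
      calc b * z' * b⁻¹ = b * (w * z) * b⁻¹ := by rw [hwz]
        _ = (b * w) * z * b⁻¹ := by group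
        _ = (w * b) * z * b⁻¹ := by rw [hwc b]
        _ = w * (b * z * b⁻¹) := by group
        _ = z := by rw [h1, hwz']
    rw [hS₀]
    calc b * s * z = b * (s * z * s⁻¹) * s := by group
      _ = (b * z' * b⁻¹) * b * s := by rw [← hz']; group
      _ = z * (b * s) := by rw [h2]; group

end Cfsg.Agent.Lib.Helper78.RankFourCore
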