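import Mathlib
import Cfsg.Prelude.Def_LocalEven
import Cfsg.Agent.Lib.Helper53.S4Inv
import Cfsg.Agent.Lib.Helper53.Conj
import Cfsg.Agent.Lib.Helper90.Involves
import Cfsg.Agent.Lib.Helper58.ProductFormula

/-!
# A section `S₄` from an element of order three inverted by a `2`-element acting on a normal `2`-subgroup

`involves_perm4_of_action`: if `T` is a normal `2`-subgroup of the finite group `X`, `x ^ 3 = 1`,
`t` is a `2`-element with `t x t⁻¹ = x⁻¹` and `x` does not centralize `T`, then `S₄` is involved in `X`.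
-/

set_option autoImplicit false
set_option linter.style.haveILetI false
set_option linter.unusedSectionVars false
open Cfsg

namespace Cfsg.Agent.Lib.Helper78.S4Section

universe u

/-- pulling back `Involves` along a surjection -/
theorem involves_of_surj {H : Type*} [Group H] {G G' : Type*} [Group G] [Group G'] (f : G →* G')
    (hf : Function.Surjective f) (h : Involves H G') : Involves H G := by
  obtain ⟨K', φ, hφ⟩ := Cfsg.Agent.Lib.Helper90.exists_hom_of_involves h
  refine Cfsg.Agent.Lib.Helper90.involves_of_hom (K'.comap f).subtype (φ.comp (f.subgroupComap K'))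
    (Subgroup.subtype_injective _) ?_
  exact hφ.comp (MonoidHom.subgroupComap_surjective_of_surjective f K' hf)

section base
variable {X : Type*} [Group X] [Finite X]

/-- A `p`-group `L` acting by conjugation on a nontrivial normal `p`-subgroup `N` has a nontrivial fixed
point (copy of `Helper13.inf_centralizer_ne_bot`). -/
theorem inf_centralizer_ne_bot' (p : ℕ) [Fact p.Prime] (L N : Subgroup X) [N.Normal]
    (hL : IsPGroup p L) (hN : IsPGroup p N) (hNne : N ≠ ⊥) :
    N ⊓ Subgroup.centralizer (L : Set X) ≠ ⊥ := by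
  let act : MulAction L N :=
    MulAction.compHom N ((MulAut.conjNormal (H := N)).comp L.subtype)
  have hsmul : ∀ (l : L) (n : N), ((l • n : N) : X) = (l : X) * n * (l : X)⁻¹ := by
    intro l n
    exact MulAut.conjNormal_apply (l : X) n
  have hpN : p ∣ Nat.card N := by
    rcases hN.card_eq_or_dvd with h | h
    · exact absurd (Subgroup.card_eq_one.mp h) hNne
    · exact h
  have h1 : (1 : N) ∈ MulAction.fixedPoints L N := by
    intro l
    apply Subtype.ext
    rw [hsmul]; simp
  obtain ⟨b, hb, hb1⟩ := hL.exists_fixed_point_of_prime_dvd_card_of_fixed_point N hpN h1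
  intro hbot
  have hmem : (b : X) ∈ N ⊓ Subgroup.centralizer (L : Set X) := by
    refine ⟨b.2, ?_⟩
    show (b : X) ∈ Subgroup.centralizer (L : Set X)
    rw [Subgroup.mem_centralizer_iff]
    intro l hl
    have := congrArg Subtype.val (hb ⟨l, hl⟩)
    rw [hsmul] at this
    simp only at this
    exact mul_inv_eq_iff_eq_mul.mp this
  rw [hbot, Subgroup.mem_bot] at hmem
  exact hb1 (Subtype.ext hmem.symm)

/-- `involves_perm4_of_config` with `U` only normalized by `x` and `t`. -/
theorem config' (U : Subgroup X) (hUc : ∀ a ∈ U, ∀ b ∈ U, a * b = b * a) (hU2 : IsPGroup 2 U)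
    (x t : X) (hxN : x ∈ Subgroup.normalizer (U : Set X)) (htN : t ∈ Subgroup.normalizer (U : Set X))
    (hx3 : x ^ 3 = 1) (hidx : (U ⊓ Subgroup.centralizer {x}).relIndex U = 4)
    (ht2 : ∃ j : ℕ, t ^ 2 ^ j = 1) (htx : t * x * t⁻¹ = x⁻¹) :
    Involves (Equiv.Perm (Fin 4)) X := by
  set Y := Subgroup.normalizer (U : Set X) with hY
  have hUY : U ≤ Y := Subgroup.le_normalizer
  haveI : (U.subgroupOf Y).Normal := Subgroup.normal_in_normalizer
  have hcen : U.subgroupOf Y ⊓ Subgroup.centralizer {(⟨x, hxN⟩ : Y)} =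
      (U ⊓ Subgroup.centralizer {x}).subgroupOf Y := by
    ext ⟨y, hy⟩
    simp only [Subgroup.mem_inf, Subgroup.mem_subgroupOf, Subgroup.mem_centralizer_iff,
      Set.mem_singleton_iff, forall_eq, Subtype.ext_iff, Subgroup.coe_mul]
    constructor
    · rintro ⟨h1, h2⟩
      exact ⟨h1, h2 ⟨x, hxN⟩ rfl⟩
    · rintro ⟨h1, h2⟩
      refine ⟨h1, ?_⟩
      rintro ⟨h, hh⟩ rfl
      exact h2
  have key := Cfsg.Agent.Lib.Helper53.involves_perm4_of_config (G := Y) (U.subgroupOf Y)
    (by intro a ha b hb; exact Subtype.ext (hUc a ha b hb)) (hU2.comap_subtype)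
    ⟨x, hxN⟩ ⟨t, htN⟩ 3 Nat.prime_three (by norm_num)
    (Subtype.ext (by simpa using hx3))
    (by rw [hcen, Subgroup.relIndex_subgroupOf hUY]; exact hidx)
    (by obtain ⟨j, hj⟩ := ht2; exact ⟨j, Subtype.ext (by simpa using hj)⟩)
    (Subtype.ext (by simpa using htx))
  exact Cfsg.Agent.Lib.Helper90.Involves.of_injective_right Y.subtype Y.subtype_injective key

/-- membership in the cyclic group generated by an involution -/
theorem mem_zpowers_invol {w g : X} (hw : w ^ 2 = 1) (hg : g ∈ Subgroup.zpowers w) : g = 1 ∨ g = w := by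
  rw [Subgroup.mem_zpowers_iff] at hg
  obtain ⟨k, rfl⟩ := hg
  rcases Int.emod_two_eq_zero_or_one k with h | h
  · left
    have : k = 2 * (k / 2) := by omega
    rw [this, zpow_mul, zpow_ofNat, hw, one_zpow]
  · right
    have : k = 2 * (k / 2) + 1 := by omega
    rw [this, zpow_add, zpow_mul, zpow_ofNat, hw, one_zpow, one_mul, zpow_one]

/-- the "norm" `v * v^x * v^(x^2)` -/
def nrm (x v : X) : X := v * MulAut.conj x v * MulAut.conj x (MulAut.conj x v)

/-- **Base case**: `T` of exponent two. -/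
theorem base (T : Subgroup X) [hTn : T.Normal] (hT2 : ∀ v ∈ T, v ^ 2 = 1)
    (x t : X) (hx3 : x ^ 3 = 1) (ht2 : ∃ j : ℕ, t ^ 2 ^ j = 1) (htx : t * x * t⁻¹ = x⁻¹)
    (hact : ∃ v ∈ T, x * v * x⁻¹ ≠ v) : Involves (Equiv.Perm (Fin 4)) X := by
  classical
  haveI : Fact (Nat.Prime 2) := ⟨Nat.prime_two⟩
  have hTp : IsPGroup 2 T := fun g => ⟨1, Subtype.ext (by simpa using hT2 g g.2)⟩
  have hinv : ∀ a ∈ T, a⁻¹ = a := by
    intro a ha
    rw [inv_eq_iff_mul_eq_one, ← pow_two]
    exact hT2 a ha
  have hTc : ∀ a ∈ T, ∀ b ∈ T, a * b = b * a := by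
    intro a ha b hb
    have h1 := hinv (a * b) (T.mul_mem ha hb)
    calc a * b = (a * b)⁻¹ := h1.symm
      _ = b⁻¹ * a⁻¹ := mul_inv_rev _ _
      _ = b * a := by rw [hinv a ha, hinv b hb]
  have hconj : ∀ (g : X), ∀ a ∈ T, MulAut.conj g a ∈ T := fun g a ha => by
    rw [MulAut.conj_apply]; exact hTn.conj_mem a ha g
  have hxxx : x * x * x = 1 := by
    rw [← hx3, pow_succ, pow_two]
  -- conjugations
  set c : MulAut X := MulAut.conj x with hc
  set d : MulAut X := MulAut.conj t with hd
  have hcT : ∀ a ∈ T, c a ∈ T := fun a ha => hconj x a ha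
  have hdT : ∀ a ∈ T, d a ∈ T := fun a ha => hconj t a ha
  have hccc : ∀ v, c (c (c v)) = v := by
    intro v
    have h1 : c * c * c = 1 := by rw [hc, ← map_mul, ← map_mul, hxxx, map_one]
    have h2 := DFunLike.congr_fun h1 v
    simpa [MulAut.mul_apply] using h2
  have hxt : x * t = t * (x * x) := by
    have h5 : t * x⁻¹ * t⁻¹ = x := by
      have h6 : t * x⁻¹ * t⁻¹ = (t * x * t⁻¹)⁻¹ := by group
      rw [h6, htx, inv_inv]
    have hxi : x⁻¹ = x * x := by
      rw [inv_eq_iff_mul_eq_one, ← mul_assoc]; exact hxxx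
    calc x * t = (t * x⁻¹ * t⁻¹) * t := by rw [h5]
      _ = t * x⁻¹ := by group
      _ = t * (x * x) := by rw [hxi]
  have hcd : ∀ v, c (d v) = d (c (c v)) := by
    intro v
    have h1 : c * d = d * (c * c) := by
      rw [hc, hd, ← map_mul, ← map_mul, ← map_mul, hxt]
    have h2 := DFunLike.congr_fun h1 v
    simpa [MulAut.mul_apply] using h2
  -- the norm map
  have hFdef : ∀ v, nrm x v = v * c v * c (c v) := fun v => rfl
  have hFmul : ∀ a ∈ T, ∀ b ∈ T, nrm x (a * b) = nrm x a * nrm x b := by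
    intro a ha b hb
    have c1 : Commute b (c a) := hTc b hb _ (hcT a ha)
    have c2 : Commute (b * c b) (c (c a)) :=
      hTc _ (T.mul_mem hb (hcT b hb)) _ (hcT _ (hcT a ha))
    rw [hFdef, hFdef, hFdef, map_mul c a b, map_mul c (c a) (c b), c1.mul_mul_mul_comm,
      c2.mul_mul_mul_comm]
  have hFone : nrm x 1 = 1 := by rw [hFdef]; simp
  have hFT : ∀ a ∈ T, nrm x a ∈ T := fun a ha => by
    rw [hFdef]; exact T.mul_mem (T.mul_mem ha (hcT a ha)) (hcT _ (hcT a ha))
  have hFx : ∀ v ∈ T, nrm x (c v) = nrm x v := by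
    intro v hv
    rw [hFdef, hFdef, hccc v]
    have c1 : (c v * c (c v)) * v = v * (c v * c (c v)) :=
      hTc _ (T.mul_mem (hcT v hv) (hcT _ (hcT v hv))) v hv
    rw [c1, mul_assoc]
  have hFt : ∀ v ∈ T, nrm x (d v) = d (nrm x v) := by
    intro v hv
    have e2 : c (c (d v)) = d (c v) := by
      rw [hcd v, hcd (c (c v)), hccc]
    have c1 : c (c v) * c v = c v * c (c v) :=
      hTc _ (hcT _ (hcT v hv)) _ (hcT v hv)
    rw [hFdef, hFdef, e2, hcd v, map_mul d, map_mul d, mul_assoc (d v), ← map_mul d (c (c v)), c1,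
      map_mul d, mul_assoc]
  -- the kernel of the norm map
  let W : Subgroup X :=
    { carrier := {v | v ∈ T ∧ nrm x v = 1}
      mul_mem' := by
        rintro a b ⟨ha, hFa⟩ ⟨hb, hFb⟩
        exact ⟨T.mul_mem ha hb, by rw [hFmul a ha b hb, hFa, hFb, one_mul]⟩
      one_mem' := ⟨T.one_mem, hFone⟩
      inv_mem' := by
        rintro a ⟨ha, hFa⟩
        refine ⟨T.inv_mem ha, ?_⟩
        rw [hinv a ha]; exact hFa }
  have hWT : W ≤ T := fun v hv => hv.1
  have hxW : x ∈ Subgroup.normalizer (W : Set X) := by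
    apply Cfsg.Agent.Lib.Helper53.mem_normalizer_of_conj_mem
    rintro v ⟨hv, hFv⟩
    rw [← MulAut.conj_apply]
    exact ⟨hcT v hv, by rw [hFx v hv, hFv]⟩
  have htW : t ∈ Subgroup.normalizer (W : Set X) := by
    apply Cfsg.Agent.Lib.Helper53.mem_normalizer_of_conj_mem
    rintro v ⟨hv, hFv⟩
    rw [← MulAut.conj_apply]
    exact ⟨hdT v hv, by rw [hFt v hv, hFv, map_one]⟩
  -- no fixed points of `x` on `W`
  have hWfix : ∀ v ∈ W, c v = v → v = 1 := by
    rintro v ⟨hv, hFv⟩ hxv
    rw [hFdef, hxv, hxv] at hFv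
    have h3 : v * v * v = v := by
      rw [← pow_two, hT2 v hv, one_mul]
    rw [h3] at hFv
    exact hFv
  have hWne : W ≠ ⊥ := by
    obtain ⟨v, hv, hxv⟩ := hact
    intro hbot
    have hu : v⁻¹ * c v ∈ W := by
      refine ⟨T.mul_mem (T.inv_mem hv) (hcT v hv), ?_⟩
      rw [hFmul _ (T.inv_mem hv) _ (hcT v hv), hFx v hv, hinv v hv, ← pow_two]
      exact hT2 _ (hFT v hv)
    rw [hbot, Subgroup.mem_bot] at hu
    apply hxv
    calc x * v * x⁻¹ = v * (v⁻¹ * c v) := by rw [hc, MulAut.conj_apply]; group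
      _ = v := by rw [hu, mul_one]
  -- a nontrivial element of `W` fixed by `t`
  obtain ⟨w, hwW, hw1, hwt⟩ : ∃ w ∈ W, w ≠ 1 ∧ t * w = w * t := by
    set Y := Subgroup.normalizer (W : Set X) with hY
    have hWY : W ≤ Y := Subgroup.le_normalizer
    haveI : (W.subgroupOf Y).Normal := Subgroup.normal_in_normalizer
    have hL : IsPGroup 2 (Subgroup.zpowers (⟨t, htW⟩ : Y)) := by
      obtain ⟨j, hj⟩ := ht2
      rintro ⟨y, hy⟩
      rw [Subgroup.mem_zpowers_iff] at hy
      obtain ⟨i, rfl⟩ := hy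
      refine ⟨j, Subtype.ext ?_⟩
      apply Subtype.ext
      simp only [SubgroupClass.coe_zpow, SubmonoidClass.coe_pow, OneMemClass.coe_one]
      rw [← zpow_natCast, ← zpow_mul, mul_comm, zpow_mul, zpow_natCast, hj, one_zpow]
    have hN : IsPGroup 2 (W.subgroupOf Y) := (hTp.to_le hWT).comap_subtype
    have hNne : W.subgroupOf Y ≠ ⊥ := by
      intro h
      rw [Subgroup.subgroupOf_eq_bot] at h
      apply hWne
      rw [eq_bot_iff]
      have := h.le_bot
      rwa [inf_eq_left.mpr hWY] at this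
    have hne := inf_centralizer_ne_bot' 2 (Subgroup.zpowers (⟨t, htW⟩ : Y)) (W.subgroupOf Y) hL hN hNne
    obtain ⟨⟨b, hb⟩, hb1⟩ := (Subgroup.ne_bot_iff_exists_ne_one).mp hne
    refine ⟨b.1, hb.1, fun h => hb1 (Subtype.ext (Subtype.ext h)), ?_⟩
    have h2 := Subgroup.mem_centralizer_iff.mp hb.2 ⟨t, htW⟩ (Subgroup.mem_zpowers _)
    exact congrArg Subtype.val h2
  have hwT : w ∈ T := hWT hwW
  have hw2 : w ^ 2 = 1 := hT2 w hwT
  set w' := c w with hw'
  have hw'W : w' ∈ W := by
    have := (Subgroup.mem_normalizer_iff.mp hxW w).mp hwW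
    rwa [← MulAut.conj_apply] at this
  have hw'T : w' ∈ T := hWT hw'W
  have hw'2 : w' ^ 2 = 1 := hT2 w' hw'T
  have hww' : w ≠ w' := fun h => hw1 (hWfix w hwW h.symm)
  have hw'1 : w' ≠ 1 := by
    intro h
    apply hw1
    have : c w = c 1 := by rw [map_one]; exact h
    exact c.injective this
  have hcw' : c w' = w * w' := by
    have h1 : w * w' * c w' = 1 := hwW.2
    have h2 : c w' = (w * w')⁻¹ := by
      rw [eq_inv_iff_mul_eq_one, hTc _ (hcT _ hw'T) _ (T.mul_mem hwT hw'T)]
      exact h1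
    rw [h2, hinv _ (T.mul_mem hwT hw'T)]
  -- the four-group
  set U : Subgroup X := Subgroup.zpowers w ⊔ Subgroup.zpowers w' with hU
  have hwU : w ∈ U := (le_sup_left : Subgroup.zpowers w ≤ U) (Subgroup.mem_zpowers w)
  have hw'U : w' ∈ U := (le_sup_right : Subgroup.zpowers w' ≤ U) (Subgroup.mem_zpowers w')
  have hUW : U ≤ W := sup_le (Subgroup.zpowers_le.mpr hwW) (Subgroup.zpowers_le.mpr hw'W)
  have hUT : U ≤ T := hUW.trans hWT
  have hxU : x ∈ Subgroup.normalizer (U : Set X) := by
    apply Cfsg.Agent.Lib.Helper53.mem_normalizer_of_map_conj_eq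
    apply Cfsg.Agent.Lib.Helper53.map_conj_eq_of_le
    rw [hU, Subgroup.map_sup, MonoidHom.map_zpowers, MonoidHom.map_zpowers]
    apply sup_le
    · rw [Subgroup.zpowers_le]
      exact hw'U
    · rw [Subgroup.zpowers_le]
      show c w' ∈ U
      rw [hcw']
      exact U.mul_mem hwU hw'U
  have htU : t ∈ Subgroup.normalizer (U : Set X) := by
    apply Cfsg.Agent.Lib.Helper53.mem_normalizer_of_map_conj_eq
    apply Cfsg.Agent.Lib.Helper53.map_conj_eq_of_le
    rw [hU, Subgroup.map_sup, MonoidHom.map_zpowers, MonoidHom.map_zpowers]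
    have hdw : d w = w := by
      rw [hd, MulAut.conj_apply, hwt]; group
    apply sup_le
    · rw [Subgroup.zpowers_le]
      show d w ∈ U
      rw [hdw]; exact hwU
    · rw [Subgroup.zpowers_le]
      show d (c w) ∈ U
      have h1 : c (d (c w)) = w := by
        rw [hcd, hccc, hdw]
      have h2 : d (c w) = c (c w) := by
        apply c.injective
        rw [h1, hccc]
      rw [h2, ← hw', hcw']
      exact U.mul_mem hwU hw'U
  have hcardU : Nat.card U = 4 := by
    have hcomm : Commute w w' := hTc w hwT w' hw'T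
    have hle : Subgroup.zpowers w ≤ Subgroup.normalizer (Subgroup.zpowers w' : Set X) := by
      refine le_trans ?_ (Subgroup.centralizer_le_normalizer _)
      rw [Subgroup.zpowers_le, Subgroup.mem_centralizer_iff]
      intro g hg
      rw [SetLike.mem_coe, Subgroup.mem_zpowers_iff] at hg
      obtain ⟨k, rfl⟩ := hg
      exact ((hcomm.zpow_right k).eq).symm
    have h1 := Cfsg.Agent.Lib.Helper58.card_sup_mul_card_inf (Subgroup.zpowers w) (Subgroup.zpowers w') hle
    have hinf : Subgroup.zpowers w ⊓ Subgroup.zpowers w' = ⊥ := by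
      rw [Subgroup.eq_bot_iff_forall]
      rintro g ⟨hg1, hg2⟩
      rcases mem_zpowers_invol hw2 hg1 with h | h
      · exact h
      · rcases mem_zpowers_invol hw'2 hg2 with h' | h'
        · exact h'
        · exact absurd (h.symm.trans h') hww'
    have hc1 : Nat.card (Subgroup.zpowers w) = 2 := by
      rw [Nat.card_zpowers]; exact orderOf_eq_prime hw2 hw1
    have hc2 : Nat.card (Subgroup.zpowers w') = 2 := by
      rw [Nat.card_zpowers]; exact orderOf_eq_prime hw'2 hw'1
    rw [hinf, Subgroup.card_bot, mul_one, hc1, hc2] at h1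
    exact h1
  have hidx : (U ⊓ Subgroup.centralizer {x}).relIndex U = 4 := by
    have hbot : U ⊓ Subgroup.centralizer {x} = ⊥ := by
      rw [Subgroup.eq_bot_iff_forall]
      rintro g ⟨hg1, hg2⟩
      apply hWfix g (hUW hg1)
      rw [hc, MulAut.conj_apply]
      have := Subgroup.mem_centralizer_iff.mp hg2 x rfl
      rw [this]; group
    rw [hbot, Subgroup.relIndex_bot_left]
    exact hcardU
  exact config' U (fun a ha b hb => hTc a (hUT ha) b (hUT hb)) (hTp.to_le hUT) x t hxU htU hx3 hidx
    ht2 htx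

end base

/-- **Key lemma**, by induction on `|T|`. -/
theorem key (n : ℕ) : ∀ (X : Type u) [Group X] [Finite X] (T : Subgroup X) [T.Normal],
    IsPGroup 2 T → Nat.card T = n →
    ∀ x t : X, x ^ 3 = 1 → (∃ j : ℕ, t ^ 2 ^ j = 1) → t * x * t⁻¹ = x⁻¹ →
    (∃ v ∈ T, x * v * x⁻¹ ≠ v) → Involves (Equiv.Perm (Fin 4)) X := by
  induction n using Nat.strong_induction_on with
  | _ n ih =>
  intro X _ _ T hTn hTp hcard x t hx3 ht2 htx hact
  classical
  haveI : Fact (Nat.Prime 2) := ⟨Nat.prime_two⟩
  -- the subgroup generated by the squares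
  set T1 : Subgroup X := Subgroup.closure {g | ∃ v ∈ T, g = v ^ 2} with hT1
  have hT1T : T1 ≤ T :=
    (Subgroup.closure_le T).mpr (by rintro g ⟨v, hv, rfl⟩; exact T.pow_mem hv 2)
  have hT1n : T1.Normal := by
    refine ⟨fun a ha g => ?_⟩
    induction ha using Subgroup.closure_induction with
    | mem a ha =>
      obtain ⟨v, hv, rfl⟩ := ha
      apply Subgroup.subset_closure
      exact ⟨g * v * g⁻¹, hTn.conj_mem v hv g, by rw [conj_pow]⟩
    | one => simp
    | mul a b _ _ iha ihb =>
      have : g * (a * b) * g⁻¹ = (g * a * g⁻¹) * (g * b * g⁻¹) := by group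
      rw [this]; exact T1.mul_mem iha ihb
    | inv a _ iha =>
      have : g * a⁻¹ * g⁻¹ = (g * a * g⁻¹)⁻¹ := by group
      rw [this]; exact T1.inv_mem iha
  by_cases hbot : T1 = ⊥
  · -- exponent two
    apply base T (fun v hv => ?_) x t hx3 ht2 htx hact
    have : v ^ 2 ∈ T1 := Subgroup.subset_closure ⟨v, hv, rfl⟩
    rwa [hbot, Subgroup.mem_bot] at this
  · -- `T1 < T`
    have hTne : T ≠ ⊥ := by
      intro h
      apply hbot
      rw [eq_bot_iff, ← h]; exact hT1T
    have hlt : Nat.card T1 < Nat.card T := by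
      obtain ⟨m, hm⟩ := (IsPGroup.iff_card.mp hTp)
      have hm1 : m ≠ 0 := by
        intro h0
        rw [h0, pow_zero] at hm
        exact hTne (Subgroup.card_eq_one.mp hm)
      obtain ⟨K, hK⟩ := Sylow.exists_subgroup_card_pow_prime 2 (n := m - 1) (G := T) (by
        rw [hm]; exact pow_dvd_pow 2 (Nat.sub_le m 1))
      have hidx : K.index = 2 := by
        have h1 := K.card_mul_index
        rw [hK, hm] at h1
        have h2 : (2 : ℕ) ^ m = 2 ^ (m - 1) * 2 := by
          rw [← pow_succ]; congr 1; omega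
        rw [h2] at h1
        exact Nat.eq_of_mul_eq_mul_left (by positivity) h1
      have hle : T1 ≤ K.map T.subtype := by
        rw [hT1, Subgroup.closure_le]
        rintro g ⟨v, hv, rfl⟩
        exact ⟨⟨v, hv⟩ ^ 2, Subgroup.sq_mem_of_index_two hidx ⟨v, hv⟩, rfl⟩
      calc Nat.card T1 ≤ Nat.card (K.map T.subtype) := Subgroup.card_le_of_le hle
        _ = Nat.card K := Subgroup.card_map_of_injective T.subtype_injective
        _ = 2 ^ (m - 1) := hK
        _ < 2 ^ m := Nat.pow_lt_pow_right (by norm_num) (by omega)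
        _ = Nat.card T := hm.symm
    by_cases hact1 : ∃ v ∈ T1, x * v * x⁻¹ ≠ v
    · exact ih (Nat.card T1) (hcard ▸ hlt) X T1 (hTp.to_le hT1T) rfl x t hx3 ht2 htx hact1
    · push Not at hact1
      -- pass to the quotient
      let π : X →* X ⧸ T1 := QuotientGroup.mk' T1
      have hπs : Function.Surjective π := QuotientGroup.mk'_surjective T1
      haveI hTqn : (T.map π).Normal := Subgroup.Normal.map hTn π hπs
      have hTqp : IsPGroup 2 (T.map π) := hTp.map π
      have hTqlt : Nat.card (T.map π) < Nat.card T := by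
        let f : T → T.map π := fun v => ⟨π v, Subgroup.mem_map_of_mem π v.2⟩
        have hfs : Function.Surjective f := by
          rintro ⟨_, v, hv, rfl⟩
          exact ⟨⟨v, hv⟩, rfl⟩
        have hfi : ¬ Function.Injective f := by
          intro hinj
          apply hbot
          rw [Subgroup.eq_bot_iff_forall]
          intro u hu
          have h1 : f ⟨u, hT1T hu⟩ = f 1 := by
            apply Subtype.ext
            show π u = π 1
            rw [map_one]
            exact (QuotientGroup.eq_one_iff u).mpr hu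
          exact congrArg Subtype.val (hinj h1)
        letI := Fintype.ofFinite T
        letI := Fintype.ofFinite (T.map π)
        rw [Nat.card_eq_fintype_card, Nat.card_eq_fintype_card]
        exact Fintype.card_lt_of_surjective_not_injective f hfs hfi
      have hactq : ∃ v ∈ T.map π, π x * v * (π x)⁻¹ ≠ v := by
        obtain ⟨v, hv, hxv⟩ := hact
        refine ⟨π v, Subgroup.mem_map_of_mem π hv, ?_⟩
        intro heq
        apply hxv
        -- `c = v⁻¹ x v x⁻¹ ∈ T1` is fixed by `x`
        set c := v⁻¹ * (x * v * x⁻¹) with hc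
        have hcT1 : c ∈ T1 := by
          have h1 : π (x * v * x⁻¹) = π v := by
            rw [map_mul, map_mul, map_inv]; exact heq
          have h2 : π c = 1 := by
            rw [hc, map_mul, map_inv, h1, inv_mul_cancel]
          exact (QuotientGroup.eq_one_iff c).mp h2
        have hxc : x * c * x⁻¹ = c := hact1 c hcT1
        have hxv1 : x * v * x⁻¹ = v * c := by rw [hc]; group
        clear_value c
        have hxv3 : x * (x * (x * v * x⁻¹) * x⁻¹) * x⁻¹ = v * c * c * c := by
          have e1 : x * (v * c) * x⁻¹ = (x * v * x⁻¹) * (x * c * x⁻¹) := by group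
          have e2 : x * (v * c * c) * x⁻¹ = (x * (v * c) * x⁻¹) * (x * c * x⁻¹) := by group
          rw [hxv1, e1, hxv1, hxc, e2, e1, hxv1, hxc]
        have hxxx : x * x * x = 1 := by rw [← hx3, pow_succ, pow_two]
        have hv3 : x * (x * (x * v * x⁻¹) * x⁻¹) * x⁻¹ = v := by
          calc x * (x * (x * v * x⁻¹) * x⁻¹) * x⁻¹ = (x * x * x) * v * (x * x * x)⁻¹ := by
                simp only [mul_assoc, mul_inv_rev]
            _ = v := by rw [hxxx]; simp
        have hc3 : c ^ 3 = 1 := by
          rw [hv3] at hxv3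
          have : v * (c * c * c) = v * 1 := by
            rw [mul_one, ← mul_assoc, ← mul_assoc]; exact hxv3.symm
          have := mul_left_cancel this
          rw [pow_succ, pow_two]; exact this
        have hc1 : c = 1 := by
          obtain ⟨k, hk⟩ := hTp ⟨c, hT1T hcT1⟩
          have hk' : c ^ 2 ^ k = 1 := by
            have := congrArg Subtype.val hk
            simpa using this
          have h2 : orderOf c ∣ Nat.gcd 3 (2 ^ k) :=
            Nat.dvd_gcd (orderOf_dvd_of_pow_eq_one hc3) (orderOf_dvd_of_pow_eq_one hk')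
          have h3 : Nat.gcd 3 (2 ^ k) = 1 := by
            apply Nat.Coprime.pow_right
            norm_num
          rw [h3] at h2
          exact orderOf_eq_one_iff.mp (Nat.dvd_one.mp h2)
        rw [hxv1, hc1, mul_one]
      have key := ih (Nat.card (T.map π)) (hcard ▸ hTqlt) (X ⧸ T1) (T.map π) hTqp rfl (π x) (π t)
        (by rw [← map_pow, hx3, map_one])
        (by obtain ⟨j, hj⟩ := ht2; exact ⟨j, by rw [← map_pow, hj, map_one]⟩)
        (by rw [← map_inv, ← map_mul, ← map_inv, ← map_mul, htx]) hactq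
      exact involves_of_surj π hπs key

/-- If `T` is a normal `2`-subgroup of the finite group `X`, `x ^ 3 = 1`, `t` is a `2`-element with
`t x t⁻¹ = x⁻¹` and `x` does not centralize `T`, then `S₄` is involved in `X`. -/
theorem involves_perm4_of_action {X : Type u} [Group X] [Finite X] (T : Subgroup X) [T.Normal]
    (hT : IsPGroup 2 T) (x t : X) (hx3 : x ^ 3 = 1) (ht2 : ∃ j : ℕ, t ^ 2 ^ j = 1)
    (htx : t * x * t⁻¹ = x⁻¹) (hact : ∃ v ∈ T, x * v * x⁻¹ ≠ v) :
    Involves (Equiv.Perm (Fin 4)) X :=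
  key _ X T hT rfl x t hx3 ht2 htx hact

end Cfsg.Agent.Lib.Helper78.S4Section
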