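import Mathlib
import Cfsg.Prelude.Def_LocalEven
import Cfsg.Agent.Lib.Helper78.S4Section
import Cfsg.Agent.Lib.Helper53.DihInv
import Cfsg.Agent.Lib.Helper18.S4Mod
import Cfsg.Agent.Lib.Helper11.DihedralThree
import Cfsg.Agent.Lib.Helper90.Involves

/-!
# `S₃` involved in `N(T)/C(T)` for a `2`-subgroup `T` gives `S₄` involved
-/

set_option autoImplicit false
set_option linter.style.haveILetI false
set_option linter.unusedSectionVars false
open Cfsg

namespace Cfsg.Agent.Lib.Helper78.S4Local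

universe u

section lift
variable {N : Type*} [Group N] [Finite N]

/-- an odd power of an inverting element inverts -/
theorem inverts_pow_odd {s y : N} (h : s * y * s⁻¹ = y⁻¹) {e : ℕ} (he : Odd e) :
    s ^ e * y * (s ^ e)⁻¹ = y⁻¹ := by
  obtain ⟨k, rfl⟩ := he
  have h2 : Commute (s ^ 2) y := by
    have h3 : s * y⁻¹ * s⁻¹ = y := by
      have : s * y⁻¹ * s⁻¹ = (s * y * s⁻¹)⁻¹ := by group
      rw [this, h, inv_inv]
    show s ^ 2 * y = y * s ^ 2
    calc s ^ 2 * y = s * (s * y * s⁻¹) * s := by rw [pow_two]; group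
      _ = (s * y⁻¹ * s⁻¹) * (s * s) := by rw [h]; group
      _ = y * s ^ 2 := by rw [h3, pow_two]
  have h4 : Commute ((s ^ 2) ^ k) y := h2.pow_left k
  rw [pow_succ, pow_mul]
  calc (s ^ 2) ^ k * s * y * ((s ^ 2) ^ k * s)⁻¹ = (s ^ 2) ^ k * (s * y * s⁻¹) * ((s ^ 2) ^ k)⁻¹ := by
        group
    _ = (s ^ 2) ^ k * y⁻¹ * ((s ^ 2) ^ k)⁻¹ := by rw [h]
    _ = y⁻¹ := by
        have := h4.inv_right
        rw [this.eq]; group

/-- normalizing passes to the image under a subgroup inclusion -/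
theorem coe_mem_normalizer_map {M : Subgroup N} (P : Subgroup M) {n : M}
    (hn : n ∈ Subgroup.normalizer (P : Set M)) :
    (n : N) ∈ Subgroup.normalizer ((P.map M.subtype : Subgroup N) : Set N) := by
  apply Cfsg.Agent.Lib.Helper53.mem_normalizer_of_conj_mem
  rintro _ ⟨k, hk, rfl⟩
  refine ⟨n * k * n⁻¹, ?_, by simp⟩
  exact (Subgroup.mem_normalizer_iff.mp hn k).mp hk

/-- **Lifting** a dihedral configuration of order six from `N ⧸ C` to `N`. -/
theorem lift (C : Subgroup N) [C.Normal] (ybar tbar : N ⧸ C) (hy3 : ybar ^ 3 = 1) (hy1 : ybar ≠ 1)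
    (hinv : tbar * ybar * tbar⁻¹ = ybar⁻¹) :
    ∃ (R : Subgroup N) (y t : N), IsPGroup 3 R ∧ y ∈ R ∧ t ∈ Subgroup.normalizer (R : Set N) ∧
      (∃ j : ℕ, t ^ 2 ^ j = 1) ∧ y ∉ C ∧ y ^ 3 ∈ C ∧ t * y * t⁻¹ * y ∈ C := by
  classical
  haveI : Fact (Nat.Prime 3) := ⟨Nat.prime_three⟩
  let π : N →* N ⧸ C := QuotientGroup.mk' C
  have hπs : Function.Surjective π := QuotientGroup.mk'_surjective C
  have hπ1 : ∀ g : N, π g = 1 ↔ g ∈ C := fun g => QuotientGroup.eq_one_iff g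
  obtain ⟨y1, hy1π⟩ := hπs ybar
  obtain ⟨t0, ht0⟩ := hπs tbar
  have hord : orderOf ybar = 3 := orderOf_eq_prime hy3 hy1
  -- the preimage of `⟨ybar⟩`
  set L : Subgroup N := (Subgroup.zpowers ybar).comap π with hL
  have hLmem : ∀ g, g ∈ L ↔ π g ∈ Subgroup.zpowers ybar := fun g => Iff.rfl
  have hconjz : ∀ z ∈ Subgroup.zpowers ybar, tbar * z * tbar⁻¹ ∈ Subgroup.zpowers ybar := by
    intro z hz
    rw [Subgroup.mem_zpowers_iff] at hz
    obtain ⟨k, rfl⟩ := hz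
    have : tbar * ybar ^ k * tbar⁻¹ = (tbar * ybar * tbar⁻¹) ^ k := by rw [conj_zpow]
    rw [this, hinv]
    exact Subgroup.zpow_mem _ (Subgroup.inv_mem _ (Subgroup.mem_zpowers ybar)) k
  have ht0L : t0 ∈ Subgroup.normalizer (L : Set N) := by
    apply Cfsg.Agent.Lib.Helper53.mem_normalizer_of_conj_mem
    intro g hg
    rw [hLmem] at hg ⊢
    rw [map_mul, map_mul, map_inv, ht0]
    exact hconjz _ hg
  set M : Subgroup N := Subgroup.normalizer (L : Set N) with hM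
  have hLM : L ≤ M := Subgroup.le_normalizer
  haveI hLMn : (L.subgroupOf M).Normal := Subgroup.normal_in_normalizer
  -- a `3`-element of `L` outside `C`
  obtain ⟨b, a, hb, hba⟩ := Cfsg.Agent.Lib.Helper53.exists_pow_prime_pow_order 3 Nat.prime_three y1
  set y0 : N := y1 ^ b with hy0
  have hπy0 : π y0 = ybar ^ b := by rw [hy0, map_pow, hy1π]
  have hy0L : y0 ∈ L := by
    rw [hLmem, hπy0]; exact Subgroup.pow_mem _ (Subgroup.mem_zpowers ybar) b
  have hπy0ne : π y0 ≠ 1 := by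
    rw [hπy0]
    intro h
    have := orderOf_dvd_of_pow_eq_one h
    rw [hord] at this
    exact hb this
  have hπy03 : π y0 ^ 3 = 1 := by
    rw [hπy0, ← pow_mul, mul_comm, pow_mul, hy3, one_pow]
  let y0' : L.subgroupOf M := ⟨⟨y0, hLM hy0L⟩, by rw [Subgroup.mem_subgroupOf]; exact hy0L⟩
  have hZ : IsPGroup 3 (Subgroup.zpowers y0') := by
    apply IsPGroup.of_card (n := a)
    rw [Nat.card_zpowers]
    have h1 : orderOf y0' = orderOf y0 := by
      have e1 : orderOf y0' = orderOf (y0' : M) := (Subgroup.orderOf_coe y0').symm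
      have e2 : orderOf (y0' : M) = orderOf ((y0' : M) : N) := (Subgroup.orderOf_coe (y0' : M)).symm
      rw [e1, e2]
    rw [h1, hba]
  obtain ⟨P, hZP⟩ := hZ.exists_le_sylow
  -- Frattini
  have hfr := Sylow.normalizer_sup_eq_top P
  have ht0top : (⟨t0, ht0L⟩ : M) ∈ (⊤ : Subgroup M) := Subgroup.mem_top _
  rw [← hfr, Subgroup.mem_sup_of_normal_right] at ht0top
  obtain ⟨n, hn, l, hl, hnl⟩ := ht0top
  set R : Subgroup N := ((P : Subgroup (L.subgroupOf M)).map (L.subgroupOf M).subtype).map M.subtype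
    with hR
  have hRp : IsPGroup 3 R := (P.2.map _).map _
  have hy0R : y0 ∈ R := by
    refine ⟨⟨y0, hLM hy0L⟩, ⟨y0', hZP (Subgroup.mem_zpowers y0'), rfl⟩, rfl⟩
  have hnR : (n : N) ∈ Subgroup.normalizer (R : Set N) := coe_mem_normalizer_map _ hn
  -- the image of `n`
  have hπn : ∃ z ∈ Subgroup.zpowers ybar, π n = tbar * z := by
    refine ⟨(π l)⁻¹, Subgroup.inv_mem _ ?_, ?_⟩
    · have := hl
      rw [Subgroup.mem_subgroupOf] at this
      exact (hLmem _).mp this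
    · have h1 : (n : N) * (l : N) = t0 := congrArg Subtype.val hnl
      have h2 : π n * π l = tbar := by rw [← map_mul, h1, ht0]
      rw [← h2]; group
  obtain ⟨z, hz, hπnz⟩ := hπn
  have hzy : z * ybar * z⁻¹ = ybar := by
    rw [Subgroup.mem_zpowers_iff] at hz
    obtain ⟨k, rfl⟩ := hz
    have : Commute (ybar ^ k) ybar := (Commute.refl ybar).zpow_left k
    rw [this.eq]; group
  have hninv : π n * ybar * (π n)⁻¹ = ybar⁻¹ := by
    rw [hπnz]
    calc tbar * z * ybar * (tbar * z)⁻¹ = tbar * (z * ybar * z⁻¹) * tbar⁻¹ := by group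
      _ = ybar⁻¹ := by rw [hzy, hinv]
  -- the `2`-part of `n`
  obtain ⟨e, a2, he, hea⟩ := Cfsg.Agent.Lib.Helper53.exists_pow_prime_pow_order 2 Nat.prime_two (n : N)
  have heodd : Odd e := by
    rcases Nat.even_or_odd e with h | h
    · exact absurd (even_iff_two_dvd.mp h) he
    · exact h
  set t : N := (n : N) ^ e with ht
  have htR : t ∈ Subgroup.normalizer (R : Set N) := Subgroup.pow_mem _ hnR e
  have ht2 : t ^ 2 ^ a2 = 1 := by rw [← hea]; exact pow_orderOf_eq_one t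
  have htinv : π t * ybar * (π t)⁻¹ = ybar⁻¹ := by
    rw [ht, map_pow]; exact inverts_pow_odd hninv heodd
  have htinv0 : π t * π y0 * (π t)⁻¹ = (π y0)⁻¹ := by
    rw [hπy0, ← inv_pow, ← htinv, conj_pow]
  refine ⟨R, y0, t, hRp, hy0R, htR, ⟨a2, ht2⟩, ?_, ?_, ?_⟩
  · rw [← hπ1]; exact hπy0ne
  · rw [← hπ1, map_pow]; exact hπy03
  · rw [← hπ1, map_mul, map_mul, map_mul, map_inv, htinv0, inv_mul_cancel]

end lift

/-- **Local form**: a `3`-subgroup `R`, `y ∈ R` of order three modulo `C(T)` not centralizing the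
normal `2`-subgroup `T`, and a `2`-element `t` normalizing `R` and inverting `y` modulo `C(T)`. -/
theorem final {N : Type u} [Group N] [Finite N] (T : Subgroup N) [hTn : T.Normal] (hT : IsPGroup 2 T)
    (R : Subgroup N) (hR : IsPGroup 3 R) (y t : N) (hyR : y ∈ R)
    (htR : t ∈ Subgroup.normalizer (R : Set N)) (ht2 : ∃ j : ℕ, t ^ 2 ^ j = 1)
    (hyC : y ∉ Subgroup.centralizer (T : Set N)) (hy3 : y ^ 3 ∈ Subgroup.centralizer (T : Set N))
    (hty : t * y * t⁻¹ * y ∈ Subgroup.centralizer (T : Set N)) :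
    Involves (Equiv.Perm (Fin 4)) N := by
  classical
  set C : Subgroup N := Subgroup.centralizer (T : Set N) with hC
  haveI hCn : C.Normal := inferInstance
  set R0 : Subgroup N := R ⊓ C with hR0
  set Y : Subgroup N := Subgroup.normalizer (R0 : Set N) with hY
  have hTY : T ≤ Y := by
    refine le_trans ?_ (Subgroup.centralizer_le_normalizer _)
    rw [Subgroup.le_centralizer_iff]
    exact inf_le_right
  have hconjY : ∀ r : N, r ∈ Subgroup.normalizer (R : Set N) → r ∈ Y := by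
    intro r hr
    apply Cfsg.Agent.Lib.Helper53.mem_normalizer_of_conj_mem
    rintro g ⟨hgR, hgC⟩
    exact ⟨(Subgroup.mem_normalizer_iff.mp hr g).mp hgR, hCn.conj_mem g hgC r⟩
  have hRY : R ≤ Y := fun r hr => hconjY r (Subgroup.le_normalizer hr)
  have htY : t ∈ Y := hconjY t htR
  haveI hKn : (R0.subgroupOf Y).Normal := Subgroup.normal_in_normalizer
  let ρ : Y →* Y ⧸ R0.subgroupOf Y := QuotientGroup.mk' (R0.subgroupOf Y)
  have hρs : Function.Surjective ρ := QuotientGroup.mk'_surjective _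
  have hρ1 : ∀ g : Y, ρ g = 1 ↔ (g : N) ∈ R0 := by
    intro g
    rw [QuotientGroup.mk'_apply, QuotientGroup.eq_one_iff, Subgroup.mem_subgroupOf]
  haveI hTYn : (T.subgroupOf Y).Normal := Subgroup.normal_subgroupOf
  haveI hTqn : ((T.subgroupOf Y).map ρ).Normal := Subgroup.Normal.map hTYn ρ hρs
  have hTqp : IsPGroup 2 ((T.subgroupOf Y).map ρ) := (hT.comap_subtype).map ρ
  have hx3 : ρ ⟨y, hRY hyR⟩ ^ 3 = 1 := by
    rw [← map_pow, hρ1]
    exact ⟨R.pow_mem hyR 3, hy3⟩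
  have ht2' : ∃ j : ℕ, ρ ⟨t, htY⟩ ^ 2 ^ j = 1 := by
    obtain ⟨j, hj⟩ := ht2
    refine ⟨j, ?_⟩
    rw [← map_pow]
    have : (⟨t, htY⟩ : Y) ^ 2 ^ j = 1 := Subtype.ext (by simpa using hj)
    rw [this, map_one]
  have htx : ρ ⟨t, htY⟩ * ρ ⟨y, hRY hyR⟩ * (ρ ⟨t, htY⟩)⁻¹ = (ρ ⟨y, hRY hyR⟩)⁻¹ := by
    rw [eq_inv_iff_mul_eq_one, ← map_inv, ← map_mul, ← map_mul, ← map_mul, hρ1]
    refine ⟨?_, hty⟩
    exact R.mul_mem ((Subgroup.mem_normalizer_iff.mp htR y).mp hyR) hyR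
  have hact : ∃ v ∈ (T.subgroupOf Y).map ρ,
      ρ ⟨y, hRY hyR⟩ * v * (ρ ⟨y, hRY hyR⟩)⁻¹ ≠ v := by
    have h1 : ¬ ∀ v ∈ T, v * y = y * v := fun h => hyC (Subgroup.mem_centralizer_iff.mpr h)
    push Not at h1
    obtain ⟨v, hv, hvy⟩ := h1
    refine ⟨ρ ⟨v, hTY hv⟩, Subgroup.mem_map_of_mem ρ (by rw [Subgroup.mem_subgroupOf]; exact hv), ?_⟩
    intro heq
    apply hvy
    rw [← map_inv, ← map_mul, ← map_mul] at heq
    have h2 := QuotientGroup.eq.mp heq
    rw [Subgroup.mem_subgroupOf] at h2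
    simp only [Subgroup.coe_mul, Subgroup.coe_inv] at h2
    -- `g = (y v y⁻¹)⁻¹ v ∈ T ∩ R`
    have hgT : (y * v * y⁻¹)⁻¹ * v ∈ T := T.mul_mem (T.inv_mem (hTn.conj_mem v hv y)) hv
    have hdis := IsPGroup.disjoint_of_ne 2 3 (by norm_num) T R hT hR
    have hg1 : (y * v * y⁻¹)⁻¹ * v = 1 := Subgroup.disjoint_def.mp hdis hgT h2.1
    have h3 : y * v * y⁻¹ = v := by
      have := inv_mul_eq_one.mp hg1
      exact this
    calc v * y = (y * v * y⁻¹) * y := by rw [h3]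
      _ = y * v := by group
  have key := Cfsg.Agent.Lib.Helper78.S4Section.involves_perm4_of_action
    ((T.subgroupOf Y).map ρ) hTqp (ρ ⟨y, hRY hyR⟩) (ρ ⟨t, htY⟩) hx3 ht2' htx hact
  exact Cfsg.Agent.Lib.Helper18.S4Mod.involves_of_quotient Y (R0.subgroupOf Y) key

/-- the centralizer of `T` in `N(T)` -/
theorem centralizer_subgroupOf_normalizer {G : Type*} [Group G] (T : Subgroup G) :
    (Subgroup.centralizer (T : Set G)).subgroupOf (Subgroup.normalizer (T : Set G)) =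
      Subgroup.centralizer
        ((T.subgroupOf (Subgroup.normalizer (T : Set G)) : Subgroup (Subgroup.normalizer (T : Set G))) :
          Set (Subgroup.normalizer (T : Set G))) := by
  ext ⟨n, hn⟩
  rw [Subgroup.mem_subgroupOf, Subgroup.mem_centralizer_iff, Subgroup.mem_centralizer_iff]
  constructor
  · rintro h ⟨v, hvN⟩ hv
    rw [SetLike.mem_coe, Subgroup.mem_subgroupOf] at hv
    exact Subtype.ext (h v hv)
  · intro h v hv
    have := h ⟨v, Subgroup.le_normalizer hv⟩ (by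
      rw [SetLike.mem_coe, Subgroup.mem_subgroupOf]; exact hv)
    exact congrArg Subtype.val this

/-- **`S₃` involved in `N(T)/C(T)` for a `2`-subgroup `T` forces `S₄` to be involved in `G`.** -/
theorem involves_perm4_of_local {G : Type u} [Group G] [Finite G] (T : Subgroup G) (hT : IsPGroup 2 T)
    (h : Involves (Equiv.Perm (Fin 3)) (↥(Subgroup.normalizer (T : Set G)) ⧸
      (Subgroup.centralizer (T : Set G)).subgroupOf (Subgroup.normalizer (T : Set G)))) :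
    Involves (Equiv.Perm (Fin 4)) G := by
  classical
  haveI : Fact (Nat.Prime 3) := ⟨Nat.prime_three⟩
  obtain ⟨e⟩ := Cfsg.Agent.Lib.Helper11.dihedral_three_equiv_perm
  have hD := Cfsg.Agent.Lib.Helper90.Involves.of_injective_left e.toMonoidHom e.injective h
  obtain ⟨tb, P, ⟨k, hk⟩, hP, hNP, hCP⟩ :=
    Cfsg.Agent.Lib.Helper53.exists_normalizes_of_involves (p := 3) (by norm_num) hD
  obtain ⟨tb', yb, -, ⟨m, hm⟩, hyb1, hinv⟩ :=
    Cfsg.Agent.Lib.Helper53.exists_inverted_of_normalizes P hP k tb hk hNP hCP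
  have hm0 : m ≠ 0 := by
    rintro rfl
    rw [pow_zero, orderOf_eq_one_iff] at hm
    exact hyb1 hm
  have hy3 : (yb ^ 3 ^ (m - 1)) ^ 3 = 1 := by
    rw [← pow_mul, ← pow_succ]
    have : m - 1 + 1 = m := by omega
    rw [this, ← hm]; exact pow_orderOf_eq_one yb
  have hy1 : yb ^ 3 ^ (m - 1) ≠ 1 := by
    intro h1
    have h2 := orderOf_dvd_of_pow_eq_one h1
    rw [hm, Nat.pow_dvd_pow_iff_le_right (by norm_num)] at h2
    omega
  have hinv3 : tb' * yb ^ 3 ^ (m - 1) * tb'⁻¹ = (yb ^ 3 ^ (m - 1))⁻¹ := by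
    rw [← conj_pow, hinv, inv_pow]
  obtain ⟨R, y, t, hR, hyR, htR, ht2, hyC, hy3C, htyC⟩ :=
    lift ((Subgroup.centralizer (T : Set G)).subgroupOf (Subgroup.normalizer (T : Set G)))
      (yb ^ 3 ^ (m - 1)) tb' hy3 hy1 hinv3
  rw [centralizer_subgroupOf_normalizer] at hyC hy3C htyC
  haveI : (T.subgroupOf (Subgroup.normalizer (T : Set G))).Normal := Subgroup.normal_in_normalizer
  have key := final (T.subgroupOf (Subgroup.normalizer (T : Set G))) hT.comap_subtype R hR y t hyR htR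
    ht2 hyC hy3C htyC
  exact Cfsg.Agent.Lib.Helper90.Involves.of_injective_right (Subgroup.normalizer (T : Set G)).subtype
    (Subgroup.subtype_injective _) key

section forward

set_option maxRecDepth 100000 in
/-- the Klein four-subgroup of `S₄` -/
def V4 : Subgroup (Equiv.Perm (Fin 4)) where
  carrier := {σ | σ * σ = 1 ∧ Equiv.Perm.sign σ = 1}
  mul_mem' := by
    intro a b
    revert a b
    decide
  one_mem' := by decide
  inv_mem' := by
    intro a
    revert a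
    decide

set_option maxRecDepth 100000 in
theorem V4_conj : ∀ (g v : Equiv.Perm (Fin 4)), (v * v = 1 ∧ Equiv.Perm.sign v = 1) →
    ((g * v * g⁻¹) * (g * v * g⁻¹) = 1 ∧ Equiv.Perm.sign (g * v * g⁻¹) = 1) := by decide

instance V4_normal : V4.Normal := ⟨fun v hv g => V4_conj g v hv⟩

theorem V4_isPGroup : IsPGroup 2 V4 := by
  rintro ⟨v, hv⟩
  refine ⟨1, Subtype.ext ?_⟩
  simp only [pow_one, SubmonoidClass.coe_pow, OneMemClass.coe_one]
  rw [pow_two]; exact hv.1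

set_option maxRecDepth 100000 in
theorem V4_cent : ∀ σ : Equiv.Perm (Fin 4), σ ≠ 1 → σ ^ 3 = 1 →
    ∃ v : Equiv.Perm (Fin 4), (v * v = 1 ∧ Equiv.Perm.sign v = 1) ∧ σ * v ≠ v * σ := by decide

theorem S4_elts : ∃ ybar tbar : Equiv.Perm (Fin 4), ybar ^ 3 = 1 ∧ ybar ≠ 1 ∧
    tbar * ybar * tbar⁻¹ = ybar⁻¹ :=
  ⟨Equiv.swap 0 1 * Equiv.swap 1 2, Equiv.swap 0 1, by decide, by decide, by decide⟩

/-- hom version of `lift` -/
theorem lift_hom {N : Type*} [Group N] [Finite N] {Q : Type*} [Group Q] (π : N →* Q)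
    (hπ : Function.Surjective π) (ybar tbar : Q) (hy3 : ybar ^ 3 = 1) (hy1 : ybar ≠ 1)
    (hinv : tbar * ybar * tbar⁻¹ = ybar⁻¹) :
    ∃ (R : Subgroup N) (y t : N), IsPGroup 3 R ∧ y ∈ R ∧ t ∈ Subgroup.normalizer (R : Set N) ∧
      (∃ j : ℕ, t ^ 2 ^ j = 1) ∧ π y ≠ 1 ∧ π y ^ 3 = 1 ∧ π t * π y * (π t)⁻¹ = (π y)⁻¹ := by
  obtain ⟨y1, rfl⟩ := hπ ybar
  obtain ⟨t1, rfl⟩ := hπ tbar
  have h1 : ((y1 : N) : N ⧸ π.ker) ^ 3 = 1 := by
    rw [← QuotientGroup.mk_pow, QuotientGroup.eq_one_iff, MonoidHom.mem_ker, map_pow]; exact hy3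
  have h2 : ((y1 : N) : N ⧸ π.ker) ≠ 1 := by
    rw [Ne, QuotientGroup.eq_one_iff, MonoidHom.mem_ker]; exact hy1
  have h3 : ((t1 : N) : N ⧸ π.ker) * (y1 : N ⧸ π.ker) * ((t1 : N) : N ⧸ π.ker)⁻¹
      = ((y1 : N) : N ⧸ π.ker)⁻¹ := by
    rw [eq_inv_iff_mul_eq_one, ← QuotientGroup.mk_inv, ← QuotientGroup.mk_mul, ← QuotientGroup.mk_mul,
      ← QuotientGroup.mk_mul, QuotientGroup.eq_one_iff, MonoidHom.mem_ker, map_mul, map_mul, map_mul,
      map_inv, hinv, inv_mul_cancel]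
  obtain ⟨R, y, t, hR, hyR, htR, ht2, hyC, hy3C, htyC⟩ := lift π.ker _ _ h1 h2 h3
  refine ⟨R, y, t, hR, hyR, htR, ht2, ?_, ?_, ?_⟩
  · exact fun h => hyC (MonoidHom.mem_ker.mpr h)
  · rw [← map_pow]; exact MonoidHom.mem_ker.mp hy3C
  · have := MonoidHom.mem_ker.mp htyC
    rw [map_mul, map_mul, map_mul, map_inv] at this
    exact eq_inv_of_mul_eq_one_left this

/-- from a surjection onto `S₄`: the local configuration -/
theorem forward_aux {H : Type*} [Group H] [Finite H] (f : H →* Equiv.Perm (Fin 4))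
    (hf : Function.Surjective f) :
    ∃ (T R : Subgroup H) (y t : H), IsPGroup 2 T ∧ IsPGroup 3 R ∧
      R ≤ Subgroup.normalizer (T : Set H) ∧ t ∈ Subgroup.normalizer (T : Set H) ∧ y ∈ R ∧
      t ∈ Subgroup.normalizer (R : Set H) ∧ (∃ j : ℕ, t ^ 2 ^ j = 1) ∧
      t * y * t⁻¹ * y⁻¹ ∉ Subgroup.centralizer (T : Set H) := by
  classical
  haveI : Fact (Nat.Prime 2) := ⟨Nat.prime_two⟩
  set V : Subgroup H := V4.comap f with hV
  haveI : V.Normal := inferInstance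
  let T0 : Sylow 2 V := default
  set T : Subgroup H := (T0 : Subgroup V).map V.subtype with hT
  have hfr : Subgroup.normalizer (T : Set H) ⊔ V = ⊤ := Sylow.normalizer_sup_eq_top T0
  have hTp : IsPGroup 2 T := T0.2.map _
  -- `f T = V4`
  have hTV4 : ∀ v4 ∈ V4, ∃ u ∈ T, f u = v4 := by
    intro v4 hv4
    let g : V →* V4 := f.subgroupComap V4
    have hg : Function.Surjective g := MonoidHom.subgroupComap_surjective_of_surjective f V4 hf
    have hVp : IsPGroup 2 (⊤ : Subgroup V4) := by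
      rintro ⟨x, hx⟩
      obtain ⟨k, hk⟩ := V4_isPGroup x
      exact ⟨k, Subtype.ext hk⟩
    have htop : (⊤ : Subgroup V4) = ((T0.mapSurjective hg : Sylow 2 V4) : Subgroup V4) :=
      (T0.mapSurjective hg).is_maximal' hVp le_top
    have hmem : (⟨v4, hv4⟩ : V4) ∈ ((T0.mapSurjective hg : Sylow 2 V4) : Subgroup V4) := by
      rw [← htop]; exact Subgroup.mem_top _
    rw [Sylow.coe_mapSurjective] at hmem
    obtain ⟨u, hu, hgu⟩ := hmem
    refine ⟨(u : H), ⟨u, hu, rfl⟩, ?_⟩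
    exact congrArg Subtype.val hgu
  set H1 : Subgroup H := Subgroup.normalizer (T : Set H) with hH1
  have hTH1 : T ≤ H1 := Subgroup.le_normalizer
  let π : H1 →* Equiv.Perm (Fin 4) := f.comp H1.subtype
  have hπs : Function.Surjective π := by
    intro σ
    obtain ⟨h0, rfl⟩ := hf σ
    have h0top : h0 ∈ (⊤ : Subgroup H) := Subgroup.mem_top _
    rw [← hfr, Subgroup.mem_sup_of_normal_right] at h0top
    obtain ⟨n, hn, v, hv, rfl⟩ := h0top
    obtain ⟨u, hu, hfu⟩ := hTV4 (f v) hv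
    refine ⟨⟨n * u, H1.mul_mem hn (hTH1 hu)⟩, ?_⟩
    show f (n * u) = f (n * v)
    rw [map_mul, map_mul, hfu]
  obtain ⟨ybar, tbar, hy3, hy1, hinv⟩ := S4_elts
  obtain ⟨R1, y, t, hR1, hyR, htR, ht2, hy1', hy3', hinv'⟩ := lift_hom π hπs ybar tbar hy3 hy1 hinv
  refine ⟨T, R1.map H1.subtype, (y : H), (t : H), hTp, hR1.map _, ?_, t.2, ⟨y, hyR, rfl⟩,
    coe_mem_normalizer_map R1 htR, ?_, ?_⟩
  · rintro _ ⟨r, -, rfl⟩
    exact r.2
  · obtain ⟨j, hj⟩ := ht2
    exact ⟨j, by simpa using congrArg Subtype.val hj⟩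
  · intro hcen
    set σ := π y with hσ
    have hfg : f ((t : H) * y * (t : H)⁻¹ * (y : H)⁻¹) = σ := by
      have e1 : f ((t : H) * y * (t : H)⁻¹ * (y : H)⁻¹) = π t * π y * (π t)⁻¹ * (π y)⁻¹ := by
        simp only [π, MonoidHom.comp_apply, Subgroup.coe_subtype, map_mul, map_inv]
      rw [e1, hinv']
      -- σ⁻¹ σ⁻¹ = σ
      have : σ * σ * σ = 1 := by rw [← hy3', pow_succ, pow_two]
      calc σ⁻¹ * σ⁻¹ = σ⁻¹ * σ⁻¹ * (σ * σ * σ) := by rw [this, mul_one]
        _ = σ := by group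
    obtain ⟨v4, hv4, hne⟩ := V4_cent σ hy1' hy3'
    obtain ⟨u, hu, hfu⟩ := hTV4 v4 hv4
    have hcomm := Subgroup.mem_centralizer_iff.mp hcen u hu
    have h5 : f u * f ((t : H) * y * (t : H)⁻¹ * (y : H)⁻¹) =
        f ((t : H) * y * (t : H)⁻¹ * (y : H)⁻¹) * f u := by
      rw [← map_mul, ← map_mul, hcomm]
    rw [hfg, hfu] at h5
    exact hne h5.symm

/-- **`S₄` involved in `G` gives a `2`-subgroup `T` with `S₃` involved in `N(T)/C(T)`.** -/
theorem forward {G : Type u} [Group G] [Finite G] (h : Involves (Equiv.Perm (Fin 4)) G) :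
    ∃ T : Subgroup G, IsPGroup 2 ↥T ∧ Involves (Equiv.Perm (Fin 3))
      (↥(Subgroup.normalizer (T : Set G)) ⧸
        (Subgroup.centralizer (T : Set G)).subgroupOf (Subgroup.normalizer (T : Set G))) := by
  classical
  haveI : Fact (Nat.Prime 3) := ⟨Nat.prime_three⟩
  obtain ⟨Hs, f, hf⟩ := Cfsg.Agent.Lib.Helper90.exists_hom_of_involves h
  obtain ⟨T', R', y, t, hT', hR', hRN, htN, hyR, htR, ⟨j, hj⟩, hcen⟩ := forward_aux f hf
  refine ⟨T'.map Hs.subtype, hT'.map _, ?_⟩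
  set T : Subgroup G := T'.map Hs.subtype with hT
  set N : Subgroup G := Subgroup.normalizer (T : Set G) with hN
  set C' : Subgroup N := (Subgroup.centralizer (T : Set G)).subgroupOf N with hC'
  have hNmem : ∀ h : Hs, h ∈ Subgroup.normalizer (T' : Set Hs) → (h : G) ∈ N :=
    fun h hh => coe_mem_normalizer_map T' hh
  let tN : N := ⟨t, hNmem t htN⟩
  let yN : N := ⟨y, hNmem y (hRN hyR)⟩
  let mk : N →* N ⧸ C' := QuotientGroup.mk' C'
  set RN : Subgroup N := (R'.map Hs.subtype).subgroupOf N with hRNdef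
  set Pb : Subgroup (N ⧸ C') := RN.map mk with hPbdef
  have hPb : IsPGroup 3 Pb := ((hR'.map _).comap_subtype).map mk
  have htb : (mk tN) ^ 2 ^ j = 1 := by
    rw [← map_pow]
    have : tN ^ 2 ^ j = 1 := Subtype.ext (by simpa using congrArg Subtype.val hj)
    rw [this, map_one]
  obtain ⟨k, -, hk⟩ := (Nat.dvd_prime_pow Nat.prime_two).mp (orderOf_dvd_of_pow_eq_one htb)
  have hnorm : mk tN ∈ Subgroup.normalizer (Pb : Set (N ⧸ C')) := by
    apply Cfsg.Agent.Lib.Helper53.mem_normalizer_of_conj_mem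
    rintro _ ⟨r, hr, rfl⟩
    refine ⟨tN * r * tN⁻¹, ?_, by simp⟩
    rw [hRNdef, SetLike.mem_coe, Subgroup.mem_subgroupOf] at hr ⊢
    obtain ⟨r', hr', hrr'⟩ := hr
    refine ⟨t * r' * t⁻¹, (Subgroup.mem_normalizer_iff.mp htR r').mp hr', ?_⟩
    simp only [Subgroup.coe_subtype, Subgroup.coe_mul, Subgroup.coe_inv] at hrr' ⊢
    rw [hrr']
  have hncen : mk tN ∉ Subgroup.centralizer (Pb : Set (N ⧸ C')) := by
    intro hc
    have hyPb : mk yN ∈ Pb := by
      refine ⟨yN, ?_, rfl⟩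
      rw [hRNdef, SetLike.mem_coe, Subgroup.mem_subgroupOf]
      exact ⟨y, hyR, rfl⟩
    have h1 := Subgroup.mem_centralizer_iff.mp hc (mk yN) hyPb
    have h2 : mk (tN * yN * tN⁻¹ * yN⁻¹) = 1 := by
      rw [map_mul, map_mul, map_mul, map_inv, map_inv, ← h1]; group
    have h3 : (tN * yN * tN⁻¹ * yN⁻¹ : N) ∈ C' := (QuotientGroup.eq_one_iff _).mp h2
    rw [hC', Subgroup.mem_subgroupOf] at h3
    apply hcen
    rw [Subgroup.mem_centralizer_iff]
    intro u hu
    have h4 := Subgroup.mem_centralizer_iff.mp h3 (u : G) ⟨u, hu, rfl⟩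
    exact Subtype.ext (by simpa using h4)
  obtain ⟨x', y', hx', hy', hy1', hxy'⟩ :=
    Cfsg.Agent.Lib.Helper53.exists_inverted_of_normalizes Pb hPb k (mk tN) hk hnorm hncen
  have hD := Cfsg.Agent.Lib.Helper53.involves_dihedral_of_inverted (p := 3) (by norm_num) hx' hy' hy1'
    hxy'
  obtain ⟨e⟩ := Cfsg.Agent.Lib.Helper11.dihedral_three_equiv_perm
  exact Cfsg.Agent.Lib.Helper90.Involves.of_injective_left e.symm.toMonoidHom e.symm.injective hD

end forward

end Cfsg.Agent.Lib.Helper78.S4Local
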