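import Mathlib
import Cfsg.Prelude.Def_SolvableStructure
import Cfsg.Prelude.Def_Transfer
import Cfsg.Agent.Lib.Helper12.Supersolvable
import Cfsg.Agent.Lib.Helper12.SupersolvableCyclic
import Cfsg.Agent.Lib.Helper41.Frobenius

/-!
# K-S3033-B2 (Huppert), core: a finite group all of whose proper subgroups are supersolvable is
solvable.  The normal `p`-complement theorem for supersolvable groups (K-S3033-B1) is a hypothesis
here; `SS33B2.lean` plugs it in.
-/

set_option autoImplicit false
set_option linter.style.haveILetI false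

namespace Cfsg.Agent.Lib.Helper78.SS33

open Cfsg

universe u

/-- supersolvable groups are solvable. -/
theorem isSolvable_of_isSupersolvable {G : Type u} [Group G] (h : IsSupersolvable G) :
    Group.IsSolvable G := by
  haveI : Group.IsNilpotent (commutator G) :=
    Cfsg.Agent.Lib.Helper12.isNilpotent_commutator_of_isSupersolvable h
  haveI : Group.IsSolvable (commutator G) := inferInstance
  haveI : Group.IsSolvable (Abelianization G) :=
    Group.isSolvable_of_comm (fun a b => mul_comm a b)
  exact Group.isSolvable_of_ker_le_range (commutator G).subtype (Abelianization.of (G := G))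
    (by rw [Abelianization.ker_of, Subgroup.range_subtype])

/-- a normal `p`-subgroup with abelian quotient. -/
theorem isSolvable_of_normal_pGroup {G : Type u} [Group G] [Finite G] {p : ℕ} [Fact p.Prime]
    (Q : Subgroup G) [Q.Normal] (hQ : IsPGroup p Q)
    (hab : ∀ a b : G ⧸ Q, a * b = b * a) : Group.IsSolvable G := by
  haveI : Group.IsNilpotent Q := hQ.isNilpotent
  haveI : Group.IsSolvable Q := inferInstance
  haveI : Group.IsSolvable (G ⧸ Q) := Group.isSolvable_of_comm hab
  exact Group.isSolvable_of_ker_le_range Q.subtype (QuotientGroup.mk' Q)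
    (by rw [QuotientGroup.ker_mk', Subgroup.range_subtype])

/-- K-S3033-B2 with K-S3033-B1 as a hypothesis. -/
theorem isSolvable_of_proper_supersolvable_of
    (hB1 : ∀ {H : Type u} [Group H] [Finite H], IsSupersolvable H → ∀ (p : ℕ) [Fact p.Prime],
      (∀ r : ℕ, r.Prime → r ∣ Nat.card H → p ≤ r) → HasNormalPComplement p H)
    {G : Type u} [Group G] [Finite G]
    (hsub : ∀ H : Subgroup G, H ≠ ⊤ → IsSupersolvable H) : Group.IsSolvable G := by
  classical
  by_cases htriv : Subsingleton G
  · exact Group.isSolvable_of_comm (fun a b => Subsingleton.elim _ _)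
  rw [not_subsingleton_iff_nontrivial] at htriv
  have hcard1 : Nat.card G ≠ 1 := by
    intro h
    have := (Nat.card_eq_one_iff_unique.mp h).1
    exact not_subsingleton G this
  set p := (Nat.card G).minFac with hpdef
  have hp : p.Prime := Nat.minFac_prime hcard1
  haveI : Fact p.Prime := ⟨hp⟩
  have hpdvd : p ∣ Nat.card G := Nat.minFac_dvd _
  have hpmin : ∀ r : ℕ, r.Prime → r ∣ Nat.card G → p ≤ r :=
    fun r hr hrd => Nat.minFac_le_of_dvd hr.two_le hrd
  by_cases hc : HasNormalPComplement p G
  · -- a normal `p`-complement `K`: `K` is proper, hence supersolvable, and `G / K` is a `p`-group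
    obtain ⟨P, K, hKn, hKP⟩ := hc
    haveI := hKn
    have hcardmul : Nat.card K * Nat.card (P : Subgroup G) = Nat.card G := hKP.card_mul_card
    have hPne : Nat.card (P : Subgroup G) ≠ 1 := by
      intro h1
      have hdvd : p ∣ Nat.card (P : Subgroup G) := by
        rw [Sylow.card_eq_multiplicity]
        have hpos : 0 < (Nat.card G).factorization p :=
          (hp.factorization_pos_of_dvd Nat.card_pos.ne' hpdvd)
        exact dvd_pow_self p hpos.ne'
      rw [h1] at hdvd
      exact hp.one_lt.ne' (Nat.dvd_one.mp hdvd)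
    have hKtop : K ≠ ⊤ := by
      intro h
      apply hPne
      have h2 : Nat.card K = Nat.card G := by rw [h, Subgroup.card_top]
      rw [h2] at hcardmul
      have hpos : 0 < Nat.card G := Nat.card_pos
      exact Nat.eq_of_mul_eq_mul_left hpos (by rw [hcardmul, mul_one])
    haveI : Group.IsSolvable K := isSolvable_of_isSupersolvable (hsub K hKtop)
    have hidx : Nat.card (G ⧸ K) = Nat.card (P : Subgroup G) := by
      rw [← Subgroup.index_eq_card]
      have h3 := Subgroup.card_mul_index K
      have hpos : 0 < Nat.card K := Nat.card_pos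
      exact Nat.eq_of_mul_eq_mul_left hpos (by rw [h3, hcardmul])
    have hquotp : IsPGroup p (G ⧸ K) := by
      obtain ⟨m, hm⟩ := IsPGroup.iff_card.mp P.isPGroup'
      exact IsPGroup.of_card (n := m) (by rw [hidx, hm])
    haveI : Group.IsNilpotent (G ⧸ K) := hquotp.isNilpotent
    haveI : Group.IsSolvable (G ⧸ K) := inferInstance
    exact Group.isSolvable_of_ker_le_range K.subtype (QuotientGroup.mk' K)
      (by rw [QuotientGroup.ker_mk', Subgroup.range_subtype])
  · -- Frobenius: some `p'`-element `g` normalizes but does not centralize a `p`-subgroup `Q`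
    have hfc : ¬ Cfsg.Agent.Lib.Helper41.FrobCond p G := fun h =>
      hc (Cfsg.Agent.Lib.Helper41.hasNormalPComplement_of_frobCond h)
    unfold Cfsg.Agent.Lib.Helper41.FrobCond at hfc
    push Not at hfc
    obtain ⟨Q, hQp, g, hgN, hgcop, hgC⟩ := hfc
    have hQN : Q ≤ Subgroup.normalizer (Q : Set G) := Subgroup.le_normalizer
    have hLtop : Q ⊔ Subgroup.zpowers g = ⊤ := by
      by_contra hL
      set L := Q ⊔ Subgroup.zpowers g with hLdef
      have hLss : IsSupersolvable L := hsub L hL
      have hLmin : ∀ r : ℕ, r.Prime → r ∣ Nat.card L → p ≤ r :=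
        fun r hr hrd => hpmin r hr (dvd_trans hrd (Subgroup.card_subgroup_dvd_card L))
      have hLc : HasNormalPComplement p L := hB1 hLss p hLmin
      have hLf := Cfsg.Agent.Lib.Helper41.frobCond_of_hasNormalPComplement hLc
      have hQL : Q ≤ L := le_sup_left
      have hgL : g ∈ L := (le_sup_right : Subgroup.zpowers g ≤ L) (Subgroup.mem_zpowers g)
      have hQ'p : IsPGroup p (Q.subgroupOf L) := hQp.comap_subtype
      have hg'N : (⟨g, hgL⟩ : L) ∈ Subgroup.normalizer ((Q.subgroupOf L : Subgroup L) : Set L) := by
        rw [Subgroup.mem_normalizer_iff]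
        intro h
        rw [Subgroup.mem_subgroupOf, Subgroup.mem_subgroupOf]
        exact (Subgroup.mem_normalizer_iff.mp hgN) h.1
      have hg'ord : (orderOf (⟨g, hgL⟩ : L)).Coprime p := by
        have : orderOf (⟨g, hgL⟩ : L) = orderOf g := by
          rw [← Subgroup.orderOf_coe]
        rw [this]
        exact hgcop
      have hg'C := hLf (Q.subgroupOf L) hQ'p ⟨g, hgL⟩ hg'N hg'ord
      apply hgC
      rw [Subgroup.mem_centralizer_iff]
      intro y hy
      have := Subgroup.mem_centralizer_iff.mp hg'C ⟨y, hQL hy⟩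
        (by rw [SetLike.mem_coe, Subgroup.mem_subgroupOf]; exact hy)
      exact congrArg Subtype.val this
    -- so `G = Q ⟨g⟩`, `Q` is normal and `G / Q` is cyclic
    have hNtop : Subgroup.normalizer (Q : Set G) = ⊤ := by
      rw [eq_top_iff, ← hLtop]
      exact sup_le hQN (Subgroup.zpowers_le.mpr hgN)
    haveI hQn : Q.Normal := Subgroup.normalizer_eq_top_iff.mp hNtop
    apply isSolvable_of_normal_pGroup Q hQp
    -- every element of `G / Q` is a power of the image of `g`
    have hgen : ∀ y : G ⧸ Q, y ∈ Subgroup.zpowers ((QuotientGroup.mk' Q) g) := by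
      intro y
      obtain ⟨y0, rfl⟩ := QuotientGroup.mk'_surjective Q y
      have hy0 : y0 ∈ Q ⊔ Subgroup.zpowers g := by
        rw [hLtop]
        exact Subgroup.mem_top _
      have hmap : (QuotientGroup.mk' Q) y0 ∈ (Q ⊔ Subgroup.zpowers g).map (QuotientGroup.mk' Q) :=
        Subgroup.mem_map_of_mem _ hy0
      rw [Subgroup.map_sup, MonoidHom.map_zpowers] at hmap
      have hQmap : Q.map (QuotientGroup.mk' Q) = ⊥ := by
        rw [eq_bot_iff]
        rintro _ ⟨t, ht, rfl⟩
        rw [Subgroup.mem_bot]
        exact (QuotientGroup.eq_one_iff t).mpr ht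
      rw [hQmap, bot_sup_eq] at hmap
      exact hmap
    intro a b
    obtain ⟨i, rfl⟩ := Subgroup.mem_zpowers_iff.mp (hgen a)
    obtain ⟨j, rfl⟩ := Subgroup.mem_zpowers_iff.mp (hgen b)
    rw [← zpow_add, ← zpow_add, add_comm]

end Cfsg.Agent.Lib.Helper78.SS33
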