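import Mathlib
import Cfsg.Prelude.Def_SolvableStructure
import Cfsg.Prelude.Def_Transfer
import Cfsg.Agent.Lib.Helper68.SS33B1
import Cfsg.Agent.Lib.Helper78.SS33B2Core

/-!
# K-S3033-B2 (Huppert): a finite group all of whose proper subgroups are supersolvable is solvable
-/

set_option autoImplicit false

namespace Cfsg.Agent.Lib.Helper78.SS33

open Cfsg

universe u

/-- K-S3033-B2 (Huppert). -/
theorem isSolvable_of_proper_supersolvable {G : Type u} [Group G] [Finite G]
    (hsub : ∀ H : Subgroup G, H ≠ ⊤ → IsSupersolvable H) : Group.IsSolvable G :=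
  isSolvable_of_proper_supersolvable_of
    (fun {_} _ _ hH p _ hmin =>
      Cfsg.Agent.Lib.Helper68.SS33.hasNormalPComplement_of_isSupersolvable hH p hmin) hsub

end Cfsg.Agent.Lib.Helper78.SS33
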