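import Mathlib
import Cfsg.Agent.Lib.Helper96.SS33Defs

/-!
# K-S3033-C: under `Hyp`, a `p`-element acts on `[N, x]` as a power map (`N` elementary abelian
normal `q`-subgroup, `q ≠ p`)
-/

set_option autoImplicit false
set_option linter.style.haveILetI false

namespace Cfsg.Agent.Lib.Helper78.SS33

open Cfsg
open Cfsg.Agent.Lib.Helper96.SS33 (Hyp)

universe u

/-- in a cyclic group of prime order a nontrivial element generates. -/
theorem mem_zpowers_of_prime_orderOf {G : Type u} [Group G] {q : ℕ} (hq : q.Prime) {a t : G}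
    (ha : orderOf a = q) (ht : t ∈ Subgroup.zpowers a) (ht1 : t ≠ 1) :
    a ∈ Subgroup.zpowers t := by
  haveI : Fact q.Prime := ⟨hq⟩
  have hcard : Nat.card (Subgroup.zpowers a) = q := by rw [Nat.card_zpowers, ha]
  have hne : (⟨t, ht⟩ : Subgroup.zpowers a) ≠ 1 := by
    intro h
    apply ht1
    exact congrArg Subtype.val h
  have htop := zpowers_eq_top_of_prime_card hcard hne
  have hmem : (⟨a, Subgroup.mem_zpowers a⟩ : Subgroup.zpowers a) ∈
      Subgroup.zpowers (⟨t, ht⟩ : Subgroup.zpowers a) := by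
    rw [htop]
    exact Subgroup.mem_top _
  obtain ⟨i, hi⟩ := Subgroup.mem_zpowers_iff.mp hmem
  rw [Subgroup.mem_zpowers_iff]
  refine ⟨i, ?_⟩
  have := congrArg Subtype.val hi
  simpa using this

/-- "every vector is an eigenvector ⇒ scalar", multiplicatively. -/
theorem exists_uniform_pow {G : Type u} [Group G] {q : ℕ} (hq : q.Prime) (x : G) (S : Set G)
    (hmul : ∀ a ∈ S, ∀ b ∈ S, a * b ∈ S)
    (hcomm : ∀ a ∈ S, ∀ b ∈ S, a * b = b * a) (hexp : ∀ a ∈ S, a ^ q = 1)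
    (hloc : ∀ w ∈ S, ∃ k : ℕ, x * w * x⁻¹ = w ^ k) :
    ∃ k : ℕ, ∀ w ∈ S, x * w * x⁻¹ = w ^ k := by
  haveI : Fact q.Prime := ⟨hq⟩
  by_cases hS : ∀ w ∈ S, w = 1
  · refine ⟨0, fun w hw => ?_⟩
    rw [hS w hw]
    simp
  · push Not at hS
    obtain ⟨v0, hv0S, hv01⟩ := hS
    obtain ⟨k, hk⟩ := hloc v0 hv0S
    have hov0 : orderOf v0 = q := orderOf_eq_prime (hexp v0 hv0S) hv01
    refine ⟨k, fun w hw => ?_⟩
    by_cases hw1 : w = 1
    · rw [hw1]
      simp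
    have how : orderOf w = q := orderOf_eq_prime (hexp w hw) hw1
    obtain ⟨j, hj⟩ := hloc w hw
    by_cases hwz : w ∈ Subgroup.zpowers v0
    · obtain ⟨i, rfl⟩ := Subgroup.mem_zpowers_iff.mp hwz
      rw [← conj_zpow, hk, ← zpow_natCast, ← zpow_natCast, ← zpow_mul, ← zpow_mul, mul_comm]
    · -- use the product `v0 * w`
      have huS : v0 * w ∈ S := hmul v0 hv0S w hw
      obtain ⟨k', hk'⟩ := hloc (v0 * w) huS
      have hc : Commute v0 w := hcomm v0 hv0S w hw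
      have h1 : x * (v0 * w) * x⁻¹ = v0 ^ k * w ^ j := by
        rw [← hk, ← hj]
        group
      have h2 : (v0 * w) ^ k' = v0 ^ k' * w ^ k' := hc.mul_pow k'
      have h3 : v0 ^ k * w ^ j = v0 ^ k' * w ^ k' := by rw [← h1, hk', h2]
      -- t := (v0^k')⁻¹ * v0^k = w^k' * (w^j)⁻¹
      have h4 : (v0 ^ k')⁻¹ * v0 ^ k = w ^ k' * (w ^ j)⁻¹ := by
        have : v0 ^ k = v0 ^ k' * w ^ k' * (w ^ j)⁻¹ := by
          rw [← h3]
          group
        rw [this]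
        group
      have ht0 : (v0 ^ k')⁻¹ * v0 ^ k ∈ Subgroup.zpowers v0 :=
        Subgroup.mul_mem _ (Subgroup.inv_mem _ (Subgroup.npow_mem_zpowers v0 k'))
          (Subgroup.npow_mem_zpowers v0 k)
      have htw : (v0 ^ k')⁻¹ * v0 ^ k ∈ Subgroup.zpowers w := by
        rw [h4]
        exact Subgroup.mul_mem _ (Subgroup.npow_mem_zpowers w k')
          (Subgroup.inv_mem _ (Subgroup.npow_mem_zpowers w j))
      have ht1 : (v0 ^ k')⁻¹ * v0 ^ k = 1 := by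
        by_contra hne
        have hv0t := mem_zpowers_of_prime_orderOf hq hov0 ht0 hne
        have hwt := mem_zpowers_of_prime_orderOf hq how htw hne
        -- zpowers t = zpowers w, so v0 ∈ zpowers w, and then w ∈ zpowers v0
        have hv0w : v0 ∈ Subgroup.zpowers w :=
          (Subgroup.zpowers_le.mpr htw) hv0t
        exact hwz (mem_zpowers_of_prime_orderOf hq how hv0w hv01)
      have h5 : v0 ^ k = v0 ^ k' := by
        have : v0 ^ k = v0 ^ k' * ((v0 ^ k')⁻¹ * v0 ^ k) := by group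
        rw [this, ht1, mul_one]
      have h6 : w ^ k' = w ^ j := by
        have h7 : w ^ k' * (w ^ j)⁻¹ = 1 := by rw [← h4, ht1]
        exact mul_inv_eq_one.mp h7
      have h8 : k ≡ k' [MOD q] := by
        have := pow_eq_pow_iff_modEq.mp h5
        rwa [hov0] at this
      have h9 : w ^ k = w ^ k' := by
        rw [pow_eq_pow_iff_modEq, how]
        exact h8
      rw [hj, h9, h6]

/-- the local statement obtained from `Hyp`. -/
theorem conj_comm_eq_pow_local {G : Type u} [Group G] [Finite G] (h : Hyp G) (q : ℕ) (hq : q.Prime)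
    (N : Subgroup G) [N.Normal] (hexp : ∀ a ∈ N, a ^ q = 1)
    (p : ℕ) (hp : p.Prime) (hpq : p ≠ q) (x : G) (a : ℕ) (hx : orderOf x = p ^ a)
    (n : G) (hn : n ∈ N) :
    ∃ k : ℕ, x * (x * n * x⁻¹ * n⁻¹) * x⁻¹ = (x * n * x⁻¹ * n⁻¹) ^ k := by
  haveI : Fact q.Prime := ⟨hq⟩
  by_cases hv : x * n * x⁻¹ * n⁻¹ = 1
  · refine ⟨0, ?_⟩
    rw [hv]
    simp
  set v := x * n * x⁻¹ * n⁻¹ with hvdef
  have hvN : v ∈ N :=
    N.mul_mem (Subgroup.Normal.conj_mem inferInstance n hn x) (N.inv_mem hn)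
  have hxvN : x * v * x⁻¹ ∈ N := Subgroup.Normal.conj_mem inferInstance v hvN x
  set D := Subgroup.zpowers x ⊔ Subgroup.zpowers (n * x * n⁻¹) with hDdef
  have hnord : ∃ b : ℕ, orderOf n = q ^ b := by
    have hdvd : orderOf n ∣ q := orderOf_dvd_of_pow_eq_one (hexp n hn)
    rcases (Nat.dvd_prime hq).mp hdvd with h1 | h1
    · exact ⟨0, by rw [h1, pow_zero]⟩
    · exact ⟨1, by rw [h1, pow_one]⟩
  have hD : ¬ q ^ 2 ∣ Nat.card ↥D := h p q hp hq hpq x n ⟨a, hx⟩ hnord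
  have hxD : x ∈ D := (le_sup_left : Subgroup.zpowers x ≤ D) (Subgroup.mem_zpowers x)
  have hyD : n * x * n⁻¹ ∈ D :=
    (le_sup_right : Subgroup.zpowers (n * x * n⁻¹) ≤ D) (Subgroup.mem_zpowers _)
  have hvD : v ∈ D := by
    have : v = x * (n * x * n⁻¹)⁻¹ := by
      rw [hvdef]
      group
    rw [this]
    exact D.mul_mem hxD (D.inv_mem hyD)
  have hxvD : x * v * x⁻¹ ∈ D := D.mul_mem (D.mul_mem hxD hvD) (D.inv_mem hxD)
  set K := D ⊓ N with hKdef
  have hKp : IsPGroup q K := by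
    intro g
    refine ⟨1, ?_⟩
    rw [pow_one]
    apply Subtype.ext
    rw [Subgroup.coe_pow, Subgroup.coe_one]
    exact hexp g.1 (Subgroup.mem_inf.mp g.2).2
  obtain ⟨m, hm⟩ := IsPGroup.iff_card.mp hKp
  have hKD : Nat.card K ∣ Nat.card D := Subgroup.card_dvd_of_le inf_le_left
  have hm1 : m ≤ 1 := by
    by_contra hcon
    push Not at hcon
    apply hD
    refine dvd_trans ?_ hKD
    rw [hm]
    exact pow_dvd_pow q hcon
  have hov : orderOf v = q := orderOf_eq_prime (hexp v hvN) hv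
  have hzK : Subgroup.zpowers v ≤ K := by
    rw [Subgroup.zpowers_le]
    exact Subgroup.mem_inf.mpr ⟨hvD, hvN⟩
  have hcardle : Nat.card K ≤ Nat.card (Subgroup.zpowers v) := by
    rw [Nat.card_zpowers, hov, hm]
    calc q ^ m ≤ q ^ 1 := Nat.pow_le_pow_right hq.pos hm1
      _ = q := pow_one q
  have hzeq : Subgroup.zpowers v = K := Subgroup.eq_of_le_of_card_ge hzK hcardle
  have hmemz : x * v * x⁻¹ ∈ Subgroup.zpowers v := by
    rw [hzeq]
    exact Subgroup.mem_inf.mpr ⟨hxvD, hxvN⟩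
  have hfin : IsOfFinOrder v := isOfFinOrder_of_finite v
  rw [← hfin.mem_powers_iff_mem_zpowers, Submonoid.mem_powers_iff] at hmemz
  obtain ⟨k, hk⟩ := hmemz
  exact ⟨k, hk.symm⟩

/-- K-S3033-C. -/
theorem conj_comm_eq_pow_of_hyp {G : Type u} [Group G] [Finite G] (h : Hyp G) (q : ℕ) (hq : q.Prime)
    (N : Subgroup G) [N.Normal] (hab : ∀ a ∈ N, ∀ b ∈ N, a * b = b * a) (hexp : ∀ a ∈ N, a ^ q = 1)
    (p : ℕ) (hp : p.Prime) (hpq : p ≠ q) (x : G) (a : ℕ) (hx : orderOf x = p ^ a) :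
    ∃ k : ℕ, ∀ n ∈ N, x * (x * n * x⁻¹ * n⁻¹) * x⁻¹ = (x * n * x⁻¹ * n⁻¹) ^ k := by
  set S : Set G := {w | ∃ n ∈ N, w = x * n * x⁻¹ * n⁻¹} with hSdef
  have hSN : ∀ w ∈ S, w ∈ N := by
    rintro w ⟨n, hn, rfl⟩
    exact N.mul_mem (Subgroup.Normal.conj_mem inferInstance n hn x) (N.inv_mem hn)
  have hmul : ∀ a ∈ S, ∀ b ∈ S, a * b ∈ S := by
    rintro _ ⟨n, hn, rfl⟩ _ ⟨m, hm, rfl⟩
    refine ⟨n * m, N.mul_mem hn hm, ?_⟩
    have hκm : x * m * x⁻¹ * m⁻¹ ∈ N :=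
      N.mul_mem (Subgroup.Normal.conj_mem inferInstance m hm x) (N.inv_mem hm)
    have hc : n⁻¹ * (x * m * x⁻¹ * m⁻¹) = (x * m * x⁻¹ * m⁻¹) * n⁻¹ :=
      hab _ (N.inv_mem hn) _ hκm
    calc x * n * x⁻¹ * n⁻¹ * (x * m * x⁻¹ * m⁻¹)
        = x * n * x⁻¹ * (n⁻¹ * (x * m * x⁻¹ * m⁻¹)) := by group
      _ = x * n * x⁻¹ * ((x * m * x⁻¹ * m⁻¹) * n⁻¹) := by rw [hc]
      _ = x * (n * m) * x⁻¹ * (n * m)⁻¹ := by group
  obtain ⟨k, hk⟩ := exists_uniform_pow hq x S hmul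
    (fun a ha b hb => hab a (hSN a ha) b (hSN b hb))
    (fun a ha => hexp a (hSN a ha))
    (by
      rintro w ⟨n, hn, rfl⟩
      exact conj_comm_eq_pow_local h q hq N hexp p hp hpq x a hx n hn)
  exact ⟨k, fun n hn => hk _ ⟨n, hn, rfl⟩⟩

end Cfsg.Agent.Lib.Helper78.SS33
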