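import Cfsg.Agent.Lib.Helper44.SpUDefs

set_option autoImplicit false
set_option linter.unusedSimpArgs false
set_option linter.unusedVariables false
set_option linter.unusedSectionVars false

/-!
# S5665 pack (architect helper44): transvection calculus shared by leaves C and D. helper78
-/

namespace Cfsg.Agent.Lib.Helper78.SpU

open Matrix Cfsg.Agent.Lib.Helper18 Cfsg.Agent.Lib.Helper11.SpMax Cfsg.Agent.Lib.Helper44.SpU

variable {F : Type*} [Field F] {m : ℕ}

local notation "V" => (Fin m ⊕ Fin m → F)
local notation "ff" => Cfsg.sympForm m F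
local notation "GLm" => Matrix.GeneralLinearGroup (Fin m ⊕ Fin m) F
local notation "Mat" => Matrix (Fin m ⊕ Fin m) (Fin m ⊕ Fin m) F

/-- transvections with orthogonal centres commute -/
theorem tg_comm_of_orth (a b : V) (hab : ff a b = 0) (s t : F) :
    tg m a s * tg m b t = tg m b t * tg m a s := by
  have hba : ff b a = 0 := by rw [sf_swap, hab, neg_zero]
  apply gl_ext
  intro y
  rw [gl_mul_act, gl_mul_act, tg_act, tg_act, tg_act, tg_act]
  simp only [sf_add_left, sf_smul_left, hab, hba, mul_zero, add_zero]
  abel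

/-- `t_{v,a} t_{v,-a} = 1` -/
theorem tg_mul_neg (v : V) (a : F) : tg m v a * tg m v (-a) = 1 := by
  rw [← tg_inv, mul_inv_cancel]

/-- `t_{v,-a} t_{v,a} = 1` -/
theorem tg_neg_mul (v : V) (a : F) : tg m v (-a) * tg m v a = 1 := by
  rw [← tg_inv, inv_mul_cancel]

/-- a transvection whose centre lies in a totally isotropic plane `⟨s, t⟩`, applied to a vector
`y + κ s + λ t` -/
theorem tg_act_plane (s t : V) (hst : ff s t = 0) (α β c κ l : F) (y : V) :
    (tg m (α • s + β • t) c).1 *ᵥ (y + κ • s + l • t) =
      y + (κ + c * (α * ff y s + β * ff y t) * α) • s +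
        (l + c * (α * ff y s + β * ff y t) * β) • t := by
  have hts : ff t s = 0 := by rw [sf_swap, hst, neg_zero]
  rw [tg_act]
  have h1 : ff (y + κ • s + l • t) (α • s + β • t) = α * ff y s + β * ff y t := by
    simp only [sf_add_left, sf_add_right, sf_smul_left, sf_smul_right, sf_self, hst, hts,
      mul_zero, add_zero, zero_add]
  rw [h1]
  module

end Cfsg.Agent.Lib.Helper78.SpU
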