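import Cfsg.Agent.Lib.Helper78.SpUAux

set_option autoImplicit false
set_option linter.unusedSimpArgs false
set_option linter.unusedVariables false
set_option linter.unusedSectionVars false

/-!
# S5665 pack (architect helper44), keystone 566509 K-SpU2-D `tv_of_pair`. helper78
-/

namespace Cfsg.Agent.Lib.Helper78.SpU

open Matrix Cfsg.Agent.Lib.Helper18 Cfsg.Agent.Lib.Helper11.SpMax Cfsg.Agent.Lib.Helper44.SpU

variable {F : Type*} [Field F] [Fintype F] {m : ℕ}

local notation "V" => (Fin m ⊕ Fin m → F)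
local notation "ff" => Cfsg.sympForm m F
local notation "GLm" => Matrix.GeneralLinearGroup (Fin m ⊕ Fin m) F
local notation "Mat" => Matrix (Fin m ⊕ Fin m) (Fin m ⊕ Fin m) F

omit [Fintype F] in
/-- the double commutator inside a totally isotropic plane `⟨s, t⟩` -/
theorem plane_comm (s t : V) (hst : ff s t = 0) (e μ : F) :
    tg m (s - (2 * μ) • t) e * tg m (s - μ • t) (-e) * (tg m s e * tg m (s - μ • t) (-e)) =
      tg m t (2 * e * μ ^ 2) := by
  have e1 : s - (2 * μ) • t = (1 : F) • s + (-(2 * μ)) • t := by module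
  have e2 : s - μ • t = (1 : F) • s + (-μ) • t := by module
  have e3 : tg m s e = tg m ((1 : F) • s + (0 : F) • t) e := by
    congr 1; module
  rw [e1, e2, e3]
  apply gl_ext
  intro y
  rw [gl_mul_act, gl_mul_act, gl_mul_act]
  have hy : (tg m ((1 : F) • s + (-μ) • t) (-e)).1 *ᵥ y =
      (tg m ((1 : F) • s + (-μ) • t) (-e)).1 *ᵥ (y + (0 : F) • s + (0 : F) • t) := by
    congr 1; module
  rw [hy, tg_act_plane s t hst, tg_act_plane s t hst, tg_act_plane s t hst,
    tg_act_plane s t hst, tg_act]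
  module

/-- KEYSTONE 566509 K-SpU2-D. -/
theorem tv_of_pair (U : SData m F) (M : Subgroup GLm) (hM : M ≤ Cfsg.spGL m F) (p r x' : V)
    (hpr : ff p r = 0) (hx' : KI U x') (h1 : ff x' p = ff x' r) (h2 : ff x' p ≠ 0)
    (h3 : ff (U.δ *ᵥ x') p = 0) (h4 : ff (U.δ *ᵥ x') r = 0)
    (hZ : ∀ c : F, tg m p (-c) * tg m r c ∈ M) (hQ : ∀ c : F, ut U x' c ∈ M) :
    p - r ∈ XS m M := by
  intro c
  have hrp : ff r p = 0 := by rw [sf_swap, hpr, neg_zero]
  have hZM : tg m p (-1) * tg m r 1 ∈ M := hZ 1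
  have hZS : tg m p (-1) * tg m r 1 ∈ Cfsg.spGL m F := hM hZM
  have hZact : ∀ y : V, (tg m p (-1) * tg m r 1).1 *ᵥ y = y + ff y r • r - ff y p • p := by
    intro y
    rw [gl_mul_act, tg_act, tg_act]
    simp only [sf_add_left, sf_smul_left, hrp, mul_zero, add_zero, one_mul, neg_mul, neg_smul]
    abel
  have hxb : ff x' (p - r) = 0 := by rw [sf_sub_right, h1, sub_self]
  have hZx : (tg m p (-1) * tg m r 1).1 *ᵥ x' = x' - ff x' p • (p - r) := by
    rw [hZact, ← h1]; module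
  have hZδ : (tg m p (-1) * tg m r 1).1 *ᵥ (U.δ *ᵥ x') = U.δ *ᵥ x' := by
    rw [hZact, h3, h4]; module
  have hZb : (tg m p (-1) * tg m r 1).1 *ᵥ (p - r) = p - r := by
    rw [hZact, sf_sub_left, sf_sub_left, sf_self, sf_self, hpr, hrp]; module
  have hZx2 : (tg m p (-1) * tg m r 1).1 *ᵥ (x' - ff x' p • (p - r)) =
      x' - (2 * ff x' p) • (p - r) := by
    rw [Matrix.mulVec_sub, Matrix.mulVec_smul, hZx, hZb]; module
  obtain ⟨e, he⟩ : ∃ e : F, 2 * e * (ff x' p) ^ 2 = c := by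
    refine ⟨c / (2 * (ff x' p) ^ 2), ?_⟩
    have := U.two
    field_simp
  -- the first commutator
  have hc1 : (tg m p (-1) * tg m r 1) * ut U x' e * (tg m p (-1) * tg m r 1)⁻¹ * (ut U x' e)⁻¹ =
      tg m (x' - ff x' p • (p - r)) e * tg m x' (-e) := by
    unfold ut
    have hsplit : (tg m p (-1) * tg m r 1) * (tg m x' e * tg m (U.δ *ᵥ x') (-(e / U.d))) *
        (tg m p (-1) * tg m r 1)⁻¹ =
        ((tg m p (-1) * tg m r 1) * tg m x' e * (tg m p (-1) * tg m r 1)⁻¹) *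
          ((tg m p (-1) * tg m r 1) * tg m (U.δ *ᵥ x') (-(e / U.d)) *
            (tg m p (-1) * tg m r 1)⁻¹) := by group
    rw [hsplit, conj_tg m _ hZS, conj_tg m _ hZS, hZx, hZδ, _root_.mul_inv_rev, tg_inv, tg_inv, neg_neg,
      mul_assoc, ← mul_assoc (tg m (U.δ *ᵥ x') (-(e / U.d))), tg_neg_mul, one_mul]
  have hc1M : tg m (x' - ff x' p • (p - r)) e * tg m x' (-e) ∈ M := by
    rw [← hc1]
    exact M.mul_mem (M.mul_mem (M.mul_mem hZM (hQ e)) (M.inv_mem hZM)) (M.inv_mem (hQ e))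
  -- the second commutator
  have hg : (tg m p (-1) * tg m r 1) * (tg m (x' - ff x' p • (p - r)) e * tg m x' (-e)) *
      (tg m p (-1) * tg m r 1)⁻¹ * (tg m (x' - ff x' p • (p - r)) e * tg m x' (-e))⁻¹ =
      tg m (p - r) c := by
    have hsplit : (tg m p (-1) * tg m r 1) * (tg m (x' - ff x' p • (p - r)) e * tg m x' (-e)) *
        (tg m p (-1) * tg m r 1)⁻¹ =
        ((tg m p (-1) * tg m r 1) * tg m (x' - ff x' p • (p - r)) e *
            (tg m p (-1) * tg m r 1)⁻¹) *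
          ((tg m p (-1) * tg m r 1) * tg m x' (-e) * (tg m p (-1) * tg m r 1)⁻¹) := by group
    rw [hsplit, conj_tg m _ hZS, conj_tg m _ hZS, hZx2, hZx, _root_.mul_inv_rev, tg_inv, tg_inv, neg_neg,
      plane_comm x' (p - r) hxb e (ff x' p), he]
  rw [← hg]
  exact M.mul_mem (M.mul_mem (M.mul_mem hZM hc1M) (M.inv_mem hZM)) (M.inv_mem hc1M)

end Cfsg.Agent.Lib.Helper78.SpU
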