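import Cfsg.Agent.Lib.Helper44.SpUDefs

set_option autoImplicit false
set_option linter.unusedSimpArgs false
set_option linter.unusedVariables false
set_option linter.unusedSectionVars false

/-!
# S5665 pack (architect helper44), keystone 566511 K-SpU2-E1 `XS_step` (parallel hand). helper78
-/

namespace Cfsg.Agent.Lib.Helper78.SpU

open Matrix Cfsg.Agent.Lib.Helper18 Cfsg.Agent.Lib.Helper11.SpMax Cfsg.Agent.Lib.Helper44.SpU

variable {F : Type*} [Field F] [Fintype F] {m : ℕ}

local notation "V" => (Fin m ⊕ Fin m → F)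
local notation "ff" => Cfsg.sympForm m F
local notation "GLm" => Matrix.GeneralLinearGroup (Fin m ⊕ Fin m) F
local notation "Mat" => Matrix (Fin m ⊕ Fin m) (Fin m ⊕ Fin m) F

/-- KEYSTONE 566511 K-SpU2-E1. -/
theorem XS_step (U : SData m F) (M : Subgroup GLm) (hM : M ≤ Cfsg.spGL m F)
    (hH : ∀ (u : V) (c : F), KI U u → ut U u c ∈ M) (w u : V) (hw : w ∈ XS m M) (hu : KI U u)
    (h1 : ff w (U.δ *ᵥ u) = 0) (h2 : ff w u ≠ 0) : u ∈ XS m M := by
  have hg : ut U u 1 ∈ M := hH u 1 hu
  have hact : (ut U u 1).1 *ᵥ w = w + ff w u • u := by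
    unfold ut
    rw [gl_mul_act, tg_act, tg_act, h1]
    simp only [mul_zero, zero_smul, add_zero, one_mul]
  have hw' : w + ff w u • u ∈ XS m M := by
    rw [← hact]
    exact XS_act m M hM _ hg w hw
  have hne : ff (w + ff w u • u) w ≠ 0 := by
    rw [sf_add_left, sf_self, sf_smul_left, zero_add, sf_swap m u w]
    exact mul_ne_zero h2 (neg_ne_zero.mpr h2)
  have h3 := XS_hyp m M hM w (w + ff w u • u) hw hw' hne (-1)
  have h4 : w + ff w u • u + (-1 : F) • w = ff w u • u := by module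
  rw [h4] at h3
  have h5 := XS_smul m M (ff w u)⁻¹ _ h3
  rwa [smul_smul, inv_mul_cancel₀ h2, one_smul] at h5

end Cfsg.Agent.Lib.Helper78.SpU
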