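import Cfsg.Agent.Lib.Helper44.SpUTools

set_option autoImplicit false
set_option linter.unusedSimpArgs false
set_option linter.unusedVariables false
set_option linter.unusedSectionVars false

/-!
# S5665 pack (architect helper44), keystone 566512 K-SpU2-E2 `XS_KI_all` (parallel hand). helper78
-/

namespace Cfsg.Agent.Lib.Helper78.SpU

open Matrix Cfsg.Agent.Lib.Helper18 Cfsg.Agent.Lib.Helper11.SpMax Cfsg.Agent.Lib.Helper44.SpU
open Cfsg.Agent.Lib.Helper43.UF

variable {F : Type*} [Field F] [Fintype F] {m : ℕ}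

local notation "V" => (Fin m ⊕ Fin m → F)
local notation "ff" => Cfsg.sympForm m F
local notation "GLm" => Matrix.GeneralLinearGroup (Fin m ⊕ Fin m) F
local notation "Mat" => Matrix (Fin m ⊕ Fin m) (Fin m ⊕ Fin m) F

/-- CASE 1 of E2: `w ∈ XS`, `w ≠ 0`, `u` hermitian-isotropic outside the `F[δ]`-line of `w`. -/
theorem XS_of_notMem_KL (U : SData m F) (hm : 7 ≤ m) (M : Subgroup GLm)
    (hstep : ∀ w u : V, w ∈ XS m M → KI U u → ff w (U.δ *ᵥ u) = 0 → ff w u ≠ 0 → u ∈ XS m M)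
    (w : V) (hw : w ≠ 0) (hwX : w ∈ XS m M) (u : V) (hu : KI U u) (huw : u ∉ KL (NU U) w) :
    u ∈ XS m M := by
  classical
  have ha : U.δ *ᵥ w ∉ Submodule.span F
      ((({w, u, U.δ *ᵥ w - U.δ *ᵥ u} : Finset V)) : Set V) := by
    rw [Finset.coe_insert, Finset.coe_insert, Finset.coe_singleton]
    intro hmem
    obtain ⟨α, β, γ, h⟩ := Submodule.mem_span_triple.mp hmem
    have h0 : α • w + (γ - 1) • (NU U).J w + β • u + (-γ) • (NU U).J u = 0 := by
      rw [NU_J, NU_J]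
      calc α • w + (γ - 1) • (U.δ *ᵥ w) + β • u + (-γ) • (U.δ *ᵥ u)
          = (α • w + β • u + γ • (U.δ *ᵥ w - U.δ *ᵥ u)) - U.δ *ᵥ w := by module
        _ = 0 := by rw [h, sub_self]
    obtain ⟨-, h2, -, h4⟩ := indep_of_notMem_KL (NU U) w u hw huw _ _ _ _ h0
    have : (1 : F) = 0 := by linear_combination -h2 - h4
    exact one_ne_zero this
  obtain ⟨u₁, hu₁, hS, hau⟩ := exists_KI U hm {w, u, U.δ *ᵥ w - U.δ *ᵥ u}
    (by have := Finset.card_le_three (a := w) (b := u) (c := U.δ *ᵥ w - U.δ *ᵥ u); omega)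
    (U.δ *ᵥ w) ha
  have hS1 : ff w (U.δ *ᵥ u₁) = 0 := hS w (by simp)
  have hS2 : ff u (U.δ *ᵥ u₁) = 0 := hS u (by simp)
  have hS3 : ff (U.δ *ᵥ w - U.δ *ᵥ u) (U.δ *ᵥ u₁) = 0 := hS _ (by simp)
  have hau' : ff (U.δ *ᵥ u) (U.δ *ᵥ u₁) = 1 := by
    rw [sf_sub_left, hau] at hS3
    linear_combination -hS3
  have hwu₁ : ff w u₁ ≠ 0 := by
    intro h
    rw [U.ff_δδ, h, mul_zero, neg_zero] at hau
    exact zero_ne_one hau
  have huu₁ : ff u u₁ ≠ 0 := by
    intro h
    rw [U.ff_δδ, h, mul_zero, neg_zero] at hau'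
    exact zero_ne_one hau'
  have hu₁X : u₁ ∈ XS m M := hstep w u₁ hwX hu₁ hS1 hwu₁
  refine hstep u₁ u hu₁X hu ?_ ?_
  · rw [U.ff_δ_symm]; exact hS2
  · rw [sf_swap]; exact neg_ne_zero.mpr huu₁

/-- a hermitian-isotropic vector outside a given `F[δ]`-line -/
theorem exists_KI_notMem_KL (U : SData m F) (hm : 7 ≤ m) (w : V) (hw : w ≠ 0) :
    ∃ c : V, KI U c ∧ c ∉ KL (NU U) w := by
  classical
  by_cases hN : ff w (U.δ *ᵥ w) = 0
  · -- `KL w` is totally isotropic for `(x, y) ↦ f x (δ y)`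
    have ha : w ∉ Submodule.span F (((∅ : Finset V)) : Set V) := by
      rw [Finset.coe_empty, Submodule.span_empty, Submodule.mem_bot]
      exact hw
    obtain ⟨c, hc, -, hac⟩ := exists_KI U hm ∅ (by simp; omega) w ha
    refine ⟨c, hc, fun hmem => ?_⟩
    obtain ⟨α, β, rfl⟩ := (mem_KL_iff (NU U) w c).mp hmem
    rw [NU_J, Matrix.mulVec_add, Matrix.mulVec_smul, Matrix.mulVec_smul, U.sq_apply,
      sf_add_right, sf_smul_right, sf_smul_right, sf_smul_right, hN, sf_self] at hac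
    simp at hac
  · -- `KL w` is nondegenerate
    have hlt : KL (NU U) w < ⊤ := by
      rw [lt_top_iff_ne_top]
      intro htop
      have h1 := finrank_KL_le (NU U) w
      rw [htop, finrank_top, Module.finrank_fintype_fun_eq_card, card_idx] at h1
      omega
    obtain ⟨a, -, ha⟩ := SetLike.exists_of_lt hlt
    have ha' : a ∉ Submodule.span F ((({w, U.δ *ᵥ w} : Finset V)) : Set V) := by
      rw [Finset.coe_insert, Finset.coe_singleton]
      exact ha
    obtain ⟨c, hc, hS, hac⟩ := exists_KI U hm {w, U.δ *ᵥ w}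
      (by have := Finset.card_le_two (a := w) (b := U.δ *ᵥ w); omega) a ha'
    have hS1 : ff w (U.δ *ᵥ c) = 0 := hS w (by simp)
    have hS2 : ff (U.δ *ᵥ w) (U.δ *ᵥ c) = 0 := hS _ (by simp)
    refine ⟨c, hc, fun hmem => ?_⟩
    obtain ⟨α, β, rfl⟩ := (mem_KL_iff (NU U) w c).mp hmem
    rw [NU_J, Matrix.mulVec_add, Matrix.mulVec_smul, Matrix.mulVec_smul, U.sq_apply] at hS1 hS2
    rw [sf_add_right, sf_smul_right, sf_smul_right, sf_smul_right, sf_self] at hS1
    rw [sf_add_right, sf_smul_right, sf_smul_right, sf_smul_right, sf_self,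
      sf_swap m (U.δ *ᵥ w) w] at hS2
    have hα : α = 0 := by
      have : α * ff w (U.δ *ᵥ w) = 0 := by linear_combination hS1
      exact (mul_eq_zero.mp this).resolve_right hN
    have hβ : β = 0 := by
      have : β * (U.d * ff w (U.δ *ᵥ w)) = 0 := by linear_combination -hS2
      exact (mul_eq_zero.mp this).resolve_right (mul_ne_zero U.d_ne_zero hN)
    subst hα hβ
    simp only [zero_smul, add_zero, Matrix.mulVec_zero, sf_zero_right] at hac
    exact zero_ne_one hac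

/-- KEYSTONE 566512 K-SpU2-E2. -/
theorem XS_KI_all (U : SData m F) (hm : 7 ≤ m) (M : Subgroup GLm) (hM : M ≤ Cfsg.spGL m F)
    (hstep : ∀ w u : V, w ∈ XS m M → KI U u → ff w (U.δ *ᵥ u) = 0 → ff w u ≠ 0 → u ∈ XS m M)
    (b : V) (hb : b ≠ 0) (hbX : b ∈ XS m M) : ∀ u : V, KI U u → u ∈ XS m M := by
  intro u hu
  by_cases hu0 : u = 0
  · rw [hu0]; exact XS_zero m M
  by_cases hub : u ∉ KL (NU U) b
  · exact XS_of_notMem_KL U hm M hstep b hb hbX u hu hub
  · rw [not_not] at hub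
    obtain ⟨u₂, hu₂, hu₂b⟩ := exists_KI_notMem_KL U hm b hb
    have hu₂0 : u₂ ≠ 0 := by
      intro h
      apply hu₂b
      rw [h]
      exact Submodule.zero_mem _
    have hu₂X : u₂ ∈ XS m M := XS_of_notMem_KL U hm M hstep b hb hbX u₂ hu₂ hu₂b
    have huu₂ : u ∉ KL (NU U) u₂ := by
      intro h
      have h1 : u₂ ∈ KL (NU U) u := mem_KL_symm (NU U) u₂ u h hu0
      exact hu₂b (KL_le_of_mem (NU U) b u hub h1)
    exact XS_of_notMem_KL U hm M hstep u₂ hu₂0 hu₂X u hu huu₂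

end Cfsg.Agent.Lib.Helper78.SpU
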